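import Mathlib.Algebra.Homology.DerivedCategory.TStructure
import Mathlib.Algebra.Homology.DerivedCategory.FullyFaithful
import Mathlib.Algebra.Homology.DerivedCategory.HomologySequence
import Mathlib.CategoryTheory.Triangulated.TStructure.TruncLTGE
import Mathlib.Algebra.Homology.DerivedCategory.Ext.EnoughProjectives
import Mathlib.CategoryTheory.Abelian.Projective.Dimension

/-!
# Helper lemmas on the canonical t-structure of a derived category (helper84)
-/

set_option autoImplicit false
universe w v u

open CategoryTheory CategoryTheory.Limits CategoryTheory.Pretriangulated CategoryTheory.Triangulated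
open DerivedCategory

namespace Groth.Agent.Lib.Helper84.DerivedT

variable {C : Type u} [Category.{v} C] [Abelian C] [HasDerivedCategory.{w} C]

/-- homology of `truncLT` in low degrees -/
lemma isIso_homologyMap_truncLTι (X : DerivedCategory C) (b i : ℤ) (hi : i < b) :
    IsIso ((homologyFunctor C i).map ((TStructure.t.truncLTι b).app X)) := by
  have hT := TStructure.t.triangleLTGE_distinguished b X
  have h3 : ((TStructure.t.truncGE b).obj X).IsGE b := inferInstance
  have hmono : Mono ((homologyFunctor C i).map ((TStructure.t.truncLTι b).app X)) := by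
    refine (HomologySequence.mono_homologyMap_mor₁_iff _ hT (i - 1) i (by lia)).2 ?_
    exact (isZero_of_isGE ((TStructure.t.truncGE b).obj X) b (i - 1) (by lia)).eq_of_src _ _
  have hepi : Epi ((homologyFunctor C i).map ((TStructure.t.truncLTι b).app X)) := by
    refine (HomologySequence.epi_homologyMap_mor₁_iff _ hT i).2 ?_
    exact (isZero_of_isGE ((TStructure.t.truncGE b).obj X) b i hi).eq_of_tgt _ _
  exact isIso_of_mono_of_epi _

/-- homology of `truncGE` in high degrees -/
lemma isIso_homologyMap_truncGEπ (X : DerivedCategory C) (b i : ℤ) (hi : b ≤ i) :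
    IsIso ((homologyFunctor C i).map ((TStructure.t.truncGEπ b).app X)) := by
  have hT := TStructure.t.triangleLTGE_distinguished b X
  have h1 : ((TStructure.t.truncLT b).obj X).IsLE (b - 1) := inferInstance
  have hmono : Mono ((homologyFunctor C i).map ((TStructure.t.truncGEπ b).app X)) := by
    refine (HomologySequence.mono_homologyMap_mor₂_iff _ hT i).2 ?_
    exact (isZero_of_isLE ((TStructure.t.truncLT b).obj X) (b - 1) i (by lia)).eq_of_src _ _
  have hepi : Epi ((homologyFunctor C i).map ((TStructure.t.truncGEπ b).app X)) := by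
    refine (HomologySequence.epi_homologyMap_mor₂_iff _ hT i (i + 1) rfl).2 ?_
    exact (isZero_of_isLE ((TStructure.t.truncLT b).obj X) (b - 1) (i + 1) (by lia)).eq_of_tgt _ _
  exact isIso_of_mono_of_epi _

instance faithful_single_comp_homology (n : ℤ) :
    (singleFunctor C n ⋙ homologyFunctor C n).Faithful :=
  Functor.Faithful.of_iso (singleFunctorCompHomologyFunctorIso C n).symm

/-- A morphism from a `≤ n` object to a `≥ n` object which is zero on `H^n` is zero. -/
lemma eq_zero_of_homologyMap_eq_zero {X Y : DerivedCategory C} (n : ℤ) [X.IsLE n] [Y.IsGE n]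
    (f : X ⟶ Y) (hf : (homologyFunctor C n).map f = 0) : f = 0 := by
  let t : TStructure (DerivedCategory C) := TStructure.t
  have h1 := t.π_descTruncGE f n
  set g := t.descTruncGE f n with hg
  haveI : t.IsLE ((t.truncGE n).obj X) n := inferInstance
  have h2 := t.liftTruncLT_ι g n (n + 1) rfl
  set h := t.liftTruncLT g n (n + 1) rfl with hh
  haveI : t.IsGE ((t.truncLT (n + 1)).obj Y) n := inferInstance
  haveI : t.IsLE ((t.truncLT (n + 1)).obj Y) n := inferInstance
  haveI : t.IsGE ((t.truncGE n).obj X) n := inferInstance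
  obtain ⟨A, ⟨eA⟩⟩ := exists_iso_singleFunctor_obj_of_isGE_of_isLE ((t.truncGE n).obj X) n
  obtain ⟨B, ⟨eB⟩⟩ := exists_iso_singleFunctor_obj_of_isGE_of_isLE ((t.truncLT (n + 1)).obj Y) n
  obtain ⟨u, hu⟩ := (singleFunctor C n).map_surjective (eA.inv ≫ h ≫ eB.hom)
  haveI := isIso_homologyMap_truncGEπ X n n le_rfl
  haveI := isIso_homologyMap_truncLTι Y (n + 1) n (by lia)
  have hh0 : (homologyFunctor C n).map h = 0 := by
    have : (homologyFunctor C n).map ((t.truncGEπ n).app X) ≫ (homologyFunctor C n).map h ≫
        (homologyFunctor C n).map ((t.truncLTι (n + 1)).app Y) = 0 := by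
      rw [← Functor.map_comp, ← Functor.map_comp, h2, h1, hf]
    rw [← cancel_epi ((homologyFunctor C n).map ((t.truncGEπ n).app X)),
      ← cancel_mono ((homologyFunctor C n).map ((t.truncLTι (n + 1)).app Y))]
    simpa using this
  have hu0 : u = 0 := by
    apply (singleFunctor C n ⋙ homologyFunctor C n).map_injective
    simp only [Functor.comp_map, hu, Functor.map_comp, hh0, zero_comp, comp_zero, Functor.map_zero]
  have hh1 : h = 0 := by
    rw [← cancel_epi eA.inv, ← cancel_mono eB.hom, Category.assoc, ← hu, hu0]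
    simp
  rw [← h1, ← h2, hh1, zero_comp, comp_zero]

end Groth.Agent.Lib.Helper84.DerivedT

namespace Groth.Agent.Lib.Helper84.DerivedT

variable {C : Type u} [Category.{v} C] [Abelian C] [HasDerivedCategory.{w} C]

/-- If `H^i(mor₁)` is epi and `H^{i+1}(mor₁)` is mono then `H^i(obj₃) = 0`. -/
lemma isZero_homology_obj₃ (T : Triangle (DerivedCategory C)) (hT : T ∈ distTriang _) (i j : ℤ)
    (hij : i + 1 = j)
    (h₁ : Epi ((homologyFunctor C i).map T.mor₁)) (h₂ : Mono ((homologyFunctor C j).map T.mor₁)) :
    IsZero ((homologyFunctor C i).obj T.obj₃) := by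
  have hz : (homologyFunctor C i).map T.mor₂ = 0 :=
    (HomologySequence.epi_homologyMap_mor₁_iff T hT i).1 h₁
  have hδ := (HomologySequence.mono_homologyMap_mor₁_iff T hT i j hij).1 h₂
  have hepi : Epi ((homologyFunctor C i).map T.mor₂) :=
    (HomologySequence.epi_homologyMap_mor₂_iff T hT i j hij).2 hδ
  rw [IsZero.iff_id_eq_zero, ← cancel_epi ((homologyFunctor C i).map T.mor₂), hz]
  simp

/-- If `H^i(mor₁)` is mono and `H^{i-1}(mor₁)` is epi then `H^{i-1}(obj₃) = 0` (same lemma);
if `obj₁` and `obj₂` have zero `H^i`, `H^{i+1}` respectively... convenience version with `IsZero`. -/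
lemma isZero_homology_obj₃_of_isZero (T : Triangle (DerivedCategory C)) (hT : T ∈ distTriang _)
    (i j : ℤ) (hij : i + 1 = j)
    (h₁ : IsZero ((homologyFunctor C i).obj T.obj₂)) (h₂ : IsZero ((homologyFunctor C j).obj T.obj₁)) :
    IsZero ((homologyFunctor C i).obj T.obj₃) :=
  isZero_homology_obj₃ T hT i j hij ⟨fun _ _ _ => h₁.eq_of_src _ _⟩ ⟨fun _ _ _ => h₂.eq_of_tgt _ _⟩

end Groth.Agent.Lib.Helper84.DerivedT

namespace Groth.Agent.Lib.Helper84.DerivedT

variable {C : Type u} [Category.{v} C] [Abelian C] [HasDerivedCategory.{w} C]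

/-- A morphism from a projective object placed in degree `i` to an object which is `≤ n` with
`n < i` is zero. -/
lemma from_single_projective_eq_zero {P : C} [Projective P] (i n : ℤ) (hn : n < i)
    (X : DerivedCategory C) [X.IsLE n] (φ : (singleFunctor C i).obj P ⟶ X) : φ = 0 := by
  obtain ⟨L, _, ⟨e⟩⟩ := exists_iso_Q_obj_of_isLE X n
  have h : φ ≫ e.hom = 0 :=
    from_singleFunctor_obj_eq_zero_of_projective (P := P) (L := L) (i := i) (φ ≫ e.hom) n hn
  rw [← cancel_mono e.hom, h, zero_comp]

/-- An object `Y` of `C` such that `Hom(Y[0], M[0]⟦1⟧) = 0` for all `M` is projective. -/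
lemma projective_of_subsingleton_hom_shift_one (Y : C)
    (h : ∀ M : C, Subsingleton ((singleFunctor C 0).obj Y ⟶ ((singleFunctor C 0).obj M)⟦(1 : ℤ)⟧)) :
    Projective Y := by
  haveI : CategoryTheory.HasExt.{w} C := CategoryTheory.hasExt_of_hasDerivedCategory C
  rw [CategoryTheory.projective_iff_subsingleton_ext_one]
  intro M
  haveI := h M
  exact (CategoryTheory.Abelian.Ext.homEquiv (X := Y) (Y := M) (n := 1)).injective.subsingleton

end Groth.Agent.Lib.Helper84.DerivedT
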