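import Groth.Agent.Lib.Helper84.KProj
import Mathlib.Algebra.Homology.HomotopyCategory.MappingCone

/-!
# Representing the third vertex of a distinguished triangle by a mapping cone (helper84)
-/

set_option autoImplicit false
universe w v u

open CategoryTheory CategoryTheory.Limits CategoryTheory.Pretriangulated DerivedCategory

namespace Groth.Agent.Lib.Helper84.ConeRep

variable {C : Type u} [Category.{v} C] [Abelian C] [HasDerivedCategory.{w} C]

/-- If the first two vertices of a distinguished triangle are represented by complexes `E`, `F`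
with `E` K-projective, the third vertex is represented by the mapping cone of a morphism
`E ⟶ F`. -/
lemma exists_cone_iso (E F : CochainComplex C ℤ) [E.IsKProjective]
    (T : Triangle (DerivedCategory C)) (hT : T ∈ distTriang _)
    (e₁ : Q.obj E ≅ T.obj₁) (e₂ : Q.obj F ≅ T.obj₂) :
    ∃ f : E ⟶ F, Nonempty (Q.obj (CochainComplex.mappingCone f) ≅ T.obj₃) := by
  obtain ⟨f, hf⟩ := KProj.exists_Q_map_eq E F (e₁.hom ≫ T.mor₁ ≫ e₂.inv)
  refine ⟨f, ⟨?_⟩⟩
  have hT' := mappingCone_triangle_distinguished f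
  have comm : (Q.mapTriangle.obj (CochainComplex.mappingCone.triangle f)).mor₁ ≫ e₂.hom =
      e₁.hom ≫ T.mor₁ := by
    change Q.map f ≫ e₂.hom = _
    rw [hf]; simp
  exact Triangle.π₃.mapIso (isoTriangleOfIso₁₂ _ _ hT' hT e₁ e₂ comm)

/-- terms of the mapping cone -/
noncomputable def mappingConeXIso {E F : CochainComplex C ℤ} (f : E ⟶ F) (i : ℤ) :
    (CochainComplex.mappingCone f).X i ≅ E.X (i + 1) ⊞ F.X i :=
  HomologicalComplex.homotopyCofiber.XIsoBiprod f i (i + 1) rfl

lemma isZero_mappingCone_X {E F : CochainComplex C ℤ} (f : E ⟶ F) (i : ℤ)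
    (hE : IsZero (E.X (i + 1))) (hF : IsZero (F.X i)) :
    IsZero ((CochainComplex.mappingCone f).X i) := by
  refine IsZero.of_iso ?_ (mappingConeXIso f i)
  simp only [biprod_isZero_iff]
  exact ⟨hE, hF⟩

/-- shift commutes with `Q` -/
noncomputable def shiftIso (E : CochainComplex C ℤ) (n : ℤ) :
    Q.obj (E⟦n⟧) ≅ (Q.obj E)⟦n⟧ :=
  (Q.commShiftIso n).app E

end Groth.Agent.Lib.Helper84.ConeRep
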