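import Groth.Prelude.Def_DRing2
import Groth.Agent.Lib.Helper84.ConeRep
import Mathlib.Algebra.Category.ModuleCat.Biproducts
import Mathlib.Algebra.Category.ModuleCat.Projective
import Mathlib.RingTheory.Finiteness.Prod
import Mathlib.LinearAlgebra.FreeModule.Basic

/-!
# Pseudo-coherent objects of `D(R)`: cones and shifts (helper84)
-/

set_option autoImplicit false
universe u

open CategoryTheory CategoryTheory.Limits CategoryTheory.Pretriangulated DerivedCategory

attribute [local instance] HasDerivedCategory.standard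

namespace Groth.Agent.Lib.Helper84.DRingPC

open DRing Groth.Agent.Lib.Helper84

variable {R : Type u} [CommRing R]

lemma finiteFree_of_iso {X Y : ModuleCat.{u} R} (e : X ≅ Y)
    (h : Module.Finite R X ∧ Module.Free R X) : Module.Finite R Y ∧ Module.Free R Y := by
  obtain ⟨h1, h2⟩ := h
  exact ⟨Module.Finite.equiv e.toLinearEquiv, Module.Free.of_equiv e.toLinearEquiv⟩

lemma finiteFree_biprod (X Y : ModuleCat.{u} R) (hX : Module.Finite R X ∧ Module.Free R X)
    (hY : Module.Finite R Y ∧ Module.Free R Y) :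
    Module.Finite R (X ⊞ Y : ModuleCat.{u} R) ∧ Module.Free R (X ⊞ Y : ModuleCat.{u} R) := by
  obtain ⟨h1, h2⟩ := hX
  obtain ⟨h3, h4⟩ := hY
  have e := (ModuleCat.biprodIsoProd X Y).symm
  refine finiteFree_of_iso e ⟨?_, ?_⟩
  · change Module.Finite R (X × Y); infer_instance
  · change Module.Free R (X × Y); infer_instance

lemma projective_biprod (X Y : ModuleCat.{u} R) (hX : Module.Projective R X)
    (hY : Module.Projective R Y) : Module.Projective R (X ⊞ Y : ModuleCat.{u} R) := by
  have e := (ModuleCat.biprodIsoProd X Y).symm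
  have : Module.Projective R (ModuleCat.of R (X × Y)) :=
    inferInstanceAs (Module.Projective R (X × Y))
  exact Module.Projective.of_equiv' e.toLinearEquiv

lemma termwiseFiniteFree_mappingCone {E F : Cx R} (f : E ⟶ F) (hE : TermwiseFiniteFree E)
    (hF : TermwiseFiniteFree F) : TermwiseFiniteFree (CochainComplex.mappingCone f) := fun i =>
  finiteFree_of_iso (ConeRep.mappingConeXIso f i).symm (finiteFree_biprod _ _ (hE (i + 1)) (hF i))

lemma vanishesAbove_mappingCone {E F : Cx R} (f : E ⟶ F) (bE bF : ℤ) (hE : VanishesAbove E bE)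
    (hF : VanishesAbove F bF) : VanishesAbove (CochainComplex.mappingCone f) (max bE bF) := by
  intro i hi
  exact ConeRep.isZero_mappingCone_X f i (hE (i + 1) (by have := le_max_left bE bF; lia))
    (hF i (by have := le_max_right bE bF; lia))

lemma projective_of_finiteFree {X : ModuleCat.{u} R} (h : Module.Finite R X ∧ Module.Free R X) :
    Projective X := by
  obtain ⟨h1, h2⟩ := h
  exact (IsProjective.iff_projective (R := R) (P := X)).1 Module.Projective.of_free

lemma isKProjective_of_finiteFree (E : Cx R) (b : ℤ) (hb : VanishesAbove E b)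
    (hE : TermwiseFiniteFree E) : E.IsKProjective :=
  KProj.isKProjective_of_vanishesAbove E b hb (fun i => projective_of_finiteFree (hE i))

lemma isPseudoCoherent'_of_iso {K L : Dual.D R} (e : K ≅ L) (h : IsPseudoCoherent' R K) :
    IsPseudoCoherent' R L := by
  obtain ⟨E, b, h1, h2, ⟨e'⟩⟩ := h
  exact ⟨E, b, h1, h2, ⟨e' ≪≫ e⟩⟩

lemma isPseudoCoherent'_shift (K : Dual.D R) (n : ℤ) (h : IsPseudoCoherent' R K) :
    IsPseudoCoherent' R (K⟦n⟧) := by
  obtain ⟨E, b, h1, h2, ⟨e⟩⟩ := h
  refine ⟨E⟦n⟧, b - n, ?_, ?_, ⟨ConeRep.shiftIso E n ≪≫ (shiftFunctor _ n).mapIso e⟩⟩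
  · intro i hi
    exact h1 (i + n) (by lia)
  · intro i
    exact h2 (i + n)

lemma isPseudoCoherent'_obj₃ (T : Triangle (Dual.D R)) (hT : T ∈ distTriang _)
    (h₁ : IsPseudoCoherent' R T.obj₁) (h₂ : IsPseudoCoherent' R T.obj₂) :
    IsPseudoCoherent' R T.obj₃ := by
  obtain ⟨E, bE, hE1, hE2, ⟨e₁⟩⟩ := h₁
  obtain ⟨F, bF, hF1, hF2, ⟨e₂⟩⟩ := h₂
  have := isKProjective_of_finiteFree E bE hE1 hE2
  obtain ⟨f, ⟨e₃⟩⟩ := ConeRep.exists_cone_iso E F T hT e₁ e₂
  exact ⟨_, _, vanishesAbove_mappingCone f bE bF hE1 hF1,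
    termwiseFiniteFree_mappingCone f hE2 hF2, ⟨e₃⟩⟩

end Groth.Agent.Lib.Helper84.DRingPC
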