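import Mathlib.Algebra.Homology.DerivedCategory.ShortExact
import Mathlib.Algebra.Homology.DerivedCategory.TStructure
import Mathlib.Algebra.Homology.HomologicalComplexLimits
import Mathlib.Algebra.Homology.HomologicalComplexAbelian
import Mathlib.CategoryTheory.Limits.Preserves.Shapes.Kernels

/-!
# The brutal truncation triangle `σ_{>a} E ⟶ E ⟶ E^a[-a]` in the derived category (helper84)
-/

set_option autoImplicit false
universe w v u

open CategoryTheory CategoryTheory.Limits CategoryTheory.Pretriangulated DerivedCategory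

namespace Groth.Agent.Lib.Helper84.BrutalTrunc

variable {C : Type u} [Category.{v} C] [Abelian C] [HasDerivedCategory.{w} C]

/-- the projection of a complex vanishing below `a` onto its bottom term -/
noncomputable def bottomProj (E : CochainComplex C ℤ) (a : ℤ) (ha : ∀ i : ℤ, i < a → IsZero (E.X i)) :
    E ⟶ (HomologicalComplex.single C (ComplexShape.up ℤ) a).obj (E.X a) :=
  HomologicalComplex.mkHomToSingle (𝟙 (E.X a)) (fun i hi => by
    have : i < a := by
      have h : i + 1 = a := hi
      lia
    exact (ha i this).eq_of_src _ _)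

lemma epi_bottomProj (E : CochainComplex C ℤ) (a : ℤ) (ha : ∀ i : ℤ, i < a → IsZero (E.X i)) :
    Epi (bottomProj E a ha) := by
  apply HomologicalComplex.epi_of_epi_f
  intro i
  by_cases hi : i = a
  · subst hi
    rw [bottomProj, HomologicalComplex.mkHomToSingle_f]
    infer_instance
  · exact ⟨fun _ _ _ => (HomologicalComplex.isZero_single_obj_X _ a (E.X a) i hi).eq_of_src _ _⟩

/-- Brutal truncation triangle. -/
lemma exists_bottom_truncation (E : CochainComplex C ℤ) (a : ℤ)
    (ha : ∀ i : ℤ, i < a → IsZero (E.X i)) :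
    ∃ (E' : CochainComplex C ℤ) (f : E' ⟶ E) (g : Q.obj E ⟶ (singleFunctor C a).obj (E.X a))
      (δ : (singleFunctor C a).obj (E.X a) ⟶ (Q.obj E')⟦(1 : ℤ)⟧),
      Triangle.mk (Q.map f) g δ ∈ distTriang (DerivedCategory C) ∧
      (∀ i : ℤ, i ≤ a → IsZero (E'.X i)) ∧ (∀ i : ℤ, a < i → Nonempty (E'.X i ≅ E.X i)) := by
  let π := bottomProj E a ha
  have hπ : Epi π := epi_bottomProj E a ha
  let S : ShortComplex (CochainComplex C ℤ) := ShortComplex.mk (kernel.ι π) π (kernel.condition π)
  have hS : S.ShortExact :=
    { exact := ShortComplex.exact_kernel π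
      mono_f := inferInstanceAs (Mono (kernel.ι π))
      epi_g := hπ }
  have key : ∀ i : ℤ, (kernel π).X i ≅ kernel (π.f i) := fun i =>
    PreservesKernel.iso (HomologicalComplex.eval C (ComplexShape.up ℤ) i) π
  refine ⟨kernel π, kernel.ι π, Q.map π, triangleOfSESδ hS, triangleOfSES_distinguished hS, ?_, ?_⟩
  · intro i hi
    by_cases hia : i = a
    · subst hia
      refine IsZero.of_iso ?_ (key i)
      have : Mono (π.f i) := by
        dsimp only [π]
        rw [bottomProj, HomologicalComplex.mkHomToSingle_f]
        infer_instance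
      exact isZero_kernel_of_mono _
    · have hz : IsZero (E.X i) := ha i (by lia)
      refine IsZero.of_iso ?_ (key i)
      exact IsZero.of_mono (kernel.ι (π.f i)) hz
  · intro i hi
    have h0 : π.f i = 0 :=
      (HomologicalComplex.isZero_single_obj_X _ a (E.X a) i (by lia)).eq_of_tgt _ _
    exact ⟨key i ≪≫ kernelIsoOfEq h0 ≪≫ kernelZeroIsoSource⟩

end Groth.Agent.Lib.Helper84.BrutalTrunc
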