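import Groth.Agent.Lib.Helper84.DerivedT
import Groth.Agent.Lib.Helper84.BrutalTrunc

/-!
# Dévissage in the derived category (helper84)

Two generic inductions for a property `P` of objects of `D(C)` which is closed under isomorphisms,
holds for zero objects and is closed under extensions:

* `prop_of_bounded_complex`: `P` holds for `Q.obj E` if `E` is a bounded complex with
  `P (E^i[-i])` for all `i`;
* `prop_of_bounded_homology`: `P` holds for `K` if `K` has bounded cohomology and
  `P (H^i(K)[-i])` for all `i`.
-/

set_option autoImplicit false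
universe w v u

open CategoryTheory CategoryTheory.Limits CategoryTheory.Pretriangulated CategoryTheory.Triangulated
open DerivedCategory

namespace Groth.Agent.Lib.Helper84.Devissage

variable {C : Type u} [Category.{v} C] [Abelian C] [HasDerivedCategory.{w} C]

section

variable (P : ObjectProperty (DerivedCategory C)) [P.IsClosedUnderIsomorphisms]
  (hzero : ∀ K : DerivedCategory C, IsZero K → P K)
  (hext : ∀ T : Triangle (DerivedCategory C), T ∈ distTriang _ → P T.obj₁ → P T.obj₃ → P T.obj₂)

include hzero hext

lemma prop_of_bounded_complex_aux (n : ℕ) : ∀ (a : ℤ) (E : CochainComplex C ℤ),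
    (∀ i : ℤ, i < a ∨ a + n ≤ i → IsZero (E.X i)) →
    (∀ i : ℤ, P ((singleFunctor C i).obj (E.X i))) → P (Q.obj E) := by
  induction n with
  | zero =>
    intro a E hE _
    apply hzero
    have : IsZero E := by
      rw [IsZero.iff_id_eq_zero]
      apply HomologicalComplex.hom_ext
      intro i
      exact (hE i (by lia)).eq_of_src _ _
    exact Functor.map_isZero Q this
  | succ n ih =>
    intro a E hE hP
    obtain ⟨E', f, g, δ, hT, hz, hiso⟩ :=
      BrutalTrunc.exists_bottom_truncation E a (fun i hi => hE i (Or.inl hi))
    have hE' : P (Q.obj E') := by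
      apply ih (a + 1) E'
      · intro i hi
        by_cases hia : i ≤ a
        · exact hz i hia
        · obtain ⟨e⟩ := hiso i (by lia)
          exact IsZero.of_iso (hE i (Or.inr (by push_cast; lia))) e
      · intro i
        by_cases hia : i ≤ a
        · exact hzero _ (Functor.map_isZero _ (hz i hia))
        · obtain ⟨e⟩ := hiso i (by lia)
          exact P.prop_of_iso ((singleFunctor C i).mapIso e.symm) (hP i)
    exact hext _ hT hE' (hP a)

lemma prop_of_bounded_complex (E : CochainComplex C ℤ) (a b : ℤ)
    (hE : ∀ i : ℤ, i < a ∨ b < i → IsZero (E.X i))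
    (hP : ∀ i : ℤ, P ((singleFunctor C i).obj (E.X i))) : P (Q.obj E) := by
  refine prop_of_bounded_complex_aux P hzero hext (b + 1 - a).toNat a E ?_ hP
  intro i hi
  apply hE
  rcases hi with hi | hi
  · exact Or.inl hi
  · right
    have := Int.self_le_toNat (b + 1 - a)
    lia

lemma prop_of_bounded_homology_aux (n : ℕ) : ∀ (a : ℤ) (K : DerivedCategory C),
    K.IsGE a → K.IsLE (a + n - 1) →
    (∀ i : ℤ, P ((singleFunctor C i).obj ((homologyFunctor C i).obj K))) → P K := by
  induction n with
  | zero =>
    intro a K hGE hLE _
    exact hzero _ (TStructure.t.isZero K (a + (0 : ℕ) - 1) a (by simp))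
  | succ n ih =>
    intro a K hGE hLE hP
    let t : TStructure (DerivedCategory C) := TStructure.t
    have hT := t.triangleLTGE_distinguished (a + 1) K
    have hLE' : K.IsLE (a + n) := by
      have : a + ((n + 1 : ℕ) : ℤ) - 1 = a + n := by push_cast; ring
      rwa [this] at hLE
    -- the bottom piece
    have hA1 : t.IsLE ((t.truncLT (a + 1)).obj K) a := t.isLE_truncLT_obj K (a + 1) a
    have hA2 : t.IsGE ((t.truncLT (a + 1)).obj K) a := inferInstance
    obtain ⟨N, ⟨eN⟩⟩ := exists_iso_singleFunctor_obj_of_isGE_of_isLE ((t.truncLT (a + 1)).obj K) a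
    have hPA : P ((t.truncLT (a + 1)).obj K) := by
      refine P.prop_of_iso ?_ (hP a)
      have := DerivedT.isIso_homologyMap_truncLTι K (a + 1) a (by lia)
      have e1 : (homologyFunctor C a).obj K ≅ N :=
        (asIso ((homologyFunctor C a).map ((t.truncLTι (a + 1)).app K))).symm ≪≫
          (homologyFunctor C a).mapIso eN ≪≫ (singleFunctorCompHomologyFunctorIso C a).app N
      exact (singleFunctor C a).mapIso e1 ≪≫ eN.symm
    -- the top piece
    have hB1 : t.IsGE ((t.truncGE (a + 1)).obj K) (a + 1) := inferInstance
    have hB2 : t.IsLE ((t.truncGE (a + 1)).obj K) (a + n) := inferInstance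
    have hPB : P ((t.truncGE (a + 1)).obj K) := by
      refine ih (a + 1) _ hB1 ?_ ?_
      · have : a + 1 + (n : ℤ) - 1 = a + n := by ring
        rw [this]; exact hB2
      · intro i
        by_cases hi : a + 1 ≤ i
        · have := DerivedT.isIso_homologyMap_truncGEπ K (a + 1) i hi
          exact P.prop_of_iso ((singleFunctor C i).mapIso
            (asIso ((homologyFunctor C i).map ((t.truncGEπ (a + 1)).app K)))) (hP i)
        · apply hzero
          apply Functor.map_isZero
          exact isZero_of_isGE ((t.truncGE (a + 1)).obj K) (a + 1) i (by lia)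
    exact hext _ hT hPA hPB

lemma prop_of_bounded_homology (K : DerivedCategory C) (a b : ℤ)
    (hK : ∀ i : ℤ, i < a ∨ b < i → IsZero ((homologyFunctor C i).obj K))
    (hP : ∀ i : ℤ, P ((singleFunctor C i).obj ((homologyFunctor C i).obj K))) : P K := by
  have hGE : K.IsGE a := by
    rw [isGE_iff]
    intro i hi
    exact hK i (Or.inl hi)
  have hLE : K.IsLE (max a b) := by
    rw [isLE_iff]
    intro i hi
    exact hK i (Or.inr (lt_of_le_of_lt (le_max_right a b) hi))
  refine prop_of_bounded_homology_aux P hzero hext (max a b + 1 - a).toNat a K hGE ?_ hP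
  have h1 : (((max a b + 1 - a).toNat : ℕ) : ℤ) = max a b + 1 - a :=
    Int.toNat_of_nonneg (by have := le_max_left a b; lia)
  have : a + ((max a b + 1 - a).toNat : ℤ) - 1 = max a b := by rw [h1]; ring
  rw [this]; exact hLE

end

end Groth.Agent.Lib.Helper84.Devissage
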