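import Groth.Prelude.Def_DRing2
import Groth.Agent.Lib.Helper84.DRingPC
import Groth.Agent.Lib.Helper84.Devissage

/-!
# Perfect objects of `D(R)`: cones, shifts, two-out-of-three (helper84)
-/

set_option autoImplicit false
universe u

open CategoryTheory CategoryTheory.Limits CategoryTheory.Pretriangulated DerivedCategory

attribute [local instance] HasDerivedCategory.standard

namespace Groth.Agent.Lib.Helper84.DRingPerf

open DRing Groth.Agent.Lib.Helper84
open scoped ZeroObject

variable {R : Type u} [CommRing R]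

lemma finiteProjective_of_iso {X Y : ModuleCat.{u} R} (e : X ≅ Y)
    (h : Module.Finite R X ∧ Module.Projective R X) :
    Module.Finite R Y ∧ Module.Projective R Y := by
  obtain ⟨h1, h2⟩ := h
  exact ⟨Module.Finite.equiv e.toLinearEquiv, Module.Projective.of_equiv' e.toLinearEquiv⟩

lemma finiteProjective_biprod (X Y : ModuleCat.{u} R)
    (hX : Module.Finite R X ∧ Module.Projective R X)
    (hY : Module.Finite R Y ∧ Module.Projective R Y) :
    Module.Finite R (X ⊞ Y : ModuleCat.{u} R) ∧
      Module.Projective R (X ⊞ Y : ModuleCat.{u} R) := by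
  obtain ⟨h1, h2⟩ := hX
  obtain ⟨h3, h4⟩ := hY
  refine ⟨?_, DRingPC.projective_biprod X Y h2 h4⟩
  have e := (ModuleCat.biprodIsoProd X Y).symm
  have : Module.Finite R (ModuleCat.of R (X × Y)) := inferInstanceAs (Module.Finite R (X × Y))
  exact Module.Finite.equiv e.toLinearEquiv

lemma termwiseFiniteProjective_mappingCone {E F : Cx R} (f : E ⟶ F)
    (hE : TermwiseFiniteProjective E) (hF : TermwiseFiniteProjective F) :
    TermwiseFiniteProjective (CochainComplex.mappingCone f) := fun i =>
  finiteProjective_of_iso (ConeRep.mappingConeXIso f i).symm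
    (finiteProjective_biprod _ _ (hE (i + 1)) (hF i))

lemma vanishesOutside_mappingCone {E F : Cx R} (f : E ⟶ F) (aE bE aF bF : ℤ)
    (hE : VanishesOutside E aE bE) (hF : VanishesOutside F aF bF) :
    VanishesOutside (CochainComplex.mappingCone f) (min (aE - 1) aF) (max bE bF) := by
  intro i hi
  refine ConeRep.isZero_mappingCone_X f i (hE (i + 1) ?_) (hF i ?_)
  · have := le_max_left bE bF
    have := min_le_left (aE - 1) aF
    lia
  · have := le_max_right bE bF
    have := min_le_right (aE - 1) aF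
    lia

lemma projective_of_finiteProjective {X : ModuleCat.{u} R}
    (h : Module.Finite R X ∧ Module.Projective R X) : Projective X :=
  (IsProjective.iff_projective (R := R) (P := X)).1 h.2

lemma isKProjective_of_finiteProjective (E : Cx R) (a b : ℤ) (hb : VanishesOutside E a b)
    (hE : TermwiseFiniteProjective E) : E.IsKProjective :=
  KProj.isKProjective_of_vanishesAbove E b (fun i hi => hb i (Or.inr hi))
    (fun i => projective_of_finiteProjective (hE i))

lemma isPerfect_of_iso {K L : Dual.D R} (e : K ≅ L) (h : IsPerfect R K) : IsPerfect R L := by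
  obtain ⟨E, a, b, h1, h2, ⟨e'⟩⟩ := h
  exact ⟨E, a, b, h1, h2, ⟨e' ≪≫ e⟩⟩

lemma isPerfect_shift (K : Dual.D R) (n : ℤ) (h : IsPerfect R K) : IsPerfect R (K⟦n⟧) := by
  obtain ⟨E, a, b, h1, h2, ⟨e⟩⟩ := h
  refine ⟨E⟦n⟧, a - n, b - n, ?_, ?_, ⟨ConeRep.shiftIso E n ≪≫ (shiftFunctor _ n).mapIso e⟩⟩
  · intro i hi
    exact h1 (i + n) (by lia)
  · intro i
    exact h2 (i + n)

lemma isPerfect_obj₃ (T : Triangle (Dual.D R)) (hT : T ∈ distTriang _)
    (h₁ : IsPerfect R T.obj₁) (h₂ : IsPerfect R T.obj₂) : IsPerfect R T.obj₃ := by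
  obtain ⟨E, aE, bE, hE1, hE2, ⟨e₁⟩⟩ := h₁
  obtain ⟨F, aF, bF, hF1, hF2, ⟨e₂⟩⟩ := h₂
  have := isKProjective_of_finiteProjective E aE bE hE1 hE2
  obtain ⟨f, ⟨e₃⟩⟩ := ConeRep.exists_cone_iso E F T hT e₁ e₂
  exact ⟨_, _, _, vanishesOutside_mappingCone f aE bE aF bF hE1 hF1,
    termwiseFiniteProjective_mappingCone f hE2 hF2, ⟨e₃⟩⟩

lemma isPerfect_obj₂ (T : Triangle (Dual.D R)) (hT : T ∈ distTriang _)
    (h₁ : IsPerfect R T.obj₁) (h₃ : IsPerfect R T.obj₃) : IsPerfect R T.obj₂ := by
  have hT' := Pretriangulated.inv_rot_of_distTriang _ hT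
  exact isPerfect_obj₃ T.invRotate hT' (isPerfect_shift _ (-1) h₃) h₁

lemma isPerfect_obj₁ (T : Triangle (Dual.D R)) (hT : T ∈ distTriang _)
    (h₂ : IsPerfect R T.obj₂) (h₃ : IsPerfect R T.obj₃) : IsPerfect R T.obj₁ := by
  have hT' := Pretriangulated.rot_of_distTriang _ hT
  have h := isPerfect_obj₃ T.rotate hT' h₂ h₃
  have h' := isPerfect_shift _ (-1) h
  exact isPerfect_of_iso (shiftShiftNeg T.obj₁ (1 : ℤ)) h'

lemma isPerfect_of_isZero (K : Dual.D R) (hK : IsZero K) : IsPerfect R K := by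
  refine ⟨(0 : CochainComplex (ModuleCat.{u} R) ℤ), 0, 0, fun i _ => ?_, fun i => ?_, ⟨(Functor.map_isZero _ (isZero_zero _)).iso hK⟩⟩
  · exact Functor.map_isZero (HomologicalComplex.eval _ _ i) (isZero_zero _)
  · have h0 : IsZero ((0 : CochainComplex (ModuleCat.{u} R) ℤ).X i) :=
      Functor.map_isZero (HomologicalComplex.eval _ _ i) (isZero_zero _)
    have : Subsingleton ((0 : CochainComplex (ModuleCat.{u} R) ℤ).X i) := ModuleCat.subsingleton_of_isZero h0
    exact ⟨inferInstance, inferInstance⟩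

end Groth.Agent.Lib.Helper84.DRingPerf

namespace Groth.Agent.Lib.Helper84.DRingPerf

open DRing Groth.Agent.Lib.Helper84

variable {R : Type u} [CommRing R]

/-- perfectness as an object property -/
def perfectProp (R : Type u) [CommRing R] : ObjectProperty (Dual.D R) := fun K => IsPerfect R K

instance : (perfectProp R).IsClosedUnderIsomorphisms :=
  ⟨fun e h => isPerfect_of_iso e h⟩

lemma isPerfect_single_of_perfectModule (M : ModuleCat.{u} R) (hM : IsPerfectModule R M) (i : ℤ) :
    IsPerfect R ((DerivedCategory.singleFunctor (ModuleCat.{u} R) i).obj M) := by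
  have h : IsPerfect R ((DerivedCategory.singleFunctor (ModuleCat.{u} R) 0).obj M) := hM
  exact isPerfect_of_iso (((singleFunctors (ModuleCat.{u} R)).shiftIso (-i) i 0 (by lia)).app M)
    (isPerfect_shift _ (-i) h)

lemma isPerfect_of_bounded_termwise (K : Cx R) (a b : ℤ) (hab : VanishesOutside K a b)
    (hK : ∀ i : ℤ, IsPerfectModule R (K.X i)) : IsPerfect R (toD K) :=
  Devissage.prop_of_bounded_complex (perfectProp R) (fun K hK => isPerfect_of_isZero K hK)
    (fun T hT h₁ h₃ => isPerfect_obj₂ T hT h₁ h₃) K a b hab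
    (fun i => isPerfect_single_of_perfectModule (K.X i) (hK i) i)

lemma isPerfect_of_bounded_homology (K : Dual.D R) (a b : ℤ)
    (hab : ∀ i : ℤ, (i < a ∨ b < i) → Subsingleton (Dual.HD R K i))
    (hK : ∀ i : ℤ, IsPerfectModule R (Dual.HD R K i)) : IsPerfect R K :=
  Devissage.prop_of_bounded_homology (perfectProp R) (fun K hK => isPerfect_of_isZero K hK)
    (fun T hT h₁ h₃ => isPerfect_obj₂ T hT h₁ h₃) K a b
    (fun i hi => by
      haveI := hab i hi
      exact ModuleCat.isZero_of_subsingleton _)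
    (fun i => isPerfect_single_of_perfectModule _ (hK i) i)

end Groth.Agent.Lib.Helper84.DRingPerf
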