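import Mathlib.Algebra.Homology.DerivedCategory.KProjective
import Mathlib.Algebra.Homology.DerivedCategory.TStructure

/-!
# Morphisms out of K-projective complexes in the derived category (helper84)
-/

set_option autoImplicit false
universe w v u

open CategoryTheory CategoryTheory.Limits DerivedCategory

namespace Groth.Agent.Lib.Helper84.KProj

variable {C : Type u} [Category.{v} C] [Abelian C] [HasDerivedCategory.{w} C]

/-- Every morphism in the derived category out of a K-projective complex is represented
by a morphism of complexes. -/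
lemma exists_Q_map_eq (K L : CochainComplex C ℤ) [K.IsKProjective] (φ : Q.obj K ⟶ Q.obj L) :
    ∃ f : K ⟶ L, Q.map f = φ := by
  obtain ⟨g, hg⟩ := (CochainComplex.IsKProjective.Qh_map_bijective K
    ((HomotopyCategory.quotient _ _).obj L)).2
    ((quotientCompQhIso C).hom.app K ≫ φ ≫ (quotientCompQhIso C).inv.app L)
  obtain ⟨f, rfl⟩ := (HomotopyCategory.quotient _ _).map_surjective g
  refine ⟨f, ?_⟩
  have h := quotientCompQhIso_hom_naturality f
  rw [hg] at h
  simp only [Category.assoc, Iso.inv_hom_id_app, Category.comp_id] at h
  exact ((cancel_epi _).1 h).symm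

/-- Two morphisms of complexes out of a K-projective complex with the same image in
the derived category are homotopic. -/
lemma nonempty_homotopy_of_Q_map_eq (K L : CochainComplex C ℤ) [K.IsKProjective]
    (f g : K ⟶ L) (h : Q.map f = Q.map g) : Nonempty (Homotopy f g) := by
  have h1 : Qh.map ((HomotopyCategory.quotient _ _).map f) =
      Qh.map ((HomotopyCategory.quotient _ _).map g) := by
    have hf := quotientCompQhIso_hom_naturality f
    have hg := quotientCompQhIso_hom_naturality g
    rw [h, ← hg] at hf
    exact (cancel_mono _).1 hf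
  have h2 := (CochainComplex.IsKProjective.Qh_map_bijective K
    ((HomotopyCategory.quotient _ _).obj L)).1 h1
  exact ⟨HomotopyCategory.homotopyOfEq _ _ h2⟩

/-- Bounded above complexes of projectives are K-projective. -/
lemma isKProjective_of_vanishesAbove (P : CochainComplex C ℤ) (b : ℤ)
    (hb : ∀ i : ℤ, b < i → IsZero (P.X i)) (hP : ∀ i : ℤ, Projective (P.X i)) :
    P.IsKProjective := by
  haveI : P.IsStrictlyLE b := by
    rw [CochainComplex.isStrictlyLE_iff]
    exact hb
  exact CochainComplex.isKProjective_of_projective P b

/-- No nonzero morphism from a bounded above complex of projectives living in degrees `≥ a` to an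
object which is `≤ n` with `n < a`. -/
lemma from_projective_eq_zero (P : CochainComplex C ℤ) (a b n : ℤ) (hn : n < a)
    (ha : ∀ i : ℤ, i < a → IsZero (P.X i))
    (hb : ∀ i : ℤ, b < i → IsZero (P.X i)) (hP : ∀ i : ℤ, Projective (P.X i))
    (X : DerivedCategory C) [X.IsLE n] (φ : Q.obj P ⟶ X) : φ = 0 := by
  haveI := isKProjective_of_vanishesAbove P b hb hP
  obtain ⟨L, _, ⟨e⟩⟩ := exists_iso_Q_obj_of_isLE X n
  obtain ⟨f, hf⟩ := exists_Q_map_eq P L (φ ≫ e.hom)
  have hf0 : f = 0 := by
    ext i
    by_cases hi : i < a
    · exact (ha i hi).eq_of_src _ _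
    · exact (L.isZero_of_isStrictlyLE n i (by lia)).eq_of_tgt _ _
  rw [← cancel_mono e.hom, ← hf, hf0, Functor.map_zero, zero_comp]

end Groth.Agent.Lib.Helper84.KProj
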