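import Groth.Prelude.Def_DRing2
import Groth.Agent.Lib.Helper84.DerivedT

/-!
# Basic lemmas on `Dual.D R` (helper84)
-/

set_option autoImplicit false
universe u

open CategoryTheory CategoryTheory.Limits CategoryTheory.Pretriangulated CategoryTheory.Triangulated
open DerivedCategory

attribute [local instance] HasDerivedCategory.standard

namespace Groth.Agent.Lib.Helper84.DRingBasic

variable {R : Type u} [CommRing R]

lemma isLE_of_subsingleton (K : Dual.D R) (n : ℤ)
    (h : ∀ i : ℤ, n < i → Subsingleton (Dual.HD R K i)) : K.IsLE n := by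
  rw [isLE_iff]
  intro i hi
  haveI := h i hi
  exact ModuleCat.isZero_of_subsingleton _

lemma isGE_of_subsingleton (K : Dual.D R) (n : ℤ)
    (h : ∀ i : ℤ, i < n → Subsingleton (Dual.HD R K i)) : K.IsGE n := by
  rw [isGE_iff]
  intro i hi
  haveI := h i hi
  exact ModuleCat.isZero_of_subsingleton _

lemma subsingleton_of_isLE (K : Dual.D R) (n i : ℤ) [K.IsLE n] (hi : n < i) :
    Subsingleton (Dual.HD R K i) :=
  ModuleCat.subsingleton_of_isZero (isZero_of_isLE K n i hi)

lemma subsingleton_of_isGE (K : Dual.D R) (n i : ℤ) [K.IsGE n] (hi : i < n) :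
    Subsingleton (Dual.HD R K i) :=
  ModuleCat.subsingleton_of_isZero (isZero_of_isGE K n i hi)

/-- objects with cohomology only in degrees `-1, 0` -/
lemma isLE_zero_of_twoTerm (K : Dual.D R)
    (hK : ∀ i : ℤ, i ≠ -1 → i ≠ 0 → Subsingleton (Dual.HD R K i)) : K.IsLE 0 :=
  isLE_of_subsingleton K 0 (fun i hi => hK i (by lia) (by lia))

lemma isGE_neg_one_of_twoTerm (K : Dual.D R)
    (hK : ∀ i : ℤ, i ≠ -1 → i ≠ 0 → Subsingleton (Dual.HD R K i)) : K.IsGE (-1) :=
  isGE_of_subsingleton K (-1) (fun i hi => hK i (by lia) (by lia))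

end Groth.Agent.Lib.Helper84.DRingBasic
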