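import Groth.Prelude.Def_DRing2
import Groth.Agent.Lib.Helper84.DRingBasic
import Groth.Agent.Lib.Helper15.MQI
import Mathlib

/-!
# Flat base change `D(A) ⥤ D(B)` for a flat ring map (helper84)

For `φ : A →+* B` such that extension of scalars is exact (e.g. `φ` flat), the induced triangulated
functor `bc φ : D(A) ⥤ D(B)`, its values on `toD E` and on single modules, t-exactness, and
preservation of `m`-quasi-isomorphisms.
-/

set_option autoImplicit false
universe u

open CategoryTheory CategoryTheory.Limits CategoryTheory.Pretriangulated DerivedCategory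

attribute [local instance] HasDerivedCategory.standard

namespace Groth.Agent.Lib.Helper84.FlatBC

open DRing Groth.Agent.Lib.Helper84 Groth.Agent.Lib.Helper15.MQI
open scoped ZeroObject TensorProduct

variable {A B : Type u} [CommRing A] [CommRing B] (φ : A →+* B)

/-- the extension of scalars functor -/
noncomputable abbrev ext : ModuleCat.{u} A ⥤ ModuleCat.{u} B := ModuleCat.extendScalars.{u, u, u} φ

attribute [local instance] preservesBinaryBiproducts_of_preservesBinaryCoproducts in
instance : (ext φ).Additive := Functor.additive_of_preservesBinaryBiproducts _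

lemma preservesFiniteLimits_ext (hφ : φ.Flat) : PreservesFiniteLimits (ext φ) :=
  ModuleCat.preservesFiniteLimits_extendScalars_of_flat hφ

/-- termwise extension of scalars on complexes -/
noncomputable abbrev extCx : Cx A ⥤ Cx B := (ext φ).mapHomologicalComplex (ComplexShape.up ℤ)

lemma vanishesOutside_extCx (E : Cx A) (a b : ℤ) (h : VanishesOutside E a b) :
    VanishesOutside ((extCx φ).obj E) a b := fun i hi => (ext φ).map_isZero (h i hi)

lemma vanishesAbove_extCx (E : Cx A) (b : ℤ) (h : VanishesAbove E b) :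
    VanishesAbove ((extCx φ).obj E) b := fun i hi => (ext φ).map_isZero (h i hi)

section terms

variable (M : ModuleCat.{u} A)

lemma finite_ext (h : Module.Finite A M) : Module.Finite B ((ext φ).obj M) := by
  let _ := φ.toAlgebra
  change Module.Finite B (B ⊗[A] M)
  infer_instance

lemma free_ext (h : Module.Free A M) : Module.Free B ((ext φ).obj M) := by
  let _ := φ.toAlgebra
  change Module.Free B (B ⊗[A] M)
  infer_instance

lemma projective_ext (h : Module.Projective A M) : Module.Projective B ((ext φ).obj M) := by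
  let _ := φ.toAlgebra
  change Module.Projective B (B ⊗[A] M)
  infer_instance

lemma flat_ext (h : Module.Flat A M) : Module.Flat B ((ext φ).obj M) := by
  let _ := φ.toAlgebra
  change Module.Flat B (B ⊗[A] M)
  infer_instance

end terms

lemma termwiseFiniteFree_extCx (E : Cx A) (h : TermwiseFiniteFree E) :
    TermwiseFiniteFree ((extCx φ).obj E) :=
  fun i => ⟨finite_ext φ _ (h i).1, free_ext φ _ (h i).2⟩

lemma termwiseFiniteProjective_extCx (E : Cx A) (h : TermwiseFiniteProjective E) :
    TermwiseFiniteProjective ((extCx φ).obj E) :=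
  fun i => ⟨finite_ext φ _ (h i).1, projective_ext φ _ (h i).2⟩

lemma termwiseFlat_extCx (E : Cx A) (h : TermwiseFlat E) :
    TermwiseFlat ((extCx φ).obj E) :=
  fun i => flat_ext φ _ (h i)

variable [PreservesFiniteLimits (ext φ)]

/-- flat base change on derived categories -/
noncomputable abbrev bc : Dual.D A ⥤ Dual.D B := (ext φ).mapDerivedCategory

/-- `bc (Q E) ≅ Q (B ⊗ E)` -/
noncomputable def bcToD (E : Cx A) : (bc φ).obj (toD E) ≅ toD ((extCx φ).obj E) :=
  (ext φ).mapDerivedCategoryFactors.app E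

/-- `bc (M[n]) ≅ (B ⊗ M)[n]` -/
noncomputable def bcSingle (M : ModuleCat.{u} A) (n : ℤ) :
    (bc φ).obj ((DerivedCategory.singleFunctor (ModuleCat.{u} A) n).obj M) ≅
      (DerivedCategory.singleFunctor (ModuleCat.{u} B) n).obj ((ext φ).obj M) :=
  ((ext φ).mapDerivedCategorySingleFunctor n).app M

lemma isLE_bc (X : Dual.D A) (n : ℤ) [X.IsLE n] : ((bc φ).obj X).IsLE n := by
  obtain ⟨K, hK, ⟨e⟩⟩ := DerivedCategory.exists_iso_Q_obj_of_isLE X n
  have : ((extCx φ).obj K).IsStrictlyLE n := inferInstance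
  have h1 : (toD ((extCx φ).obj K)).IsLE n := inferInstance
  exact DerivedCategory.TStructure.t.isLE_of_iso ((bcToD φ K).symm ≪≫ (bc φ).mapIso e.symm) n

lemma isGE_bc (X : Dual.D A) (n : ℤ) [X.IsGE n] : ((bc φ).obj X).IsGE n := by
  obtain ⟨K, hK, ⟨e⟩⟩ := DerivedCategory.exists_iso_Q_obj_of_isGE X n
  have : ((extCx φ).obj K).IsStrictlyGE n := inferInstance
  have h1 : (toD ((extCx φ).obj K)).IsGE n := inferInstance
  exact DerivedCategory.TStructure.t.isGE_of_iso ((bcToD φ K).symm ≪≫ (bc φ).mapIso e.symm) n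

lemma isMQI_bc (m : ℤ) {X Y : Dual.D A} (α : X ⟶ Y) (h : IsMQI m α) : IsMQI m ((bc φ).map α) := by
  obtain ⟨Z, g, h', hT⟩ := distinguished_cocone_triangle α
  have h1 := (isMQI_iff_of_distTriang m _ hT).1 h
  have hT' := (bc φ).map_distinguished _ hT
  refine (isMQI_iff_of_distTriang m _ hT').2 ?_
  have : Z.IsLE (m - 1) := h1
  exact isLE_bc φ Z (m - 1)

lemma isPerfect_bc (K : Dual.D A) (h : IsPerfect A K) : IsPerfect B ((bc φ).obj K) := by
  obtain ⟨E, a, b, h1, h2, ⟨e⟩⟩ := h
  exact ⟨(extCx φ).obj E, a, b, vanishesOutside_extCx φ E a b h1,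
    termwiseFiniteProjective_extCx φ E h2, ⟨(bcToD φ E).symm ≪≫ (bc φ).mapIso e⟩⟩

lemma isPseudoCoherent'_bc (K : Dual.D A) (h : IsPseudoCoherent' A K) :
    IsPseudoCoherent' B ((bc φ).obj K) := by
  obtain ⟨E, b, h1, h2, ⟨e⟩⟩ := h
  exact ⟨(extCx φ).obj E, b, vanishesAbove_extCx φ E b h1,
    termwiseFiniteFree_extCx φ E h2, ⟨(bcToD φ E).symm ≪≫ (bc φ).mapIso e⟩⟩

lemma hasTorAmplitudeIn_bc (a b : ℤ) (K : Dual.D A) (h : HasTorAmplitudeIn A a b K) :
    HasTorAmplitudeIn B a b ((bc φ).obj K) := by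
  obtain ⟨E, h1, h2, ⟨e⟩⟩ := h
  exact ⟨(extCx φ).obj E, vanishesOutside_extCx φ E a b h1,
    termwiseFlat_extCx φ E h2, ⟨(bcToD φ E).symm ≪≫ (bc φ).mapIso e⟩⟩

lemma isPseudoCoherent_bc (m : ℤ) (K : Dual.D A) (h : IsPseudoCoherent A m K) :
    IsPseudoCoherent B m ((bc φ).obj K) := by
  obtain ⟨E, a, b, α, h1, h2, h3⟩ := h
  have h3' : IsMQI m α := h3
  have h4 : IsMQI m ((bcToD φ E).inv ≫ (bc φ).map α) :=
    IsMQI.comp (IsMQI.of_isIso m _) (isMQI_bc φ m α h3')
  exact ⟨(extCx φ).obj E, a, b, (bcToD φ E).inv ≫ (bc φ).map α, vanishesOutside_extCx φ E a b h1,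
    termwiseFiniteFree_extCx φ E h2, h4⟩

section Module

variable {A B : Type u} [CommRing A] [CommRing B]

/-- transport of a property of objects of the derived category along flat base change of a
module: the algebra structure is arbitrary (not necessarily of the form `toAlgebra`). -/
theorem module_baseChange [alg : Algebra A B] [hfl : Module.Flat A B]
    (M : Type u) [AddCommGroup M] [Module A M]
    (P : Dual.D A → Prop) (P' : Dual.D B → Prop) (hP' : ∀ X Y : Dual.D B, (X ≅ Y) → P' X → P' Y)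
    (hPP' : ∀ (f : A →+* B) [PreservesFiniteLimits (ext f)] (K : Dual.D A),
      P K → P' ((bc f).obj K)) :
    P (Dual.inD A M) → P' (Dual.inD B (B ⊗[A] M)) := by
  intro h
  obtain ⟨f, hf⟩ : ∃ f : A →+* B, alg = f.toAlgebra :=
    ⟨algebraMap A B, Algebra.algebra_ext _ _ (fun r => rfl)⟩
  subst hf
  have hflat : f.Flat := hfl
  haveI := preservesFiniteLimits_ext f hflat
  exact hP' _ _ (bcSingle f (ModuleCat.of A M) 0) (hPP' f _ h)

end Module

end Groth.Agent.Lib.Helper84.FlatBC
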