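import Groth.Prelude.Def_DRing2
import Groth.Agent.Lib.Helper84.ConeRep
import Groth.Agent.Lib.Helper84.KProj
import Groth.Agent.Lib.Helper84.Devissage
import Groth.Agent.Lib.Helper84.DRingBasic
import Mathlib

/-!
# Bounded above projective representatives of objects of `D(R)` (helper84)

`BProj X`: `X` is isomorphic to `Q P` for a bounded above complex `P` of projective modules.
Closed under isomorphisms, shifts, cones, extensions; holds for modules (Mathlib projective
resolutions), hence for all objects with bounded cohomology; the representative can be trimmed to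
live in degrees `≤ b` when `X` is `≤ b` for the t-structure.
-/

set_option autoImplicit false
universe u

open CategoryTheory CategoryTheory.Limits CategoryTheory.Pretriangulated DerivedCategory
open CategoryTheory.Triangulated

attribute [local instance] HasDerivedCategory.standard

namespace Groth.Agent.Lib.Helper84.BProj

open DRing Groth.Agent.Lib.Helper84
open scoped ZeroObject

variable {R : Type u} [CommRing R]

/-- `X` has a bounded above projective representative -/
def BProj (X : Dual.D R) : Prop :=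
  ∃ (P : Cx R) (b : ℤ), VanishesAbove P b ∧ (∀ i : ℤ, Projective (P.X i)) ∧ Nonempty (toD P ≅ X)

lemma BProj.of_iso {X Y : Dual.D R} (e : X ≅ Y) (h : BProj X) : BProj Y := by
  obtain ⟨P, b, h1, h2, ⟨e'⟩⟩ := h
  exact ⟨P, b, h1, h2, ⟨e' ≪≫ e⟩⟩

lemma BProj.shift {X : Dual.D R} (h : BProj X) (n : ℤ) : BProj (X⟦n⟧) := by
  obtain ⟨P, b, h1, h2, ⟨e⟩⟩ := h
  refine ⟨P⟦n⟧, b - n, ?_, ?_, ⟨ConeRep.shiftIso P n ≪≫ (shiftFunctor _ n).mapIso e⟩⟩
  · intro i hi
    exact h1 (i + n) (by lia)
  · intro i
    exact h2 (i + n)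

lemma BProj.of_isZero {X : Dual.D R} (h : IsZero X) : BProj X := by
  refine ⟨0, 0, fun i _ => ?_, fun i => ?_, ⟨(Functor.map_isZero Q (isZero_zero _)).iso h⟩⟩
  · exact Functor.map_isZero (HomologicalComplex.eval _ _ i) (isZero_zero _)
  · exact (Functor.map_isZero (HomologicalComplex.eval _ _ i) (isZero_zero _)).projective

lemma isKProjective {P : Cx R} {b : ℤ} (h1 : VanishesAbove P b) (h2 : ∀ i : ℤ, Projective (P.X i)) :
    P.IsKProjective :=
  KProj.isKProjective_of_vanishesAbove P b h1 h2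

lemma BProj.obj₃ (T : Triangle (Dual.D R)) (hT : T ∈ distTriang _) (h₁ : BProj T.obj₁)
    (h₂ : BProj T.obj₂) : BProj T.obj₃ := by
  obtain ⟨E, bE, hE1, hE2, ⟨e₁⟩⟩ := h₁
  obtain ⟨F, bF, hF1, hF2, ⟨e₂⟩⟩ := h₂
  have := isKProjective hE1 hE2
  obtain ⟨f, ⟨e₃⟩⟩ := ConeRep.exists_cone_iso E F T hT e₁ e₂
  refine ⟨_, max (bE - 1) bF, ?_, ?_, ⟨e₃⟩⟩
  · intro i hi
    refine ConeRep.isZero_mappingCone_X f i (hE1 (i + 1) ?_) (hF1 i ?_)
    · have := le_max_left (bE - 1) bF
      lia
    · have := le_max_right (bE - 1) bF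
      lia
  · intro i
    haveI := hE2 (i + 1)
    haveI := hF2 i
    exact Projective.of_iso (ConeRep.mappingConeXIso f i).symm inferInstance

lemma BProj.obj₂ (T : Triangle (Dual.D R)) (hT : T ∈ distTriang _) (h₁ : BProj T.obj₁)
    (h₃ : BProj T.obj₃) : BProj T.obj₂ := by
  have hT' := Pretriangulated.inv_rot_of_distTriang _ hT
  exact BProj.obj₃ T.invRotate hT' (h₃.shift (-1)) h₁

lemma BProj.single (M : ModuleCat.{u} R) (i : ℤ) :
    BProj ((DerivedCategory.singleFunctor (ModuleCat.{u} R) i).obj M) := by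
  obtain ⟨Pr⟩ : Nonempty (ProjectiveResolution M) := ⟨projectiveResolution M⟩
  have hiso : IsIso (Q.map Pr.π') := by
    rw [isIso_Q_map_iff_quasiIso]
    infer_instance
  have e : toD Pr.cochainComplex ≅ (DerivedCategory.singleFunctor (ModuleCat.{u} R) 0).obj M :=
    @asIso _ _ _ _ (Q.map Pr.π') hiso
  have h0 : BProj ((DerivedCategory.singleFunctor (ModuleCat.{u} R) 0).obj M) :=
    ⟨Pr.cochainComplex, 0, fun j hj => CochainComplex.isZero_of_isStrictlyLE _ 0 j hj,
      fun j => inferInstance, ⟨e⟩⟩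
  exact (h0.shift (-i)).of_iso
    (((DerivedCategory.singleFunctors (ModuleCat.{u} R)).shiftIso (-i) i 0 (by lia)).app M)

/-- the object property -/
def bProjProp (R : Type u) [CommRing R] : ObjectProperty (Dual.D R) := fun X => BProj X

instance : (bProjProp R).IsClosedUnderIsomorphisms where
  of_iso e h := BProj.of_iso e h

/-- objects with bounded cohomology have bounded above projective representatives -/
theorem bProj_of_bounded (X : Dual.D R) (a b : ℤ) [X.IsGE a] [X.IsLE b] : BProj X :=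
  Devissage.prop_of_bounded_homology (bProjProp R) (fun K hK => BProj.of_isZero hK)
    (fun T hT h1 h3 => BProj.obj₂ T hT h1 h3) X a b
    (fun i hi => by
      rcases hi with hi | hi
      · exact isZero_of_isGE X a i hi
      · exact isZero_of_isLE X b i hi)
    (fun i => BProj.single _ i)

/-- the kernel of an epimorphism onto a projective object, from a projective object, is
projective (here: for the cycles of a complex) -/
lemma projective_cycles (P : Cx R) (n : ℤ) [Projective (P.X n)] [Projective (P.X (n + 1))]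
    [Epi (P.d n (n + 1))] : Projective (P.cycles n) := by
  let d := P.d n (n + 1)
  let s : P.X (n + 1) ⟶ P.X n := Projective.factorThru (𝟙 _) d
  have hs : s ≫ d = 𝟙 _ := Projective.factorThru_comp _ _
  have h0 : (𝟙 (P.X n) - d ≫ s) ≫ P.d n (n + 1) = 0 := by
    change (𝟙 (P.X n) - d ≫ s) ≫ d = 0
    rw [Preadditive.sub_comp, Category.id_comp, Category.assoc, hs, Category.comp_id, sub_self]
  let r : P.X n ⟶ P.cycles n := P.liftCycles (𝟙 (P.X n) - d ≫ s) (n + 1) (by simp) h0
  have hr : r ≫ P.iCycles n = 𝟙 (P.X n) - d ≫ s := P.liftCycles_i _ _ _ _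
  have hkr : P.iCycles n ≫ r = 𝟙 _ := by
    rw [← cancel_mono (P.iCycles n), Category.assoc, hr, Preadditive.comp_sub, Category.comp_id,
      Category.id_comp]
    have : P.iCycles n ≫ d = 0 := P.iCycles_d n (n + 1)
    rw [reassoc_of% this, zero_comp, sub_zero]
  constructor
  intro A B f e _
  refine ⟨P.iCycles n ≫ Projective.factorThru (r ≫ f) e, ?_⟩
  rw [Category.assoc, Projective.factorThru_comp, ← Category.assoc, hkr, Category.id_comp]

lemma exists_trim_step (P : Cx R) (n : ℤ) (h1 : VanishesAbove P (n + 1))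
    (h2 : ∀ i : ℤ, Projective (P.X i)) [P.IsLE n] :
    ∃ P' : Cx R, VanishesAbove P' n ∧ (∀ i : ℤ, Projective (P'.X i)) ∧
      Nonempty (toD P' ≅ toD P) := by
  haveI : QuasiIso (P.ιTruncLE n) := (P.quasiIso_ιTruncLE_iff n).2 inferInstance
  haveI : IsIso (Q.map (P.ιTruncLE n)) := by
    rw [isIso_Q_map_iff_quasiIso]
    infer_instance
  refine ⟨P.truncLE n, ?_, ?_, ⟨asIso (Q.map (P.ιTruncLE n))⟩⟩
  · intro i hi
    exact CochainComplex.isZero_of_isStrictlyLE _ n i hi
  · intro i
    rcases lt_trichotomy i n with hlt | rfl | hgt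
    · exact Projective.of_iso (P.truncLEXIso n i hlt).symm (h2 i)
    · haveI := h2 i
      haveI := h2 (i + 1)
      haveI : Epi (P.d i (i + 1)) := by
        have hex := (P.exactAt_iff' i (i + 1) (i + 1 + 1) (by simp) (by simp)).1
          (P.exactAt_of_isLE i (i + 1))
        exact hex.epi_f ((h1 (i + 1 + 1) (by lia)).eq_of_tgt _ _)
      exact Projective.of_iso (P.truncLEXIsoCycles i).symm (projective_cycles P i)
    · exact (CochainComplex.isZero_of_isStrictlyLE _ n i hgt).projective

lemma exists_trim_aux (k : ℕ) : ∀ (P : Cx R) (n : ℤ), VanishesAbove P (n + k) →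
    (∀ i : ℤ, Projective (P.X i)) → P.IsLE n →
    ∃ P' : Cx R, VanishesAbove P' n ∧ (∀ i : ℤ, Projective (P'.X i)) ∧
      Nonempty (toD P' ≅ toD P) := by
  induction k with
  | zero =>
    intro P n h1 h2 _
    exact ⟨P, by simpa using h1, h2, ⟨Iso.refl _⟩⟩
  | succ k ih =>
    intro P n h1 h2 h3
    haveI : P.IsLE (n + k) := by
      haveI := h3
      exact CochainComplex.isLE_of_le P n (n + k) (by lia)
    obtain ⟨P₁, h1', h2', ⟨e₁⟩⟩ := exists_trim_step P (n + k) (by
      intro i hi
      exact h1 i (by push_cast; lia)) h2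
    haveI : P₁.IsLE n := by
      rw [← DerivedCategory.isLE_Q_obj_iff]
      haveI : (Q.obj P).IsLE n := (DerivedCategory.isLE_Q_obj_iff P n).2 h3
      exact TStructure.t.isLE_of_iso e₁.symm n
    obtain ⟨P₂, h1'', h2'', ⟨e₂⟩⟩ := ih P₁ n h1' h2' inferInstance
    exact ⟨P₂, h1'', h2'', ⟨e₂ ≪≫ e₁⟩⟩

/-- trimming: if `X` is `≤ n` it has a projective representative in degrees `≤ n` -/
theorem BProj.exists_le {X : Dual.D R} (h : BProj X) (n : ℤ) [X.IsLE n] :
    ∃ P : Cx R, VanishesAbove P n ∧ (∀ i : ℤ, Projective (P.X i)) ∧ Nonempty (toD P ≅ X) := by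
  obtain ⟨P, b, h1, h2, ⟨e⟩⟩ := h
  haveI : P.IsLE n := by
    rw [← DerivedCategory.isLE_Q_obj_iff]
    exact TStructure.t.isLE_of_iso e.symm n
  obtain ⟨P', h1', h2', ⟨e'⟩⟩ := exists_trim_aux (b - n).toNat P n (by
    intro i hi
    apply h1
    have := Int.self_le_toNat (b - n)
    lia) h2 inferInstance
  exact ⟨P', h1', h2', ⟨e' ≪≫ e⟩⟩

end Groth.Agent.Lib.Helper84.BProj
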