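import Mathlib

/-!
# Flatness of a cokernel from universal exactness (helper84)

If `P0 → P1 → P2` is a complex of modules with `P2` flat which stays exact (at `P1`) after
tensoring with every module, then `P2 ⧸ range (P1 → P2)` is flat.
-/

set_option autoImplicit false
universe u

open TensorProduct

namespace Groth.Agent.Lib.Helper84.FlatCoker

variable {R : Type u} [CommRing R]

section

variable {P0 P1 P2 : Type u} [AddCommGroup P0] [AddCommGroup P1] [AddCommGroup P2]
  [Module R P0] [Module R P1] [Module R P2]
  (d0 : P0 →ₗ[R] P1) (d1 : P1 →ₗ[R] P2) (h0 : d1 ∘ₗ d0 = 0)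
  (hex : ∀ (N : Type u) [AddCommGroup N] [Module R N],
    Function.Exact (d0.lTensor N) (d1.lTensor N))

include h0 hex in
/-- the image of `d1` stays a submodule after any tensoring -/
lemma lTensor_subtype_range_injective (N : Type u) [AddCommGroup N] [Module R N] :
    Function.Injective ((LinearMap.range d1).subtype.lTensor N) := by
  let g : P1 →ₗ[R] LinearMap.range d1 := d1.rangeRestrict
  have hg : Function.Surjective g := d1.surjective_rangeRestrict
  have hιg : (LinearMap.range d1).subtype ∘ₗ g = d1 := by
    apply LinearMap.ext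
    intro x
    rfl
  have hg0 : g ∘ₗ d0 = 0 := by
    apply LinearMap.ext
    intro x
    apply Subtype.ext
    have : d1 (d0 x) = 0 := by
      have := LinearMap.congr_fun h0 x
      simpa using this
    simpa [g] using this
  rw [injective_iff_map_eq_zero]
  intro x hx
  obtain ⟨y, rfl⟩ := LinearMap.lTensor_surjective N hg x
  have hy : (d1.lTensor N) y = 0 := by
    rw [← hιg, LinearMap.lTensor_comp]
    exact hx
  obtain ⟨w, rfl⟩ := (hex N y).1 hy
  rw [← LinearMap.comp_apply, ← LinearMap.lTensor_comp, hg0]
  simp

include h0 hex in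
theorem flat_coker [Module.Flat R P2] : Module.Flat R (P2 ⧸ LinearMap.range d1) := by
  rw [Module.Flat.iff_lTensor_preserves_injective_linearMap]
  intro A B _ _ _ _ f hf
  refine lTensor_injective_of_exact_of_exact_of_rTensor_injective
    (f₁ := (LinearMap.range d1).subtype) (f₂ := (LinearMap.range d1).mkQ)
    (g₁ := f) (g₂ := (LinearMap.range f).mkQ)
    (LinearMap.exact_subtype_mkQ _) (Submodule.mkQ_surjective _)
    (LinearMap.exact_map_mkQ_range f) (Submodule.mkQ_surjective _) ?_ ?_
  · rw [← LinearMap.lTensor_inj_iff_rTensor_inj]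
    exact lTensor_subtype_range_injective d0 d1 h0 hex _
  · exact Module.Flat.lTensor_preserves_injective_linearMap f hf

end

end Groth.Agent.Lib.Helper84.FlatCoker
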