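import Groth.Agent.Lib.Helper84.TensCx
import Groth.Agent.Lib.Helper84.FlatCoker
import Groth.Agent.Lib.Helper84.BProj

/-!
# Tor amplitude in the flat-representative form (helper84)

* `flat_coker_of_exactAt`: if `F^a` is flat and `N ⊗ F` is exact in degree `a - 1` for all `N`,
  then `coker (F^{a-1} → F^a)` is flat;
* `hasTorAmplitudeIn_of_exactAt`: a complex of flat modules vanishing above `b` with
  `H^i(N ⊗ F) = 0` for all `N` and `i < a` has tor amplitude in `[a, b]`;
* `exactAt_tens_of_hasTorAmplitudeIn`: conversely.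
-/

set_option autoImplicit false
universe u

open CategoryTheory CategoryTheory.Limits CategoryTheory.Pretriangulated DerivedCategory
open DRing MonoidalCategory

attribute [local instance] HasDerivedCategory.standard

namespace Groth.Agent.Lib.Helper84.FlatAmp

open TensCx

variable {R : Type u} [CommRing R]

/-- opcycles as a quotient module -/
noncomputable def opcyclesIsoCoker (K : Cx R) (a' a : ℤ) (ha : a' + 1 = a) :
    K.opcycles a ≅ ModuleCat.of R (K.X a ⧸ LinearMap.range (K.d a' a).hom) :=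
  IsColimit.coconePointUniqueUpToIso (K.opcyclesIsCokernel a' a (by simp [← ha]))
    (ModuleCat.cokernelIsColimit (K.d a' a))

/-- tensoring with the unit does nothing -/
noncomputable def tensUnitIso (F : Cx R) : (tens (𝟙_ (ModuleCat.{u} R))).obj F ≅ F :=
  HomologicalComplex.Hom.isoOfComponents (fun i => λ_ (F.X i)) (by
    intro i j _
    exact (leftUnitor_naturality (F.d i j)).symm)

lemma exactAt_of_exactAt_tens_unit (F : Cx R) (i : ℤ)
    (h : ((tens (𝟙_ (ModuleCat.{u} R))).obj F).ExactAt i) : F.ExactAt i :=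
  (_root_.exactAt_iff_of_quasiIsoAt (tensUnitIso F).hom i).1 h

theorem flat_coker_of_exactAt (F : Cx R) (a : ℤ) [Module.Flat R (F.X a)]
    (hex : ∀ N : ModuleCat.{u} R, ((tens N).obj F).ExactAt (a - 1)) :
    Module.Flat R (F.X a ⧸ LinearMap.range (F.d (a - 1) a).hom) := by
  apply FlatCoker.flat_coker (F.d (a - 1 - 1) (a - 1)).hom (F.d (a - 1) a).hom
  · rw [← ModuleCat.hom_comp, F.d_comp_d]
    rfl
  · intro N _ _
    have h := hex (ModuleCat.of R N)
    rw [HomologicalComplex.exactAt_iff' _ (a - 1 - 1) (a - 1) a (by simp) (by simp)] at h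
    exact (ShortComplex.ShortExact.moduleCat_exact_iff_function_exact _).1 h

lemma flat_of_isZero {M : ModuleCat.{u} R} (h : IsZero M) : Module.Flat R M := by
  haveI := ModuleCat.isZero_iff_subsingleton.1 h
  infer_instance

/-- the truncation criterion for tor amplitude -/
theorem hasTorAmplitudeIn_of_exactAt (F : Cx R) (a b : ℤ) (hb : VanishesAbove F b)
    (hF : TermwiseFlat F)
    (hex : ∀ (N : ModuleCat.{u} R) (i : ℤ), i < a → ((tens N).obj F).ExactAt i) :
    HasTorAmplitudeIn R a b (toD F) := by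
  haveI : F.IsGE a := by
    rw [CochainComplex.isGE_iff]
    intro i hi
    exact exactAt_of_exactAt_tens_unit F i (hex _ i hi)
  haveI : QuasiIso (F.πTruncGE a) := inferInstance
  haveI : IsIso (Q.map (F.πTruncGE a)) := by
    rw [isIso_Q_map_iff_quasiIso]
    infer_instance
  refine ⟨F.truncGE a, ?_, ?_, ⟨(asIso (Q.map (F.πTruncGE a))).symm⟩⟩
  · intro i hi
    rcases lt_trichotomy i a with hlt | rfl | hgt
    · exact CochainComplex.isZero_of_isStrictlyGE _ a i hlt
    · have hi' : b < i := by
        rcases hi with hi | hi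
        · exact absurd hi (lt_irrefl _)
        · exact hi
      exact IsZero.of_iso (IsZero.of_epi (F.pOpcycles i) (hb i hi')) (F.truncGEXIsoOpcycles i)
    · have hi' : b < i := by
        rcases hi with hi | hi
        · lia
        · exact hi
      exact IsZero.of_iso (hb i hi') (F.truncGEXIso a i hgt)
  · intro i
    rcases lt_trichotomy i a with hlt | rfl | hgt
    · exact flat_of_isZero (CochainComplex.isZero_of_isStrictlyGE _ a i hlt)
    · haveI := hF i
      haveI : Module.Flat R (ModuleCat.of R (F.X i ⧸ LinearMap.range (F.d (i - 1) i).hom)) :=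
        flat_coker_of_exactAt F i (fun N => hex N (i - 1) (by lia))
      exact flat_of_iso ((F.truncGEXIsoOpcycles i) ≪≫
        opcyclesIsoCoker F (i - 1) i (by lia)).symm
    · haveI := hF i
      exact flat_of_iso (F.truncGEXIso a i hgt).symm

lemma flat_of_projective {M : ModuleCat.{u} R} (h : Projective M) : Module.Flat R M := by
  haveI : Module.Projective R M := (IsProjective.iff_projective (R := R) (P := M)).2 h
  infer_instance

lemma termwiseFlat_of_projective {P : Cx R} (h : ∀ i : ℤ, Projective (P.X i)) : TermwiseFlat P :=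
  fun i => flat_of_projective (h i)

lemma vanishesAbove_mono {P : Cx R} {m m' : ℤ} (h : VanishesAbove P m) (hm : m ≤ m') :
    VanishesAbove P m' := fun i hi => h i (lt_of_le_of_lt hm hi)

lemma isGE_toD_of_vanishes {E : Cx R} {a : ℤ} (h : ∀ i : ℤ, i < a → IsZero (E.X i)) :
    (toD E).IsGE a := by
  haveI : E.IsStrictlyGE a := by
    rw [CochainComplex.isStrictlyGE_iff]
    exact h
  exact (DerivedCategory.isGE_Q_obj_iff E a).2 inferInstance

lemma isLE_toD_of_vanishes {E : Cx R} {b : ℤ} (h : VanishesAbove E b) :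
    (toD E).IsLE b := by
  haveI : E.IsStrictlyLE b := by
    rw [CochainComplex.isStrictlyLE_iff]
    exact h
  exact (DerivedCategory.isLE_Q_obj_iff E b).2 inferInstance

lemma torAmp_isGE {a b : ℤ} {X : Dual.D R} (h : HasTorAmplitudeIn R a b X) :
    X.IsGE a := by
  obtain ⟨E, hE, _, ⟨e⟩⟩ := h
  haveI := isGE_toD_of_vanishes (E := E) (a := a) (fun i hi => hE i (Or.inl hi))
  exact TStructure.t.isGE_of_iso e a

lemma torAmp_isLE {a b : ℤ} {X : Dual.D R} (h : HasTorAmplitudeIn R a b X) :
    X.IsLE b := by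
  obtain ⟨E, hE, _, ⟨e⟩⟩ := h
  haveI := isLE_toD_of_vanishes (E := E) (b := b) (fun i hi => hE i (Or.inr hi))
  exact TStructure.t.isLE_of_iso e b

lemma torAmp_bProj {a b : ℤ} {X : Dual.D R} (h : HasTorAmplitudeIn R a b X) :
    BProj.BProj X := by
  haveI := torAmp_isGE h
  haveI := torAmp_isLE h
  exact BProj.bProj_of_bounded X a b

lemma torAmp_of_iso {a b : ℤ} {X Y : Dual.D R} (h : HasTorAmplitudeIn R a b X)
    (e : X ≅ Y) : HasTorAmplitudeIn R a b Y := by
  obtain ⟨E, hE, hF, ⟨e'⟩⟩ := h
  exact ⟨E, hE, hF, ⟨e' ≪≫ e⟩⟩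

lemma torAmp_mono {a b a' b' : ℤ} {X : Dual.D R} (h : HasTorAmplitudeIn R a b X)
    (ha : a' ≤ a) (hb : b ≤ b') : HasTorAmplitudeIn R a' b' X := by
  obtain ⟨E, hE, hF, ⟨e'⟩⟩ := h
  refine ⟨E, ?_, hF, ⟨e'⟩⟩
  intro i hi
  apply hE
  rcases hi with hi | hi
  · exact Or.inl (by lia)
  · exact Or.inr (by lia)

/-- comparison of `tens N` on two bounded above flat representatives of the same object -/
theorem exactAt_tens_iff_of_iso (F F' : Cx R) (n n' : ℤ) (hn : VanishesAbove F n)
    (hn' : VanishesAbove F' n') (hF : TermwiseFlat F) (hF' : TermwiseFlat F')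
    (hB : BProj.BProj (toD F)) (e : toD F ≅ toD F') (N : ModuleCat.{u} R) (i : ℤ) :
    ((tens N).obj F).ExactAt i ↔ ((tens N).obj F').ExactAt i := by
  obtain ⟨P, m, hm, hproj, ⟨e₀⟩⟩ := hB
  haveI : P.IsKProjective := BProj.isKProjective hm hproj
  obtain ⟨p, hp⟩ := KProj.exists_Q_map_eq P F e₀.hom
  obtain ⟨p', hp'⟩ := KProj.exists_Q_map_eq P F' (e₀.hom ≫ e.hom)
  haveI : QuasiIso p := by
    rw [← isIso_Q_map_iff_quasiIso, hp]
    infer_instance
  haveI : QuasiIso p' := by
    rw [← isIso_Q_map_iff_quasiIso, hp']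
    infer_instance
  have hP := termwiseFlat_of_projective hproj
  let M := max m (max n n')
  have h1 := exactAt_tens_iff p M (vanishesAbove_mono hm (le_max_left _ _))
    (vanishesAbove_mono hn (le_trans (le_max_left _ _) (le_max_right _ _))) hP hF N i
  have h2 := exactAt_tens_iff p' M (vanishesAbove_mono hm (le_max_left _ _))
    (vanishesAbove_mono hn' (le_trans (le_max_right _ _) (le_max_right _ _))) hP hF' N i
  exact h1.symm.trans h2

lemma exactAt_tens_of_isZero (F : Cx R) (N : ModuleCat.{u} R) (i : ℤ) (h : IsZero (F.X i)) :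
    ((tens N).obj F).ExactAt i :=
  ShortComplex.exact_of_isZero_X₂ _ (Functor.map_isZero (tensorLeft N) h)

/-- a bounded above flat representative of an object of tor amplitude in `[a, b]` has
`H^i(N ⊗ F) = 0` for `i < a` -/
theorem exactAt_tens_of_hasTorAmplitudeIn (F : Cx R) (n : ℤ) (hn : VanishesAbove F n)
    (hF : TermwiseFlat F) (a b : ℤ) (h : HasTorAmplitudeIn R a b (toD F))
    (N : ModuleCat.{u} R) (i : ℤ) (hi : i < a) : ((tens N).obj F).ExactAt i := by
  have hB := torAmp_bProj h
  obtain ⟨E, hE, hEflat, ⟨e⟩⟩ := h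
  rw [exactAt_tens_iff_of_iso F E n b hn (fun i hi => hE i (Or.inr hi)) hF hEflat hB e.symm N i]
  exact exactAt_tens_of_isZero E N i (hE i (Or.inl hi))

end Groth.Agent.Lib.Helper84.FlatAmp
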