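import Mathlib.Algebra.Homology.DerivedCategory.KInjective
import Mathlib.Algebra.Homology.DerivedCategory.TStructure
import Groth.Agent.Lib.Helper84.ConeRep

/-!
# Morphisms into K-injective complexes in the derived category (helper84)
-/

set_option autoImplicit false
universe w v u

open CategoryTheory CategoryTheory.Limits CategoryTheory.Pretriangulated DerivedCategory

namespace Groth.Agent.Lib.Helper84.KInj

variable {C : Type u} [Category.{v} C] [Abelian C] [HasDerivedCategory.{w} C]

/-- Every morphism in the derived category into a K-injective complex is represented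
by a morphism of complexes. -/
lemma exists_Q_map_eq (K L : CochainComplex C ℤ) [L.IsKInjective] (φ : Q.obj K ⟶ Q.obj L) :
    ∃ f : K ⟶ L, Q.map f = φ := by
  obtain ⟨g, hg⟩ := (CochainComplex.IsKInjective.Qh_map_bijective
    ((HomotopyCategory.quotient _ _).obj K) L).2
    ((quotientCompQhIso C).hom.app K ≫ φ ≫ (quotientCompQhIso C).inv.app L)
  obtain ⟨f, rfl⟩ := (HomotopyCategory.quotient _ _).map_surjective g
  refine ⟨f, ?_⟩
  have h := quotientCompQhIso_hom_naturality f
  rw [hg] at h
  simp only [Category.assoc, Iso.inv_hom_id_app, Category.comp_id] at h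
  exact ((cancel_epi _).1 h).symm

/-- Bounded below complexes of injectives are K-injective. -/
lemma isKInjective_of_vanishesBelow (I : CochainComplex C ℤ) (a : ℤ)
    (ha : ∀ i : ℤ, i < a → IsZero (I.X i)) (hI : ∀ i : ℤ, Injective (I.X i)) :
    I.IsKInjective := by
  haveI : I.IsStrictlyGE a := by
    rw [CochainComplex.isStrictlyGE_iff]
    exact ha
  exact CochainComplex.isKInjective_of_injective I a

/-- If the first two vertices of a distinguished triangle are represented by complexes `E`, `F`
with `F` K-injective, the third vertex is represented by the mapping cone of a morphism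
`E ⟶ F`. -/
lemma exists_cone_iso (E F : CochainComplex C ℤ) [F.IsKInjective]
    (T : Triangle (DerivedCategory C)) (hT : T ∈ distTriang _)
    (e₁ : Q.obj E ≅ T.obj₁) (e₂ : Q.obj F ≅ T.obj₂) :
    ∃ f : E ⟶ F, Nonempty (Q.obj (CochainComplex.mappingCone f) ≅ T.obj₃) := by
  obtain ⟨f, hf⟩ := exists_Q_map_eq E F (e₁.hom ≫ T.mor₁ ≫ e₂.inv)
  refine ⟨f, ⟨?_⟩⟩
  have hT' := mappingCone_triangle_distinguished f
  have comm : (Q.mapTriangle.obj (CochainComplex.mappingCone.triangle f)).mor₁ ≫ e₂.hom =
      e₁.hom ≫ T.mor₁ := by
    change Q.map f ≫ e₂.hom = _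
    rw [hf]; simp
  exact Triangle.π₃.mapIso (isoTriangleOfIso₁₂ _ _ hT' hT e₁ e₂ comm)

end Groth.Agent.Lib.Helper84.KInj

namespace Groth.Agent.Lib.Helper84.KInj

variable {C : Type u} [Category.{v} C] [Abelian C] [HasDerivedCategory.{w} C]

/-- Two morphisms of complexes into a K-injective complex with the same image in
the derived category are homotopic. -/
lemma nonempty_homotopy_of_Q_map_eq (K L : CochainComplex C ℤ) [L.IsKInjective]
    (f g : K ⟶ L) (h : Q.map f = Q.map g) : Nonempty (Homotopy f g) := by
  have h1 : Qh.map ((HomotopyCategory.quotient _ _).map f) =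
      Qh.map ((HomotopyCategory.quotient _ _).map g) := by
    have hf := quotientCompQhIso_hom_naturality f
    have hg := quotientCompQhIso_hom_naturality g
    rw [h, ← hg] at hf
    exact (cancel_mono _).1 hf
  have h2 := (CochainComplex.IsKInjective.Qh_map_bijective
    ((HomotopyCategory.quotient _ _).obj K) L).1 h1
  exact ⟨HomotopyCategory.homotopyOfEq _ _ h2⟩

end Groth.Agent.Lib.Helper84.KInj
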