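import Mathlib.Algebra.Homology.HomotopyCategory.HomComplex
import Mathlib.Algebra.Homology.HomotopyCategory.HomComplexSingle
import Mathlib.Algebra.Homology.HomotopyCategory.Triangulated
import Mathlib.Algebra.Homology.DerivedCategory.KInjective
import Mathlib.Algebra.Homology.Factorizations.CM5a
import Groth.Agent.Lib.Helper84.KInj

/-!
# Morphisms from a complex with projective top term into a complex bounded below at `-1`
(helper84)

Let `M` be a cochain complex with `M^i = 0` for `i > 0` and `M^0` projective, and let `K` be a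
cochain complex with `K^i = 0` for `i ≤ -2`.  Then homotopy classes of chain maps `M ⟶ K`
are in bijection with morphisms in the derived category.
-/

set_option autoImplicit false
universe w v u

open CategoryTheory CategoryTheory.Limits CategoryTheory.Pretriangulated DerivedCategory
open CochainComplex HomComplex

namespace Groth.Agent.Lib.Helper84.ProjTopHom

variable {C : Type u} [Category.{v} C] [Abelian C]

/-- a chain map from a complex in degrees `≤ 0` with projective top term to an acyclic complex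
living in degrees `≥ -2` is null-homotopic -/
lemma nonempty_homotopy_zero (M L : CochainComplex C ℤ) (hM : ∀ i : ℤ, 0 < i → IsZero (M.X i))
    [Projective (M.X 0)] (hL : ∀ i : ℤ, i < -2 → IsZero (L.X i))
    (hex : ∀ i : ℤ, L.ExactAt i) (g : M ⟶ L) : Nonempty (Homotopy g 0) := by
  -- exactness at `0`, `-1`, `-2`
  have hS0 : (L.sc' (-1) 0 1).Exact := (L.exactAt_iff' (-1) 0 1 (by simp) (by simp)).1 (hex 0)
  have hS1 : (L.sc' (-2) (-1) 0).Exact :=
    (L.exactAt_iff' (-2) (-1) 0 (by simp) (by simp)).1 (hex (-1))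
  have hS2 : (L.sc' (-3) (-2) (-1)).Exact :=
    (L.exactAt_iff' (-3) (-2) (-1) (by simp) (by simp)).1 (hex (-2))
  have hmono : Mono (L.d (-2) (-1)) :=
    hS2.mono_g ((hL (-3) (by lia)).eq_of_src _ _)
  haveI : Mono (L.sc' (-2) (-1) 0).f := hmono
  -- `h⁰`
  have hk0 : g.f 0 ≫ (L.sc' (-1) 0 1).g = 0 := by
    change g.f 0 ≫ L.d 0 1 = 0
    rw [g.comm 0 1, (hM 1 (by lia)).eq_of_tgt (M.d 0 1) 0, zero_comp]
  let h0 : M.X 0 ⟶ L.X (-1) := hS0.liftFromProjective (g.f 0) hk0
  have hh0 : h0 ≫ L.d (-1) 0 = g.f 0 := hS0.liftFromProjective_comp (g.f 0) hk0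
  -- `h⁻¹`
  let r : M.X (-1) ⟶ L.X (-1) := g.f (-1) - M.d (-1) 0 ≫ h0
  have hr : r ≫ (L.sc' (-2) (-1) 0).g = 0 := by
    change (g.f (-1) - M.d (-1) 0 ≫ h0) ≫ L.d (-1) 0 = 0
    rw [Preadditive.sub_comp, Category.assoc, hh0, g.comm (-1) 0, sub_self]
  let h1 : M.X (-1) ⟶ L.X (-2) := hS1.lift r hr
  have hh1 : h1 ≫ L.d (-2) (-1) = r := hS1.lift_f r hr
  have hh2 : M.d (-2) (-1) ≫ h1 = g.f (-2) := by
    rw [← cancel_mono (L.d (-2) (-1)), Category.assoc, hh1, g.comm (-2) (-1)]
    change M.d (-2) (-1) ≫ (g.f (-1) - M.d (-1) 0 ≫ h0) = _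
    rw [Preadditive.comp_sub, M.d_comp_d_assoc, zero_comp, sub_zero]
  -- the homotopy
  refine ⟨(Cochain.equivHomotopy g 0).symm
    ⟨Cochain.single h0 (-1) + Cochain.single h1 (-1), ?_⟩⟩
  rw [Cochain.ofHom_zero, add_zero, δ_add,
    Cochain.δ_single h0 (-1) 0 (by lia) (-1) 0 (by lia) (by lia),
    Cochain.δ_single h1 (-1) 0 (by lia) (-2) (-1) (by lia) (by lia)]
  ext p
  simp only [Cochain.ofHom_v, Cochain.add_v, Int.negOnePow_zero, one_smul]
  by_cases hp0 : p = 0
  · subst hp0
    rw [Cochain.single_v, Cochain.single_v_eq_zero _ _ _ _ _ (by lia),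
      Cochain.single_v_eq_zero _ _ _ _ _ (by lia), Cochain.single_v_eq_zero _ _ _ _ _ (by lia),
      hh0]
    simp
  by_cases hp1 : p = -1
  · subst hp1
    rw [Cochain.single_v_eq_zero _ _ _ _ _ (by lia), Cochain.single_v, Cochain.single_v,
      Cochain.single_v_eq_zero _ _ _ _ _ (by lia), hh1]
    simp [r]
  by_cases hp2 : p = -2
  · subst hp2
    rw [Cochain.single_v_eq_zero _ _ _ _ _ (by lia), Cochain.single_v_eq_zero _ _ _ _ _ (by lia),
      Cochain.single_v_eq_zero _ _ _ _ _ (by lia), Cochain.single_v, hh2]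
    simp
  · rw [Cochain.single_v_eq_zero _ _ _ _ _ (by lia), Cochain.single_v_eq_zero _ _ _ _ _ (by lia),
      Cochain.single_v_eq_zero _ _ _ _ _ (by lia), Cochain.single_v_eq_zero _ _ _ _ _ (by lia)]
    simp only [add_zero]
    by_cases hp : 0 < p
    · exact (hM p hp).eq_of_src _ _
    · exact (hL p (by lia)).eq_of_tgt _ _

end Groth.Agent.Lib.Helper84.ProjTopHom

namespace Groth.Agent.Lib.Helper84.ProjTopHom

variable {C : Type u} [Category.{v} C] [Abelian C] [HasDerivedCategory.{w} C]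

/-- the cone of a quasi-isomorphism is acyclic -/
lemma exactAt_mappingCone_of_quasiIso {K J : CochainComplex C ℤ} (i : K ⟶ J) [QuasiIso i]
    (n : ℤ) : (mappingCone i).ExactAt n := by
  have hT := mappingCone_triangle_distinguished i
  have hiso : IsIso (Q.mapTriangle.obj (CochainComplex.mappingCone.triangle i)).mor₁ := by
    change IsIso (Q.map i)
    infer_instance
  have hz : IsZero (Q.obj (mappingCone i)) :=
    (Triangle.isZero₃_iff_isIso₁ _ hT).2 hiso
  rw [HomologicalComplex.exactAt_iff_isZero_homology]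
  have e : (homologyFunctor C n).obj (Q.obj (mappingCone i)) ≅ (mappingCone i).homology n :=
    (homologyFunctorFactors C n).app (mappingCone i)
  exact IsZero.of_iso (Functor.map_isZero _ hz) e.symm

section

variable [EnoughInjectives C] (M K : CochainComplex C ℤ)
  (hM : ∀ i : ℤ, 0 < i → IsZero (M.X i)) [Projective (M.X 0)]
  (hK : ∀ i : ℤ, i ≤ -2 → IsZero (K.X i))

include hM hK

/-- key data: a K-injective replacement of `K` whose cone receives no nonzero homotopy class
from `M` -/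
lemma exists_replacement :
    ∃ (J : CochainComplex C ℤ) (i : K ⟶ J), QuasiIso i ∧ J.IsKInjective ∧
      (∀ φ : (HomotopyCategory.quotient C (ComplexShape.up ℤ)).obj M ⟶
        (HomotopyCategory.quotient C (ComplexShape.up ℤ)).obj (mappingCone i), φ = 0) ∧
      (∀ φ : (HomotopyCategory.quotient C (ComplexShape.up ℤ)).obj M ⟶
        ((HomotopyCategory.quotient C (ComplexShape.up ℤ)).obj (mappingCone i))⟦(-1 : ℤ)⟧,
          φ = 0) := by
  haveI : K.IsStrictlyGE (-1) := by
    rw [CochainComplex.isStrictlyGE_iff]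
    exact fun i hi => hK i (by lia)
  obtain ⟨J, i, hi, hJ, hJ'⟩ :=
    CochainComplex.Plus.modelCategoryQuillen.exists_quasiIso_injective K (-1)
  have hKI : J.IsKInjective := CochainComplex.isKInjective_of_injective J (-1)
  have hLz : ∀ p : ℤ, p < -2 → IsZero ((mappingCone i).X p) := fun p hp =>
    ConeRep.isZero_mappingCone_X i p (hK (p + 1) (by lia)) (J.isZero_of_isStrictlyGE (-1) p (by lia))
  have hex := exactAt_mappingCone_of_quasiIso i
  refine ⟨J, i, hi, hKI, fun φ => ?_, fun φ => ?_⟩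
  · obtain ⟨g, rfl⟩ := (HomotopyCategory.quotient _ _).map_surjective φ
    obtain ⟨h⟩ := nonempty_homotopy_zero M (mappingCone i) hM hLz hex g
    rw [HomotopyCategory.eq_of_homotopy _ _ h, Functor.map_zero]
  · let e := ((HomotopyCategory.quotient C (ComplexShape.up ℤ)).commShiftIso (-1 : ℤ)).app
      (mappingCone i)
    have hφ : φ ≫ e.inv = 0 := by
      obtain ⟨g, hg⟩ := (HomotopyCategory.quotient _ _).map_surjective (φ ≫ e.inv)
      have hLz' : ∀ p : ℤ, p < -2 → IsZero (((mappingCone i)⟦(-1 : ℤ)⟧).X p) := fun p hp =>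
        hLz (p + -1) (by lia)
      have hex' : ∀ n : ℤ, ((mappingCone i)⟦(-1 : ℤ)⟧).ExactAt n := by
        intro n
        have hz : IsZero (Q.obj ((mappingCone i)⟦(-1 : ℤ)⟧)) := by
          have hT := mappingCone_triangle_distinguished i
          have hiso : IsIso (Q.mapTriangle.obj (CochainComplex.mappingCone.triangle i)).mor₁ := by
            change IsIso (Q.map i)
            infer_instance
          have hz0 : IsZero (Q.obj (mappingCone i)) :=
            (Triangle.isZero₃_iff_isIso₁ _ hT).2 hiso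
          exact IsZero.of_iso (Functor.map_isZero (CategoryTheory.shiftFunctor _ (-1 : ℤ)) hz0)
            ((Q.commShiftIso (-1 : ℤ)).app (mappingCone i))
        rw [HomologicalComplex.exactAt_iff_isZero_homology]
        exact IsZero.of_iso (Functor.map_isZero (homologyFunctor C n) hz)
          ((homologyFunctorFactors C n).app ((mappingCone i)⟦(-1 : ℤ)⟧)).symm
      obtain ⟨h⟩ := nonempty_homotopy_zero M ((mappingCone i)⟦(-1 : ℤ)⟧) hM hLz' hex' g
      rw [← hg, HomotopyCategory.eq_of_homotopy _ _ h, Functor.map_zero]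
    exact (cancel_mono e.inv).1 (hφ.trans zero_comp.symm)

/-- every morphism `M ⟶ K` in the derived category comes from a chain map -/
theorem exists_Q_map_eq (ξ : Q.obj M ⟶ Q.obj K) : ∃ f : M ⟶ K, Q.map f = ξ := by
  obtain ⟨J, i, hi, hJ, h0, -⟩ := exists_replacement M K hM hK
  obtain ⟨g, hg⟩ := KInj.exists_Q_map_eq M J (ξ ≫ Q.map i)
  have hT := HomotopyCategory.mappingCone_triangleh_distinguished i
  have hg0 : (HomotopyCategory.quotient _ _).map g ≫
      (CochainComplex.mappingCone.triangleh i).mor₂ = 0 := h0 _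
  obtain ⟨φ, hφ⟩ := Triangle.coyoneda_exact₂ _ hT _ hg0
  obtain ⟨f, rfl⟩ := (HomotopyCategory.quotient _ _).map_surjective φ
  refine ⟨f, ?_⟩
  have h1 : (HomotopyCategory.quotient _ _).map g = (HomotopyCategory.quotient _ _).map (f ≫ i) := by
    rw [Functor.map_comp]
    exact hφ
  have h2 : Q.map g = Q.map (f ≫ i) := by
    have := congrArg Qh.map h1
    have e1 := quotientCompQhIso_hom_naturality g
    have e2 := quotientCompQhIso_hom_naturality (f ≫ i)
    rw [this] at e1
    rw [← cancel_epi ((quotientCompQhIso C).hom.app M), ← e1, e2]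
  rw [hg, Functor.map_comp] at h2
  exact ((cancel_mono (Q.map i)).1 h2).symm

/-- a chain map `M ⟶ K` which vanishes in the derived category is null-homotopic -/
theorem nonempty_homotopy_zero_of_Q_map_eq_zero (f : M ⟶ K) (hf : Q.map f = 0) :
    Nonempty (Homotopy f 0) := by
  obtain ⟨J, i, hi, hJ, -, h1⟩ := exists_replacement M K hM hK
  have h2 : Q.map (f ≫ i) = Q.map 0 := by
    rw [Functor.map_comp, hf, zero_comp, Functor.map_zero]
  obtain ⟨h⟩ := KInj.nonempty_homotopy_of_Q_map_eq M J (f ≫ i) 0 h2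
  have h3 : (HomotopyCategory.quotient _ _).map f ≫
      (CochainComplex.mappingCone.triangleh i).mor₁ = 0 := by
    change (HomotopyCategory.quotient _ _).map f ≫ (HomotopyCategory.quotient _ _).map i = 0
    rw [← Functor.map_comp, HomotopyCategory.eq_of_homotopy _ _ h, Functor.map_zero]
  have hT := HomotopyCategory.mappingCone_triangleh_distinguished i
  have hT' := inv_rot_of_distTriang _ hT
  obtain ⟨ψ, hψ⟩ := Triangle.coyoneda_exact₂ _ hT' ((HomotopyCategory.quotient _ _).map f) h3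
  have hψ0 : ψ = 0 := h1 ψ
  rw [hψ0, zero_comp] at hψ
  have : (HomotopyCategory.quotient _ _).map f = (HomotopyCategory.quotient _ _).map 0 :=
    hψ.trans (Functor.map_zero _ _ _).symm
  exact ⟨HomotopyCategory.homotopyOfEq _ _ this⟩

end

end Groth.Agent.Lib.Helper84.ProjTopHom

namespace Groth.Agent.Lib.Helper84.ProjTopHom

variable {C : Type u} [Category.{v} C] [Abelian C]

lemma nonempty_homotopy_zero_iff_mem_coboundaries {F G : CochainComplex C ℤ} (φ : F ⟶ G) :
    Nonempty (Homotopy φ 0) ↔ Cocycle.ofHom φ ∈ coboundaries F G 0 := by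
  rw [mem_coboundaries_iff _ (-1) (by lia)]
  constructor
  · rintro ⟨h⟩
    obtain ⟨z, hz⟩ := Cochain.equivHomotopy φ 0 h
    refine ⟨z, ?_⟩
    rw [Cochain.ofHom_zero, add_zero] at hz
    rw [← hz]
    rfl
  · rintro ⟨β, hβ⟩
    refine ⟨(Cochain.equivHomotopy φ 0).symm ⟨β, ?_⟩⟩
    rw [Cochain.ofHom_zero, add_zero, hβ]
    rfl

lemma Q_map_eq_zero_of_homotopy [HasDerivedCategory.{w} C] {F G : CochainComplex C ℤ}
    (φ : F ⟶ G) (h : Homotopy φ 0) : Q.map φ = 0 := by
  have e1 := quotientCompQhIso_hom_naturality φ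
  rw [HomotopyCategory.eq_of_homotopy _ _ h, Functor.map_zero, Functor.map_zero, zero_comp] at e1
  exact ((cancel_epi _).1 (e1.symm.trans comp_zero.symm))

/-- a chain map `M ⟶ N[1]` (`N` placed in degree `-1`) given by `g : M⁻¹ ⟶ N` is null-homotopic
iff `g` factors through `d : M⁻¹ ⟶ M⁰` -/
lemma toSingle_homotopy_zero_iff (M : CochainComplex C ℤ) (N : C) (g : M.X (-1) ⟶ N)
    (hg : M.d (-2) (-1) ≫ g = 0) :
    Nonempty (Homotopy (Cocycle.homOf
      (Cocycle.toSingleMk g (by lia : (-1 : ℤ) + 0 = -1) (-2) (by lia) hg)) 0) ↔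
      ∃ g' : M.X 0 ⟶ N, M.d (-1) 0 ≫ g' = g := by
  rw [nonempty_homotopy_zero_iff_mem_coboundaries, Cocycle.ofHom_homOf_eq_self]
  exact Cocycle.toSingleMk_mem_coboundaries_iff g _ (-2) _ hg 0 (by lia)

/-- every chain map `M ⟶ N[1]` is of the form `toSingleMk g` -/
lemma exists_toSingleMk_eq (M : CochainComplex C ℤ) (N : C)
    (f : M ⟶ (CochainComplex.singleFunctor C (-1)).obj N) :
    ∃ (g : M.X (-1) ⟶ N) (hg : M.d (-2) (-1) ≫ g = 0),
      f = Cocycle.homOf (Cocycle.toSingleMk g (by lia : (-1 : ℤ) + 0 = -1) (-2) (by lia) hg) := by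
  obtain ⟨g, hg, h⟩ := Cocycle.toSingleMk_surjective (Cocycle.ofHom f) (-1)
    (by lia : (-1 : ℤ) + 0 = -1) (-2) (by lia)
  exact ⟨g, hg, by rw [h, Cocycle.homOf_ofHom_eq_self]⟩

lemma comp_toSingleMk {M K : CochainComplex C ℤ} (N : C) (a : M ⟶ K) (g : K.X (-1) ⟶ N)
    (hg : K.d (-2) (-1) ≫ g = 0) :
    a ≫ Cocycle.homOf (Cocycle.toSingleMk g (by lia : (-1 : ℤ) + 0 = -1) (-2) (by lia) hg) =
      Cocycle.homOf (Cocycle.toSingleMk (a.f (-1) ≫ g) (by lia : (-1 : ℤ) + 0 = -1) (-2) (by lia)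
        (by rw [← a.comm_assoc, hg, comp_zero])) := by
  rw [Cocycle.toSingleMk_precomp g _ (-2) _ hg a]
  apply Cocycle.equivHom _ _ |>.injective
  ext : 1
  simp [Cochain.ofHom_comp]

end Groth.Agent.Lib.Helper84.ProjTopHom
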