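import Groth.Agent.Lib.Helper84.KProj
import Groth.Agent.Lib.Helper84.ProjTopHom
import Mathlib

/-!
# Maps from a (K-projective) complex to a single object, in any degree (helper84)

`Hom_{D}(Q E, N[-p])` for K-projective `E` is `{z : Eᵖ ⟶ N | z ∘ d = 0}` modulo
`{g ∘ d | g : Eᵖ⁺¹ ⟶ N}`.
-/

set_option autoImplicit false
universe w v u

open CategoryTheory CategoryTheory.Limits CochainComplex.HomComplex DerivedCategory

namespace Groth.Agent.Lib.Helper84.ToSingle

variable {C : Type u} [Category.{v} C] [Abelian C]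

section

variable (E : CochainComplex C ℤ) {N N' : C} {p p' p'' : ℤ} (hp' : p' + 1 = p) (hp'' : p + 1 = p'')

/-- the chain map `E ⟶ N[-p]` given by `z : Eᵖ ⟶ N` with `z ∘ d = 0` -/
noncomputable def toSingleHom (z : E.X p ⟶ N) (hz : E.d p' p ≫ z = 0) :
    E ⟶ (CochainComplex.singleFunctor C p).obj N :=
  Cocycle.homOf (Cocycle.toSingleMk z (by lia : p + 0 = p) p' hp' hz)

lemma exists_toSingleHom_eq (f : E ⟶ (CochainComplex.singleFunctor C p).obj N) :
    ∃ (z : E.X p ⟶ N) (hz : E.d p' p ≫ z = 0), f = toSingleHom E hp' z hz := by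
  obtain ⟨g, hg, h⟩ := Cocycle.toSingleMk_surjective (Cocycle.ofHom f) p
    (by lia : p + 0 = p) p' hp'
  exact ⟨g, hg, by rw [toSingleHom, h, Cocycle.homOf_ofHom_eq_self]⟩

lemma toSingleHom_comp_map (z : E.X p ⟶ N) (hz : E.d p' p ≫ z = 0) (g : N ⟶ N') :
    toSingleHom E hp' z hz ≫ (CochainComplex.singleFunctor C p).map g =
      toSingleHom E hp' (z ≫ g) (by rw [reassoc_of% hz, zero_comp]) := by
  unfold toSingleHom
  rw [Cocycle.toSingleMk_postcomp z _ p' hp' hz g]
  apply Cocycle.equivHom _ _ |>.injective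
  ext : 1
  simp [Cochain.ofHom_comp]

lemma toSingleHom_congr {z z' : E.X p ⟶ N} (h : z = z') (hz : E.d p' p ≫ z = 0) :
    toSingleHom E hp' z hz = toSingleHom E hp' z' (by rw [← h]; exact hz) := by
  subst h
  rfl

include hp'' in
lemma toSingleHom_homotopy_zero_iff (z : E.X p ⟶ N) (hz : E.d p' p ≫ z = 0) :
    Nonempty (Homotopy (toSingleHom E hp' z hz) 0) ↔ ∃ g : E.X p'' ⟶ N, E.d p p'' ≫ g = z := by
  rw [ProjTopHom.nonempty_homotopy_zero_iff_mem_coboundaries, toSingleHom,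
    Cocycle.ofHom_homOf_eq_self]
  exact Cocycle.toSingleMk_mem_coboundaries_iff z _ p' hp' hz p'' hp''

end

section Derived

variable [HasDerivedCategory.{w} C] (E : CochainComplex C ℤ) [E.IsKProjective]
  {N : C} {p p' p'' : ℤ} (hp' : p' + 1 = p) (hp'' : p + 1 = p'')

include hp'' in
lemma Q_map_toSingleHom_eq_zero_iff (z : E.X p ⟶ N) (hz : E.d p' p ≫ z = 0) :
    Q.map (toSingleHom E hp' z hz) = 0 ↔ ∃ g : E.X p'' ⟶ N, E.d p p'' ≫ g = z := by
  rw [← toSingleHom_homotopy_zero_iff E hp' hp'' z hz]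
  constructor
  · intro h
    exact KProj.nonempty_homotopy_of_Q_map_eq E _ _ 0 (h.trans (Functor.map_zero _ _ _).symm)
  · rintro ⟨h⟩
    exact ProjTopHom.Q_map_eq_zero_of_homotopy _ h

lemma exists_Q_map_toSingleHom_eq (φ : Q.obj E ⟶ (DerivedCategory.singleFunctor C p).obj N) :
    ∃ (z : E.X p ⟶ N) (hz : E.d p' p ≫ z = 0), φ = Q.map (toSingleHom E hp' z hz) := by
  obtain ⟨f, rfl⟩ := KProj.exists_Q_map_eq E ((CochainComplex.singleFunctor C p).obj N) φ
  obtain ⟨z, hz, rfl⟩ := exists_toSingleHom_eq E hp' f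
  exact ⟨z, hz, rfl⟩

lemma Q_toSingleHom_comp_single_map {N' : C} (z : E.X p ⟶ N) (hz : E.d p' p ≫ z = 0)
    (g : N ⟶ N') :
    Q.map (toSingleHom E hp' z hz) ≫ (DerivedCategory.singleFunctor C p).map g =
      Q.map (toSingleHom E hp' (z ≫ g) (by rw [reassoc_of% hz, zero_comp])) := by
  have := congrArg Q.map (toSingleHom_comp_map E hp' z hz g)
  rw [Functor.map_comp] at this
  exact this

end Derived

end Groth.Agent.Lib.Helper84.ToSingle
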