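import Groth.Prelude.Def_DRing2
import Groth.Agent.Lib.Helper84.ToSingle
import Groth.Agent.Lib.Helper84.DRingPerf
import Groth.Agent.Lib.Helper15.PseudoCoh

/-!
# Perfectness from pseudo-coherence and a projective-amplitude bound; summands of perfect objects
(helper84)
-/

set_option autoImplicit false
universe u

open CategoryTheory CategoryTheory.Limits CategoryTheory.Pretriangulated DerivedCategory
open CategoryTheory.Triangulated

attribute [local instance] HasDerivedCategory.standard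

namespace Groth.Agent.Lib.Helper84.PerfSummand

open DRing Groth.Agent.Lib.Helper84 Groth.Agent.Lib.Helper15.MQI Groth.Agent.Lib.Helper15

variable {R : Type u} [CommRing R]

/-- if `Z[-k]` is a retract in `D(R)` of a K-projective complex `G` vanishing below degree `k`, then
`Z` is a retract of `Gᵏ`. -/
lemma exists_retract (G : Cx R) [G.IsKProjective] (k : ℤ) (hG : ∀ i : ℤ, i < k → IsZero (G.X i))
    (Z : ModuleCat.{u} R)
    (u : (DerivedCategory.singleFunctor (ModuleCat.{u} R) k).obj Z ⟶ Q.obj G)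
    (r : Q.obj G ⟶ (DerivedCategory.singleFunctor (ModuleCat.{u} R) k).obj Z)
    (hur : u ≫ r = 𝟙 _) : ∃ (ι : Z ⟶ G.X k) (ρ : G.X k ⟶ Z), ι ≫ ρ = 𝟙 Z := by
  have hk : (k - 1) + 1 = k := by lia
  obtain ⟨z, hz, rfl⟩ := ToSingle.exists_Q_map_toSingleHom_eq G hk r
  have h1 : G.d (k - 1) k ≫ 𝟙 (G.X k) = 0 := (hG (k - 1) (by lia)).eq_of_src _ _
  let π : G ⟶ (CochainComplex.singleFunctor (ModuleCat.{u} R) k).obj (G.X k) :=
    ToSingle.toSingleHom G hk (𝟙 (G.X k)) h1
  obtain ⟨ι, hι⟩ := (DerivedCategory.singleFunctor (ModuleCat.{u} R) k).map_surjective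
    (u ≫ Q.map π)
  refine ⟨ι, z, ?_⟩
  apply (DerivedCategory.singleFunctor (ModuleCat.{u} R) k).map_injective
  have h2 := ToSingle.Q_toSingleHom_comp_single_map G hk (𝟙 (G.X k)) h1 z
  rw [ToSingle.toSingleHom_congr G hk (Category.id_comp z)] at h2
  have e1 : (DerivedCategory.singleFunctor (ModuleCat.{u} R) k).map (ι ≫ z) =
      (u ≫ Q.map π) ≫ (DerivedCategory.singleFunctor (ModuleCat.{u} R) k).map z := by
    exact (CategoryTheory.Functor.map_comp _ _ _).trans
      (congrArg (fun t => t ≫ (DerivedCategory.singleFunctor (ModuleCat.{u} R) k).map z) hι)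
  have e2 : (u ≫ Q.map π) ≫ (DerivedCategory.singleFunctor (ModuleCat.{u} R) k).map z =
      u ≫ (Q.map π ≫ (DerivedCategory.singleFunctor (ModuleCat.{u} R) k).map z) :=
    Category.assoc _ _ _
  have e3 : u ≫ (Q.map π ≫ (DerivedCategory.singleFunctor (ModuleCat.{u} R) k).map z) = 𝟙 _ :=
    (congrArg (fun t => u ≫ t) h2).trans hur
  exact (e1.trans (e2.trans e3)).trans (CategoryTheory.Functor.map_id _ _).symm

lemma finiteProjective_of_retract {Z P : ModuleCat.{u} R} (ι : Z ⟶ P) (ρ : P ⟶ Z)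
    (h : ι ≫ ρ = 𝟙 Z) (hP : Module.Finite R P ∧ Module.Projective R P) :
    Module.Finite R Z ∧ Module.Projective R Z := by
  obtain ⟨hP1, hP2⟩ := hP
  have h' : ∀ x : Z, ρ (ι x) = x := by
    intro x
    have := congrArg (fun φ => (φ.hom : Z → Z) x) h
    exact this
  constructor
  · exact Module.Finite.of_surjective ρ.hom (fun x => ⟨ι x, h' x⟩)
  · exact Module.Projective.of_split ι.hom ρ.hom (LinearMap.ext h')

/-- a finite projective module placed in any degree is perfect -/
lemma isPerfect_single (Z : ModuleCat.{u} R) (hZ : Module.Finite R Z ∧ Module.Projective R Z)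
    (k : ℤ) : IsPerfect R ((DerivedCategory.singleFunctor (ModuleCat.{u} R) k).obj Z) := by
  refine ⟨(CochainComplex.singleFunctor (ModuleCat.{u} R) k).obj Z, k, k, ?_, ?_, ⟨Iso.refl _⟩⟩
  · intro i hi
    exact HomologicalComplex.isZero_single_obj_X (ComplexShape.up ℤ) k Z i (by lia)
  · intro i
    by_cases hi : i = k
    · subst hi
      exact DRingPerf.finiteProjective_of_iso
        (HomologicalComplex.singleObjXSelf (ComplexShape.up ℤ) i Z).symm hZ
    · have hz : IsZero (((CochainComplex.singleFunctor (ModuleCat.{u} R) k).obj Z).X i) :=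
        HomologicalComplex.isZero_single_obj_X (ComplexShape.up ℤ) k Z i hi
      haveI := ModuleCat.subsingleton_of_isZero hz
      exact ⟨inferInstance, inferInstance⟩

lemma isGE_toD (F : Cx R) (m : ℤ) (h : ∀ i : ℤ, i < m → IsZero (F.X i)) : (toD F).IsGE m := by
  haveI : F.IsStrictlyGE m := by
    rw [CochainComplex.isStrictlyGE_iff]
    exact h
  change (Q.obj F).IsGE m
  infer_instance

/-- `K` is perfect if it is `(c-1)`-pseudo-coherent, lies in `D^{≥ c}` and has no nonzero map to a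
module placed in degree `c - 2` (projective amplitude bound). -/
theorem isPerfect_of_isPseudoCoherent (K : Dual.D R) (c : ℤ)
    (hpc : IsPseudoCoherent R (c - 1) K) [K.IsGE c]
    (hK : ∀ (N : ModuleCat.{u} R)
      (φ : K ⟶ (DerivedCategory.singleFunctor (ModuleCat.{u} R) (c - 1 - 1)).obj N), φ = 0) :
    IsPerfect R K := by
  let t : TStructure (DerivedCategory (ModuleCat.{u} R)) := TStructure.t
  obtain ⟨F, b, α, hF1, hF2, hα⟩ := PseudoCoh.exists_normalized hpc
  obtain ⟨C, β, γ, hT⟩ := distinguished_cocone_triangle α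
  have hC : C.IsLE (c - 1 - 1) := (isMQI_iff_of_distTriang (c - 1) _ hT).1 hα
  have hQF : (toD F).IsGE (c - 1) := isGE_toD F (c - 1) (fun i hi => hF1 i (Or.inl hi))
  have hC' : C.IsGE (c - 1 - 1) := by
    have hT' := rot_of_distTriang _ hT
    refine t.isGE₂ _ hT' (c - 1 - 1) ?_ ?_
    · exact t.isGE_of_ge K (c - 1 - 1) c (by lia)
    · exact t.isGE_shift (toD F) (c - 1) 1 (c - 1 - 1)
  obtain ⟨Z, ⟨e⟩⟩ := DerivedCategory.exists_iso_singleFunctor_obj_of_isGE_of_isLE C (c - 1 - 1)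
  have hβ : β = 0 := by
    have := hK Z (β ≫ e.hom)
    exact (cancel_mono e.hom).1 (this.trans zero_comp.symm)
  obtain ⟨r, hr⟩ := Triangle.yoneda_exact₃ _ hT (𝟙 C) (by
    change β ≫ 𝟙 C = 0
    rw [hβ, zero_comp])
  have hr' : γ ≫ r = 𝟙 C := hr.symm
  -- the shifted complex
  have hG1 : VanishesOutside (F⟦(1 : ℤ)⟧) (c - 1 - 1) (b - 1) := by
    intro i hi
    exact hF1 (i + 1) (by lia)
  have hG2 : TermwiseFiniteFree (F⟦(1 : ℤ)⟧) := fun i => hF2 (i + 1)
  haveI : (F⟦(1 : ℤ)⟧).IsKProjective :=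
    DRingPC.isKProjective_of_finiteFree _ (b - 1) (fun i hi => hG1 i (Or.inr hi)) hG2
  let sh := ConeRep.shiftIso F 1
  obtain ⟨ι, ρ, hιρ⟩ := exists_retract (F⟦(1 : ℤ)⟧) (c - 1 - 1) (fun i hi => hG1 i (Or.inl hi)) Z
    (e.inv ≫ γ ≫ sh.inv) (sh.hom ≫ r ≫ e.hom) (by
      simp only [Category.assoc, Iso.inv_hom_id_assoc]
      rw [reassoc_of% hr', Iso.inv_hom_id])
  have hZ : Module.Finite R Z ∧ Module.Projective R Z :=
    finiteProjective_of_retract ι ρ hιρ
      ⟨(hG2 (c - 1 - 1)).1, haveI := (hG2 (c - 1 - 1)).2; inferInstance⟩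
  have hCperf : IsPerfect R C := DRingPerf.isPerfect_of_iso e.symm (isPerfect_single Z hZ _)
  have hFperf : IsPerfect R (toD F) :=
    ⟨F, c - 1, b, hF1, fun i => ⟨(hF2 i).1, haveI := (hF2 i).2; inferInstance⟩, ⟨Iso.refl _⟩⟩
  exact DRingPerf.isPerfect_obj₂ _ hT hFperf hCperf

/-- a retract of a perfect object which is `m`-pseudo-coherent for all `m` is perfect -/
theorem isPerfect_of_retract (K X : Dual.D R) (i : K ⟶ X) (p : X ⟶ K) (hip : i ≫ p = 𝟙 K)
    (hX : IsPerfect R X) (hpc : ∀ m : ℤ, IsPseudoCoherent R m K) : IsPerfect R K := by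
  obtain ⟨E, a, b, h1, h2, ⟨e⟩⟩ := hX
  haveI : X.IsGE a := by
    haveI := isGE_toD E a (fun i hi => h1 i (Or.inl hi))
    exact TStructure.t.isGE_of_iso e a
  haveI : K.IsGE a := by
    rw [isGE_iff]
    intro j hj
    have hz := isZero_of_isGE X a j hj
    rw [IsZero.iff_id_eq_zero]
    have : 𝟙 ((homologyFunctor (ModuleCat.{u} R) j).obj K) =
        (homologyFunctor (ModuleCat.{u} R) j).map i ≫
          (homologyFunctor (ModuleCat.{u} R) j).map p := by
      rw [← Functor.map_comp, hip, CategoryTheory.Functor.map_id]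
    rw [this, hz.eq_of_tgt ((homologyFunctor (ModuleCat.{u} R) j).map i) 0, zero_comp]
  refine isPerfect_of_isPseudoCoherent K a (hpc (a - 1)) ?_
  intro N φ
  have h0 : e.hom ≫ p ≫ φ = 0 :=
    KProj.from_projective_eq_zero E a b (a - 1 - 1) (by lia) (fun i hi => h1 i (Or.inl hi))
      (fun i hi => h1 i (Or.inr hi)) (fun i => DRingPerf.projective_of_finiteProjective (h2 i)) _ _
  have h3 : p ≫ φ = 0 := (cancel_epi e.hom).1 (h0.trans comp_zero.symm)
  calc φ = (i ≫ p) ≫ φ := by rw [hip, Category.id_comp]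
    _ = i ≫ (p ≫ φ) := Category.assoc _ _ _
    _ = 0 := by rw [h3, comp_zero]

end Groth.Agent.Lib.Helper84.PerfSummand
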