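import Groth.Agent.Lib.Helper84.FlatAmp

/-!
# Tor amplitude (flat-representative form): shifts, triangles, summands (helper84)
-/

set_option autoImplicit false
universe u

open CategoryTheory CategoryTheory.Limits CategoryTheory.Pretriangulated DerivedCategory
open DRing MonoidalCategory

attribute [local instance] HasDerivedCategory.standard

namespace Groth.Agent.Lib.Helper84.FlatAmp

open TensCx

variable {R : Type u} [CommRing R]

lemma torAmp_shift {a b : ℤ} {X : Dual.D R} (h : HasTorAmplitudeIn R a b X) (n : ℤ) :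
    HasTorAmplitudeIn R (a - n) (b - n) (X⟦n⟧) := by
  obtain ⟨E, hE, hF, ⟨e⟩⟩ := h
  refine ⟨E⟦n⟧, ?_, ?_, ⟨ConeRep.shiftIso E n ≪≫ (shiftFunctor (Dual.D R) n).mapIso e⟩⟩
  · intro i hi
    change IsZero (E.X (i + n))
    apply hE
    rcases hi with hi | hi
    · exact Or.inl (by lia)
    · exact Or.inr (by lia)
  · intro i
    exact hF (i + n)

lemma torAmp_shift' {a b a' b' : ℤ} {X : Dual.D R} (h : HasTorAmplitudeIn R a b X) (n : ℤ)
    (ha : a' = a - n) (hb : b' = b - n) : HasTorAmplitudeIn R a' b' (X⟦n⟧) := by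
  subst ha hb
  exact torAmp_shift h n

lemma vanishesAbove_mappingCone' {F F' : Cx R} (f : F ⟶ F') (b : ℤ)
    (hF : VanishesAbove F (b + 1)) (hF' : VanishesAbove F' b) :
    VanishesAbove (CochainComplex.mappingCone f) b := by
  intro i hi
  exact ConeRep.isZero_mappingCone_X f i (hF (i + 1) (by lia)) (hF' i hi)

/-- the basic triangle lemma -/
theorem torAmp_obj₃ (T : Triangle (Dual.D R)) (hT : T ∈ distTriang _) (a b : ℤ)
    (h₁ : HasTorAmplitudeIn R (a + 1) (b + 1) T.obj₁) (h₂ : HasTorAmplitudeIn R a b T.obj₂) :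
    HasTorAmplitudeIn R a b T.obj₃ := by
  haveI := torAmp_isLE h₁
  haveI := torAmp_isLE h₂
  obtain ⟨P₁, hP₁, hproj₁, ⟨e₁⟩⟩ := (torAmp_bProj h₁).exists_le (b + 1)
  obtain ⟨P₂, hP₂, hproj₂, ⟨e₂⟩⟩ := (torAmp_bProj h₂).exists_le b
  haveI : P₁.IsKProjective := BProj.isKProjective hP₁ hproj₁
  obtain ⟨f, ⟨e₃⟩⟩ := ConeRep.exists_cone_iso P₁ P₂ T hT e₁ e₂
  have hF₁ := termwiseFlat_of_projective hproj₁
  have hF₂ := termwiseFlat_of_projective hproj₂
  refine torAmp_of_iso (hasTorAmplitudeIn_of_exactAt (CochainComplex.mappingCone f) a b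
    (vanishesAbove_mappingCone' f b hP₁ hP₂) (termwiseFlat_mappingCone f hF₁ hF₂) ?_) e₃
  intro N i hi
  apply exactAt_tens_mappingCone
  · exact exactAt_tens_of_hasTorAmplitudeIn P₁ (b + 1) hP₁ hF₁ (a + 1) (b + 1)
      (torAmp_of_iso h₁ e₁.symm) N (i + 1) (by lia)
  · exact exactAt_tens_of_hasTorAmplitudeIn P₂ b hP₂ hF₂ a b (torAmp_of_iso h₂ e₂.symm) N i hi

theorem torAmp_obj₂ (T : Triangle (Dual.D R)) (hT : T ∈ distTriang _) (a b : ℤ)
    (h₁ : HasTorAmplitudeIn R a b T.obj₁) (h₃ : HasTorAmplitudeIn R a b T.obj₃) :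
    HasTorAmplitudeIn R a b T.obj₂ :=
  torAmp_obj₃ T.invRotate (inv_rot_of_distTriang T hT) a b
    (torAmp_shift' h₃ (-1) (by ring) (by ring)) h₁

theorem torAmp_obj₁ (T : Triangle (Dual.D R)) (hT : T ∈ distTriang _) (a b : ℤ)
    (h₂ : HasTorAmplitudeIn R (a + 1) (b + 1) T.obj₂) (h₃ : HasTorAmplitudeIn R a b T.obj₃) :
    HasTorAmplitudeIn R (a + 1) (b + 1) T.obj₁ :=
  torAmp_obj₃ T.invRotate.invRotate
    (inv_rot_of_distTriang _ (inv_rot_of_distTriang T hT)) (a + 1) (b + 1)
    (torAmp_shift' h₂ (-1) (by ring) (by ring)) (torAmp_shift' h₃ (-1) (by ring) (by ring))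

end Groth.Agent.Lib.Helper84.FlatAmp

namespace Groth.Agent.Lib.Helper84.FlatAmp

open TensCx

variable {R : Type u} [CommRing R]

open ZeroObject in
lemma torAmp_of_isZero {X : Dual.D R} (h : IsZero X) (a b : ℤ) : HasTorAmplitudeIn R a b X := by
  refine ⟨(0 : CochainComplex (ModuleCat.{u} R) ℤ), fun i _ => ?_, fun i => ?_,
    ⟨(Functor.map_isZero Q (isZero_zero _)).iso h⟩⟩
  · exact Functor.map_isZero (HomologicalComplex.eval _ _ i) (isZero_zero _)
  · exact flat_of_isZero (Functor.map_isZero (HomologicalComplex.eval _ _ i) (isZero_zero _))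

/-- the object property -/
def torAmpProp (R : Type u) [CommRing R] (a b : ℤ) : ObjectProperty (Dual.D R) :=
  fun X => HasTorAmplitudeIn R a b X

instance (a b : ℤ) : (torAmpProp R a b).IsClosedUnderIsomorphisms where
  of_iso e h := torAmp_of_iso h e

/-- a module placed in degree `i` -/
lemma torAmp_single {a b : ℤ} (M : ModuleCat.{u} R) (i : ℤ)
    (h : HasTorAmplitudeIn R (a - i) (b - i)
      ((DerivedCategory.singleFunctor (ModuleCat.{u} R) 0).obj M)) :
    HasTorAmplitudeIn R a b ((DerivedCategory.singleFunctor (ModuleCat.{u} R) i).obj M) :=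
  torAmp_of_iso (torAmp_shift' h (-i) (by ring) (by ring))
    (((DerivedCategory.singleFunctors (ModuleCat.{u} R)).shiftIso (-i) i 0 (by lia)).app M)

/-- dévissage over the terms of a bounded complex -/
theorem torAmp_of_bounded_complex (a b : ℤ) (K : Cx R) (c d : ℤ) (hcd : VanishesOutside K c d)
    (hK : ∀ i : ℤ, HasTorAmplitudeIn R (a - i) (b - i)
      ((DerivedCategory.singleFunctor (ModuleCat.{u} R) 0).obj (K.X i))) :
    HasTorAmplitudeIn R a b (toD K) :=
  Devissage.prop_of_bounded_complex (torAmpProp R a b) (fun X hX => torAmp_of_isZero hX a b)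
    (fun T hT h₁ h₃ => torAmp_obj₂ T hT a b h₁ h₃) K c d hcd (fun i => torAmp_single _ i (hK i))

/-- dévissage over the cohomology modules of a bounded object -/
theorem torAmp_of_bounded_homology (a b : ℤ) (K : Dual.D R) (c d : ℤ)
    (hcd : ∀ i : ℤ, i < c ∨ d < i →
      IsZero ((DerivedCategory.homologyFunctor (ModuleCat.{u} R) i).obj K))
    (hK : ∀ i : ℤ, HasTorAmplitudeIn R (a - i) (b - i)
      ((DerivedCategory.singleFunctor (ModuleCat.{u} R) 0).obj
        ((DerivedCategory.homologyFunctor (ModuleCat.{u} R) i).obj K))) :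
    HasTorAmplitudeIn R a b K :=
  Devissage.prop_of_bounded_homology (torAmpProp R a b) (fun X hX => torAmp_of_isZero hX a b)
    (fun T hT h₁ h₃ => torAmp_obj₂ T hT a b h₁ h₃) K c d hcd (fun i => torAmp_single _ i (hK i))

end Groth.Agent.Lib.Helper84.FlatAmp

namespace Groth.Agent.Lib.Helper84.FlatAmp

open TensCx

variable {R : Type u} [CommRing R]

/-- retracts and boundedness -/
lemma isGE_of_retract {X Y : Dual.D R} (i : X ⟶ Y) (p : Y ⟶ X) (hip : i ≫ p = 𝟙 X) (a : ℤ)
    [Y.IsGE a] : X.IsGE a := by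
  rw [isGE_iff]
  intro j hj
  have hz := isZero_of_isGE Y a j hj
  rw [IsZero.iff_id_eq_zero]
  have : 𝟙 ((homologyFunctor (ModuleCat.{u} R) j).obj X) =
      (homologyFunctor (ModuleCat.{u} R) j).map i ≫
        (homologyFunctor (ModuleCat.{u} R) j).map p := by
    rw [← Functor.map_comp, hip, CategoryTheory.Functor.map_id]
  rw [this, hz.eq_of_tgt ((homologyFunctor (ModuleCat.{u} R) j).map i) 0, zero_comp]

lemma isLE_of_retract {X Y : Dual.D R} (i : X ⟶ Y) (p : Y ⟶ X) (hip : i ≫ p = 𝟙 X) (b : ℤ)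
    [Y.IsLE b] : X.IsLE b := by
  rw [isLE_iff]
  intro j hj
  have hz := isZero_of_isLE Y b j hj
  rw [IsZero.iff_id_eq_zero]
  have : 𝟙 ((homologyFunctor (ModuleCat.{u} R) j).obj X) =
      (homologyFunctor (ModuleCat.{u} R) j).map i ≫
        (homologyFunctor (ModuleCat.{u} R) j).map p := by
    rw [← Functor.map_comp, hip, CategoryTheory.Functor.map_id]
  rw [this, hz.eq_of_tgt ((homologyFunctor (ModuleCat.{u} R) j).map i) 0, zero_comp]

/-- exactness of `tens N` passes to homotopy retracts -/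
lemma exactAt_tens_of_retract {P P' : Cx R} [P.IsKProjective] (i : P ⟶ P') (p : P' ⟶ P)
    (h : Q.map i ≫ Q.map p = 𝟙 (Q.obj P)) (N : ModuleCat.{u} R) (j : ℤ)
    (hex : ((tens N).obj P').ExactAt j) : ((tens N).obj P).ExactAt j := by
  obtain ⟨H⟩ := KProj.nonempty_homotopy_of_Q_map_eq P P (i ≫ p) (𝟙 P) (by
    rw [Functor.map_comp, h, CategoryTheory.Functor.map_id])
  have H' := (tensorLeft N).mapHomotopy H
  have e := H'.homologyMap_eq j
  rw [HomologicalComplex.exactAt_iff_isZero_homology] at hex ⊢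
  rw [IsZero.iff_id_eq_zero]
  have e' : HomologicalComplex.homologyMap ((tens N).map i) j ≫
      HomologicalComplex.homologyMap ((tens N).map p) j = 𝟙 _ := by
    rw [← HomologicalComplex.homologyMap_comp, ← Functor.map_comp]
    refine e.trans ?_
    rw [CategoryTheory.Functor.map_id, HomologicalComplex.homologyMap_id]
  rw [← e', hex.eq_of_tgt (HomologicalComplex.homologyMap ((tens N).map i) j) 0, zero_comp]

/-- tor amplitude passes to retracts -/
theorem torAmp_of_retract {X Y : Dual.D R} (i : X ⟶ Y) (p : Y ⟶ X) (hip : i ≫ p = 𝟙 X)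
    (a b : ℤ) (h : HasTorAmplitudeIn R a b Y) : HasTorAmplitudeIn R a b X := by
  haveI := torAmp_isGE h
  haveI := torAmp_isLE h
  haveI := isGE_of_retract i p hip a
  haveI := isLE_of_retract i p hip b
  obtain ⟨P, hP, hproj, ⟨e⟩⟩ := (BProj.bProj_of_bounded X a b).exists_le b
  obtain ⟨P', hP', hproj', ⟨e'⟩⟩ := (torAmp_bProj h).exists_le b
  haveI : P.IsKProjective := BProj.isKProjective hP hproj
  haveI : P'.IsKProjective := BProj.isKProjective hP' hproj'
  obtain ⟨ι, hι⟩ := KProj.exists_Q_map_eq P P' (e.hom ≫ i ≫ e'.inv)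
  obtain ⟨π, hπ⟩ := KProj.exists_Q_map_eq P' P (e'.hom ≫ p ≫ e.inv)
  have hF := termwiseFlat_of_projective hproj
  have hF' := termwiseFlat_of_projective hproj'
  refine torAmp_of_iso (hasTorAmplitudeIn_of_exactAt P a b hP hF ?_) e
  intro N j hj
  refine exactAt_tens_of_retract ι π ?_ N j
    (exactAt_tens_of_hasTorAmplitudeIn P' b hP' hF' a b (torAmp_of_iso h e'.symm) N j hj)
  rw [hι, hπ]
  simp only [Category.assoc, Iso.inv_hom_id_assoc]
  rw [reassoc_of% hip, Iso.hom_inv_id]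

end Groth.Agent.Lib.Helper84.FlatAmp
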