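import Groth.Agent.Lib.Helper84.FlatAcyclic
import Groth.Agent.Lib.Helper84.ProjTopHom
import Groth.Agent.Lib.Helper84.ConeRep
import Groth.Agent.Lib.Helper84.DerivedT
import Groth.Prelude.Def_DRing2

/-!
# Tensoring complexes of modules with a module (helper84)

`tens N : Cx R ⥤ Cx R` is termwise `N ⊗ -`.  Main results:

* `exactAt_tens_of_acyclic`: an acyclic bounded above complex of flat modules stays acyclic after
  `tens N`;
* `quasiIso_tens_map`: a quasi-isomorphism between bounded above complexes of flat modules stays a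
  quasi-isomorphism after `tens N`;
* `exactAt_tens_mappingCone`: the long exact sequence of a mapping cone, in the form of a
  vanishing statement.
-/

set_option autoImplicit false
universe u

open CategoryTheory CategoryTheory.Limits CategoryTheory.Pretriangulated DerivedCategory
open DRing MonoidalCategory

attribute [local instance] HasDerivedCategory.standard

namespace Groth.Agent.Lib.Helper84.TensCx

variable {R : Type u} [CommRing R]

/-- termwise `N ⊗ -` on complexes -/
noncomputable abbrev tens (N : ModuleCat.{u} R) : Cx R ⥤ Cx R :=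
  (tensorLeft N).mapHomologicalComplex (ComplexShape.up ℤ)

lemma exactAt_iff_function_exact (C : Cx R) (i : ℤ) :
    C.ExactAt (i + 1) ↔ Function.Exact (C.d i (i + 1)).hom (C.d (i + 1) (i + 1 + 1)).hom := by
  rw [C.exactAt_iff' i (i + 1) (i + 1 + 1) (by simp) (by simp)]
  exact ShortComplex.ShortExact.moduleCat_exact_iff_function_exact _

/-- an acyclic bounded above complex of flat modules stays acyclic after tensoring -/
theorem exactAt_tens_of_acyclic (C : Cx R) (b : ℤ) (hb : VanishesAbove C b)
    (hflat : TermwiseFlat C) (hex : ∀ i, C.ExactAt i) (N : ModuleCat.{u} R) (i : ℤ) :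
    ((tens N).obj C).ExactAt i := by
  obtain ⟨j, rfl⟩ : ∃ j, i = j + 1 := ⟨i - 1, by ring⟩
  rw [exactAt_iff_function_exact]
  exact FlatAcyclic.exact_lTensor (fun i => C.X i) (fun i => (C.d i (i + 1)).hom)
    (fun i => (exactAt_iff_function_exact C i).1 (hex (i + 1))) b
    (fun i hi => ModuleCat.isZero_iff_subsingleton.1 (hb i hi)) hflat N j

/-- an acyclic complex is zero in the derived category -/
lemma isZero_Q_obj_of_acyclic (C : Cx R) (hex : ∀ i, C.ExactAt i) : IsZero (Q.obj C) := by
  haveI : C.IsLE 0 := by
    rw [CochainComplex.isLE_iff]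
    intro i _
    exact hex i
  haveI : C.IsGE 1 := by
    rw [CochainComplex.isGE_iff]
    intro i _
    exact hex i
  haveI : (Q.obj C).IsLE 0 := (DerivedCategory.isLE_Q_obj_iff C 0).2 inferInstance
  haveI : (Q.obj C).IsGE 1 := (DerivedCategory.isGE_Q_obj_iff C 1).2 inferInstance
  rw [IsZero.iff_id_eq_zero]
  exact TStructure.t.zero_of_isLE_of_isGE _ 0 1 (by lia) inferInstance inferInstance

/-- a morphism with acyclic cone is a quasi-isomorphism -/
lemma quasiIso_of_exactAt_mappingCone {K L : Cx R} (f : K ⟶ L)
    (hex : ∀ i, (CochainComplex.mappingCone f).ExactAt i) : QuasiIso f := by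
  have hT := mappingCone_triangle_distinguished f
  have hz : IsZero (Q.obj (CochainComplex.mappingCone f)) := isZero_Q_obj_of_acyclic _ hex
  have hiso : IsIso (Q.mapTriangle.obj (CochainComplex.mappingCone.triangle f)).mor₁ :=
    (Triangle.isZero₃_iff_isIso₁ _ hT).1 hz
  rw [← isIso_Q_map_iff_quasiIso]
  exact hiso

lemma flat_prod (M N : Type u) [AddCommGroup M] [AddCommGroup N] [Module R M] [Module R N]
    [Module.Flat R M] [Module.Flat R N] : Module.Flat R (M × N) := by
  rw [Module.Flat.iff_rTensor_preserves_injective_linearMap]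
  intro A B _ _ _ _ f hf
  have h1 := Module.Flat.rTensor_preserves_injective_linearMap (M := M) f hf
  have h2 := Module.Flat.rTensor_preserves_injective_linearMap (M := N) f hf
  have hcomm : (TensorProduct.prodRight R R B M N).toLinearMap ∘ₗ (f.rTensor (M × N)) =
      ((f.rTensor M).prodMap (f.rTensor N)) ∘ₗ
        (TensorProduct.prodRight R R A M N).toLinearMap := by
    apply TensorProduct.ext'
    intro a x
    simp
  have hinj : Function.Injective
      ((TensorProduct.prodRight R R B M N).toLinearMap ∘ₗ (f.rTensor (M × N))) := by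
    rw [hcomm]
    exact (Function.Injective.prodMap h1 h2).comp (TensorProduct.prodRight R R A M N).injective
  exact Function.Injective.of_comp hinj

lemma flat_of_iso {M N : ModuleCat.{u} R} (e : M ≅ N) [Module.Flat R M] : Module.Flat R N :=
  Module.Flat.of_linearEquiv e.symm.toLinearEquiv

lemma flat_biprod (M N : ModuleCat.{u} R) [Module.Flat R M] [Module.Flat R N] :
    Module.Flat R (M ⊞ N : ModuleCat.{u} R) := by
  haveI : Module.Flat R (ModuleCat.of R (M × N)) := flat_prod M N
  exact flat_of_iso (ModuleCat.biprodIsoProd M N).symm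

lemma termwiseFlat_mappingCone {F F' : Cx R} (f : F ⟶ F') (hF : TermwiseFlat F)
    (hF' : TermwiseFlat F') : TermwiseFlat (CochainComplex.mappingCone f) := by
  intro i
  haveI := hF (i + 1)
  haveI := hF' i
  haveI := flat_biprod (F.X (i + 1)) (F'.X i)
  exact flat_of_iso (ConeRep.mappingConeXIso f i).symm

lemma vanishesAbove_mappingCone {F F' : Cx R} (f : F ⟶ F') (b : ℤ) (hF : VanishesAbove F b)
    (hF' : VanishesAbove F' b) : VanishesAbove (CochainComplex.mappingCone f) b := by
  intro i hi
  exact ConeRep.isZero_mappingCone_X f i (hF (i + 1) (by lia)) (hF' i hi)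

/-- a quasi-isomorphism between bounded above complexes of flat modules stays a
quasi-isomorphism after tensoring with any module -/
theorem quasiIso_tens_map {F F' : Cx R} (f : F ⟶ F') [QuasiIso f] (b : ℤ)
    (hb : VanishesAbove F b) (hb' : VanishesAbove F' b) (hF : TermwiseFlat F)
    (hF' : TermwiseFlat F') (N : ModuleCat.{u} R) : QuasiIso ((tens N).map f) := by
  apply quasiIso_of_exactAt_mappingCone
  intro i
  have h := exactAt_tens_of_acyclic (CochainComplex.mappingCone f) b
    (vanishesAbove_mappingCone f b hb hb') (termwiseFlat_mappingCone f hF hF')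
    (ProjTopHom.exactAt_mappingCone_of_quasiIso f) N i
  exact (_root_.exactAt_iff_of_quasiIsoAt
    (CochainComplex.mappingCone.mapHomologicalComplexIso f (tensorLeft N)).hom i).1 h

/-- exactness of `tens N` transfers along quasi-isomorphisms of bounded above flat complexes -/
theorem exactAt_tens_iff {F F' : Cx R} (f : F ⟶ F') [QuasiIso f] (b : ℤ)
    (hb : VanishesAbove F b) (hb' : VanishesAbove F' b) (hF : TermwiseFlat F)
    (hF' : TermwiseFlat F') (N : ModuleCat.{u} R) (i : ℤ) :
    ((tens N).obj F).ExactAt i ↔ ((tens N).obj F').ExactAt i := by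
  have h := quasiIso_tens_map f b hb hb' hF hF' N
  haveI : QuasiIsoAt ((tens N).map f) i := h.quasiIsoAt i
  exact _root_.exactAt_iff_of_quasiIsoAt ((tens N).map f) i

/-- the long exact sequence of the cone, as a vanishing statement -/
theorem exactAt_tens_mappingCone {P E : Cx R} (φ : P ⟶ E) (N : ModuleCat.{u} R) (i : ℤ)
    (h₁ : ((tens N).obj P).ExactAt (i + 1)) (h₂ : ((tens N).obj E).ExactAt i) :
    ((tens N).obj (CochainComplex.mappingCone φ)).ExactAt i := by
  rw [_root_.exactAt_iff_of_quasiIsoAt
    (CochainComplex.mappingCone.mapHomologicalComplexIso φ (tensorLeft N)).hom i]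
  have hT := mappingCone_triangle_distinguished ((tens N).map φ)
  have e := fun (K : Cx R) (j : ℤ) => (homologyFunctorFactors (ModuleCat.{u} R) j).app K
  rw [HomologicalComplex.exactAt_iff_isZero_homology] at h₁ h₂ ⊢
  refine IsZero.of_iso (DerivedT.isZero_homology_obj₃_of_isZero _ hT i (i + 1) rfl ?_ ?_)
    (e _ i).symm
  · exact IsZero.of_iso h₂ (e _ i)
  · exact IsZero.of_iso h₁ (e _ (i + 1))

end Groth.Agent.Lib.Helper84.TensCx
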