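import Groth.Agent.Lib.Helper84.FlatAmpTri
import Groth.Agent.Lib.Helper84.DRingBasic
import Groth.Agent.Lib.Helper15.LTKFlat

/-!
# Tor amplitude (flat-representative form) through the derived tensor product (helper84)

`torAmp_iff_ltensor`: `K` has tor amplitude in `[a, b]` iff `H^i(K ⊗^L M) = 0` for all modules
`M` and all `i` outside `[a, b]`.  Uses helper15's computation of `DRing.LTensor` on K-projective /
bounded above flat complexes.
-/

set_option autoImplicit false
universe u

open CategoryTheory CategoryTheory.Limits CategoryTheory.Pretriangulated DerivedCategory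
open DRing MonoidalCategory

attribute [local instance] HasDerivedCategory.standard

namespace Groth.Agent.Lib.Helper84.FlatAmp

open TensCx Groth.Agent.Lib.Helper15

variable {R : Type u} [CommRing R]

/-- `F ⊗ N ≅ N ⊗ F` termwise -/
noncomputable def tensRightIso (N : ModuleCat.{u} R) (F : Cx R) :
    LDerived.tensorCx R N F ≅ (tens N).obj F :=
  HomologicalComplex.Hom.isoOfComponents (fun i => β_ (F.X i) N) (by
    intro i j _
    exact (BraidedCategory.braiding_naturality_left (F.d i j) N).symm)

/-- `F ⊗ R ≅ F` termwise -/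
noncomputable def tensRightUnitIso (F : Cx R) :
    LDerived.tensorCx R (𝟙_ (ModuleCat.{u} R)) F ≅ F :=
  HomologicalComplex.Hom.isoOfComponents (fun i => ρ_ (F.X i)) (by
    intro i j _
    exact (rightUnitor_naturality (F.d i j)).symm)

lemma exactAt_of_subsingleton_HD (F : Cx R) (i : ℤ) (h : Subsingleton (Dual.HD R (toD F) i)) :
    F.ExactAt i := by
  rw [HomologicalComplex.exactAt_iff_isZero_homology]
  have hz : IsZero ((homologyFunctor (ModuleCat.{u} R) i).obj (Q.obj F)) :=
    @ModuleCat.isZero_of_subsingleton _ _ _ h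
  exact IsZero.of_iso hz ((homologyFunctorFactors (ModuleCat.{u} R) i).app F).symm

lemma subsingleton_HD_of_exactAt (F : Cx R) (i : ℤ) (h : F.ExactAt i) :
    Subsingleton (Dual.HD R (toD F) i) := by
  rw [HomologicalComplex.exactAt_iff_isZero_homology] at h
  have hz : IsZero ((homologyFunctor (ModuleCat.{u} R) i).obj (Q.obj F)) :=
    IsZero.of_iso h ((homologyFunctorFactors (ModuleCat.{u} R) i).app F)
  exact ModuleCat.subsingleton_of_isZero hz

lemma subsingleton_HD_of_iso {K L : Dual.D R} (e : K ≅ L) (i : ℤ)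
    (h : Subsingleton (Dual.HD R K i)) : Subsingleton (Dual.HD R L i) :=
  ModuleCat.subsingleton_of_isZero (IsZero.of_iso
    (@ModuleCat.isZero_of_subsingleton _ _ ((homologyFunctor (ModuleCat.{u} R) i).obj K) h)
    ((homologyFunctor (ModuleCat.{u} R) i).mapIso e.symm))

theorem torAmp_iff_ltensor [∀ M : ModuleCat.{u} R, DRing.HasLTensor R M] (K : Dual.D R)
    (a b : ℤ) :
    HasTorAmplitudeIn R a b K ↔
      ∀ (M : ModuleCat.{u} R) (i : ℤ), (i < a ∨ b < i) →
        Subsingleton (Dual.HD R ((DRing.LTensor R M).obj K) i) := by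
  constructor
  · rintro ⟨E, hE, hF, ⟨e⟩⟩ M i hi
    have e1 : (DRing.LTensor R M).obj K ≅ toD (LDerived.tensorCx R M E) :=
      (DRing.LTensor R M).mapIso e.symm ≪≫
        LTKFlat.ltIsoOfFlat M E b (fun q hq => hE q (Or.inr hq)) hF
    refine subsingleton_HD_of_iso e1.symm i (subsingleton_HD_of_exactAt _ i ?_)
    exact ShortComplex.exact_of_isZero_X₂ _ (Functor.map_isZero (tensorRight M) (hE i hi))
  · intro H
    -- a K-projective representative
    obtain ⟨P, π, hP, hπ, hKF, -, -⟩ := KProjRes.exists_kprojective_resolution (Q.objPreimage K)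
    haveI : IsIso (Q.map π) := by
      rw [isIso_Q_map_iff_quasiIso]
      exact hπ
    have e1 : toD P ≅ K := asIso (Q.map π) ≪≫ Q.objObjPreimageIso K
    -- boundedness, from `M = R`
    have e2 : (DRing.LTensor R (𝟙_ (ModuleCat.{u} R))).obj K ≅ K :=
      (DRing.LTensor R _).mapIso e1.symm ≪≫ LTKFlat.ltIsoOfIsKFlat _ P hKF ≪≫
        Q.mapIso (tensRightUnitIso P) ≪≫ e1
    haveI : K.IsGE a := DRingBasic.isGE_of_subsingleton K a (fun i hi =>
      subsingleton_HD_of_iso e2 i (H _ i (Or.inl hi)))
    haveI : K.IsLE b := DRingBasic.isLE_of_subsingleton K b (fun i hi =>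
      subsingleton_HD_of_iso e2 i (H _ i (Or.inr hi)))
    obtain ⟨P', hP', hproj, ⟨e'⟩⟩ := (BProj.bProj_of_bounded K a b).exists_le b
    haveI : P'.IsKProjective := BProj.isKProjective hP' hproj
    refine torAmp_of_iso (hasTorAmplitudeIn_of_exactAt P' a b hP'
      (termwiseFlat_of_projective hproj) ?_) e'
    intro N i hi
    have e3 : (DRing.LTensor R N).obj K ≅ toD ((tens N).obj P') :=
      (DRing.LTensor R N).mapIso e'.symm ≪≫ LDerived.ltIso R N P' ≪≫
        Q.mapIso (tensRightIso N P')
    exact exactAt_of_subsingleton_HD _ i (subsingleton_HD_of_iso e3 i (H N i (Or.inl hi)))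

end Groth.Agent.Lib.Helper84.FlatAmp
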