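import Groth.Agent.Lib.Helper84.FlatAmpTri
import Mathlib.CategoryTheory.Abelian.Projective.Dimension
import Mathlib.Algebra.Homology.DerivedCategory.SingleTriangle

/-!
# Tor amplitude and projective dimension (helper84)
-/

set_option autoImplicit false
universe u

open CategoryTheory CategoryTheory.Limits CategoryTheory.Pretriangulated DerivedCategory
open DRing MonoidalCategory

attribute [local instance] HasDerivedCategory.standard

namespace Groth.Agent.Lib.Helper84.FlatAmp

open TensCx

variable {R : Type u} [CommRing R]

/-- a flat module placed in degree `i` has tor amplitude in `[i, i]` -/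
lemma torAmp_single_of_flat (M : ModuleCat.{u} R) [Module.Flat R M] (i : ℤ) :
    HasTorAmplitudeIn R i i ((DerivedCategory.singleFunctor (ModuleCat.{u} R) i).obj M) := by
  refine ⟨(CochainComplex.singleFunctor (ModuleCat.{u} R) i).obj M, ?_, ?_,
    ⟨((DerivedCategory.singleFunctorIsoCompQ (ModuleCat.{u} R) i).app M).symm⟩⟩
  · intro j hj
    exact HomologicalComplex.isZero_single_obj_X (ComplexShape.up ℤ) i M j (by
      rcases hj with hj | hj <;> lia)
  · intro j
    by_cases hj : j = i
    · subst hj
      exact flat_of_iso (HomologicalComplex.singleObjXSelf (ComplexShape.up ℤ) j M).symm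
    · exact flat_of_isZero (HomologicalComplex.isZero_single_obj_X (ComplexShape.up ℤ) i M j hj)

/-- modules of projective dimension `≤ d` have tor amplitude in `[-d, 0]` -/
theorem torAmp_single_of_hasProjectiveDimensionLT : ∀ (d : ℕ) (M : ModuleCat.{u} R),
    HasProjectiveDimensionLT M (d + 1) →
      HasTorAmplitudeIn R (-(d : ℤ)) 0
        ((DerivedCategory.singleFunctor (ModuleCat.{u} R) 0).obj M) := by
  intro d
  induction d with
  | zero =>
    intro M hM
    haveI : Projective M := projective_iff_hasProjectiveDimensionLT_one.2 hM
    haveI : Module.Flat R M := flat_of_projective inferInstance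
    simpa using torAmp_single_of_flat M 0
  | succ d ih =>
    intro M hM
    let S : ShortComplex (ModuleCat.{u} R) :=
      ShortComplex.mk (kernel.ι (Projective.π M)) (Projective.π M) (kernel.condition _)
    have hS : S.ShortExact :=
      { exact := ShortComplex.exact_of_f_is_kernel _ (kernelIsKernel _)
        mono_f := by dsimp [S]; infer_instance
        epi_g := by dsimp [S]; infer_instance }
    have h₂ : HasProjectiveDimensionLT S.X₂ (d + 1) := by
      haveI : Projective S.X₂ := by dsimp [S]; infer_instance
      exact hasProjectiveDimensionLT_of_ge S.X₂ 1 (d + 1) (by lia)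
    have h₁ : HasProjectiveDimensionLT S.X₁ (d + 1) :=
      hS.hasProjectiveDimensionLT_X₁ (d + 1) h₂ hM
    have hT := hS.singleTriangle_distinguished
    have a₁ := ih S.X₁ h₁
    have a₂ : HasTorAmplitudeIn R 0 0
        ((DerivedCategory.singleFunctor (ModuleCat.{u} R) 0).obj S.X₂) := by
      haveI : Projective S.X₂ := by dsimp [S]; infer_instance
      haveI : Module.Flat R S.X₂ := flat_of_projective inferInstance
      exact torAmp_single_of_flat S.X₂ 0
    have := torAmp_obj₃ _ hT (-((d + 1 : ℕ) : ℤ)) 0
      (torAmp_mono a₁ (by push_cast; lia) (by lia)) (torAmp_mono a₂ (by push_cast; lia) le_rfl)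
    exact this

end Groth.Agent.Lib.Helper84.FlatAmp
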