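import Mathlib

/-!
# Finiteness descends along surjections with nilpotent kernel (helper84)

If `φ : R' → R` is surjective with nilpotent kernel and `R ⊗_{R'} M` is a finite `R`-module,
then `M` is a finite `R'`-module.
-/

set_option autoImplicit false
universe u v

open TensorProduct

namespace Groth.Agent.Lib.Helper84.NilFinite

section Nakayama

variable {R' : Type*} [CommRing R'] {M : Type*} [AddCommGroup M] [Module R' M]

/-- Nakayama's lemma for a nilpotent ideal. -/
lemma eq_top_of_sup_smul_eq_top (I : Ideal R') (n : ℕ) (hn : I ^ n = ⊥)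
    (N : Submodule R' M) (h : N ⊔ I • (⊤ : Submodule R' M) = ⊤) : N = ⊤ := by
  have key : ∀ k : ℕ, N ⊔ I ^ k • (⊤ : Submodule R' M) = ⊤ := by
    intro k
    induction k with
    | zero => simp
    | succ k ih =>
      rw [eq_top_iff]
      calc (⊤ : Submodule R' M) = N ⊔ I • (⊤ : Submodule R' M) := h.symm
        _ = N ⊔ I • (N ⊔ I ^ k • (⊤ : Submodule R' M)) := by rw [ih]
        _ = N ⊔ (I • N ⊔ I • (I ^ k • (⊤ : Submodule R' M))) := by rw [Submodule.smul_sup]
        _ ≤ N ⊔ I ^ (k + 1) • (⊤ : Submodule R' M) := by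
          rw [← Submodule.mul_smul, ← pow_succ']
          exact sup_le le_sup_left
            (sup_le (le_trans Submodule.smul_le_right le_sup_left) le_sup_right)
  have := key n
  rwa [hn, Submodule.bot_smul, sup_bot_eq] at this

end Nakayama

section Tensor

variable {R' R : Type*} [CommRing R'] [CommRing R] [Algebra R' R]
variable (M : Type*) [AddCommGroup M] [Module R' M]

/-- every element of `R ⊗ M` is of the form `1 ⊗ m` when `R' → R` is surjective -/
lemma exists_one_tmul (hφ : Function.Surjective (algebraMap R' R)) (t : R ⊗[R'] M) :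
    ∃ m : M, t = (1 : R) ⊗ₜ[R'] m := by
  induction t using TensorProduct.induction_on with
  | zero => exact ⟨0, (tmul_zero _ _).symm⟩
  | tmul r m =>
    obtain ⟨r', rfl⟩ := hφ r
    refine ⟨r' • m, ?_⟩
    rw [← TensorProduct.smul_tmul, Algebra.smul_def, mul_one]
  | add a b ha hb =>
    obtain ⟨m₁, rfl⟩ := ha
    obtain ⟨m₂, rfl⟩ := hb
    exact ⟨m₁ + m₂, (tmul_add _ _ _).symm⟩

/-- the kernel of `M → R ⊗ M` is `I M` -/
lemma mem_smul_top_of_one_tmul_eq_zero (hφ : Function.Surjective (algebraMap R' R)) (m : M)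
    (h : (1 : R) ⊗ₜ[R'] m = 0) :
    m ∈ (RingHom.ker (algebraMap R' R)) • (⊤ : Submodule R' M) := by
  set I : Ideal R' := RingHom.ker (algebraMap R' R) with hI
  let f : I →ₗ[R'] R' := Submodule.subtype I
  let g : R' →ₗ[R'] R := Algebra.linearMap R' R
  have hfg : Function.Exact f g := by
    intro y
    constructor
    · intro hy
      exact ⟨⟨y, hy⟩, rfl⟩
    · rintro ⟨z, rfl⟩
      exact z.2
  have hg : Function.Surjective g := hφ
  have hex := rTensor_exact M hfg hg
  have h1 : (LinearMap.rTensor M g) ((1 : R') ⊗ₜ[R'] m) = 0 := by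
    rw [LinearMap.rTensor_tmul]
    change (algebraMap R' R 1) ⊗ₜ[R'] m = 0
    rw [map_one]
    exact h
  obtain ⟨y, hy⟩ := (hex _).1 h1
  have key : ∀ y : I ⊗[R'] M, TensorProduct.lid R' M (LinearMap.rTensor M f y) ∈
      I • (⊤ : Submodule R' M) := by
    intro y
    induction y using TensorProduct.induction_on with
    | zero => simp
    | tmul i x =>
      rw [LinearMap.rTensor_tmul, TensorProduct.lid_tmul]
      exact Submodule.smul_mem_smul i.2 Submodule.mem_top
    | add a b ha hb =>
      rw [map_add, map_add]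
      exact add_mem ha hb
  have := key y
  rwa [hy, TensorProduct.lid_tmul, one_smul] at this

/-- finiteness descends along a surjection with nilpotent kernel -/
theorem finite_of_finite_tensor (hφ : Function.Surjective (algebraMap R' R)) (n : ℕ)
    (hn : (RingHom.ker (algebraMap R' R)) ^ n = ⊥) [Module.Finite R (R ⊗[R'] M)] :
    Module.Finite R' M := by
  haveI : Module.Finite R' R := Module.Finite.of_surjective (Algebra.linearMap R' R) hφ
  haveI : Module.Finite R' (R ⊗[R'] M) := Module.Finite.trans R _
  let η : M →ₗ[R'] R ⊗[R'] M := TensorProduct.mk R' R M 1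
  obtain ⟨S, hS⟩ := (Module.Finite.fg_top : (⊤ : Submodule R' (R ⊗[R'] M)).FG)
  choose c hc using exists_one_tmul (R := R) M hφ
  let N : Submodule R' M := Submodule.span R' (c '' (S : Set (R ⊗[R'] M)))
  have hN : N.map η = ⊤ := by
    rw [Submodule.map_span, ← Set.image_comp]
    have : (η ∘ c) = id := by
      funext t
      exact (hc t).symm
    rw [this, Set.image_id, hS]
  have hsup : N ⊔ (RingHom.ker (algebraMap R' R)) • (⊤ : Submodule R' M) = ⊤ := by
    rw [eq_top_iff]
    intro m _
    have : η m ∈ N.map η := by rw [hN]; exact Submodule.mem_top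
    obtain ⟨x, hx, hxm⟩ := this
    have h0 : (1 : R) ⊗ₜ[R'] (m - x) = 0 := by
      rw [tmul_sub]
      change η m - η x = 0
      rw [hxm, sub_self]
    have h1 := mem_smul_top_of_one_tmul_eq_zero M hφ (m - x) h0
    have : m = x + (m - x) := by abel
    rw [this]
    exact Submodule.add_mem_sup hx h1
  have htop := eq_top_of_sup_smul_eq_top _ n hn N hsup
  refine ⟨?_⟩
  rw [← htop]
  exact Submodule.fg_span ((Set.toFinite _).image c)

end Tensor

end Groth.Agent.Lib.Helper84.NilFinite
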