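import Groth.Agent.Lib.Helper84.NilBdd
import Groth.Agent.Lib.Helper84.NilFinite
import Groth.Agent.Lib.Helper15.LBCExact
import Groth.Agent.Lib.Helper15.LDerivedTri
import Groth.Agent.Lib.Helper15.PseudoCoh
import Groth.Agent.Lib.Helper43.FreeRes
import Groth.Agent.Lib.Helper43.PCTower
import Groth.Agent.Lib.Helper43.PCHomology

/-!
# Pseudo-coherence descends along nilpotent thickenings (helper84)
-/

set_option autoImplicit false
universe u

open CategoryTheory CategoryTheory.Limits CategoryTheory.Pretriangulated DerivedCategory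
open DRing MonoidalCategory

attribute [local instance] HasDerivedCategory.standard

namespace Groth.Agent.Lib.Helper84.NilPC

open Groth.Agent.Lib.Helper15 Groth.Agent.Lib.Helper15.PseudoCoh Groth.Agent.Lib.Helper43

variable {R' R : Type u} [CommRing R'] [CommRing R] (φ : R' →+* R)

lemma finite_of_iso {A : Type u} [CommRing A] {X Y : ModuleCat.{u} A} (e : X ≅ Y)
    (h : Module.Finite A X) : Module.Finite A Y :=
  Module.Finite.equiv e.toLinearEquiv

/-- module-level: finiteness descends -/
lemma finite_of_finite_extendScalars (hφ : Function.Surjective φ) (n : ℕ)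
    (hn : (RingHom.ker φ) ^ n = ⊥) (M : ModuleCat.{u} R')
    (h : Module.Finite R ((ModuleCat.extendScalars.{u, u, u} φ).obj M)) :
    Module.Finite R' M := by
  letI := φ.toAlgebra
  haveI : Module.Finite R (TensorProduct R' R M) := h
  exact NilFinite.finite_of_finite_tensor (R := R) M hφ n hn

lemma finiteFree_extendScalars (M : ModuleCat.{u} R')
    (h : Module.Finite R' M ∧ Module.Free R' M) :
    Module.Finite R ((ModuleCat.extendScalars.{u, u, u} φ).obj M) ∧
      Module.Free R ((ModuleCat.extendScalars.{u, u, u} φ).obj M) := by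
  obtain ⟨h1, h2⟩ := h
  letI := φ.toAlgebra
  constructor
  · exact inferInstanceAs (Module.Finite R (TensorProduct R' R M))
  · exact inferInstanceAs (Module.Free R (TensorProduct R' R M))

/-- extension of scalars commutes with opcycles -/
noncomputable def extOpcyclesIso (G : Cx R') (j' j : ℤ) (hj : j' + 1 = j) :
    (ModuleCat.extendScalars.{u, u, u} φ).obj (G.opcycles j) ≅
      (LDerived.extCx φ G).opcycles j :=
  IsColimit.coconePointUniqueUpToIso
    (CokernelCofork.mapIsColimit _ (G.opcyclesIsCokernel j' j (by simp [← hj]))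
      (ModuleCat.extendScalars.{u, u, u} φ))
    ((LDerived.extCx φ G).opcyclesIsCokernel j' j (by simp [← hj]))

/-- finiteness of the top cohomology descends -/
theorem finite_homology_of_lbaseChange (hφ : Function.Surjective φ) (n : ℕ)
    (hn : (RingHom.ker φ) ^ n = ⊥) [DRing.HasLBaseChange φ] (X : Dual.D R') (j : ℤ) [X.IsLE j]
    (h : Module.Finite R
      ((homologyFunctor (ModuleCat.{u} R) j).obj ((DRing.LBaseChange φ).obj X))) :
    Module.Finite R' ((homologyFunctor (ModuleCat.{u} R') j).obj X) := by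
  obtain ⟨G, hG, hfree, ⟨e⟩⟩ := FreeRes.exists_free_representative X j
    (fun i hi => (DerivedCategory.isLE_iff X j).1 inferInstance i hi)
  have hfl : ∀ q, Module.Flat R' (G.X q) := fun q => by
    haveI := hfree q
    infer_instance
  have eL : (DRing.LBaseChange φ).obj X ≅ toD (LDerived.extCx φ G) :=
    (DRing.LBaseChange φ).mapIso e.symm ≪≫ LBCKFlat.lbcIsoOfFlat φ G j hG hfl
  have hz : IsZero ((LDerived.extCx φ G).X (j + 1)) :=
    Functor.map_isZero (ModuleCat.extendScalars.{u, u, u} φ) (hG (j + 1) (by lia))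
  have hd : (LDerived.extCx φ G).d j (j + 1) = 0 := hz.eq_of_tgt _ _
  have hd' : G.d j (j + 1) = 0 := (hG (j + 1) (by lia)).eq_of_tgt _ _
  have i1 : (homologyFunctor (ModuleCat.{u} R) j).obj ((DRing.LBaseChange φ).obj X) ≅
      (ModuleCat.extendScalars.{u, u, u} φ).obj (G.opcycles j) :=
    (homologyFunctor (ModuleCat.{u} R) j).mapIso eL ≪≫ PCHomology.homologyIso _ j ≪≫
      (LDerived.extCx φ G).isoHomologyι j (j + 1) (by simp) hd ≪≫
        (extOpcyclesIso φ G (j - 1) j (by lia)).symm
  have h1 : Module.Finite R ((ModuleCat.extendScalars.{u, u, u} φ).obj (G.opcycles j)) :=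
    finite_of_iso i1 h
  have h2 : Module.Finite R' (G.opcycles j) := finite_of_finite_extendScalars φ hφ n hn _ h1
  have i2 : G.opcycles j ≅ (homologyFunctor (ModuleCat.{u} R') j).obj X :=
    (G.isoHomologyι j (j + 1) (by simp) hd').symm ≪≫ (PCHomology.homologyIso G j).symm ≪≫
      (homologyFunctor (ModuleCat.{u} R') j).mapIso e
  exact finite_of_iso i2 h2

/-- pseudo-coherence descends for bounded above objects -/
theorem pcAll_of_lbaseChange (hφ : Function.Surjective φ) (hnil : IsNilpotent (RingHom.ker φ))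
    [DRing.HasLBaseChange φ] (K' : Dual.D R') (t : ℤ) [K'.IsLE t]
    (h : PCAll R ((DRing.LBaseChange φ).obj K')) : PCAll R' K' := by
  obtain ⟨n, hn⟩ := hnil
  rw [Ideal.zero_eq_bot] at hn
  intro m
  let L : Cx R' := Q.objPreimage K'
  let e : Q.obj L ≅ K' := Q.objObjPreimageIso K'
  refine PCTower.isPseudoCoherent_of_finCond L e t m
    ((DerivedCategory.isLE_iff K' t).1 inferInstance) ?_
  intro j _ _ F α hF hff hacyc
  haveI : (Q.obj (CochainComplex.mappingCone α)).IsLE j :=
    (DerivedCategory.isLE_iff _ j).2 hacyc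
  apply finite_homology_of_lbaseChange φ hφ n hn _ j
  have hT := DerivedCategory.mappingCone_triangle_distinguished α
  obtain ⟨δ, hT'⟩ := LDerivedTri.exists_distTriang_LBaseChange φ _ hT
  have h₁ : PCAll R ((DRing.LBaseChange φ).obj (Q.obj F)) := by
    have eF : (DRing.LBaseChange φ).obj (toD F) ≅ toD (LDerived.extCx φ F) :=
      LBCKFlat.lbcIsoOfFlat φ F t (fun q hq => hF q (Or.inr hq)) (fun q => by
        haveI := (hff q).2
        infer_instance)
    refine PCAll.of_iso eF.symm (pcAll_of_finiteFree _ (j + 1) t ?_ ?_)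
    · intro i hi
      exact Functor.map_isZero (ModuleCat.extendScalars.{u, u, u} φ) (hF i hi)
    · intro i
      exact finiteFree_extendScalars φ _ (hff i)
  have h₂ : PCAll R ((DRing.LBaseChange φ).obj (Q.obj L)) :=
    PCAll.of_iso ((DRing.LBaseChange φ).mapIso e.symm) h
  have h₃ : PCAll R ((DRing.LBaseChange φ).obj (Q.obj (CochainComplex.mappingCone α))) :=
    PCAll.obj₃ _ hT' h₁ h₂
  haveI : ((DRing.LBaseChange φ).obj (Q.obj (CochainComplex.mappingCone α))).IsLE j :=
    LBCExact.isLE_LBaseChange φ _ j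
  exact PCHomology.finite_homology_of_isPseudoCoherent _ j (h₃ j)
    ((DerivedCategory.isLE_iff _ j).1 inferInstance)

end Groth.Agent.Lib.Helper84.NilPC
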