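import Groth.Agent.Lib.Helper84.DerivedT
import Groth.Agent.Lib.Helper84.ConeRep

/-!
# Two-term representatives of objects of `D^{[-1,0]}` (helper84)
-/

set_option autoImplicit false
universe w v u

open CategoryTheory CategoryTheory.Limits CategoryTheory.Pretriangulated CategoryTheory.Triangulated
open DerivedCategory

namespace Groth.Agent.Lib.Helper84.TwoTerm

open Groth.Agent.Lib.Helper84.DerivedT Groth.Agent.Lib.Helper84

variable {C : Type u} [Category.{v} C] [Abelian C] [HasDerivedCategory.{w} C]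

/-- variant of `ConeRep.exists_cone_iso` where the morphism of complexes is given -/
lemma cone_iso_of_Q_map_eq {E F : CochainComplex C ℤ} (f : E ⟶ F)
    (T : Triangle (DerivedCategory C)) (hT : T ∈ distTriang _)
    (e₁ : Q.obj E ≅ T.obj₁) (e₂ : Q.obj F ≅ T.obj₂) (hf : Q.map f ≫ e₂.hom = e₁.hom ≫ T.mor₁) :
    Nonempty (Q.obj (CochainComplex.mappingCone f) ≅ T.obj₃) := by
  have hT' := mappingCone_triangle_distinguished f
  exact ⟨Triangle.π₃.mapIso (isoTriangleOfIso₁₂ _ _ hT' hT e₁ e₂ hf)⟩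

/-- Let `K` be in `D^{[-1,0]}`, `F` projective with an epimorphism onto `H^0(K)`.  Then `K` is
the cone of a morphism `N[0] ⟶ F[0]`, where `N` sits in an exact sequence `H^{-1}(K) ⟶ N ⟶ F`. -/
lemma exists_twoTerm (K : DerivedCategory C) [K.IsLE 0] [K.IsGE (-1)] (F : C) [Projective F]
    (u₀ : F ⟶ (homologyFunctor C 0).obj K) [Epi u₀] :
    ∃ (N : C) (v : N ⟶ F),
      Nonempty (Q.obj (CochainComplex.mappingCone ((CochainComplex.singleFunctor C 0).map v)) ≅ K) ∧
      ∃ (a : (homologyFunctor C (-1)).obj K ⟶ N) (c : N ⟶ F) (hac : a ≫ c = 0),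
        (ShortComplex.mk a c hac).Exact := by
  let t : TStructure (DerivedCategory C) := TStructure.t
  -- step 1 : `τ_{≥0} K` is a single object
  have hB1 : t.IsGE ((t.truncGE 0).obj K) 0 := inferInstance
  have hB2 : t.IsLE ((t.truncGE 0).obj K) 0 := inferInstance
  obtain ⟨Y, ⟨eB⟩⟩ := exists_iso_singleFunctor_obj_of_isGE_of_isLE ((t.truncGE 0).obj K) 0
  have hπ := isIso_homologyMap_truncGEπ K 0 0 le_rfl
  let eY : (homologyFunctor C 0).obj K ≅ Y :=
    asIso ((homologyFunctor C 0).map ((t.truncGEπ 0).app K)) ≪≫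
      (homologyFunctor C 0).mapIso eB ≪≫ (singleFunctorCompHomologyFunctorIso C 0).app Y
  let u₁ : F ⟶ Y := u₀ ≫ eY.hom
  have hu₁ : Epi u₁ := epi_comp _ _
  let β : (singleFunctor C 0).obj F ⟶ (t.truncGE 0).obj K := (singleFunctor C 0).map u₁ ≫ eB.inv
  -- step 2 : lift `β` to `K`
  have hT := t.triangleLTGE_distinguished 0 K
  have hβ : β ≫ ((t.triangleLTGE 0).obj K).mor₃ = 0 := by
    have : t.IsLE ((shiftFunctor (DerivedCategory C) (1 : ℤ)).obj
        ((t.triangleLTGE 0).obj K).obj₁) (-2) := by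
      have : t.IsLE ((t.truncLT 0).obj K) (-1) := t.isLE_truncLT_obj K 0 (-1)
      exact t.isLE_shift ((t.truncLT 0).obj K) (-1) 1 (-2)
    exact from_single_projective_eq_zero 0 (-2) (by lia) _ _
  obtain ⟨ũ, hũ⟩ : ∃ ũ : (singleFunctor C 0).obj F ⟶ K, β = ũ ≫ (t.truncGEπ 0).app K :=
    Triangle.coyoneda_exact₃ _ hT β hβ
  -- `H^0(ũ)` is an epimorphism
  have hepi : Epi ((homologyFunctor C 0).map ũ) := by
    have h1 : Epi ((homologyFunctor C 0).map β) := by
      have h2 : Epi ((homologyFunctor C 0).map ((singleFunctor C 0).map u₁)) := by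
        have := NatIso.naturality_2 (singleFunctorCompHomologyFunctorIso C 0) u₁
        dsimp at this
        rw [← this]
        infer_instance
      dsimp only [β]
      rw [Functor.map_comp]
      infer_instance
    rw [hũ, Functor.map_comp] at h1
    have h3 : (homologyFunctor C 0).map ũ =
        ((homologyFunctor C 0).map ũ ≫ (homologyFunctor C 0).map ((t.truncGEπ 0).app K)) ≫
          inv ((homologyFunctor C 0).map ((t.truncGEπ 0).app K)) := by simp
    rw [h3]
    infer_instance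
  -- step 3 : the cone
  obtain ⟨Z, g, h, hT₁⟩ := distinguished_cocone_triangle ũ
  have hZle : Z.IsLE (-1) := by
    rw [isLE_iff]
    intro i hi
    by_cases h0 : i = 0
    · subst h0
      refine isZero_homology_obj₃ _ hT₁ 0 1 rfl hepi ?_
      exact ⟨fun _ _ _ => (isZero_of_isLE ((singleFunctor C 0).obj F) 0 1 (by lia)).eq_of_tgt _ _⟩
    · exact isZero_homology_obj₃_of_isZero _ hT₁ i (i + 1) rfl
        (isZero_of_isLE K 0 i (by lia))
        (isZero_of_isLE ((singleFunctor C 0).obj F) 0 (i + 1) (by lia))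
  have hZge : Z.IsGE (-1) := by
    rw [isGE_iff]
    intro i hi
    exact isZero_homology_obj₃_of_isZero _ hT₁ i (i + 1) rfl
      (isZero_of_isGE K (-1) i (by lia))
      (isZero_of_isGE ((singleFunctor C 0).obj F) 0 (i + 1) (by lia))
  obtain ⟨N, ⟨eC⟩⟩ := exists_iso_singleFunctor_obj_of_isGE_of_isLE Z (-1)
  -- step 4 : rotate
  have hT₂ := inv_rot_of_distTriang _ hT₁
  let e₁ : (singleFunctor C 0).obj N ≅ Z⟦(-1 : ℤ)⟧ :=
    (((singleFunctors C).shiftIso (-1) 0 (-1) (by lia)).app N).symm ≪≫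
      (shiftFunctor _ (-1 : ℤ)).mapIso eC.symm
  obtain ⟨v, hv⟩ := (singleFunctor C 0).map_surjective
    (e₁.hom ≫ (Triangle.mk ũ g h).invRotate.mor₁)
  refine ⟨N, v, ?_, ?_⟩
  · have hQ : Q.map ((CochainComplex.singleFunctor C 0).map v) = (singleFunctor C 0).map v := rfl
    have e₁' : Q.obj ((CochainComplex.singleFunctor C 0).obj N) ≅
        (Triangle.mk ũ g h).invRotate.obj₁ := e₁
    have e₂' : Q.obj ((CochainComplex.singleFunctor C 0).obj F) ≅
        (Triangle.mk ũ g h).invRotate.obj₂ := Iso.refl _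
    have hf : Q.map ((CochainComplex.singleFunctor C 0).map v) ≫ (Iso.refl _ : Q.obj ((CochainComplex.singleFunctor C 0).obj F) ≅
        (Triangle.mk ũ g h).invRotate.obj₂).hom =
        (e₁ : Q.obj ((CochainComplex.singleFunctor C 0).obj N) ≅
        (Triangle.mk ũ g h).invRotate.obj₁).hom ≫ (Triangle.mk ũ g h).invRotate.mor₁ := by
      rw [hQ, hv]
      exact Category.comp_id _
    exact cone_iso_of_Q_map_eq ((CochainComplex.singleFunctor C 0).map v) _ hT₂ _ _ hf
  · -- the exact sequence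
    have hex := HomologySequence.exact₃ _ hT₁ (-1) 0 (by lia)
    generalize_proofs pf at hex
    set S := ShortComplex.mk _ _ pf with hS
    let eN : S.X₂ ≅ N :=
      (homologyFunctor C (-1)).mapIso eC ≪≫ (singleFunctorCompHomologyFunctorIso C (-1)).app N
    let eF : S.X₃ ≅ F := (singleFunctorCompHomologyFunctorIso C 0).app F
    have hzero : (S.f ≫ eN.hom) ≫ (eN.inv ≫ S.g ≫ eF.hom) = 0 := by
      simp only [Category.assoc, Iso.hom_inv_id_assoc]
      rw [S.zero_assoc, zero_comp]
    refine ⟨S.f ≫ eN.hom, eN.inv ≫ S.g ≫ eF.hom, hzero, ?_⟩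
    refine ShortComplex.exact_of_iso ?_ hex
    exact ShortComplex.isoMk (Iso.refl _) eN eF (Category.id_comp _)
      (by simp)

/-- degree `0` term of the cone of `N[0] ⟶ F[0]` -/
noncomputable def coneSingleXZeroIso {N F : C} (v : N ⟶ F) :
    (CochainComplex.mappingCone ((CochainComplex.singleFunctor C 0).map v)).X 0 ≅ F :=
  ConeRep.mappingConeXIso _ 0 ≪≫
    (isoZeroBiprod (HomologicalComplex.isZero_single_obj_X _ 0 N (0 + 1) (by lia))).symm ≪≫
    HomologicalComplex.singleObjXSelf _ 0 F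

/-- degree `-1` term of the cone of `N[0] ⟶ F[0]` -/
noncomputable def coneSingleXNegOneIso {N F : C} (v : N ⟶ F) :
    (CochainComplex.mappingCone ((CochainComplex.singleFunctor C 0).map v)).X (-1) ≅ N :=
  ConeRep.mappingConeXIso _ (-1) ≪≫
    (isoBiprodZero (HomologicalComplex.isZero_single_obj_X _ 0 F (-1) (by lia))).symm ≪≫
    HomologicalComplex.singleObjXSelf _ 0 N

lemma isZero_coneSingle_X {N F : C} (v : N ⟶ F) (i : ℤ) (hi : i < -1 ∨ 0 < i) :
    IsZero ((CochainComplex.mappingCone ((CochainComplex.singleFunctor C 0).map v)).X i) :=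
  ConeRep.isZero_mappingCone_X _ i
    (HomologicalComplex.isZero_single_obj_X _ 0 N (i + 1) (by lia))
    (HomologicalComplex.isZero_single_obj_X _ 0 F i (by lia))

end Groth.Agent.Lib.Helper84.TwoTerm
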