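import Groth.Agent.Lib.Helper84.DerivedT
import Groth.Agent.Lib.Helper84.ConeRep
import Groth.Agent.Lib.Helper84.TwoTerm
import Mathlib.Algebra.Homology.DerivedCategory.Ext.EnoughInjectives

/-!
# Projective amplitude via vanishing of `Hom(X, M[j])` (helper84)
-/

set_option autoImplicit false
universe w v u

open CategoryTheory CategoryTheory.Limits CategoryTheory.Pretriangulated CategoryTheory.Triangulated
open DerivedCategory
open scoped ZeroObject

namespace Groth.Agent.Lib.Helper84.ProjAmp

open Groth.Agent.Lib.Helper84.DerivedT Groth.Agent.Lib.Helper84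

variable {C : Type u} [Category.{v} C] [Abelian C] [HasDerivedCategory.{w} C]

/-- lifting a map from a projective to the top cohomology to a map in the derived category -/
lemma exists_lift_single (X : DerivedCategory C) (b : ℤ) [X.IsLE b] (F : C) [Projective F]
    (u₀ : F ⟶ (homologyFunctor C b).obj X) [Epi u₀] :
    ∃ ũ : (singleFunctor C b).obj F ⟶ X, Epi ((homologyFunctor C b).map ũ) := by
  let t : TStructure (DerivedCategory C) := TStructure.t
  have hB1 : t.IsGE ((t.truncGE b).obj X) b := inferInstance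
  have hB2 : t.IsLE ((t.truncGE b).obj X) b := inferInstance
  obtain ⟨Y, ⟨eB⟩⟩ := exists_iso_singleFunctor_obj_of_isGE_of_isLE ((t.truncGE b).obj X) b
  have hπ := isIso_homologyMap_truncGEπ X b b le_rfl
  let eY : (homologyFunctor C b).obj X ≅ Y :=
    asIso ((homologyFunctor C b).map ((t.truncGEπ b).app X)) ≪≫
      (homologyFunctor C b).mapIso eB ≪≫ (singleFunctorCompHomologyFunctorIso C b).app Y
  let u₁ : F ⟶ Y := u₀ ≫ eY.hom
  have hu₁ : Epi u₁ := epi_comp _ _
  let β : (singleFunctor C b).obj F ⟶ (t.truncGE b).obj X := (singleFunctor C b).map u₁ ≫ eB.inv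
  have hT := t.triangleLTGE_distinguished b X
  have hβ : β ≫ ((t.triangleLTGE b).obj X).mor₃ = 0 := by
    have : t.IsLE ((shiftFunctor (DerivedCategory C) (1 : ℤ)).obj
        ((t.triangleLTGE b).obj X).obj₁) (b - 2) := by
      have : t.IsLE ((t.truncLT b).obj X) (b - 1) := t.isLE_truncLT_obj X b (b - 1)
      exact t.isLE_shift ((t.truncLT b).obj X) (b - 1) 1 (b - 2)
    exact from_single_projective_eq_zero b (b - 2) (by lia) _ _
  obtain ⟨ũ, hũ⟩ : ∃ ũ : (singleFunctor C b).obj F ⟶ X, β = ũ ≫ (t.truncGEπ b).app X :=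
    Triangle.coyoneda_exact₃ _ hT β hβ
  refine ⟨ũ, ?_⟩
  have h1 : Epi ((homologyFunctor C b).map β) := by
    have h2 : Epi ((homologyFunctor C b).map ((singleFunctor C b).map u₁)) := by
      have := NatIso.naturality_2 (singleFunctorCompHomologyFunctorIso C b) u₁
      dsimp at this
      rw [← this]
      infer_instance
    dsimp only [β]
    rw [Functor.map_comp]
    infer_instance
  rw [hũ, Functor.map_comp] at h1
  have h3 : (homologyFunctor C b).map ũ =
      ((homologyFunctor C b).map ũ ≫ (homologyFunctor C b).map ((t.truncGEπ b).app X)) ≫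
        inv ((homologyFunctor C b).map ((t.truncGEπ b).app X)) := by simp
  rw [h3]
  infer_instance

/-- amplitude of the cone of a map `F[-b] ⟶ X` which is epi on `H^b` -/
lemma cone_isLE (X : DerivedCategory C) (b : ℤ) [X.IsLE b] (F : C)
    (T : Triangle (DerivedCategory C)) (hT : T ∈ distTriang _)
    (e₁ : T.obj₁ = (singleFunctor C b).obj F) (e₂ : T.obj₂ = X)
    (hepi : Epi ((homologyFunctor C b).map T.mor₁)) : T.obj₃.IsLE (b - 1) := by
  subst e₂
  rw [isLE_iff]
  intro i hi
  have h1 : ∀ j : ℤ, j ≠ b → IsZero ((homologyFunctor C j).obj T.obj₁) := by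
    intro j hj
    rw [e₁]
    rcases lt_or_gt_of_ne hj with h | h
    · exact isZero_of_isGE ((singleFunctor C b).obj F) b j h
    · exact isZero_of_isLE ((singleFunctor C b).obj F) b j h
  by_cases h0 : i = b
  · subst h0
    refine isZero_homology_obj₃ _ hT i (i + 1) rfl hepi ?_
    exact ⟨fun _ _ _ => (h1 (i + 1) (by lia)).eq_of_tgt _ _⟩
  · exact isZero_homology_obj₃_of_isZero _ hT i (i + 1) rfl
      (isZero_of_isLE T.obj₂ b i (by lia)) (h1 (i + 1) (by lia))

lemma cone_isGE (X : DerivedCategory C) (b c' : ℤ) (hc' : c' < b) [X.IsGE c'] (F : C)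
    (T : Triangle (DerivedCategory C)) (hT : T ∈ distTriang _)
    (e₁ : T.obj₁ = (singleFunctor C b).obj F) (e₂ : T.obj₂ = X) : T.obj₃.IsGE c' := by
  subst e₂
  rw [isGE_iff]
  intro i hi
  refine isZero_homology_obj₃_of_isZero _ hT i (i + 1) rfl (isZero_of_isGE T.obj₂ c' i hi) ?_
  rw [e₁]
  exact isZero_of_isGE ((singleFunctor C b).obj F) b (i + 1) (by lia)

/-- `Hom(X, M[-j]) = 0` for all `j < c`. -/
def ExtVanish (X : DerivedCategory C) (c : ℤ) : Prop :=
  ∀ (M : C) (j : ℤ), j < c → ∀ f : X ⟶ (singleFunctor C j).obj M, f = 0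

/-- `X` is represented by a complex of projectives vanishing outside `[c, b]`. -/
def HasProjAmp (X : DerivedCategory C) (c b : ℤ) : Prop :=
  ∃ P : CochainComplex C ℤ, (∀ i : ℤ, i < c ∨ b < i → IsZero (P.X i)) ∧
    (∀ i : ℤ, Projective (P.X i)) ∧ Nonempty (Q.obj P ≅ X)

lemma ExtVanish.of_iso {X Y : DerivedCategory C} (e : X ≅ Y) {c : ℤ} (h : ExtVanish X c) :
    ExtVanish Y c := by
  intro M j hj f
  have := h M j hj (e.hom ≫ f)
  exact (cancel_epi e.hom).1 (this.trans comp_zero.symm)

lemma HasProjAmp.of_iso {X Y : DerivedCategory C} (e : X ≅ Y) {c b : ℤ} (h : HasProjAmp X c b) :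
    HasProjAmp Y c b := by
  obtain ⟨P, h1, h2, ⟨e'⟩⟩ := h
  exact ⟨P, h1, h2, ⟨e' ≪≫ e⟩⟩

lemma HasProjAmp.mono {X : DerivedCategory C} {c b b' : ℤ} (hb : b ≤ b') (h : HasProjAmp X c b) :
    HasProjAmp X c b' := by
  obtain ⟨P, h1, h2, ⟨e'⟩⟩ := h
  exact ⟨P, fun i hi => h1 i (by lia), h2, ⟨e'⟩⟩

lemma hasProjAmp_of_isZero {X : DerivedCategory C} (hX : IsZero X) (c b : ℤ) :
    HasProjAmp X c b := by
  refine ⟨0, fun i _ => ?_, fun i => ?_, ⟨(Functor.map_isZero Q (isZero_zero _)).iso hX⟩⟩
  · exact Functor.map_isZero (HomologicalComplex.eval C _ i) (isZero_zero _)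
  · have : IsZero ((0 : CochainComplex C ℤ).X i) :=
      Functor.map_isZero (HomologicalComplex.eval C _ i) (isZero_zero _)
    exact this.projective

/-- vanishing of `Hom(-, M[-j])` passes to the cone -/
lemma extVanish_cone (X : DerivedCategory C) (b c : ℤ) (hc : c < b) (F : C) [Projective F]
    (T : Triangle (DerivedCategory C)) (hT : T ∈ distTriang _)
    (e₁ : T.obj₁ = (singleFunctor C b).obj F) (e₂ : T.obj₂ = X) (hX : ExtVanish X c) :
    ExtVanish T.obj₃ c := by
  subst e₂
  intro M j hj f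
  have h1 : T.mor₂ ≫ f = 0 := hX M j hj _
  obtain ⟨g, hg⟩ := Triangle.yoneda_exact₃ _ hT f h1
  have hg0 : g = 0 := by
    have e : T.obj₁⟦(1 : ℤ)⟧ ≅ (singleFunctor C (b - 1)).obj F :=
      (shiftFunctor _ (1 : ℤ)).mapIso (eqToIso e₁) ≪≫
        ((singleFunctors C).shiftIso 1 (b - 1) b (by lia)).app F
    have : e.inv ≫ g = 0 := from_single_projective_eq_zero (b - 1) j (by lia) _ _
    exact (cancel_epi e.inv).1 (this.trans comp_zero.symm)
  rw [hg, hg0, comp_zero]

/-- projectivity criterion in degree `b` -/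
lemma projective_of_hom_single_eq_zero (N : C) (b : ℤ)
    (h : ∀ (M : C) (f : (singleFunctor C b).obj N ⟶ (singleFunctor C (b - 1)).obj M), f = 0) :
    Projective N := by
  apply projective_of_subsingleton_hom_shift_one
  intro M
  suffices H : ∀ z : (singleFunctor C 0).obj N ⟶ ((singleFunctor C 0).obj M)⟦(1 : ℤ)⟧, z = 0 from
    ⟨fun x y => by rw [H x, H y]⟩
  intro z
  let e₁ : ((singleFunctor C 0).obj N)⟦-b⟧ ≅ (singleFunctor C b).obj N :=
    ((singleFunctors C).shiftIso (-b) b 0 (by lia)).app N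
  let e₂ : ((singleFunctor C 0).obj M)⟦(1 : ℤ)⟧ ≅ (singleFunctor C (-1)).obj M :=
    ((singleFunctors C).shiftIso 1 (-1) 0 (by lia)).app M
  let e₃ : ((singleFunctor C (-1)).obj M)⟦-b⟧ ≅ (singleFunctor C (b - 1)).obj M :=
    ((singleFunctors C).shiftIso (-b) (b - 1) (-1) (by lia)).app M
  have h0 := h M (e₁.inv ≫ (shiftFunctor _ (-b)).map (z ≫ e₂.hom) ≫ e₃.hom)
  have h1 : (shiftFunctor (DerivedCategory C) (-b)).map (z ≫ e₂.hom) = 0 := by
    have h2 := (cancel_epi e₁.inv).1 (h0.trans comp_zero.symm)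
    exact (cancel_mono e₃.hom).1 (h2.trans zero_comp.symm)
  have h3 : z ≫ e₂.hom = 0 :=
    (shiftFunctor (DerivedCategory C) (-b)).map_injective (h1.trans (Functor.map_zero _ _ _).symm)
  exact (cancel_mono e₂.hom).1 (h3.trans zero_comp.symm)

/-- reassembling `X` from the cone of `F[-b] ⟶ X` -/
lemma hasProjAmp_of_cone (X : DerivedCategory C) (b c : ℤ) (hcb : c ≤ b) (F : C) [Projective F]
    (T : Triangle (DerivedCategory C)) (hT : T ∈ distTriang _)
    (e₁ : T.obj₁ = (singleFunctor C b).obj F) (e₂ : T.obj₂ = X)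
    (hZ : HasProjAmp T.obj₃ c (b - 1)) : HasProjAmp X c b := by
  subst e₂
  obtain ⟨P', h1, h2, ⟨e'⟩⟩ := hZ
  haveI : P'.IsKProjective :=
    KProj.isKProjective_of_vanishesAbove P' (b - 1) (fun i hi => h1 i (Or.inr hi)) h2
  have hT' := inv_rot_of_distTriang _ hT
  let e₁' : Q.obj (P'⟦(-1 : ℤ)⟧) ≅ T.invRotate.obj₁ :=
    ConeRep.shiftIso P' (-1) ≪≫ (shiftFunctor _ (-1 : ℤ)).mapIso e'
  let e₂' : Q.obj ((CochainComplex.singleFunctor C b).obj F) ≅ T.invRotate.obj₂ :=
    eqToIso e₁.symm
  obtain ⟨f, ⟨e₃⟩⟩ := ConeRep.exists_cone_iso (P'⟦(-1 : ℤ)⟧)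
    ((CochainComplex.singleFunctor C b).obj F) T.invRotate hT' e₁' e₂'
  refine ⟨_, ?_, ?_, ⟨e₃⟩⟩
  · intro i hi
    refine ConeRep.isZero_mappingCone_X f i ?_ ?_
    · exact h1 (i + 1 + (-1)) (by lia)
    · exact HomologicalComplex.isZero_single_obj_X _ b F i (by lia)
  · intro i
    have hp1 : Projective ((P'⟦(-1 : ℤ)⟧).X (i + 1)) := h2 (i + 1 + (-1))
    have hp2 : Projective (((CochainComplex.singleFunctor C b).obj F).X i) := by
      by_cases hi : i = b
      · subst hi
        exact Projective.of_iso (HomologicalComplex.singleObjXSelf _ i F).symm inferInstance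
      · exact (HomologicalComplex.isZero_single_obj_X _ b F i hi).projective
    exact Projective.of_iso (ConeRep.mappingConeXIso f i).symm inferInstance

/-- a `≤ b` object whose `τ_{≥ b}` vanishes is `≤ b - 1` -/
lemma isLE_pred_of_truncGEπ_eq_zero (X : DerivedCategory C) (b : ℤ) [X.IsLE b]
    (h : (TStructure.t.truncGEπ b).app X = 0) : X.IsLE (b - 1) := by
  rw [isLE_iff]
  intro i hi
  by_cases hib : i = b
  · subst hib
    have := isIso_homologyMap_truncGEπ X i i le_rfl
    rw [h, Functor.map_zero] at this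
    rw [IsZero.iff_id_eq_zero]
    have h2 := IsIso.hom_inv_id (f := (0 : (homologyFunctor C i).obj X ⟶
      (homologyFunctor C i).obj ((TStructure.t.truncGE i).obj X)))
    rw [zero_comp] at h2
    exact h2.symm
  · exact isZero_of_isLE X b i (by lia)

variable [EnoughProjectives C]

/-- Main theorem: bounded objects with vanishing `Hom(X, M[-j])` for `j < c` have projective
amplitude in `[c, b]`. -/
theorem hasProjAmp_aux (n : ℕ) : ∀ (X : DerivedCategory C) (c' b c : ℤ), b < c' + n → c' ≤ c →
    X.IsGE c' → X.IsLE b → ExtVanish X c → HasProjAmp X c b := by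
  induction n with
  | zero =>
    intro X c' b c hb _ hGE hLE _
    exact hasProjAmp_of_isZero (TStructure.t.isZero X b c' (by simpa using hb)) c b
  | succ n ih =>
    intro X c' b c hb hc'c hGE hLE hX
    let t : TStructure (DerivedCategory C) := TStructure.t
    by_cases hb' : b < c' + n
    · exact ih X c' b c hb' hc'c hGE hLE hX
    have hbeq : b = c' + n := by push_cast at hb; lia
    rcases lt_trichotomy c b with hcb | hcb | hcb
    · -- case c < b : cone trick
      let H := (homologyFunctor C b).obj X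
      obtain ⟨ũ, hũ⟩ := exists_lift_single X b (Projective.over H) (Projective.π H)
      obtain ⟨Z, g, h, hT⟩ := distinguished_cocone_triangle ũ
      have hZ1 : Z.IsLE (b - 1) := cone_isLE X b (Projective.over H) _ hT rfl rfl hũ
      have hZ2 : Z.IsGE c' := cone_isGE X b c' (by lia) (Projective.over H) _ hT rfl rfl
      have hZ3 : ExtVanish Z c := extVanish_cone X b c hcb (Projective.over H) _ hT rfl rfl hX
      have hZ4 := ih Z c' (b - 1) c (by lia) hc'c hZ2 hZ1 hZ3
      exact hasProjAmp_of_cone X b c hcb.le (Projective.over H) _ hT rfl rfl hZ4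
    · -- case c = b
      subst hcb
      have hB1 : t.IsGE ((t.truncGE c).obj X) c := inferInstance
      have hB2 : t.IsLE ((t.truncGE c).obj X) c := inferInstance
      obtain ⟨N, ⟨eN⟩⟩ := exists_iso_singleFunctor_obj_of_isGE_of_isLE ((t.truncGE c).obj X) c
      have hT := t.triangleLTGE_distinguished c X
      have hA1 : t.IsLE ((t.truncLT c).obj X) (c - 1) := t.isLE_truncLT_obj X c (c - 1)
      -- `N` is projective
      have hN : Projective N := by
        apply projective_of_hom_single_eq_zero N c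
        intro M f
        have h1 : (t.truncGEπ c).app X ≫ eN.hom ≫ f = 0 := hX M (c - 1) (by lia) _
        obtain ⟨w, hw⟩ := Triangle.yoneda_exact₃ _ hT (eN.hom ≫ f) h1
        have hw0 : w = 0 := by
          refine t.zero_of_isLE_of_isGE w (c - 2) (c - 1) (by lia) ?_ inferInstance
          exact t.isLE_shift ((t.truncLT c).obj X) (c - 1) 1 (c - 2)
        rw [hw0, comp_zero] at hw
        exact (cancel_epi eN.hom).1 (hw.trans comp_zero.symm)
      -- `τ_{<c} X` satisfies the vanishing
      have hY : ExtVanish ((t.truncLT c).obj X) c := by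
        intro M j hj f
        have hT' := inv_rot_of_distTriang _ hT
        have h0 : ((t.triangleLTGE c).obj X).invRotate.mor₁ ≫ f = 0 := by
          have e : ((t.truncGE c).obj X)⟦(-1 : ℤ)⟧ ≅ (singleFunctor C (c + 1)).obj N :=
            (shiftFunctor _ (-1 : ℤ)).mapIso eN ≪≫
              ((singleFunctors C).shiftIso (-1) (c + 1) c (by lia)).app N
          have : e.inv ≫ ((t.triangleLTGE c).obj X).invRotate.mor₁ ≫ f = 0 :=
            from_single_projective_eq_zero (c + 1) j (by lia) _ _
          exact (cancel_epi e.inv).1 (this.trans comp_zero.symm)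
        obtain ⟨f', hf'⟩ := Triangle.yoneda_exact₂ _ hT' f h0
        have hf'0 : f' = 0 := hX M j hj f'
        rw [hf', hf'0]; exact comp_zero
      have hYamp := ih ((t.truncLT c).obj X) c' (c - 1) c (by lia) hc'c inferInstance hA1 hY
      have hYzero : IsZero ((t.truncLT c).obj X) := by
        obtain ⟨P, hP1, -, ⟨eP⟩⟩ := hYamp
        have : IsZero P := by
          rw [IsZero.iff_id_eq_zero]
          apply HomologicalComplex.hom_ext
          intro i
          exact (hP1 i (by lia)).eq_of_src _ _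
        exact IsZero.of_iso (Functor.map_isZero Q this) eP.symm
      have hXge : t.IsGE X c := (t.isGE_iff_isZero_truncLT_obj c X).2 hYzero
      have e : X ≅ Q.obj ((CochainComplex.singleFunctor C c).obj N) :=
        asIso ((t.truncGEπ c).app X) ≪≫ eN
      refine ⟨(CochainComplex.singleFunctor C c).obj N, ?_, ?_, ⟨e.symm⟩⟩
      · intro i hi
        exact HomologicalComplex.isZero_single_obj_X _ c N i (by lia)
      · intro i
        by_cases hi : i = c
        · subst hi
          exact Projective.of_iso (HomologicalComplex.singleObjXSelf _ i N).symm inferInstance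
        · exact (HomologicalComplex.isZero_single_obj_X _ c N i hi).projective
    · -- case b < c
      have hB1 : t.IsGE ((t.truncGE b).obj X) b := inferInstance
      have hB2 : t.IsLE ((t.truncGE b).obj X) b := inferInstance
      obtain ⟨N, ⟨eN⟩⟩ := exists_iso_singleFunctor_obj_of_isGE_of_isLE ((t.truncGE b).obj X) b
      have h1 : (t.truncGEπ b).app X ≫ eN.hom = 0 := hX N b hcb _
      have h2 : (t.truncGEπ b).app X = 0 := (cancel_mono eN.hom).1 (h1.trans zero_comp.symm)
      have hLE' : X.IsLE (b - 1) := isLE_pred_of_truncGEπ_eq_zero X b h2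
      exact (ih X c' (b - 1) c (by lia) hc'c hGE hLE' hX).mono (by lia)

theorem hasProjAmp_of_extVanish (X : DerivedCategory C) (c' b c : ℤ) [X.IsGE c'] [X.IsLE b]
    (hX : ExtVanish X c) : HasProjAmp X c b := by
  have hGE : X.IsGE (min c' c) := TStructure.t.isGE_of_ge X (min c' c) c' (min_le_left _ _)
  exact hasProjAmp_aux (b + 1 - min c' c).toNat X (min c' c) b c
    (by have := Int.self_le_toNat (b + 1 - min c' c); lia) (min_le_right _ _) hGE inferInstance hX

omit [EnoughProjectives C] in
/-- A morphism from a `≥ n` object to an injective object placed in degree `i < n` is zero. -/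
lemma to_single_injective_eq_zero {I : C} [Injective I] (i n : ℤ) (hn : i < n)
    (X : DerivedCategory C) [X.IsGE n] (φ : X ⟶ (singleFunctor C i).obj I) : φ = 0 := by
  obtain ⟨K, _, ⟨e⟩⟩ := exists_iso_Q_obj_of_isGE X n
  have h : e.inv ≫ φ = 0 :=
    to_singleFunctor_obj_eq_zero_of_injective (I := I) (K := K) (i := i) (e.inv ≫ φ) n hn
  exact (cancel_epi e.inv).1 (h.trans comp_zero.symm)

omit [EnoughProjectives C] in
/-- dimension shifting: vanishing of `Hom(X, M[-j])` for all `M` implies the same for `j - 1`,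
when `X` is `≥ j`. -/
lemma hom_single_eq_zero_pred [EnoughInjectives C] (X : DerivedCategory C) (j j' : ℤ)
    (hj' : j' + 1 = j) [X.IsGE j]
    (h : ∀ (M : C) (f : X ⟶ (singleFunctor C j).obj M), f = 0) :
    ∀ (M : C) (f : X ⟶ (singleFunctor C j').obj M), f = 0 := by
  intro M f
  haveI : PreservesFiniteLimits (CochainComplex.singleFunctor C j) :=
    inferInstanceAs (PreservesFiniteLimits (HomologicalComplex.single C (ComplexShape.up ℤ) j))
  haveI : PreservesFiniteColimits (CochainComplex.singleFunctor C j) :=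
    inferInstanceAs (PreservesFiniteColimits (HomologicalComplex.single C (ComplexShape.up ℤ) j))
  let S : ShortComplex C := ShortComplex.mk (Injective.ι M) (cokernel.π (Injective.ι M))
    (cokernel.condition _)
  have hS : S.ShortExact :=
    { exact := ShortComplex.exact_cokernel (Injective.ι M)
      mono_f := inferInstanceAs (Mono (Injective.ι M))
      epi_g := inferInstanceAs (Epi (cokernel.π (Injective.ι M))) }
  have hS' : (S.map (CochainComplex.singleFunctor C j)).ShortExact :=
    hS.map_of_exact (CochainComplex.singleFunctor C j)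
  have hT := triangleOfSES_distinguished hS'
  let e : ((singleFunctor C j).obj M)⟦(1 : ℤ)⟧ ≅ (singleFunctor C j').obj M :=
    ((singleFunctors C).shiftIso 1 j' j (by lia)).app M
  let eI : ((singleFunctor C j).obj (Injective.under M))⟦(1 : ℤ)⟧ ≅
      (singleFunctor C j').obj (Injective.under M) :=
    ((singleFunctors C).shiftIso 1 j' j (by lia)).app _
  have h1 : (f ≫ e.inv) ≫ (triangleOfSES hS').mor₁⟦(1 : ℤ)⟧' = 0 := by
    have : ((f ≫ e.inv) ≫ (triangleOfSES hS').mor₁⟦(1 : ℤ)⟧') ≫ eI.hom = 0 :=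
      to_single_injective_eq_zero j' j (by lia) X _
    exact (cancel_mono eI.hom).1 (this.trans zero_comp.symm)
  obtain ⟨g, hg⟩ := Triangle.coyoneda_exact₁ _ hT (f ≫ e.inv) h1
  have hg0 : g = 0 := h _ g
  rw [hg0, zero_comp] at hg
  exact (cancel_mono e.inv).1 (hg.trans zero_comp.symm)

omit [EnoughProjectives C] in
lemma extVanish_of_hom_single_eq_zero [EnoughInjectives C] (X : DerivedCategory C) (a : ℤ)
    [X.IsGE a] (h : ∀ (M : C) (f : X ⟶ (singleFunctor C a).obj M), f = 0) :
    ExtVanish X (a + 1) := by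
  have key : ∀ (k : ℕ) (j : ℤ), j + k = a → ∀ (M : C) (f : X ⟶ (singleFunctor C j).obj M),
      f = 0 := by
    intro k
    induction k with
    | zero =>
      intro j hj
      obtain rfl : j = a := by simpa using hj
      exact h
    | succ k ih =>
      intro j hj
      have : X.IsGE (j + 1) := TStructure.t.isGE_of_ge X (j + 1) a (by push_cast at hj; lia)
      exact hom_single_eq_zero_pred X (j + 1) j rfl (ih (j + 1) (by push_cast at hj; lia))
  intro M j hj f
  exact key (a - j).toNat j (by have := Int.toNat_of_nonneg (show 0 ≤ a - j by lia); lia) M f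

omit [EnoughProjectives C] in
/-- a map `τ_{≥n} K ⟶ M[-a]` (with `n ≤ a + 1`) is determined by its restriction to `K`. -/
lemma hom_truncGE_single_eq_zero_of_precomp (K : DerivedCategory C) (n a : ℤ) (hn : n ≤ a + 1)
    (M : C) (f : (TStructure.t.truncGE n).obj K ⟶ (singleFunctor C a).obj M)
    (h : (TStructure.t.truncGEπ n).app K ≫ f = 0) : f = 0 := by
  let t : TStructure (DerivedCategory C) := TStructure.t
  have hT := t.triangleLTGE_distinguished n K
  obtain ⟨w, hw⟩ := Triangle.yoneda_exact₃ _ hT f h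
  have hw0 : w = 0 := by
    refine t.zero_of_isLE_of_isGE w (n - 2) a (by lia) ?_ inferInstance
    have : t.IsLE ((t.truncLT n).obj K) (n - 1) := t.isLE_truncLT_obj K n (n - 1)
    exact t.isLE_shift ((t.truncLT n).obj K) (n - 1) 1 (n - 2)
  rw [hw, hw0]; exact comp_zero

omit [EnoughProjectives C] in
/-- the connecting map of the truncation triangle vanishes when the right truncation has
projective amplitude in higher degrees -/
lemma truncation_mor₃_eq_zero (K : DerivedCategory C) (n c b : ℤ) (hc : n ≤ c + 1)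
    (hP : HasProjAmp ((TStructure.t.truncGE n).obj K) c b) :
    ((TStructure.t.triangleLTGE n).obj K).mor₃ = 0 := by
  let t : TStructure (DerivedCategory C) := TStructure.t
  obtain ⟨P, h1, h2, ⟨e⟩⟩ := hP
  have hle : t.IsLE ((shiftFunctor (DerivedCategory C) (1 : ℤ)).obj
      ((t.triangleLTGE n).obj K).obj₁) (n - 2) := by
    have : t.IsLE ((t.truncLT n).obj K) (n - 1) := t.isLE_truncLT_obj K n (n - 1)
    exact t.isLE_shift ((t.truncLT n).obj K) (n - 1) 1 (n - 2)
  have h0 : e.hom ≫ ((t.triangleLTGE n).obj K).mor₃ = 0 :=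
    KProj.from_projective_eq_zero P c b (n - 2) (by lia) (fun i hi => h1 i (Or.inl hi))
      (fun i hi => h1 i (Or.inr hi)) h2 _ _
  exact (cancel_epi e.hom).1 (h0.trans comp_zero.symm)

end Groth.Agent.Lib.Helper84.ProjAmp

namespace Groth.Agent.Lib.Helper84.ProjAmp

open Groth.Agent.Lib.Helper84.DerivedT Groth.Agent.Lib.Helper84

variable {C : Type u} [Category.{v} C] [Abelian C] [HasDerivedCategory.{w} C]

/-- `H^n(K)` vanishes as soon as every morphism `K ⟶ I[-n]` with `I` injective vanishes. -/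
lemma isZero_homology_of_hom_single_injective_eq_zero [EnoughInjectives C] (K : DerivedCategory C)
    (n : ℤ) (h : ∀ (I : C) [Injective I] (f : K ⟶ (singleFunctor C n).obj I), f = 0) :
    IsZero ((homologyFunctor C n).obj K) := by
  let t : TStructure (DerivedCategory C) := TStructure.t
  set B := (t.truncGE n).obj K with hB
  have hBge : t.IsGE B n := inferInstance
  set A := (t.truncLT (n + 1)).obj B with hA
  have hA1 : t.IsLE A n := t.isLE_truncLT_obj B (n + 1) n
  have hA2 : t.IsGE A n := inferInstance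
  obtain ⟨M, ⟨eA⟩⟩ := exists_iso_singleFunctor_obj_of_isGE_of_isLE A n
  have h1 := isIso_homologyMap_truncLTι B (n + 1) n (by lia)
  have h2 := isIso_homologyMap_truncGEπ K n n le_rfl
  let eM : (homologyFunctor C n).obj K ≅ M :=
    asIso ((homologyFunctor C n).map ((t.truncGEπ n).app K)) ≪≫
      (asIso ((homologyFunctor C n).map ((t.truncLTι (n + 1)).app B))).symm ≪≫
      (homologyFunctor C n).mapIso eA ≪≫ (singleFunctorCompHomologyFunctorIso C n).app M
  refine IsZero.of_iso ?_ eM
  let I₀ := Injective.under M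
  let j : M ⟶ I₀ := Injective.ι M
  let φ₀ : A ⟶ (singleFunctor C n).obj I₀ := eA.hom ≫ (singleFunctor C n).map j
  have hT := t.triangleLTGE_distinguished (n + 1) B
  have hT' := inv_rot_of_distTriang _ hT
  have h0 : ((t.triangleLTGE (n + 1)).obj B).invRotate.mor₁ ≫ φ₀ = 0 := by
    have hB' : (((t.truncGE (n + 1)).obj B)⟦(-1 : ℤ)⟧).IsGE (n + 2) :=
      t.isGE_shift ((t.truncGE (n + 1)).obj B) (n + 1) (-1) (n + 2)
    haveI : (((t.triangleLTGE (n + 1)).obj B).invRotate.obj₁).IsGE (n + 2) := hB'
    exact to_single_injective_eq_zero n (n + 2) (by lia) _ _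
  obtain ⟨ψ₀, hψ₀⟩ := Triangle.yoneda_exact₂ _ hT' φ₀ h0
  let ψ : B ⟶ (singleFunctor C n).obj I₀ := ψ₀
  have hψ : φ₀ = (t.truncLTι (n + 1)).app B ≫ ψ := hψ₀
  have hψ0 : ψ = 0 :=
    hom_truncGE_single_eq_zero_of_precomp K n n (by lia) I₀ ψ (h I₀ _)
  have hφ₀ : φ₀ = 0 := by rw [hψ, hψ0, comp_zero]
  have hj : (singleFunctor C n).map j = 0 :=
    (cancel_epi eA.hom).1 (hφ₀.trans comp_zero.symm)
  have hj0 : j = 0 := (singleFunctor C n).map_injective (hj.trans (Functor.map_zero _ _ _).symm)
  rw [IsZero.iff_id_eq_zero]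
  exact (cancel_mono j).1 (by rw [Category.id_comp, zero_comp, hj0])

end Groth.Agent.Lib.Helper84.ProjAmp
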