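import Groth.Agent.Lib.Helper84.DerivedT
import Groth.Agent.Lib.Helper84.ProjAmp

/-!
# Morphisms from a projective object placed in one degree (helper84)

For a projective object `P` of an abelian category `C` and `Y : D(C)`, morphisms
`P[-j] ⟶ Y` in `D(C)` correspond bijectively to morphisms `P ⟶ H^j(Y)`.
-/

set_option autoImplicit false
universe w v u

open CategoryTheory CategoryTheory.Limits CategoryTheory.Pretriangulated CategoryTheory.Triangulated
open DerivedCategory

namespace Groth.Agent.Lib.Helper84.HomPart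

open Groth.Agent.Lib.Helper84.DerivedT Groth.Agent.Lib.Helper84

variable {C : Type u} [Category.{v} C] [Abelian C] [HasDerivedCategory.{w} C]

/-- the map induced on `H^j` by a morphism `P[-j] ⟶ Y` -/
noncomputable def homPart {P : C} {j : ℤ} {Y : DerivedCategory C}
    (φ : (singleFunctor C j).obj P ⟶ Y) : P ⟶ (homologyFunctor C j).obj Y :=
  (singleFunctorCompHomologyFunctorIso C j).inv.app P ≫ (homologyFunctor C j).map φ

lemma homPart_zero {P : C} {j : ℤ} {Y : DerivedCategory C} :
    homPart (0 : (singleFunctor C j).obj P ⟶ Y) = 0 := by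
  simp [homPart]

lemma homPart_sub {P : C} {j : ℤ} {Y : DerivedCategory C}
    (φ ψ : (singleFunctor C j).obj P ⟶ Y) : homPart (φ - ψ) = homPart φ - homPart ψ := by
  simp [homPart, Functor.map_sub]

lemma homPart_map_comp {P P' : C} (u : P ⟶ P') {j : ℤ} {Y : DerivedCategory C}
    (φ : (singleFunctor C j).obj P' ⟶ Y) :
    homPart ((singleFunctor C j).map u ≫ φ) = u ≫ homPart φ := by
  have := (singleFunctorCompHomologyFunctorIso C j).inv.naturality u
  dsimp at this
  simp only [homPart, Functor.map_comp]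
  rw [← Category.assoc, ← this, Category.assoc]

lemma homPart_comp {P : C} {j : ℤ} {Y Y' : DerivedCategory C}
    (φ : (singleFunctor C j).obj P ⟶ Y) (g : Y ⟶ Y') :
    homPart (φ ≫ g) = homPart φ ≫ (homologyFunctor C j).map g := by
  simp [homPart]

/-- injectivity of `homPart` for projective `P` -/
lemma eq_zero_of_homPart_eq_zero {P : C} [Projective P] {j : ℤ} {Y : DerivedCategory C}
    (φ : (singleFunctor C j).obj P ⟶ Y) (h : homPart φ = 0) : φ = 0 := by
  let t : TStructure (DerivedCategory C) := TStructure.t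
  have hH : (homologyFunctor C j).map φ = 0 := by
    have : (singleFunctorCompHomologyFunctorIso C j).inv.app P ≫ (homologyFunctor C j).map φ = 0 := h
    exact (cancel_epi _).1 (this.trans comp_zero.symm)
  -- factor through `τ_{<j+1} Y`
  have hT := t.triangleLTGE_distinguished (j + 1) Y
  set U := (t.truncLT (j + 1)).obj Y with hU
  have h1 : φ ≫ (t.truncGEπ (j + 1)).app Y = 0 :=
    t.zero_of_isLE_of_isGE _ j (j + 1) (by lia) inferInstance inferInstance
  obtain ⟨φ', hφ'⟩ : ∃ φ' : (singleFunctor C j).obj P ⟶ (t.truncLT (j + 1)).obj Y,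
      φ = φ' ≫ (t.truncLTι (j + 1)).app Y := Triangle.coyoneda_exact₂ _ hT φ h1
  have hι := isIso_homologyMap_truncLTι Y (j + 1) j (by lia)
  have hH' : (homologyFunctor C j).map φ' = 0 := by
    rw [hφ', Functor.map_comp] at hH
    exact (cancel_mono ((homologyFunctor C j).map ((t.truncLTι (j + 1)).app Y))).1
      (hH.trans zero_comp.symm)
  have hUle : t.IsLE U j := t.isLE_truncLT_obj Y (j + 1) j
  have hT2 := t.triangleLTGE_distinguished j U
  have hBle : t.IsLE ((t.truncGE j).obj U) j := inferInstance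
  have hBge : t.IsGE ((t.truncGE j).obj U) j := inferInstance
  have h2 : φ' ≫ (t.truncGEπ j).app U = 0 := by
    haveI : ((singleFunctor C j).obj P).IsLE j := inferInstance
    haveI : ((t.truncGE j).obj U).IsGE j := hBge
    apply eq_zero_of_homologyMap_eq_zero j
    rw [Functor.map_comp, hH', zero_comp]
  obtain ⟨φ'', hφ''⟩ : ∃ φ'' : (singleFunctor C j).obj P ⟶ (t.truncLT j).obj U,
      φ' = φ'' ≫ (t.truncLTι j).app U := Triangle.coyoneda_exact₂ _ hT2 φ' h2
  have hle : t.IsLE ((t.truncLT j).obj U) (j - 1) := t.isLE_truncLT_obj U j (j - 1)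
  have h3 : φ'' = 0 := by
    haveI : ((t.truncLT j).obj U).IsLE (j - 1) := hle
    exact from_single_projective_eq_zero j (j - 1) (by lia) _ _
  rw [hφ', hφ'', h3, zero_comp, zero_comp]

lemma eq_of_homPart_eq {P : C} [Projective P] {j : ℤ} {Y : DerivedCategory C}
    (φ ψ : (singleFunctor C j).obj P ⟶ Y) (h : homPart φ = homPart ψ) : φ = ψ := by
  have := eq_zero_of_homPart_eq_zero (φ - ψ) (by rw [homPart_sub, h, sub_self])
  exact sub_eq_zero.1 this

/-- surjectivity of `homPart` for projective `P` -/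
lemma exists_homPart_eq {P : C} [Projective P] (j : ℤ) (Y : DerivedCategory C)
    (g : P ⟶ (homologyFunctor C j).obj Y) :
    ∃ φ : (singleFunctor C j).obj P ⟶ Y, homPart φ = g := by
  let t : TStructure (DerivedCategory C) := TStructure.t
  set U := (t.truncLT (j + 1)).obj Y with hU
  have hUle : t.IsLE U j := t.isLE_truncLT_obj Y (j + 1) j
  have hι := isIso_homologyMap_truncLTι Y (j + 1) j (by lia)
  have hBle : t.IsLE ((t.truncGE j).obj U) j := inferInstance
  have hBge : t.IsGE ((t.truncGE j).obj U) j := inferInstance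
  obtain ⟨N, ⟨eB⟩⟩ := exists_iso_singleFunctor_obj_of_isGE_of_isLE ((t.truncGE j).obj U) j
  have hπ := isIso_homologyMap_truncGEπ U j j le_rfl
  let u₁ : P ⟶ N := g ≫ inv ((homologyFunctor C j).map ((t.truncLTι (j + 1)).app Y)) ≫
    (homologyFunctor C j).map ((t.truncGEπ j).app U) ≫ (homologyFunctor C j).map eB.hom ≫
      (singleFunctorCompHomologyFunctorIso C j).hom.app N
  let β : (singleFunctor C j).obj P ⟶ (t.truncGE j).obj U := (singleFunctor C j).map u₁ ≫ eB.inv
  have hT := t.triangleLTGE_distinguished j U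
  have hβ : β ≫ ((t.triangleLTGE j).obj U).mor₃ = 0 := by
    have : t.IsLE ((shiftFunctor (DerivedCategory C) (1 : ℤ)).obj
        ((t.triangleLTGE j).obj U).obj₁) (j - 2) := by
      have : t.IsLE ((t.truncLT j).obj U) (j - 1) := t.isLE_truncLT_obj U j (j - 1)
      exact t.isLE_shift ((t.truncLT j).obj U) (j - 1) 1 (j - 2)
    exact from_single_projective_eq_zero j (j - 2) (by lia) _ _
  obtain ⟨ũ, hũ⟩ : ∃ ũ : (singleFunctor C j).obj P ⟶ U, β = ũ ≫ (t.truncGEπ j).app U :=
    Triangle.coyoneda_exact₃ _ hT β hβ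
  refine ⟨ũ ≫ (t.truncLTι (j + 1)).app Y, ?_⟩
  rw [homPart_comp]
  have h1 : homPart β = homPart ũ ≫ (homologyFunctor C j).map ((t.truncGEπ j).app U) := by
    rw [hũ, homPart_comp]
  have h2 : homPart β = u₁ ≫ (singleFunctorCompHomologyFunctorIso C j).inv.app N ≫
      (homologyFunctor C j).map eB.inv := by
    dsimp only [β]
    rw [homPart_map_comp, homPart]
  have h3 : homPart ũ = g ≫ inv ((homologyFunctor C j).map ((t.truncLTι (j + 1)).app Y)) := by
    rw [← cancel_mono ((homologyFunctor C j).map ((t.truncGEπ j).app U)), ← h1, h2]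
    dsimp only [u₁]
    simp only [Category.assoc, Iso.hom_inv_id_app_assoc]
    rw [← Functor.map_comp, Iso.hom_inv_id, CategoryTheory.Functor.map_id, Category.comp_id]
  rw [h3, Category.assoc, IsIso.inv_hom_id, Category.comp_id]

end Groth.Agent.Lib.Helper84.HomPart
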