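import Groth.Agent.Lib.Helper84.ToSingle
import Mathlib

/-!
# From a cochain complex in degrees `≤ 0` quasi-isomorphic to `M[0]` to a projective resolution
-/

set_option autoImplicit false
universe w v u

open CategoryTheory CategoryTheory.Limits HomologicalComplex

namespace Groth.Agent.Lib.Helper84.FinRes

variable {C : Type u} [Category.{v} C] [Abelian C]

section

variable (E : CochainComplex C ℤ) {M : C} (z : E.X 0 ⟶ M) (hz : E.d (-1) 0 ≫ z = 0)

/-- the `ℕ`-indexed chain complex `n ↦ E^{-n}` -/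
noncomputable def P : ChainComplex C ℕ := E.restriction ComplexShape.embeddingDownNat

noncomputable def xIso (n : ℕ) (i : ℤ) (h : -(n : ℤ) = i) : (P E).X n ≅ E.X i :=
  E.restrictionXIso ComplexShape.embeddingDownNat h

lemma P_d (n m : ℕ) (i j : ℤ) (hi : -(n : ℤ) = i) (hj : -(m : ℤ) = j) :
    (P E).d n m = (xIso E n i hi).hom ≫ E.d i j ≫ (xIso E m j hj).inv :=
  E.restriction_d_eq ComplexShape.embeddingDownNat hi hj

noncomputable def π : P E ⟶ (ChainComplex.single₀ C).obj M :=
  (ChainComplex.toSingle₀Equiv _ _).symm ⟨(xIso E 0 0 (by simp)).hom ≫ z, by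
    rw [P_d E 1 0 (-1) 0 (by simp) (by simp)]
    simp [hz]⟩

/-- `singleObjXSelf` with the `CochainComplex.singleFunctor` type -/
noncomputable def sIso (M : C) : ((CochainComplex.singleFunctor C 0).obj M).X 0 ≅ M :=
  HomologicalComplex.singleObjXSelf (ComplexShape.up ℤ) 0 M

lemma toSingleHom_f_zero :
    (ToSingle.toSingleHom E (by norm_num : (-1 : ℤ) + 1 = 0) z hz).f 0 =
      z ≫ (sIso M).inv := by
  simp [ToSingle.toSingleHom, CochainComplex.HomComplex.Cocycle.homOf_f,
    CochainComplex.HomComplex.Cocycle.toSingleMk, sIso]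
  rfl

variable (hE : ∀ i : ℤ, 0 < i → IsZero (E.X i))
  (hq : QuasiIso (ToSingle.toSingleHom E (by norm_num : (-1 : ℤ) + 1 = 0) z hz))

include hq in
lemma exactAt_neg (i : ℤ) (hi : i ≠ 0) : E.ExactAt i := by
  have h1 : QuasiIsoAt (ToSingle.toSingleHom E (by norm_num : (-1 : ℤ) + 1 = 0) z hz) i :=
    inferInstance
  have h2 : ((CochainComplex.singleFunctor C 0).obj M).ExactAt i :=
    exactAt_single_obj (ComplexShape.up ℤ) 0 M i hi
  exact (quasiIsoAt_iff_exactAt' _ _ h2).mp h1

include hq in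
lemma exactAt_succ (n : ℕ) : (P E).ExactAt (n + 1) := by
  rw [exactAt_iff_isZero_homology]
  have hex := exactAt_neg E z hz hq (-((n : ℤ) + 1)) (by omega)
  rw [exactAt_iff_isZero_homology] at hex
  refine IsZero.of_iso hex (restrictionHomologyIso E ComplexShape.embeddingDownNat (n + 2) (n + 1) n
    (by simp) (by simp) (i' := -((n : ℤ) + 2)) (j' := -((n : ℤ) + 1)) (k' := -(n : ℤ))
    (by simp) (by simp) (by simp) (by simp; ring) (by simp))

include hE hq in
lemma exact_and_epi :
    (ShortComplex.mk (E.d (-1) 0) z hz).Exact ∧ Epi z := by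
  have h1 : QuasiIsoAt (ToSingle.toSingleHom E (by norm_num : (-1 : ℤ) + 1 = 0) z hz) 0 :=
    inferInstance
  rw [quasiIsoAt_iff' _ (-1) 0 1 (by simp) (by simp),
    ShortComplex.quasiIso_iff_of_zeros' _ ((hE 1 (by norm_num)).eq_of_tgt _ _)
      rfl rfl] at h1
  obtain ⟨h2, h3⟩ := h1
  change Epi ((ToSingle.toSingleHom E (by norm_num : (-1 : ℤ) + 1 = 0) z hz).f 0) at h3
  rw [toSingleHom_f_zero] at h3
  constructor
  · refine (ShortComplex.exact_iff_of_iso ?_).mp h2
    refine ShortComplex.isoMk (Iso.refl _) (Iso.refl _) (sIso M) ?_ ?_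
    · change 𝟙 (E.X (-1)) ≫ E.d (-1) 0 = E.d (-1) 0 ≫ 𝟙 (E.X 0)
      simp
    · change 𝟙 (E.X 0) ≫ z =
        (ToSingle.toSingleHom E (by norm_num : (-1 : ℤ) + 1 = 0) z hz).f 0 ≫ _
      rw [toSingleHom_f_zero, Category.id_comp, Category.assoc, Iso.inv_hom_id, Category.comp_id]
  · have : z = (z ≫ (sIso M).inv) ≫ (sIso M).hom := by
      rw [Category.assoc, Iso.inv_hom_id, Category.comp_id]
    rw [this]
    exact @epi_comp _ _ _ _ _ _ h3 _ inferInstance

lemma π_f_zero : (π E z hz).f 0 = (xIso E 0 0 (by simp)).hom ≫ z :=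
  ChainComplex.toSingle₀Equiv_symm_apply_f_zero _ _

include hE hq in
theorem quasiIso_π : QuasiIso (π E z hz) := by
  refine ⟨fun n => ?_⟩
  cases n with
  | zero =>
    rw [ChainComplex.quasiIsoAt₀_iff, ShortComplex.quasiIso_iff_of_zeros' _ ?_ rfl rfl]
    · obtain ⟨h2, h3⟩ := exact_and_epi E z hz hE hq
      constructor
      · refine (ShortComplex.exact_iff_of_iso ?_).mpr h2
        refine ShortComplex.isoMk (xIso E 1 (-1) (by simp)) (xIso E 0 0 (by simp)) (Iso.refl _)
          ?_ ?_
        · change (xIso E 1 (-1) (by simp)).hom ≫ E.d (-1) 0 =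
            (P E).d 1 0 ≫ (xIso E 0 0 (by simp)).hom
          rw [P_d E 1 0 (-1) 0 (by simp) (by simp)]
          simp
        · change (xIso E 0 0 (by simp)).hom ≫ z = (π E z hz).f 0 ≫ 𝟙 _
          rw [π_f_zero, Category.comp_id]
      · change Epi ((π E z hz).f 0)
        rw [π_f_zero]
        exact @epi_comp _ _ _ _ _ _ inferInstance _ h3
    · change (P E).d 0 0 = 0
      exact (P E).shape _ _ (by simp)
  | succ n =>
    rw [quasiIsoAt_iff_exactAt' _ _ (ChainComplex.exactAt_succ_single_obj _ _)]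
    exact exactAt_succ E z hz hq n

/-- the projective resolution -/
noncomputable def res [∀ i, Projective (E.X i)] : ProjectiveResolution M where
  complex := P E
  projective _ := (inferInstance : Projective (E.X _))
  π := π E z hz
  quasiIso := quasiIso_π E z hz hE hq

end

end Groth.Agent.Lib.Helper84.FinRes
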