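import Groth.Agent.Lib.Helper84.BProj
import Groth.Agent.Lib.Helper84.DRingPerf

/-!
# Trimming a bounded complex of finite projective modules from above (helper84)

If `P` is a complex of finite projective modules in degrees `[a, m]` and `P` is cohomologically
`≤ n`, then `P` is quasi-isomorphic to a complex of finite projective modules in degrees `[a, n]`.
-/

set_option autoImplicit false
universe u

open CategoryTheory CategoryTheory.Limits CategoryTheory.Pretriangulated DerivedCategory
open DRing

attribute [local instance] HasDerivedCategory.standard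

namespace Groth.Agent.Lib.Helper84.TrimFP

variable {R : Type u} [CommRing R]

/-- the cycles in degree `n` are a retract of `P^n` when `P^n → P^{n+1}` is an epimorphism onto a
projective object -/
lemma exists_retract_cycles (P : Cx R) (n : ℤ) [Projective (P.X (n + 1))]
    [Epi (P.d n (n + 1))] :
    ∃ r : P.X n ⟶ P.cycles n, P.iCycles n ≫ r = 𝟙 _ := by
  let d := P.d n (n + 1)
  let s : P.X (n + 1) ⟶ P.X n := Projective.factorThru (𝟙 _) d
  have hs : s ≫ d = 𝟙 _ := Projective.factorThru_comp _ _
  have h0 : (𝟙 (P.X n) - d ≫ s) ≫ P.d n (n + 1) = 0 := by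
    change (𝟙 (P.X n) - d ≫ s) ≫ d = 0
    rw [Preadditive.sub_comp, Category.id_comp, Category.assoc, hs, Category.comp_id, sub_self]
  let r : P.X n ⟶ P.cycles n := P.liftCycles (𝟙 (P.X n) - d ≫ s) (n + 1) (by simp) h0
  have hr : r ≫ P.iCycles n = 𝟙 (P.X n) - d ≫ s := P.liftCycles_i _ _ _ _
  refine ⟨r, ?_⟩
  rw [← cancel_mono (P.iCycles n), Category.assoc, hr, Preadditive.comp_sub, Category.comp_id,
    Category.id_comp]
  have : P.iCycles n ≫ d = 0 := P.iCycles_d n (n + 1)
  rw [reassoc_of% this, zero_comp, sub_zero]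

lemma finiteProjective_of_retract {Z P : ModuleCat.{u} R} (ι : Z ⟶ P) (ρ : P ⟶ Z)
    (h : ι ≫ ρ = 𝟙 Z) (hP : Module.Finite R P ∧ Module.Projective R P) :
    Module.Finite R Z ∧ Module.Projective R Z := by
  obtain ⟨h1, h2⟩ := hP
  have hs : ρ.hom ∘ₗ ι.hom = LinearMap.id := by
    have := congrArg ModuleCat.Hom.hom h
    simpa using this
  have hsurj : Function.Surjective ρ.hom := fun z => ⟨ι.hom z, LinearMap.congr_fun hs z⟩
  exact ⟨Module.Finite.of_surjective ρ.hom hsurj,
    Module.Projective.of_split ι.hom ρ.hom hs⟩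

lemma finiteProjective_of_isZero {M : ModuleCat.{u} R} (h : IsZero M) :
    Module.Finite R M ∧ Module.Projective R M := by
  haveI := ModuleCat.isZero_iff_subsingleton.1 h
  exact ⟨inferInstance, inferInstance⟩

lemma exists_trim_step (P : Cx R) (a n : ℤ) (h1 : VanishesOutside P a (n + 1))
    (h2 : TermwiseFiniteProjective P) [P.IsLE n] :
    ∃ P' : Cx R, VanishesOutside P' a n ∧ TermwiseFiniteProjective P' ∧
      Nonempty (toD P' ≅ toD P) := by
  haveI : QuasiIso (P.ιTruncLE n) := (P.quasiIso_ιTruncLE_iff n).2 inferInstance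
  haveI : IsIso (Q.map (P.ιTruncLE n)) := by
    rw [isIso_Q_map_iff_quasiIso]
    infer_instance
  refine ⟨P.truncLE n, ?_, ?_, ⟨asIso (Q.map (P.ιTruncLE n))⟩⟩
  · intro i hi
    rcases lt_trichotomy i n with hlt | rfl | hgt
    · have hia : i < a := by
        rcases hi with hi | hi
        · exact hi
        · lia
      exact IsZero.of_iso (h1 i (Or.inl hia)) (P.truncLEXIso n i hlt)
    · have hia : i < a := by
        rcases hi with hi | hi
        · exact hi
        · exact absurd hi (lt_irrefl _)
      exact IsZero.of_iso (IsZero.of_mono (P.iCycles i) (h1 i (Or.inl hia)))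
        (P.truncLEXIsoCycles i)
    · exact CochainComplex.isZero_of_isStrictlyLE _ n i hgt
  · intro i
    rcases lt_trichotomy i n with hlt | rfl | hgt
    · exact DRingPerf.finiteProjective_of_iso (P.truncLEXIso n i hlt).symm (h2 i)
    · haveI : Projective (P.X (i + 1)) := DRingPerf.projective_of_finiteProjective (h2 (i + 1))
      haveI : Epi (P.d i (i + 1)) := by
        have hex := (P.exactAt_iff' i (i + 1) (i + 1 + 1) (by simp) (by simp)).1
          (P.exactAt_of_isLE i (i + 1))
        exact hex.epi_f ((h1 (i + 1 + 1) (Or.inr (by lia))).eq_of_tgt _ _)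
      obtain ⟨r, hr⟩ := exists_retract_cycles P i
      exact DRingPerf.finiteProjective_of_iso (P.truncLEXIsoCycles i).symm
        (finiteProjective_of_retract (P.iCycles i) r hr (h2 i))
    · exact finiteProjective_of_isZero (CochainComplex.isZero_of_isStrictlyLE _ n i hgt)

lemma exists_trim_aux (k : ℕ) : ∀ (P : Cx R) (a n : ℤ), VanishesOutside P a (n + k) →
    TermwiseFiniteProjective P → P.IsLE n →
    ∃ P' : Cx R, VanishesOutside P' a n ∧ TermwiseFiniteProjective P' ∧
      Nonempty (toD P' ≅ toD P) := by
  induction k with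
  | zero =>
    intro P a n h1 h2 _
    exact ⟨P, by simpa using h1, h2, ⟨Iso.refl _⟩⟩
  | succ k ih =>
    intro P a n h1 h2 h3
    haveI : P.IsLE (n + k) := by
      haveI := h3
      exact CochainComplex.isLE_of_le P n (n + k) (by lia)
    obtain ⟨P₁, h1', h2', ⟨e₁⟩⟩ := exists_trim_step P a (n + k) (by
      intro i hi
      apply h1 i
      rcases hi with hi | hi
      · exact Or.inl hi
      · exact Or.inr (by push_cast; lia)) h2
    haveI : P₁.IsLE n := by
      rw [← DerivedCategory.isLE_Q_obj_iff]
      haveI : (Q.obj P).IsLE n := (DerivedCategory.isLE_Q_obj_iff P n).2 h3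
      exact TStructure.t.isLE_of_iso e₁.symm n
    obtain ⟨P₂, h1'', h2'', ⟨e₂⟩⟩ := ih P₁ a n h1' h2' inferInstance
    exact ⟨P₂, h1'', h2'', ⟨e₂ ≪≫ e₁⟩⟩

/-- trimming: a finite projective complex in degrees `[a, m]` which is cohomologically `≤ n` has a
finite projective representative in degrees `[a, n]` -/
theorem exists_trim (P : Cx R) (a m n : ℤ) (h1 : VanishesOutside P a m)
    (h2 : TermwiseFiniteProjective P) [(toD P).IsLE n] :
    ∃ P' : Cx R, VanishesOutside P' a n ∧ TermwiseFiniteProjective P' ∧
      Nonempty (toD P' ≅ toD P) := by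
  haveI : P.IsLE n := (DerivedCategory.isLE_Q_obj_iff P n).1 inferInstance
  refine exists_trim_aux (m - n).toNat P a n ?_ h2 inferInstance
  intro i hi
  apply h1 i
  rcases hi with hi | hi
  · exact Or.inl hi
  · right
    have := Int.self_le_toNat (m - n)
    lia

end Groth.Agent.Lib.Helper84.TrimFP
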