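import Groth.Prelude.Def_Flat
import Mathlib.Topology.KrullDimension
import Mathlib.Topology.NoetherianSpace
import Mathlib.Topology.Semicontinuity.Basic

set_option autoImplicit false
universe u

namespace Groth.Agent.Lib.Helper84

open TopologicalSpace Order

variable {X : Type*} [TopologicalSpace X]

/-- A chain of irreducible closed subsets whose smallest member meets the open set `U`
restricts to a chain of the same length in `U`. -/
theorem length_le_dim_of_isOpen (U : Set X) (hU : IsOpen U)
    (p : LTSeries (IrreducibleCloseds X)) (hp : ((p.head : Set X) ∩ U).Nonempty) :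
    (p.length : WithBot ℕ∞) ≤ topologicalKrullDim U := by
  have hemb : Topology.IsOpenEmbedding (Subtype.val : U → X) := hU.isOpenEmbedding_subtypeVal
  let e := IrreducibleCloseds.orderIsoOfIsOpenEmbedding (Subtype.val : U → X) hemb
  have hne : ∀ j, ((Subtype.val : U → X) ⁻¹' (p j : Set X)).Nonempty := by
    intro j
    obtain ⟨x, hx1, hx2⟩ := hp
    exact ⟨⟨x, hx2⟩, p.head_le j hx1⟩
  let q : LTSeries (IrreducibleCloseds U) :=
    LTSeries.mk p.length (fun j => e.symm ⟨p j, hne j⟩) (by
      intro i j hij
      apply e.symm.strictMono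
      exact p.strictMono hij)
  exact q.length_le_krullDim

/-- The preimage of a preirreducible subset of the range under an inducing map. -/
theorem isPreirreducible_preimage_val (Y : Set X) (S : Set X) (hS : IsPreirreducible S)
    (hSY : S ⊆ Y) : IsPreirreducible ((Subtype.val : Y → X) ⁻¹' S) := by
  intro u v hu hv hu' hv'
  obtain ⟨u', hu'o, rfl⟩ := isOpen_induced_iff.1 hu
  obtain ⟨v', hv'o, rfl⟩ := isOpen_induced_iff.1 hv
  obtain ⟨a, ha1, ha2⟩ := hu'
  obtain ⟨b, hb1, hb2⟩ := hv'
  obtain ⟨s, hs, hsu, hsv⟩ := hS u' v' hu'o hv'o ⟨a.1, ha1, ha2⟩ ⟨b.1, hb1, hb2⟩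
  exact ⟨⟨s, hSY hs⟩, hs, hsu, hsv⟩

/-- A chain of irreducible closed subsets all contained in `Y` gives a chain in `Y`. -/
theorem length_le_dim_of_subset (Y : Set X)
    (p : LTSeries (IrreducibleCloseds X)) (hp : (p.last : Set X) ⊆ Y) :
    (p.length : WithBot ℕ∞) ≤ topologicalKrullDim Y := by
  have hsub : ∀ j, (p j : Set X) ⊆ Y := fun j =>
    (show (p j : Set X) ⊆ p.last from p.monotone (Fin.le_last j)).trans hp
  let q : LTSeries (IrreducibleCloseds Y) :=
    LTSeries.mk p.length (fun j =>
      { carrier := (Subtype.val : Y → X) ⁻¹' (p j : Set X)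
        isIrreducible' := by
          refine ⟨?_, isPreirreducible_preimage_val Y _ (p j).isIrreducible.isPreirreducible
            (hsub j)⟩
          obtain ⟨x, hx⟩ := (p j).isIrreducible.nonempty
          exact ⟨⟨x, hsub j hx⟩, hx⟩
        isClosed' := (p j).isClosed.preimage continuous_subtype_val }) (by
      intro i j hij
      have hlt : p i < p j := p.strictMono hij
      refine lt_of_le_of_ne ?_ ?_
      · intro x hx
        exact hlt.le hx
      · intro heq
        apply hlt.ne
        apply IrreducibleCloseds.ext
        have h1 : (Subtype.val : Y → X) ⁻¹' (p i : Set X) =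
            (Subtype.val : Y → X) ⁻¹' (p j : Set X) :=
          congrArg (fun Z : IrreducibleCloseds Y => (Z : Set Y)) heq
        have h2 := congrArg (fun Z => (Subtype.val : Y → X) '' Z) h1
        simp only [Subtype.image_preimage_coe] at h2
        rwa [Set.inter_eq_right.2 (hsub i), Set.inter_eq_right.2 (hsub j)] at h2)
  exact q.length_le_krullDim

theorem localDim_le_dim (x : X) : FlatMor.localDim X x ≤ topologicalKrullDim X := by
  unfold FlatMor.localDim
  refine (iInf_le _ ⟨⊤, trivial⟩).trans ?_
  exact topologicalKrullDim_subspace_le X _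

theorem length_le_localDim (p : LTSeries (IrreducibleCloseds X)) (x : X)
    (hx : x ∈ (p.head : Set X)) : (p.length : WithBot ℕ∞) ≤ FlatMor.localDim X x := by
  unfold FlatMor.localDim
  refine le_iInf fun U => ?_
  exact length_le_dim_of_isOpen (U.1 : Set X) U.1.isOpen p ⟨x, hx, U.2⟩

/-- An irreducible set covered by finitely many closed sets of an indexed family lies in one. -/
theorem exists_subset_of_finite_closed_cover {ι : Type*} (F : Set ι) (hF : F.Finite)
    (Y : ι → Set X) (hY : ∀ i ∈ F, IsClosed (Y i)) (S : Set X) (hS : IsIrreducible S)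
    (hcov : S ⊆ ⋃ i ∈ F, Y i) : ∃ i ∈ F, S ⊆ Y i := by
  classical
  let t : Finset (Set X) := hF.toFinset.image Y
  have h1 : ∀ z ∈ t, IsClosed z := by
    intro z hz
    obtain ⟨i, hi, rfl⟩ := Finset.mem_image.1 hz
    exact hY i (hF.mem_toFinset.1 hi)
  have h2 : S ⊆ ⋃₀ (↑t : Set (Set X)) := by
    intro x hx
    obtain ⟨i, hi, hxi⟩ := Set.mem_iUnion₂.1 (hcov hx)
    exact Set.mem_sUnion.2 ⟨Y i, Finset.mem_coe.2 (Finset.mem_image.2
      ⟨i, hF.mem_toFinset.2 hi, rfl⟩), hxi⟩
  obtain ⟨z, hz, hSz⟩ := isIrreducible_iff_sUnion_isClosed.1 hS t h1 h2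
  obtain ⟨i, hi, rfl⟩ := Finset.mem_image.1 hz
  exact ⟨i, hF.mem_toFinset.1 hi, hSz⟩

/-- The irreducible closed subset `closure {x}`. -/
def pointClosure (x : X) : IrreducibleCloseds X :=
  ⟨closure {x}, isIrreducible_singleton.closure, isClosed_closure⟩

theorem dim_nonneg_of_nonempty [Nonempty X] : 0 ≤ topologicalKrullDim X := by
  obtain ⟨x⟩ := ‹Nonempty X›
  have : Nonempty (IrreducibleCloseds X) := ⟨pointClosure x⟩
  exact Order.krullDim_nonneg

theorem dim_eq_zero_of_discrete [Nonempty X] [DiscreteTopology X] :
    topologicalKrullDim X = 0 :=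
  le_antisymm (topologicalKrullDim_zero_of_discreteTopology X) dim_nonneg_of_nonempty

/-- In a T0 space of dimension `≤ 0`, points are closed. -/
theorem closure_singleton_of_dim_le_zero [T0Space X] (h : topologicalKrullDim X ≤ 0) (x : X) :
    closure ({x} : Set X) = {x} := by
  have hmax := Order.krullDim_nonpos_iff_forall_isMax.1 h
  refine Set.Subset.antisymm ?_ (Set.singleton_subset_iff.2 (subset_closure rfl))
  intro y hy
  have hle : pointClosure y ≤ pointClosure x := by
    change closure {y} ⊆ closure {x}
    exact closure_minimal (Set.singleton_subset_iff.2 hy) isClosed_closure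
  have hge : pointClosure x ≤ pointClosure y := hmax (pointClosure y) hle
  have heq : closure ({y} : Set X) = closure {x} := Set.Subset.antisymm hle hge
  exact (inseparable_iff_closure_eq.2 heq).eq

theorem finite_discrete_of_dim_le_zero [NoetherianSpace X] [T0Space X]
    (h : topologicalKrullDim X ≤ 0) : Finite X ∧ DiscreteTopology X := by
  have hmax := Order.krullDim_nonpos_iff_forall_isMax.1 h
  have : T1Space X := ⟨fun x => by
    rw [← closure_singleton_of_dim_le_zero h x]; exact isClosed_closure⟩
  have hfin : (irreducibleComponents X).Finite := NoetherianSpace.finite_irreducibleComponents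
  have hmem : ∀ x : X, ({x} : Set X) ∈ irreducibleComponents X := by
    intro x
    obtain ⟨C, hC, hxC⟩ := exists_mem_irreducibleComponents_subset_of_isIrreducible
      ({x} : Set X) isIrreducible_singleton
    have hCirr : IsIrreducible C := hC.1
    have hCcl : IsClosed C := isClosed_of_mem_irreducibleComponents C hC
    let C' : IrreducibleCloseds X := ⟨C, hCirr, hCcl⟩
    have hle : pointClosure x ≤ C' := by
      change closure {x} ⊆ C
      exact closure_minimal hxC hCcl
    have hge : C' ≤ pointClosure x := hmax (pointClosure x) hle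
    have : C = {x} := by
      rw [← closure_singleton_of_dim_le_zero h x]
      exact Set.Subset.antisymm hge hle
    rwa [← this]
  have : Finite X := by
    have hinj : Function.Injective (fun x : X => (⟨{x}, hmem x⟩ : irreducibleComponents X)) := by
      intro x y hxy
      have := congrArg Subtype.val hxy
      exact Set.singleton_injective this
    have := hfin.to_subtype
    exact Finite.of_injective _ hinj
  exact ⟨inferInstance, inferInstance⟩

end Groth.Agent.Lib.Helper84
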