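import Mathlib.RingTheory.MvPolynomial.Homogeneous
import Mathlib.LinearAlgebra.Dimension.Finrank
import Mathlib.LinearAlgebra.Dimension.Constructions
import Mathlib.LinearAlgebra.LinearIndependent.Defs
import Mathlib.Data.Nat.Choose.Basic
import Mathlib.Algebra.Order.Antidiag.FinsuppEquiv
import Mathlib.LinearAlgebra.Dual.Lemmas
import Mathlib.LinearAlgebra.FiniteDimensional.Lemmas

set_option autoImplicit false
universe u

namespace Groth.Agent.Lib.Helper84

open MvPolynomial

theorem finrank_homogeneousSubmodule (k : Type u) [Field k] (σ : Type*) [Fintype σ]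
    [DecidableEq σ] (m : ℕ) :
    Module.finrank k (homogeneousSubmodule σ k m) = (Fintype.card σ + m - 1).choose m := by
  classical
  rw [homogeneousSubmodule_eq_finsupp_supported]
  have hset : {d : σ →₀ ℕ | d.degree = m} = ↑((Finset.univ : Finset σ).finsuppAntidiag m) := by
    ext d
    simp [Finset.mem_finsuppAntidiag, Finsupp.degree_eq_sum]
  rw [hset]
  rw [LinearEquiv.finrank_eq (AddMonoidAlgebra.supportedEquivFinsupp
    (R := k) (S := k) (↑((Finset.univ : Finset σ).finsuppAntidiag m) : Set (σ →₀ ℕ)))]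
  rw [Module.finrank_finsupp_self]
  rw [← Set.toFinset_card, Finset.toFinset_coe, Finset.card_finsuppAntidiag_nat_eq_choose, Finset.card_univ]

section LinForm

variable {k : Type u} [Field k] {σ : Type*} [Fintype σ] [DecidableEq σ]

/-- The linear form (as a polynomial) attached to a linear functional on `σ → k`. -/
noncomputable def linForm (ℓ : (σ → k) →ₗ[k] k) : MvPolynomial σ k :=
  ∑ i, C (ℓ (fun j => if i = j then 1 else 0)) * X i

theorem linForm_isHomogeneous (ℓ : (σ → k) →ₗ[k] k) : (linForm ℓ).IsHomogeneous 1 := by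
  unfold linForm
  apply IsHomogeneous.sum
  intro i _
  have h := (isHomogeneous_C σ (ℓ (fun j => if i = j then 1 else 0))).mul
    (isHomogeneous_X k i)
  simpa using h

theorem aeval_linForm (ℓ : (σ → k) →ₗ[k] k) (v : σ → k) : aeval v (linForm ℓ) = ℓ v := by
  unfold linForm
  rw [map_sum, LinearMap.pi_apply_eq_sum_univ ℓ v]
  refine Finset.sum_congr rfl fun i _ => ?_
  simp [mul_comm]

theorem exists_form_of_notMem_span (T : Finset (σ → k)) (v : σ → k)
    (hT : ∀ w ∈ T, v ∉ Submodule.span k {w}) :
    ∃ p : MvPolynomial σ k, p.IsHomogeneous T.card ∧ (∀ w ∈ T, aeval w p = 0) ∧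
      aeval v p ≠ 0 := by
  classical
  induction T using Finset.induction_on with
  | empty =>
    refine ⟨1, ?_, ?_, ?_⟩
    · simpa using isHomogeneous_one σ k
    · simp
    · simp
  | insert w T hw ih =>
    obtain ⟨p, hp1, hp2, hp3⟩ := ih (fun w' hw' => hT w' (Finset.mem_insert_of_mem hw'))
    obtain ⟨ℓ, hℓv, hℓ⟩ := Submodule.exists_le_ker_of_notMem (hT w (Finset.mem_insert_self w T))
    have hℓw : ℓ w = 0 := hℓ (Submodule.mem_span_singleton_self w)
    refine ⟨linForm ℓ * p, ?_, ?_, ?_⟩
    · rw [Finset.card_insert_of_notMem hw, add_comm]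
      exact (linForm_isHomogeneous ℓ).mul hp1
    · intro w' hw'
      rw [map_mul, aeval_linForm]
      rcases Finset.mem_insert.1 hw' with rfl | h
      · rw [hℓw, zero_mul]
      · rw [hp2 w' h, mul_zero]
    · rw [map_mul, aeval_linForm]
      exact mul_ne_zero hℓv hp3

end LinForm

section Eval

variable {k : Type u} [Field k] {σ : Type*} [Fintype σ] [DecidableEq σ]

/-- If the points of `Λ` can be separated by forms of degree `m`, they impose independent
conditions on forms of degree `m`. -/
theorem finrank_forms_vanishing_add_card (Λ : Finset (σ → k)) (m : ℕ)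
    (hΛ : ∀ v ∈ Λ, ∃ p : MvPolynomial σ k, p.IsHomogeneous m ∧
      (∀ w ∈ Λ, w ≠ v → aeval w p = 0) ∧ aeval v p ≠ 0) :
    Module.finrank k ↥(homogeneousSubmodule σ k m ⊓
        ⨅ v ∈ Λ, LinearMap.ker (aeval v : MvPolynomial σ k →ₐ[k] k).toLinearMap) + Λ.card =
      Module.finrank k (homogeneousSubmodule σ k m) := by
  classical
  set S := homogeneousSubmodule σ k m with hS
  set K : Submodule k (MvPolynomial σ k) :=
    ⨅ v ∈ Λ, LinearMap.ker (aeval v : MvPolynomial σ k →ₐ[k] k).toLinearMap with hK
  have : Module.Finite k S := Module.Finite.iff_fg.mpr (homogeneousSubmodule_fg σ k m)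
  let ev : S →ₗ[k] (Λ → k) :=
    LinearMap.pi (fun v : Λ => (aeval v.1 : MvPolynomial σ k →ₐ[k] k).toLinearMap ∘ₗ S.subtype)
  have hker : LinearMap.ker ev = Submodule.comap S.subtype (S ⊓ K) := by
    ext x
    simp only [ev, LinearMap.mem_ker, Submodule.mem_comap, Submodule.mem_inf, hK,
      Submodule.mem_iInf, Submodule.subtype_apply]
    constructor
    · intro h
      refine ⟨x.2, fun v hv => ?_⟩
      have := congrFun h ⟨v, hv⟩
      simpa using this
    · intro h
      funext v
      have := h.2 v.1 v.2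
      simpa using this
  have hsurj : LinearMap.range ev = ⊤ := by
    rw [LinearMap.range_eq_top]
    intro b
    choose! P hP1 hP2 hP3 using hΛ
    let q : S := ∑ v : Λ, (b v / aeval v.1 (P v.1)) • (⟨P v.1, hP1 v.1 v.2⟩ : S)
    refine ⟨q, ?_⟩
    funext w
    have : ev q w = ∑ v : Λ, (b v / aeval v.1 (P v.1)) * aeval w.1 (P v.1) := by
      simp [ev, q, map_sum]
    rw [this, Finset.sum_eq_single w]
    · exact div_mul_cancel₀ _ (hP3 w.1 w.2)
    · intro v _ hvw
      rw [hP2 v.1 v.2 w.1 w.2 (fun h => hvw (Subtype.ext h.symm)), mul_zero]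
    · intro h
      exact absurd (Finset.mem_univ w) h
  have h1 := LinearMap.finrank_range_add_finrank_ker ev
  rw [hsurj, finrank_top, Module.finrank_fintype_fun_eq_card, Fintype.card_coe, hker] at h1
  rw [← LinearEquiv.finrank_eq (Submodule.comapSubtypeEquivOfLe (inf_le_left : S ⊓ K ≤ S))]
  omega

end Eval

end Groth.Agent.Lib.Helper84
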