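import Groth.Prelude.Def_DRing2
import Groth.Agent.Lib.Helper84.KInj
import Groth.Agent.Lib.Helper84.Devissage
import Mathlib.Algebra.Category.ModuleCat.Injective

/-!
# Finite injective dimension in `D(R)`: cones, shifts, dévissage (helper84)
-/

set_option autoImplicit false
universe u

open CategoryTheory CategoryTheory.Limits CategoryTheory.Pretriangulated DerivedCategory

attribute [local instance] HasDerivedCategory.standard

namespace Groth.Agent.Lib.Helper84.DRingInj

open DRing Groth.Agent.Lib.Helper84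
open scoped ZeroObject

variable {R : Type u} [CommRing R]

lemma injective_obj_iff (X : ModuleCat.{u} R) : Module.Injective R X ↔ Injective X :=
  Module.injective_iff_injective_object R X

lemma termwiseInjective_mappingCone {E F : Cx R} (f : E ⟶ F) (hE : TermwiseInjective E)
    (hF : TermwiseInjective F) : TermwiseInjective (CochainComplex.mappingCone f) := by
  intro i
  rw [injective_obj_iff]
  have h1 : Injective (E.X (i + 1)) := (injective_obj_iff _).1 (hE (i + 1))
  have h2 : Injective (F.X i) := (injective_obj_iff _).1 (hF i)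
  exact Injective.of_iso (ConeRep.mappingConeXIso f i).symm inferInstance

lemma vanishesOutside_mappingCone {E F : Cx R} (f : E ⟶ F) (aE bE aF bF : ℤ)
    (hE : VanishesOutside E aE bE) (hF : VanishesOutside F aF bF) :
    VanishesOutside (CochainComplex.mappingCone f) (min (aE - 1) aF) (max bE bF) := by
  intro i hi
  refine ConeRep.isZero_mappingCone_X f i (hE (i + 1) ?_) (hF i ?_)
  · have := le_max_left bE bF
    have := min_le_left (aE - 1) aF
    lia
  · have := le_max_right bE bF
    have := min_le_right (aE - 1) aF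
    lia

lemma isKInjective_of_termwiseInjective (E : Cx R) (a b : ℤ) (hb : VanishesOutside E a b)
    (hE : TermwiseInjective E) : E.IsKInjective :=
  KInj.isKInjective_of_vanishesBelow E a (fun i hi => hb i (Or.inl hi))
    (fun i => (injective_obj_iff _).1 (hE i))

lemma hasFiniteInjDim_of_iso {K L : Dual.D R} (e : K ≅ L) (h : HasFiniteInjDim R K) :
    HasFiniteInjDim R L := by
  obtain ⟨a, b, E, h1, h2, ⟨e'⟩⟩ := h
  exact ⟨a, b, E, h1, h2, ⟨e' ≪≫ e⟩⟩

lemma hasFiniteInjDim_shift (K : Dual.D R) (n : ℤ) (h : HasFiniteInjDim R K) :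
    HasFiniteInjDim R (K⟦n⟧) := by
  obtain ⟨a, b, E, h1, h2, ⟨e⟩⟩ := h
  refine ⟨a - n, b - n, E⟦n⟧, ?_, ?_, ⟨ConeRep.shiftIso E n ≪≫ (shiftFunctor _ n).mapIso e⟩⟩
  · intro i hi
    exact h1 (i + n) (by lia)
  · intro i
    exact h2 (i + n)

lemma hasFiniteInjDim_obj₃ (T : Triangle (Dual.D R)) (hT : T ∈ distTriang _)
    (h₁ : HasFiniteInjDim R T.obj₁) (h₂ : HasFiniteInjDim R T.obj₂) :
    HasFiniteInjDim R T.obj₃ := by
  obtain ⟨aE, bE, E, hE1, hE2, ⟨e₁⟩⟩ := h₁
  obtain ⟨aF, bF, F, hF1, hF2, ⟨e₂⟩⟩ := h₂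
  have := isKInjective_of_termwiseInjective F aF bF hF1 hF2
  obtain ⟨f, ⟨e₃⟩⟩ := KInj.exists_cone_iso E F T hT e₁ e₂
  exact ⟨_, _, _, vanishesOutside_mappingCone f aE bE aF bF hE1 hF1,
    termwiseInjective_mappingCone f hE2 hF2, ⟨e₃⟩⟩

lemma hasFiniteInjDim_obj₂ (T : Triangle (Dual.D R)) (hT : T ∈ distTriang _)
    (h₁ : HasFiniteInjDim R T.obj₁) (h₃ : HasFiniteInjDim R T.obj₃) :
    HasFiniteInjDim R T.obj₂ := by
  have hT' := Pretriangulated.inv_rot_of_distTriang _ hT
  exact hasFiniteInjDim_obj₃ T.invRotate hT' (hasFiniteInjDim_shift _ (-1) h₃) h₁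

lemma hasFiniteInjDim_of_isZero (K : Dual.D R) (hK : IsZero K) : HasFiniteInjDim R K := by
  refine ⟨0, 0, (0 : CochainComplex (ModuleCat.{u} R) ℤ), fun i _ => ?_, fun i => ?_,
    ⟨(Functor.map_isZero _ (isZero_zero _)).iso hK⟩⟩
  · exact Functor.map_isZero (HomologicalComplex.eval _ _ i) (isZero_zero _)
  · have h0 : IsZero ((0 : CochainComplex (ModuleCat.{u} R) ℤ).X i) :=
      Functor.map_isZero (HomologicalComplex.eval _ _ i) (isZero_zero _)
    rw [injective_obj_iff]
    exact h0.injective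

/-- finite injective dimension as an object property -/
def finInjProp (R : Type u) [CommRing R] : ObjectProperty (Dual.D R) :=
  fun K => HasFiniteInjDim R K

instance : (finInjProp R).IsClosedUnderIsomorphisms :=
  ⟨fun e h => hasFiniteInjDim_of_iso e h⟩

lemma hasFiniteInjDim_single (M : ModuleCat.{u} R)
    (hM : HasFiniteInjDim R ((DerivedCategory.singleFunctor (ModuleCat.{u} R) 0).obj M)) (i : ℤ) :
    HasFiniteInjDim R ((DerivedCategory.singleFunctor (ModuleCat.{u} R) i).obj M) :=
  hasFiniteInjDim_of_iso (((singleFunctors (ModuleCat.{u} R)).shiftIso (-i) i 0 (by lia)).app M)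
    (hasFiniteInjDim_shift _ (-i) hM)

lemma hasFiniteInjDim_of_bounded_termwise (K : Cx R) (a b : ℤ) (hab : VanishesOutside K a b)
    (hK : ∀ i : ℤ, HasFiniteInjDim R (Dual.inD R (K.X i))) : HasFiniteInjDim R (toD K) :=
  Devissage.prop_of_bounded_complex (finInjProp R) (fun K hK => hasFiniteInjDim_of_isZero K hK)
    (fun T hT h₁ h₃ => hasFiniteInjDim_obj₂ T hT h₁ h₃) K a b hab
    (fun i => hasFiniteInjDim_single (K.X i) (hK i) i)

lemma hasFiniteInjDim_of_bounded_homology (K : Dual.D R) (a b : ℤ)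
    (hab : ∀ i : ℤ, (i < a ∨ b < i) → Subsingleton (Dual.HD R K i))
    (hK : ∀ i : ℤ, HasFiniteInjDim R (Dual.inD R (Dual.HD R K i))) : HasFiniteInjDim R K :=
  Devissage.prop_of_bounded_homology (finInjProp R)
    (fun K hK => hasFiniteInjDim_of_isZero K hK)
    (fun T hT h₁ h₃ => hasFiniteInjDim_obj₂ T hT h₁ h₃) K a b
    (fun i hi => by
      haveI := hab i hi
      exact ModuleCat.isZero_of_subsingleton _)
    (fun i => hasFiniteInjDim_single _ (hK i) i)

end Groth.Agent.Lib.Helper84.DRingInj
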