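import Groth.Agent.Lib.Helper84.Devissage
import Groth.Agent.Lib.Helper84.DerivedT
import Groth.Agent.Lib.Helper84.KInj
import Groth.Agent.Lib.Helper84.DRingInj
import Groth.Agent.Lib.Helper84.DRingBasic
import Groth.Agent.Lib.Helper84.ConeRep
import Mathlib

/-!
# Finiteness of `Hom(K, L[i])` in `D(A)` over a Noetherian ring (helper84)
-/

set_option autoImplicit false
universe u

open CategoryTheory CategoryTheory.Limits CategoryTheory.Pretriangulated DerivedCategory
  CategoryTheory.Triangulated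
open DRing

attribute [local instance] HasDerivedCategory.standard

namespace Groth.Agent.Lib.Helper84.HomFinite

variable {A : Type u} [CommRing A]

section Generic

/-- noetherianity of `Hom` in the first variable, in a distinguished triangle -/
lemma noeth_obj₂_left (T : Triangle (Dual.D A)) (hT : T ∈ distTriang _) (Z : Dual.D A)
    (h₁ : IsNoetherian A (T.obj₁ ⟶ Z)) (h₃ : IsNoetherian A (T.obj₃ ⟶ Z)) :
    IsNoetherian A (T.obj₂ ⟶ Z) := by
  refine isNoetherian_of_range_eq_ker (Linear.leftComp A Z T.mor₂) (Linear.leftComp A Z T.mor₁) ?_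
  ext f
  constructor
  · rintro ⟨g, rfl⟩
    change T.mor₁ ≫ T.mor₂ ≫ g = 0
    rw [← Category.assoc, comp_distTriang_mor_zero₁₂ _ hT, zero_comp]
  · intro hf
    obtain ⟨g, hg⟩ := Triangle.yoneda_exact₂ T hT f hf
    exact ⟨g, hg.symm⟩

/-- noetherianity of `Hom` in the second variable, in a distinguished triangle -/
lemma noeth_obj₂_right (T : Triangle (Dual.D A)) (hT : T ∈ distTriang _) (X : Dual.D A)
    (h₁ : IsNoetherian A (X ⟶ T.obj₁)) (h₃ : IsNoetherian A (X ⟶ T.obj₃)) :
    IsNoetherian A (X ⟶ T.obj₂) := by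
  refine isNoetherian_of_range_eq_ker (Linear.rightComp A X T.mor₁) (Linear.rightComp A X T.mor₂) ?_
  ext f
  constructor
  · rintro ⟨g, rfl⟩
    change (g ≫ T.mor₁) ≫ T.mor₂ = 0
    rw [Category.assoc, comp_distTriang_mor_zero₁₂ _ hT, comp_zero]
  · intro hf
    obtain ⟨g, hg⟩ := Triangle.coyoneda_exact₂ T hT f hf
    exact ⟨g, hg.symm⟩

lemma noeth_of_iso {X X' Y Y' : Dual.D A} (e : X ≅ X') (e' : Y ≅ Y')
    (h : IsNoetherian A (X ⟶ Y)) : IsNoetherian A (X' ⟶ Y') :=
  isNoetherian_of_linearEquiv (Linear.homCongr A e e')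

lemma noeth_shift {X Y : Dual.D A} (n : ℤ) (h : IsNoetherian A (X ⟶ Y)) :
    IsNoetherian A (X⟦n⟧ ⟶ Y⟦n⟧) := by
  refine isNoetherian_of_surjective ((shiftFunctor (Dual.D A) n).mapLinearMap A) ?_
  rw [LinearMap.range_eq_top]
  intro f
  exact (shiftFunctor (Dual.D A) n).map_surjective f

end Generic

/-- all `Hom(K, L[i])` are noetherian -/
def Noeth (K L : Dual.D A) : Prop := ∀ i : ℤ, IsNoetherian A (K ⟶ L⟦i⟧)

lemma noeth_iso {K K' L L' : Dual.D A} (e : K ≅ K') (e' : L ≅ L') (h : Noeth K L) :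
    Noeth K' L' :=
  fun i => noeth_of_iso e ((shiftFunctor (Dual.D A) i).mapIso e') (h i)

lemma noeth_shift_right {K L : Dual.D A} (n : ℤ) (h : Noeth K L) : Noeth K (L⟦n⟧) :=
  fun i => noeth_of_iso (Iso.refl K) ((shiftFunctorAdd' (Dual.D A) n i (n + i) rfl).app L)
    (h (n + i))

lemma noeth_shift_left {K L : Dual.D A} (n : ℤ) (h : Noeth K L) : Noeth (K⟦n⟧) L := by
  intro i
  have h1 := noeth_shift n (h (i - n))
  exact noeth_of_iso (Iso.refl _)
    ((shiftFunctorAdd' (Dual.D A) (i - n) n i (by lia)).app L).symm h1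

lemma noeth_of_isZero_left {K L : Dual.D A} (hK : IsZero K) : Noeth K L := by
  intro i
  haveI : Subsingleton (K ⟶ L⟦i⟧) := ⟨fun f g => hK.eq_of_src f g⟩
  infer_instance

lemma noeth_of_isZero_right {K L : Dual.D A} (hL : IsZero L) : Noeth K L := by
  intro i
  haveI : Subsingleton (K ⟶ L⟦i⟧) :=
    ⟨fun f g => (Functor.map_isZero (shiftFunctor (Dual.D A) i) hL).eq_of_tgt f g⟩
  infer_instance

lemma noeth_ext_left (T : Triangle (Dual.D A)) (hT : T ∈ distTriang _) (L : Dual.D A)
    (h₁ : Noeth T.obj₁ L) (h₃ : Noeth T.obj₃ L) : Noeth T.obj₂ L :=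
  fun i => noeth_obj₂_left T hT _ (h₁ i) (h₃ i)

lemma noeth_ext_right (T : Triangle (Dual.D A)) (hT : T ∈ distTriang _) (K : Dual.D A)
    (h₁ : Noeth K T.obj₁) (h₃ : Noeth K T.obj₃) : Noeth K T.obj₂ :=
  fun i => noeth_obj₂_right _ (Triangle.shift_distinguished T hT i) K (h₁ i) (h₃ i)

section Base

variable [IsNoetherianRing A]

lemma noeth_single_zero (M N : ModuleCat.{u} A) [Module.Finite A M] [Module.Finite A N] :
    Noeth ((DerivedCategory.singleFunctor (ModuleCat.{u} A) 0).obj M)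
      ((DerivedCategory.singleFunctor (ModuleCat.{u} A) 0).obj N) := by
  intro j
  by_cases hj : 0 ≤ j
  · obtain ⟨n, rfl⟩ := Int.eq_ofNat_of_zero_le hj
    haveI : Module.Finite A (Abelian.Ext M N n) := ModuleCat.finite_ext A M N n
    haveI : IsNoetherian A (Abelian.Ext M N n) := isNoetherian_of_isNoetherianRing_of_finite A _
    exact isNoetherian_of_linearEquiv (Abelian.Ext.homLinearEquiv (R := A) (X := M) (Y := N))
  · haveI : Subsingleton ((DerivedCategory.singleFunctor (ModuleCat.{u} A) 0).obj M ⟶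
        ((DerivedCategory.singleFunctor (ModuleCat.{u} A) 0).obj N)⟦j⟧) := by
      refine ⟨fun f g => ?_⟩
      haveI : (((DerivedCategory.singleFunctor (ModuleCat.{u} A) 0).obj N)⟦j⟧).IsGE (-j) :=
        TStructure.t.isGE_shift _ 0 j (-j) (by lia)
      rw [TStructure.t.zero f 0 (-j) (by lia), TStructure.t.zero g 0 (-j) (by lia)]
    infer_instance

lemma noeth_single (M N : ModuleCat.{u} A) [Module.Finite A M] [Module.Finite A N] (n m : ℤ) :
    Noeth ((DerivedCategory.singleFunctor (ModuleCat.{u} A) n).obj M)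
      ((DerivedCategory.singleFunctor (ModuleCat.{u} A) m).obj N) := by
  have h := noeth_shift_left (-n) (noeth_shift_right (-m) (noeth_single_zero M N))
  exact noeth_iso (((singleFunctors (ModuleCat.{u} A)).shiftIso (-n) n 0 (by lia)).app M)
    (((singleFunctors (ModuleCat.{u} A)).shiftIso (-m) m 0 (by lia)).app N) h

/-- `Noeth K -` as an object property -/
def noethRight (K : Dual.D A) : ObjectProperty (Dual.D A) := fun L => Noeth K L

/-- `Noeth - L` as an object property -/
def noethLeft (L : Dual.D A) : ObjectProperty (Dual.D A) := fun K => Noeth K L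

instance (K : Dual.D A) : (noethRight K).IsClosedUnderIsomorphisms :=
  ⟨fun e h => noeth_iso (Iso.refl K) e h⟩

instance (L : Dual.D A) : (noethLeft L).IsClosedUnderIsomorphisms :=
  ⟨fun e h => noeth_iso e (Iso.refl L) h⟩

/-- bounded finite cohomology -/
def BddFin (K : Dual.D A) : Prop :=
  (∃ a b : ℤ, ∀ i : ℤ, i < a ∨ b < i →
    IsZero ((DerivedCategory.homologyFunctor (ModuleCat.{u} A) i).obj K)) ∧
  ∀ i : ℤ, Module.Finite A ((DerivedCategory.homologyFunctor (ModuleCat.{u} A) i).obj K)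

lemma noeth_single_left (M : ModuleCat.{u} A) [Module.Finite A M] (n : ℤ) (L : Dual.D A)
    (hL : BddFin L) : Noeth ((DerivedCategory.singleFunctor (ModuleCat.{u} A) n).obj M) L := by
  obtain ⟨⟨a, b, hab⟩, hfin⟩ := hL
  refine Devissage.prop_of_bounded_homology (noethRight _)
    (fun L hL => noeth_of_isZero_right hL)
    (fun T hT h₁ h₃ => noeth_ext_right T hT _ h₁ h₃) L a b hab (fun i => ?_)
  haveI := hfin i
  exact noeth_single M _ n i

lemma noeth_of_bddFin (K L : Dual.D A) (hK : BddFin K) (hL : BddFin L) : Noeth K L := by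
  obtain ⟨⟨a, b, hab⟩, hfin⟩ := hK
  refine Devissage.prop_of_bounded_homology (noethLeft L)
    (fun K hK => noeth_of_isZero_left hK)
    (fun T hT h₁ h₃ => noeth_ext_left T hT _ h₁ h₃) K a b hab (fun i => ?_)
  haveI := hfin i
  exact noeth_single_left _ i L hL

end Base

section Vanishing

lemma isZero_homology_Q (J : Cx A) (j : ℤ) (hz : IsZero (J.X j)) :
    IsZero ((DerivedCategory.homologyFunctor (ModuleCat.{u} A) j).obj (Q.obj J)) := by
  have h : IsZero (J.homology j) := by
    rw [← HomologicalComplex.exactAt_iff_isZero_homology]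
    exact ShortComplex.exact_of_isZero_X₂ _ hz
  exact IsZero.of_iso h ((homologyFunctorFactors (ModuleCat.{u} A) j).app J)

/-- no maps from `D^{≥ n}` to a K-injective complex vanishing in degrees `≥ n` -/
lemma hom_eq_zero_of_isGE (X : Dual.D A) (n : ℤ) [X.IsGE n] (J : Cx A) [J.IsKInjective]
    (hJ : ∀ j : ℤ, n ≤ j → IsZero (J.X j)) (f : X ⟶ Q.obj J) : f = 0 := by
  obtain ⟨X', hX', ⟨e⟩⟩ := DerivedCategory.exists_iso_Q_obj_of_isGE X n
  obtain ⟨g, hg⟩ := KInj.exists_Q_map_eq X' J (e.inv ≫ f)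
  have hg0 : g = 0 := by
    apply HomologicalComplex.hom_ext
    intro j
    by_cases hj : n ≤ j
    · exact (hJ j hj).eq_of_tgt _ _
    · exact (CochainComplex.isZero_of_isStrictlyGE X' n j (by lia)).eq_of_src _ _
  rw [hg0, Functor.map_zero] at hg
  exact (cancel_epi e.inv).1 (hg.symm.trans comp_zero.symm)

lemma hom_shift_eq_zero (X : Dual.D A) (n : ℤ) [X.IsGE n] (L : Dual.D A) (a b : ℤ)
    (hL : HasInjAmplitudeIn A a b L) (i : ℤ) (h : b - i < n) (f : X ⟶ L⟦i⟧) : f = 0 := by
  obtain ⟨J, hJv, hJi, ⟨eJ⟩⟩ := hL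
  haveI : J.IsKInjective := DRingInj.isKInjective_of_termwiseInjective J a b hJv hJi
  let e : L⟦i⟧ ≅ Q.obj (J⟦i⟧) :=
    (shiftFunctor (Dual.D A) i).mapIso eJ.symm ≪≫ (ConeRep.shiftIso J i).symm
  have h0 : f ≫ e.hom = 0 := by
    apply hom_eq_zero_of_isGE X n (J⟦i⟧)
    intro j hj
    exact hJv (j + i) (Or.inr (by lia))
  exact (cancel_mono e.hom).1 (h0.trans zero_comp.symm)

end Vanishing

section Main

variable [IsNoetherianRing A]

lemma finite_of_iso_homology {X Y : ModuleCat.{u} A} (e : X ≅ Y) (h : Module.Finite A X) :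
    Module.Finite A Y :=
  Module.Finite.equiv e.toLinearEquiv

lemma finite_of_isZero {X : ModuleCat.{u} A} (h : IsZero X) : Module.Finite A X := by
  haveI : Subsingleton X := ModuleCat.subsingleton_of_isZero h
  infer_instance

theorem finite_hom (K L : Dual.D A) (hK : ∀ i : ℤ, Module.Finite A (Dual.HD A K i))
    (hL : ∀ i : ℤ, Module.Finite A (Dual.HD A L i)) (hLi : HasFiniteInjDim A L) (i : ℤ) :
    Module.Finite A (K ⟶ L⟦i⟧) := by
  obtain ⟨a, b, hab⟩ := hLi
  let t : TStructure (Dual.D A) := TStructure.t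
  -- `L` is bounded with finite cohomology
  have hLv : ∀ j : ℤ, j < a ∨ b < j →
      IsZero ((DerivedCategory.homologyFunctor (ModuleCat.{u} A) j).obj L) := by
    obtain ⟨J, hJv, hJi, ⟨eJ⟩⟩ := hab
    intro j hj
    exact IsZero.of_iso (isZero_homology_Q J j (hJv j hj))
      ((DerivedCategory.homologyFunctor (ModuleCat.{u} A) j).mapIso eJ.symm)
  have hLb : BddFin L := ⟨⟨a, b, hLv⟩, hL⟩
  haveI hLGE : L.IsGE a := by
    rw [isGE_iff]
    intro j hj
    exact hLv j (Or.inl hj)
  haveI hLiGE : (L⟦i⟧).IsGE (a - i) := t.isGE_shift L a i (a - i) (by lia)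
  -- first truncation
  let K' := (t.truncGE (a - i)).obj K
  have hT1 := t.triangleLTGE_distinguished (a - i) K
  have hK'fin : ∀ j : ℤ, Module.Finite A
      ((DerivedCategory.homologyFunctor (ModuleCat.{u} A) j).obj K') := by
    intro j
    by_cases hj : a - i ≤ j
    · have := DerivedT.isIso_homologyMap_truncGEπ K (a - i) j hj
      exact finite_of_iso_homology (asIso ((DerivedCategory.homologyFunctor (ModuleCat.{u} A) j).map
        ((t.truncGEπ (a - i)).app K))) (hK j)
    · exact finite_of_isZero (isZero_of_isGE K' (a - i) j (by lia))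
  -- second truncation
  let K'' := (t.truncLT (b - i + 1)).obj K'
  have hT2 := t.triangleLTGE_distinguished (b - i + 1) K'
  haveI hK''LE : t.IsLE K'' (b - i) := t.isLE_truncLT_obj K' (b - i + 1) (b - i)
  haveI hK''GE : t.IsGE K'' (a - i) := inferInstance
  have hK''b : BddFin K'' := by
    refine ⟨⟨a - i, b - i, ?_⟩, ?_⟩
    · intro j hj
      rcases hj with hj | hj
      · exact isZero_of_isGE K'' (a - i) j hj
      · exact isZero_of_isLE K'' (b - i) j hj
    · intro j
      by_cases hj : j < b - i + 1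
      · have := DerivedT.isIso_homologyMap_truncLTι K' (b - i + 1) j hj
        exact finite_of_iso_homology
          (asIso ((DerivedCategory.homologyFunctor (ModuleCat.{u} A) j).map
            ((t.truncLTι (b - i + 1)).app K'))).symm (hK'fin j)
      · exact finite_of_isZero (isZero_of_isLE K'' (b - i) j (by lia))
  have h3 : IsNoetherian A (K'' ⟶ L⟦i⟧) := noeth_of_bddFin K'' L hK''b hLb i
  -- `Hom(K', L[i]) ↪ Hom(K'', L[i])`
  have h2 : IsNoetherian A (K' ⟶ L⟦i⟧) := by
    refine isNoetherian_of_injective (Linear.leftComp A (L⟦i⟧) ((t.truncLTι (b - i + 1)).app K')) ?_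
    rw [← LinearMap.ker_eq_bot, LinearMap.ker_eq_bot']
    intro f hf
    obtain ⟨g, hg⟩ := Triangle.yoneda_exact₂ _ hT2 f hf
    have hg0 : g = 0 := hom_shift_eq_zero _ (b - i + 1) L a b hab i (by lia) g
    rw [hg, hg0]
    exact comp_zero
  -- `Hom(K', L[i]) ↠ Hom(K, L[i])`
  have h1 : IsNoetherian A (K ⟶ L⟦i⟧) := by
    refine isNoetherian_of_surjective (Linear.leftComp A (L⟦i⟧) ((t.truncGEπ (a - i)).app K)) ?_
    rw [LinearMap.range_eq_top]
    intro f
    have h0 : (t.truncLTι (a - i)).app K ≫ f = 0 := by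
      haveI : t.IsLE ((t.truncLT (a - i)).obj K) (a - i - 1) :=
        t.isLE_truncLT_obj K (a - i) (a - i - 1)
      exact t.zero _ (a - i - 1) (a - i) (by lia)
    obtain ⟨g, hg⟩ := Triangle.yoneda_exact₂ _ hT1 f h0
    exact ⟨g, hg.symm⟩
  exact Module.IsNoetherian.finite A _

end Main

end Groth.Agent.Lib.Helper84.HomFinite
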