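import Mathlib.RingTheory.Localization.Away.AdjoinRoot
import Mathlib.Algebra.Polynomial.Basis
import Mathlib.Algebra.Polynomial.Module.Basic
import Mathlib.Algebra.Category.ModuleCat.Projective
import Mathlib.Algebra.Homology.ShortComplex.ModuleCat
import Mathlib.Algebra.Homology.ShortComplex.ShortExact

/-!
# The two-term free resolution `0 ⟶ A[X] ⟶ A[X] ⟶ A_f ⟶ 0` (helper84)

and the description of `Hom_A(A[X], N)` by sequences.
-/

set_option autoImplicit false
universe u

open CategoryTheory Polynomial

namespace Groth.Agent.Lib.Helper84.AwayRes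

variable {A : Type u} [CommRing A]

/-- multiplication by `f X - 1` on `A[X]` -/
noncomputable def resMap (f : A) : A[X] →ₗ[A] A[X] := LinearMap.mulLeft A (C f * X - 1)

/-- the projection `A[X] ⟶ A_f`, `X ↦ 1/f` -/
noncomputable def resProj (f : A) : A[X] →ₗ[A] Localization.Away f :=
  (Localization.awayEquivAdjoin f).symm.toLinearMap ∘ₗ (AdjoinRoot.mkₐ (C f * X - 1)).toLinearMap

lemma resMap_apply (f : A) (p : A[X]) : resMap f p = (C f * X - 1) * p := rfl

lemma coeff_resMap_zero (f : A) (p : A[X]) : (resMap f p).coeff 0 = - p.coeff 0 := by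
  rw [resMap_apply, sub_mul, one_mul, coeff_sub, mul_assoc, coeff_C_mul, mul_coeff_zero]
  simp

lemma coeff_resMap_succ (f : A) (p : A[X]) (n : ℕ) :
    (resMap f p).coeff (n + 1) = f * p.coeff n - p.coeff (n + 1) := by
  rw [resMap_apply, sub_mul, one_mul, coeff_sub, mul_assoc, coeff_C_mul, coeff_X_mul]

lemma resMap_injective (f : A) : Function.Injective (resMap f) := by
  rw [← LinearMap.ker_eq_bot, LinearMap.ker_eq_bot']
  intro p hp
  have h : ∀ n : ℕ, p.coeff n = 0 := by
    intro n
    induction n with
    | zero =>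
      have := coeff_resMap_zero f p
      rw [hp, coeff_zero] at this
      exact neg_eq_zero.1 this.symm
    | succ n ih =>
      have := coeff_resMap_succ f p n
      rw [hp, coeff_zero, ih, mul_zero, zero_sub] at this
      exact neg_eq_zero.1 this.symm
  ext n
  rw [h n, coeff_zero]

lemma resProj_surjective (f : A) : Function.Surjective (resProj f) := by
  intro y
  obtain ⟨p, hp⟩ := AdjoinRoot.mk_surjective (g := C f * X - 1) (Localization.awayEquivAdjoin f y)
  refine ⟨p, ?_⟩
  change (Localization.awayEquivAdjoin f).symm (AdjoinRoot.mk (C f * X - 1) p) = y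
  rw [hp, AlgEquiv.symm_apply_apply]

lemma range_resMap (f : A) : LinearMap.range (resMap f) = LinearMap.ker (resProj f) := by
  ext p
  rw [LinearMap.mem_range, LinearMap.mem_ker]
  have h1 : resProj f p = 0 ↔ AdjoinRoot.mk (C f * X - 1) p = 0 := by
    change (Localization.awayEquivAdjoin f).symm (AdjoinRoot.mk (C f * X - 1) p) = 0 ↔ _
    exact (Localization.awayEquivAdjoin f).symm.map_eq_zero_iff
  rw [h1, AdjoinRoot.mk_eq_zero]
  constructor
  · rintro ⟨q, rfl⟩
    exact ⟨q, rfl⟩
  · rintro ⟨q, rfl⟩
    exact ⟨q, rfl⟩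

/-- the short complex `A[X] ⟶ A[X] ⟶ A_f` -/
noncomputable def resSC (f : A) : ShortComplex (ModuleCat.{u} A) :=
  ShortComplex.mk (ModuleCat.ofHom (resMap f)) (ModuleCat.ofHom (resProj f)) (by
    refine ModuleCat.hom_ext (LinearMap.ext fun p => ?_)
    have : resMap f p ∈ LinearMap.ker (resProj f) := by
      rw [← range_resMap]; exact ⟨p, rfl⟩
    exact this)

lemma resSC_shortExact (f : A) : (resSC f).ShortExact := by
  have hmono : Mono (resSC f).f := (ModuleCat.mono_iff_injective _).2 (resMap_injective f)
  have hepi : Epi (resSC f).g := (ModuleCat.epi_iff_surjective _).2 (resProj_surjective f)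
  refine { exact := ?_, mono_f := hmono, epi_g := hepi }
  rw [ShortComplex.moduleCat_exact_iff_range_eq_ker]
  exact range_resMap f

instance (f : A) : Projective (resSC f).X₁ :=
  (IsProjective.iff_projective (R := A) (P := A[X])).1 Module.Projective.of_free

instance (f : A) : Projective (resSC f).X₂ :=
  (IsProjective.iff_projective (R := A) (P := A[X])).1 Module.Projective.of_free

section Seq

variable (N : Type u) [AddCommGroup N] [Module A N]

/-- the operator `(m_k) ↦ (f m_{k+1} - m_k)` on sequences -/
def seqMap (f : A) : (ℕ → N) →ₗ[A] (ℕ → N) where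
  toFun m k := f • m (k + 1) - m k
  map_add' m m' := by ext k; simp only [Pi.add_apply, smul_add]; abel
  map_smul' a m := by
    ext k
    simp only [Pi.smul_apply, RingHom.id_apply, smul_sub]
    rw [smul_comm]

variable {N}

/-- the sequence `(g(X^k))` attached to a linear map `g : A[X] ⟶ N` -/
noncomputable def toSeq (g : A[X] →ₗ[A] N) : ℕ → N := fun k => g (X ^ k)

/-- the linear map attached to a sequence -/
noncomputable def ofSeq (m : ℕ → N) : A[X] →ₗ[A] N := (basisMonomials A).constr A m

lemma toSeq_ofSeq (m : ℕ → N) : toSeq (ofSeq (A := A) m) = m := by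
  ext k
  have := (basisMonomials A).constr_basis A m k
  rw [coe_basisMonomials] at this
  simpa [toSeq, ofSeq, ← X_pow_eq_monomial] using this

lemma toSeq_injective : Function.Injective (toSeq (A := A) (N := N)) := by
  intro g g' h
  apply (basisMonomials A).ext
  intro k
  have := congrFun h k
  rw [coe_basisMonomials]
  simpa [toSeq, ← X_pow_eq_monomial] using this

lemma toSeq_comp_resMap (f : A) (g : A[X] →ₗ[A] N) :
    toSeq (g ∘ₗ resMap f) = seqMap N f (toSeq g) := by
  ext k
  simp only [toSeq, LinearMap.comp_apply, resMap_apply, seqMap, LinearMap.coe_mk, AddHom.coe_mk]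
  rw [sub_mul, one_mul, map_sub, mul_assoc, ← pow_succ', ← smul_eq_C_mul, map_smul]

lemma injective_iff (f : A) :
    (∀ g : A[X] →ₗ[A] N, g ∘ₗ resMap f = 0 → g = 0) ↔ Function.Injective (seqMap N f) := by
  constructor
  · intro H
    rw [← LinearMap.ker_eq_bot, LinearMap.ker_eq_bot']
    intro m hm
    have := H (ofSeq m) (by
      apply toSeq_injective
      rw [toSeq_comp_resMap, toSeq_ofSeq, hm]
      ext k; simp [toSeq])
    rw [← toSeq_ofSeq (A := A) m, this]
    ext k; simp [toSeq]
  · intro H g hg
    apply toSeq_injective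
    have h1 : seqMap N f (toSeq g) = 0 := by
      rw [← toSeq_comp_resMap, hg]; ext k; simp [toSeq]
    have h2 : toSeq g = 0 := H (h1.trans (map_zero _).symm)
    rw [h2]; ext k; simp [toSeq]

lemma surjective_iff (f : A) :
    (∀ h : A[X] →ₗ[A] N, ∃ g : A[X] →ₗ[A] N, g ∘ₗ resMap f = h) ↔
      Function.Surjective (seqMap N f) := by
  constructor
  · intro H m
    obtain ⟨g, hg⟩ := H (ofSeq m)
    refine ⟨toSeq g, ?_⟩
    rw [← toSeq_comp_resMap, hg, toSeq_ofSeq]
  · intro H h
    obtain ⟨m, hm⟩ := H (toSeq h)
    refine ⟨ofSeq m, ?_⟩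
    apply toSeq_injective
    rw [toSeq_comp_resMap, toSeq_ofSeq, hm]

end Seq

end Groth.Agent.Lib.Helper84.AwayRes
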