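import Groth.Agent.Lib.Helper84.AwayRes
import Mathlib.RingTheory.AdicCompletion.Completeness
import Mathlib.RingTheory.AdicCompletion.Basic

/-!
# Algebra of the sequence operator `(m_k) ↦ (f m_{k+1} - m_k)` (helper84)

`SeqBij f N` (bijectivity of this operator) is the elementary form of derived `f`-completeness
of the module `N`.
-/

set_option autoImplicit false
universe u

namespace Groth.Agent.Lib.Helper84.DCompAlg

open Groth.Agent.Lib.Helper84.AwayRes

variable {A : Type u} [CommRing A]

/-- bijectivity of `(m_k) ↦ (f m_{k+1} - m_k)` on sequences in `N` -/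
def SeqBij (f : A) (N : Type u) [AddCommGroup N] [Module A N] : Prop :=
  Function.Bijective (seqMap N f)

section

variable {N N' : Type u} [AddCommGroup N] [Module A N] [AddCommGroup N'] [Module A N']

lemma seqMap_apply (f : A) (m : ℕ → N) (k : ℕ) : seqMap N f m k = f • m (k + 1) - m k := rfl

lemma seqMap_comp (φ : N →ₗ[A] N') (f : A) (m : ℕ → N) :
    seqMap N' f (fun k => φ (m k)) = fun k => φ (seqMap N f m k) := by
  ext k
  simp [seqMap_apply]

/-- injectivity in elementwise form -/
lemma eq_zero_of_seqMap_eq_zero {f : A} (h : Function.Injective (seqMap N f)) (m : ℕ → N)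
    (hm : ∀ k, f • m (k + 1) = m k) : m = 0 := by
  apply h
  rw [map_zero]
  ext k
  rw [seqMap_apply, hm k, sub_self, Pi.zero_apply]

end

section KerCoker

variable {M N : Type u} [AddCommGroup M] [Module A M] [AddCommGroup N] [Module A N]

lemma seqBij_ker (u : M →ₗ[A] N) (f : A) (hM : SeqBij f M) (hN : SeqBij f N) :
    SeqBij f (LinearMap.ker u) := by
  constructor
  · intro m m' h
    have h1 := seqMap_comp (LinearMap.ker u).subtype f m
    have h2 := seqMap_comp (LinearMap.ker u).subtype f m'
    have h3 : (fun k => ((m k : LinearMap.ker u) : M)) = fun k => ((m' k : LinearMap.ker u) : M) := by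
      apply hM.1
      change seqMap M f (fun k => (LinearMap.ker u).subtype (m k)) =
        seqMap M f (fun k => (LinearMap.ker u).subtype (m' k))
      rw [h1, h2, h]
    ext k
    exact congrFun h3 k
  · intro c
    obtain ⟨m, hm⟩ := hM.2 (fun k => ((c k : LinearMap.ker u) : M))
    have hum : (fun k => u (m k)) = 0 := by
      apply hN.1
      rw [seqMap_comp u f m, hm, map_zero]
      ext k
      exact (c k).2
    refine ⟨fun k => ⟨m k, congrFun hum k⟩, ?_⟩
    ext k
    have := congrFun hm k
    simpa [seqMap_apply] using this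

lemma seqBij_coker (u : M →ₗ[A] N) (f : A) (hM : SeqBij f M) (hN : SeqBij f N) :
    SeqBij f (N ⧸ LinearMap.range u) := by
  let π := (LinearMap.range u).mkQ
  have hπ : Function.Surjective π := Submodule.mkQ_surjective _
  constructor
  · rw [← LinearMap.ker_eq_bot, LinearMap.ker_eq_bot']
    intro q hq
    choose n hn using fun k => hπ (q k)
    have hq' : ∀ k, π (seqMap N f n k) = 0 := by
      intro k
      have := congrFun (seqMap_comp π f n) k
      rw [← this]
      have h2 : (fun k => π (n k)) = q := funext hn
      rw [h2, hq, Pi.zero_apply]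
    have hr : ∀ k, seqMap N f n k ∈ LinearMap.range u := fun k => by
      simpa [π] using hq' k
    choose m' hm' using hr
    obtain ⟨m, hm⟩ := hM.2 m'
    have h3 : n = fun k => u (m k) := by
      apply hN.1
      rw [seqMap_comp u f m, hm]
      ext k
      exact (hm' k).symm
    ext k
    rw [← hn k, h3]
    simp [π]
  · intro c
    choose c' hc' using fun k => hπ (c k)
    obtain ⟨n, hn⟩ := hN.2 c'
    refine ⟨fun k => π (n k), ?_⟩
    rw [seqMap_comp π f n, hn]
    exact funext hc'

end KerCoker

section Ext

variable {M : Type u} [AddCommGroup M] [Module A M]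

lemma seqBij_of_ext (M₁ : Submodule A M) (f : A) (h1 : SeqBij f M₁) (h3 : SeqBij f (M ⧸ M₁)) :
    SeqBij f M := by
  let π := M₁.mkQ
  have hπ : Function.Surjective π := Submodule.mkQ_surjective _
  constructor
  · rw [← LinearMap.ker_eq_bot, LinearMap.ker_eq_bot']
    intro m hm
    have h2 : (fun k => π (m k)) = 0 := by
      apply h3.1
      rw [seqMap_comp π f m, hm, map_zero]
      ext k
      simp
    have hm1 : ∀ k, m k ∈ M₁ := fun k => by
      have := congrFun h2 k
      simpa [π] using this
    have h4 : (fun k => (⟨m k, hm1 k⟩ : M₁)) = 0 := by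
      apply h1.1
      rw [map_zero]
      ext k
      have := congrFun hm k
      simpa [seqMap_apply] using this
    ext k
    have := congrArg Subtype.val (congrFun h4 k)
    simpa using this
  · intro c
    obtain ⟨q, hq⟩ := h3.2 (fun k => π (c k))
    choose m' hm' using fun k => hπ (q k)
    have hd : ∀ k, c k - seqMap M f m' k ∈ M₁ := by
      intro k
      have h5 := congrFun (seqMap_comp π f m') k
      have h6 : (fun k => π (m' k)) = q := funext hm'
      rw [h6, hq] at h5
      have : π (c k - seqMap M f m' k) = 0 := by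
        rw [map_sub, ← h5, sub_self]
      exact (Submodule.Quotient.mk_eq_zero M₁).1 this
    obtain ⟨m₁, hm₁⟩ := h1.2 (fun k => ⟨c k - seqMap M f m' k, hd k⟩)
    refine ⟨fun k => m' k + (m₁ k : M), ?_⟩
    ext k
    have h7 := congrArg Subtype.val (congrFun hm₁ k)
    simp only [seqMap_apply] at h7 ⊢
    push_cast at h7
    rw [smul_add]
    have h8 : f • (m₁ (k + 1) : M) - (m₁ k : M) = c k - (f • m' (k + 1) - m' k) := by
      simpa using h7
    rw [show f • m' (k + 1) + f • (m₁ (k + 1) : M) - (m' k + (m₁ k : M)) =
      (f • m' (k + 1) - m' k) + (f • (m₁ (k + 1) : M) - (m₁ k : M)) by abel, h8]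
    abel

end Ext

end Groth.Agent.Lib.Helper84.DCompAlg

namespace Groth.Agent.Lib.Helper84.DCompAlg

open Groth.Agent.Lib.Helper84.AwayRes

variable {A : Type u} [CommRing A]

section Adic

variable (I : Ideal A) (M : Type u) [AddCommGroup M] [Module A M]

lemma pow_smul_mem {f : A} (hf : f ∈ I) (j n : ℕ) (hjn : n ≤ j) (x : M) :
    f ^ j • x ∈ (I ^ n • ⊤ : Submodule A M) :=
  Submodule.smul_mem_smul (Ideal.pow_le_pow_right hjn (Ideal.pow_mem_pow hf j)) Submodule.mem_top

/-- the partial sums `- ∑_{j<n} f^j c_{k+j}` -/
def psum (f : A) (c : ℕ → M) (k n : ℕ) : M := - ∑ j ∈ Finset.range n, f ^ j • c (k + j)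

lemma psum_succ' (f : A) (c : ℕ → M) (k n : ℕ) :
    f • psum M f c (k + 1) n - psum M f c k (n + 1) = c k := by
  simp only [psum]
  rw [Finset.sum_range_succ', smul_neg, Finset.smul_sum]
  have : ∀ j ∈ Finset.range n, f • f ^ j • c (k + 1 + j) = f ^ (j + 1) • c (k + (j + 1)) := by
    intro j _
    rw [← mul_smul, ← pow_succ', show k + 1 + j = k + (j + 1) by ring]
  rw [Finset.sum_congr rfl this]
  simp

theorem seqBij_of_isAdicComplete [IsAdicComplete I M] {f : A} (hf : f ∈ I) : SeqBij f M := by
  constructor
  · rw [← LinearMap.ker_eq_bot, LinearMap.ker_eq_bot']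
    intro m hm
    have h1 : ∀ k, f • m (k + 1) = m k := by
      intro k
      have := congrFun hm k
      rw [seqMap_apply, Pi.zero_apply, sub_eq_zero] at this
      exact this
    have h2 : ∀ n k, m k = f ^ n • m (k + n) := by
      intro n
      induction n with
      | zero => intro k; simp
      | succ n ih =>
        intro k
        rw [ih k, pow_succ, mul_smul, show k + (n + 1) = k + n + 1 by ring, h1]
    ext k
    apply IsHausdorff.haus' (I := I)
    intro n
    rw [SModEq.zero, h2 n k]
    exact pow_smul_mem I M hf n n le_rfl _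
  · intro c
    have hc : ∀ k, ∃ L : M, ∀ n, psum M f c k n ≡ L [SMOD (I ^ n • ⊤ : Submodule A M)] := by
      intro k
      apply IsPrecomplete.prec'
      intro m n hmn
      rw [SModEq.sub_mem]
      simp only [psum]
      rw [neg_sub_neg, ← Finset.sum_Ico_eq_sub _ hmn]
      apply Submodule.sum_mem
      intro j hj
      exact pow_smul_mem I M hf j m (Finset.mem_Ico.1 hj).1 _
    choose L hL using hc
    refine ⟨L, ?_⟩
    ext k
    rw [seqMap_apply, ← sub_eq_zero]
    apply IsHausdorff.haus' (I := I)
    intro n
    rw [SModEq.zero]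
    have h1 : psum M f c (k + 1) n - L (k + 1) ∈ (I ^ n • ⊤ : Submodule A M) :=
      SModEq.sub_mem.1 (hL (k + 1) n)
    have h2 : psum M f c k (n + 1) - L k ∈ (I ^ n • ⊤ : Submodule A M) := by
      have := SModEq.sub_mem.1 (hL k (n + 1))
      exact Submodule.smul_mono_left (Ideal.pow_le_pow_right (Nat.le_succ n)) this
    have h3 : f • L (k + 1) - L k - c k =
        (psum M f c k (n + 1) - L k) - f • (psum M f c (k + 1) n - L (k + 1)) := by
      rw [← psum_succ' M f c k n, smul_sub]
      abel
    rw [h3]
    exact Submodule.sub_mem _ h2 (Submodule.smul_mem _ f h1)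

end Adic

section Nakayama

/-- if `f M = M` and the sequence operator is injective then `M = 0` -/
lemma subsingleton_of_smul_surjective {M : Type u} [AddCommGroup M] [Module A M] (f : A)
    (h : Function.Injective (seqMap M f)) (hs : Function.Surjective (fun x : M => f • x)) :
    Subsingleton M := by
  obtain ⟨r, hr⟩ := hs.hasRightInverse
  refine ⟨fun x y => ?_⟩
  have key : ∀ x : M, x = 0 := by
    intro x
    have := eq_zero_of_seqMap_eq_zero h (fun k => r^[k] x) (fun k => by
      rw [Function.iterate_succ_apply']
      exact hr _)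
    simpa using congrFun this 0
  rw [key x, key y]

/-- derived Nakayama, in sequence form -/
theorem subsingleton_of_span_smul_top_eq_top (s : Finset A) :
    ∀ (M : Type u) [AddCommGroup M] [Module A M], (∀ f ∈ s, SeqBij f M) →
      (Ideal.span (s : Set A)) • (⊤ : Submodule A M) = ⊤ → Subsingleton M := by
  classical
  induction s using Finset.induction_on with
  | empty =>
    intro M _ _ _ h
    rw [Finset.coe_empty, Ideal.span_empty, Submodule.bot_smul] at h
    exact (Submodule.subsingleton_iff A).1 (subsingleton_of_bot_eq_top h)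
  | insert f s hfs ih =>
    intro M _ _ hM h
    have hf : SeqBij f M := hM f (Finset.mem_insert_self f s)
    let u : M →ₗ[A] M := LinearMap.lsmul A M f
    have hQ : Subsingleton (M ⧸ LinearMap.range u) := by
      apply ih
      · intro g hg
        have hg' : SeqBij g M := hM g (Finset.mem_insert_of_mem hg)
        exact seqBij_coker u g hg' hg'
      · rw [eq_top_iff]
        rintro q -
        obtain ⟨x, rfl⟩ := Submodule.mkQ_surjective _ q
        have hx : x ∈ (Ideal.span ((insert f s : Finset A) : Set A)) • (⊤ : Submodule A M) := by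
          rw [h]; trivial
        rw [Finset.coe_insert, Ideal.span_insert, Submodule.sup_smul] at hx
        obtain ⟨y, hy, z, hz, rfl⟩ := Submodule.mem_sup.1 hx
        have hy0 : (LinearMap.range u).mkQ y = 0 := by
          rw [Submodule.mkQ_apply, Submodule.Quotient.mk_eq_zero]
          refine Submodule.smul_induction_on hy ?_ ?_
          · intro a ha m _
            obtain ⟨b, rfl⟩ := Ideal.mem_span_singleton'.1 ha
            exact ⟨b • m, by simp [u, mul_smul, smul_comm f b]⟩
          · intro a b ha hb
            exact Submodule.add_mem _ ha hb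
        rw [map_add, hy0, zero_add]
        have := Submodule.mem_map_of_mem (f := (LinearMap.range u).mkQ) hz
        rw [Submodule.map_smul'', Submodule.map_top, Submodule.range_mkQ] at this
        exact this
    have hsurj : Function.Surjective (fun x : M => f • x) := by
      intro y
      have : (LinearMap.range u).mkQ y = 0 := Subsingleton.elim _ _
      rw [Submodule.mkQ_apply, Submodule.Quotient.mk_eq_zero] at this
      obtain ⟨x, hx⟩ := this
      exact ⟨x, hx⟩
    exact subsingleton_of_smul_surjective f hf.1 hsurj

end Nakayama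

end Groth.Agent.Lib.Helper84.DCompAlg

namespace Groth.Agent.Lib.Helper84.DCompAlg

open Groth.Agent.Lib.Helper84.AwayRes

variable {A : Type u} [CommRing A]

/-- `⋂ f^n A` kills `⋂ f^n M` when the sequence operator is injective -/
theorem iInf_smul_iInf_eq_bot {M : Type u} [AddCommGroup M] [Module A M] (f : A)
    (h : Function.Injective (seqMap M f)) :
    (⨅ n : ℕ, Ideal.span {f ^ n}) • (⨅ n : ℕ, (Ideal.span {f ^ n}) • (⊤ : Submodule A M)) =
      (⊥ : Submodule A M) := by
  rw [eq_bot_iff, Submodule.smul_le]
  intro c hc x hx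
  rw [Submodule.mem_bot]
  have hc' : ∀ n : ℕ, ∃ a : A, a * f ^ n = c := fun n =>
    Ideal.mem_span_singleton'.1 ((Submodule.mem_iInf _).1 hc n)
  have hx' : ∀ n : ℕ, ∃ y : M, f ^ n • y = x := by
    intro n
    have := (Submodule.mem_iInf _).1 hx n
    rw [Submodule.ideal_span_singleton_smul, Submodule.mem_smul_pointwise_iff_exists] at this
    obtain ⟨y, -, hy⟩ := this
    exact ⟨y, hy⟩
  choose a ha using hc'
  choose y hy using hx'
  have key := eq_zero_of_seqMap_eq_zero h (fun k => a k • x) (fun k => by
    change f • a (k + 1) • x = a k • x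
    rw [← sub_eq_zero, ← mul_smul, ← sub_smul]
    conv_lhs => rw [← hy k]
    rw [← mul_smul]
    have : (f * a (k + 1) - a k) * f ^ k = 0 := by
      have h1 := ha (k + 1)
      have h2 := ha k
      rw [pow_succ] at h1
      linear_combination h1 - h2
    rw [this, zero_smul])
  have h0 := congrFun key 0
  have ha0 : a 0 = c := by simpa using ha 0
  simpa [ha0] using h0

end Groth.Agent.Lib.Helper84.DCompAlg

namespace Groth.Agent.Lib.Helper84.DCompAlg

open Groth.Agent.Lib.Helper84.AwayRes

variable {A : Type u} [CommRing A]

/-- a module which is derived complete (sequence form) w.r.t. a f.g. ideal surjects onto its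
adic completion -/
theorem adicCompletion_of_surjective (I : Ideal A) (hI : I.FG) (M : Type u) [AddCommGroup M]
    [Module A M] (h : ∀ f ∈ I, SeqBij f M) : Function.Surjective (AdicCompletion.of I M) := by
  haveI : IsAdicComplete I (AdicCompletion I M) := AdicCompletion.isAdicComplete hI
  have hMh : ∀ f ∈ I, SeqBij f (AdicCompletion I M) := fun f hf =>
    seqBij_of_isAdicComplete I (AdicCompletion I M) hf
  set u := AdicCompletion.of I M with hu
  have hQ : ∀ f ∈ I, SeqBij f (AdicCompletion I M ⧸ LinearMap.range u) := fun f hf =>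
    seqBij_coker u f (h f hf) (hMh f hf)
  obtain ⟨s, hs⟩ := hI
  have hsub : Subsingleton (AdicCompletion I M ⧸ LinearMap.range u) := by
    apply subsingleton_of_span_smul_top_eq_top s
    · intro f hf
      exact hQ f (by rw [← hs]; exact Ideal.subset_span hf)
    · rw [hs, eq_top_iff]
      rintro q -
      obtain ⟨y, rfl⟩ := Submodule.mkQ_surjective _ q
      obtain ⟨x, hx⟩ := Submodule.mkQ_surjective (I ^ 1 • ⊤ : Submodule A M)
        (AdicCompletion.eval I M 1 y)
      have h1 : y - u x ∈ (I ^ 1 • ⊤ : Submodule A (AdicCompletion I M)) := by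
        rw [AdicCompletion.pow_smul_top_eq_ker_eval ⟨s, hs⟩, LinearMap.mem_ker, map_sub,
          hu, AdicCompletion.eval_of, hx, sub_self]
      rw [pow_one] at h1
      have h2 : (LinearMap.range u).mkQ y = (LinearMap.range u).mkQ (y - u x) := by
        rw [map_sub]
        have : (LinearMap.range u).mkQ (u x) = 0 := by
          rw [Submodule.mkQ_apply, Submodule.Quotient.mk_eq_zero]
          exact ⟨x, rfl⟩
        rw [this, sub_zero]
      rw [h2]
      have := Submodule.mem_map_of_mem (f := (LinearMap.range u).mkQ) h1
      rw [Submodule.map_smul'', Submodule.map_top, Submodule.range_mkQ] at this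
      exact this
  have hr : LinearMap.range u = ⊤ := Submodule.Quotient.subsingleton_iff.1 hsub
  exact LinearMap.range_eq_top.1 hr

end Groth.Agent.Lib.Helper84.DCompAlg

namespace Groth.Agent.Lib.Helper84.DCompAlg

open Groth.Agent.Lib.Helper84.AwayRes CategoryTheory

variable {A : Type u} [CommRing A]

lemma seqMap_equiv {N N' : Type u} [AddCommGroup N] [Module A N] [AddCommGroup N']
    [Module A N'] (e : N ≃ₗ[A] N') (f : A) (m : ℕ → N) :
    seqMap N' f (fun k => e (m k)) = fun k => e (seqMap N f m k) := by
  ext k
  simp [seqMap_apply]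

lemma seqBij_of_linearEquiv {N N' : Type u} [AddCommGroup N] [Module A N] [AddCommGroup N']
    [Module A N'] (e : N ≃ₗ[A] N') (f : A) (h : SeqBij f N) : SeqBij f N' := by
  constructor
  · intro m m' hm
    have h1 : seqMap N f (fun k => e.symm (m k)) = seqMap N f (fun k => e.symm (m' k)) := by
      rw [seqMap_equiv e.symm, seqMap_equiv e.symm]
      ext k
      exact congrArg e.symm (congrFun hm k)
    have h2 := h.1 h1
    ext k
    have := congrFun h2 k
    simpa using congrArg e this
  · intro c
    obtain ⟨m, hm⟩ := h.2 (fun k => e.symm (c k))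
    refine ⟨fun k => e (m k), ?_⟩
    rw [seqMap_equiv e, hm]
    ext k
    simp

lemma seqBij_pi {ι : Type} (N : Type u) [AddCommGroup N] [Module A N] (f : A) (h : SeqBij f N) :
    SeqBij f (ι → N) := by
  constructor
  · intro m m' hm
    ext k i
    have : (fun k => m k i) = fun k => m' k i := by
      apply h.1
      ext k
      have := congrFun (congrFun hm k) i
      simpa [seqMap_apply] using this
    exact congrFun this k
  · intro c
    choose m hm using fun i => h.2 (fun k => c k i)
    refine ⟨fun k i => m i k, ?_⟩
    ext k i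
    have := congrFun (hm i) k
    simpa [seqMap_apply] using this

lemma seqBij_of_finite_free (N : Type u) [AddCommGroup N] [Module A N] [Module.Finite A N]
    [Module.Free A N] (f : A) (h : SeqBij f A) : SeqBij f N := by
  have e := (Module.Free.chooseBasis A N).equivFun
  have := Module.Free.ChooseBasisIndex.fintype A N
  let e' : (Fin (Fintype.card (Module.Free.ChooseBasisIndex A N)) → A) ≃ₗ[A]
      (Module.Free.ChooseBasisIndex A N → A) :=
    LinearEquiv.funCongrLeft A A (Fintype.equivFin _)
  exact seqBij_of_linearEquiv (e'.trans e.symm) f (seqBij_pi A f h)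

/-- the homology of a short complex of modules with `SeqBij` terms is `SeqBij` -/
lemma seqBij_homology (S : ShortComplex (ModuleCat.{u} A)) (f : A) (h1 : SeqBij f S.X₁)
    (h2 : SeqBij f S.X₂) (h3 : SeqBij f S.X₃) : SeqBij f S.homology := by
  have hK : SeqBij f (LinearMap.ker S.g.hom) := seqBij_ker S.g.hom f h2 h3
  have hH : SeqBij f (LinearMap.ker S.g.hom ⧸ LinearMap.range S.moduleCatToCycles) :=
    seqBij_coker S.moduleCatToCycles f h1 hK
  exact seqBij_of_linearEquiv S.moduleCatHomologyIso.toLinearEquiv.symm f hH

end Groth.Agent.Lib.Helper84.DCompAlg
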