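import Groth.Agent.Lib.Helper84.HomPart
import Mathlib.Algebra.Homology.DerivedCategory.ShortExact

/-!
# Morphisms out of an object with a two-term projective resolution (helper84)

Let `0 ⟶ P₁ ⟶ P₀ ⟶ M ⟶ 0` be a short exact sequence with `P₀`, `P₁` projective.  For `K : D(C)`,
all morphisms `M[-n] ⟶ K` vanish iff `Hom(P₀, H^n K) ⟶ Hom(P₁, H^n K)` is injective and
`Hom(P₀, H^{n-1} K) ⟶ Hom(P₁, H^{n-1} K)` is surjective.
-/

set_option autoImplicit false
universe w v u

open CategoryTheory CategoryTheory.Limits CategoryTheory.Pretriangulated CategoryTheory.Triangulated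
open DerivedCategory

namespace Groth.Agent.Lib.Helper84.TwoTermOrth

open Groth.Agent.Lib.Helper84.HomPart

variable {C : Type u} [Category.{v} C] [Abelian C] [HasDerivedCategory.{w} C]

lemma exists_triangle (S : ShortComplex C) (hS : S.ShortExact) (n : ℤ) :
    ∃ δ : (singleFunctor C n).obj S.X₃ ⟶ ((singleFunctor C n).obj S.X₁)⟦(1 : ℤ)⟧,
      Triangle.mk ((singleFunctor C n).map S.f) ((singleFunctor C n).map S.g) δ ∈
        distTriang (DerivedCategory C) := by
  haveI : PreservesFiniteLimits (CochainComplex.singleFunctor C n) :=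
    inferInstanceAs (PreservesFiniteLimits (HomologicalComplex.single C (ComplexShape.up ℤ) n))
  haveI : PreservesFiniteColimits (CochainComplex.singleFunctor C n) :=
    inferInstanceAs (PreservesFiniteColimits (HomologicalComplex.single C (ComplexShape.up ℤ) n))
  have hS' : (S.map (CochainComplex.singleFunctor C n)).ShortExact :=
    hS.map_of_exact (CochainComplex.singleFunctor C n)
  exact ⟨triangleOfSESδ hS', triangleOfSES_distinguished hS'⟩

variable (S : ShortComplex C) (hS : S.ShortExact) [Projective S.X₁] [Projective S.X₂]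

include hS in
theorem orth_iff (n n' : ℤ) (hn : 1 + n' = n) (K : DerivedCategory C) :
    (∀ φ : (singleFunctor C n).obj S.X₃ ⟶ K, φ = 0) ↔
      (∀ g : S.X₂ ⟶ (homologyFunctor C n).obj K, S.f ≫ g = 0 → g = 0) ∧
      (∀ h : S.X₁ ⟶ (homologyFunctor C n').obj K,
        ∃ g : S.X₂ ⟶ (homologyFunctor C n').obj K, S.f ≫ g = h) := by
  obtain ⟨δ, hT⟩ := exists_triangle S hS n
  set T := Triangle.mk ((singleFunctor C n).map S.f) ((singleFunctor C n).map S.g) δ with hTdef
  let e : ∀ X : C, ((singleFunctor C n).obj X)⟦(1 : ℤ)⟧ ≅ (singleFunctor C n').obj X :=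
    fun X => ((singleFunctors C).shiftIso 1 n' n hn).app X
  have enat : ∀ {X X' : C} (u : X ⟶ X'),
      ((singleFunctor C n).map u)⟦(1 : ℤ)⟧' ≫ (e X').hom = (e X).hom ≫ (singleFunctor C n').map u :=
    fun u => ((singleFunctors C).shiftIso 1 n' n hn).hom.naturality u
  constructor
  · intro H
    constructor
    · intro g hg
      obtain ⟨φ0, hφ0⟩ := exists_homPart_eq n K g
      have h1 : (singleFunctor C n).map S.f ≫ φ0 = 0 :=
        eq_zero_of_homPart_eq_zero _ (by rw [homPart_map_comp, hφ0, hg])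
      obtain ⟨ψ, hψ⟩ := Triangle.yoneda_exact₂ T hT φ0 h1
      have hψ' : φ0 = (singleFunctor C n).map S.g ≫ ψ := hψ
      rw [H ψ, comp_zero] at hψ'
      rw [← hφ0, hψ', homPart_zero]
    · intro h
      obtain ⟨χ, hχ⟩ := exists_homPart_eq n' K h
      have h1 : T.rotate.mor₂ ≫ ((e S.X₁).hom ≫ χ) = 0 := H _
      obtain ⟨ω₀, hω₀⟩ := Triangle.yoneda_exact₃ T.rotate (rot_of_distTriang _ hT) _ h1
      let ω : ((singleFunctor C n).obj S.X₂)⟦(1 : ℤ)⟧ ⟶ K := ω₀
      have hω : (e S.X₁).hom ≫ χ = (-((singleFunctor C n).map S.f)⟦(1 : ℤ)⟧') ≫ ω := hω₀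
      have hω' : (e S.X₁).hom ≫ χ = -(((singleFunctor C n).map S.f)⟦(1 : ℤ)⟧' ≫ ω) := by
        rw [hω, Preadditive.neg_comp]
      refine ⟨homPart (-((e S.X₂).inv ≫ ω)), ?_⟩
      rw [← homPart_map_comp, ← hχ]
      congr 1
      have h2 : (singleFunctor C n').map S.f ≫ (e S.X₂).inv =
          (e S.X₁).inv ≫ ((singleFunctor C n).map S.f)⟦(1 : ℤ)⟧' := by
        rw [← cancel_mono (e S.X₂).hom, Category.assoc, Category.assoc, Iso.inv_hom_id,
          Category.comp_id, enat, Iso.inv_hom_id_assoc]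
      rw [Preadditive.comp_neg, ← Category.assoc, h2, Category.assoc, ← Preadditive.comp_neg,
        ← hω', Iso.inv_hom_id_assoc]
  · rintro ⟨H1, H2⟩ φ
    have h0 : (singleFunctor C n).map S.f ≫ (singleFunctor C n).map S.g = 0 := by
      rw [← Functor.map_comp, S.zero, Functor.map_zero]
    have h1 : (singleFunctor C n).map S.g ≫ φ = 0 := by
      apply eq_zero_of_homPart_eq_zero
      apply H1
      rw [← homPart_map_comp, ← Category.assoc, h0, zero_comp, homPart_zero]
    obtain ⟨ψ₀, hψ₀⟩ := Triangle.yoneda_exact₃ T hT φ h1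
    let ψ : ((singleFunctor C n).obj S.X₁)⟦(1 : ℤ)⟧ ⟶ K := ψ₀
    have hψ : φ = δ ≫ ψ := hψ₀
    obtain ⟨g, hg⟩ := H2 (homPart ((e S.X₁).inv ≫ ψ))
    obtain ⟨ω, hω⟩ := exists_homPart_eq n' K g
    have h2 : (singleFunctor C n').map S.f ≫ ω = (e S.X₁).inv ≫ ψ :=
      eq_of_homPart_eq _ _ (by rw [homPart_map_comp, hω, hg])
    have h3 : ψ = ((singleFunctor C n).map S.f)⟦(1 : ℤ)⟧' ≫ (e S.X₂).hom ≫ ω := by
      rw [← Category.assoc, enat, Category.assoc, h2, Iso.hom_inv_id_assoc]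
    rw [hψ, h3]
    have h4 : δ ≫ ((singleFunctor C n).map S.f)⟦(1 : ℤ)⟧' = 0 := comp_distTriang_mor_zero₃₁ T hT
    rw [← Category.assoc, h4, zero_comp]

end Groth.Agent.Lib.Helper84.TwoTermOrth
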