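import Groth.Prelude.Def_DRing3
import Groth.Agent.Lib.Helper84.TwoTermOrth
import Groth.Agent.Lib.Helper84.AwayRes
import Groth.Agent.Lib.Helper84.DCompAlg

/-!
# Derived completeness in terms of sequences (helper84)

`K : D(A)` is derived complete with respect to `I` iff for all `f ∈ I` and all `i` the operator
`(m_k) ↦ (f m_{k+1} - m_k)` on sequences in `H^i(K)` is bijective.
-/

set_option autoImplicit false
universe u

open CategoryTheory CategoryTheory.Limits CategoryTheory.Pretriangulated DerivedCategory Polynomial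

attribute [local instance] HasDerivedCategory.standard

namespace Groth.Agent.Lib.Helper84.DComp

open Groth.Agent.Lib.Helper84 AwayRes DCompAlg

variable {A : Type u} [CommRing A]


section Shift

variable {C : Type*} [Category C] [Preadditive C] [HasShift C ℤ]
  [∀ n : ℤ, (shiftFunctor C n).Additive]

lemma hom_shift_zero_iff (X Y : C) (n : ℤ) :
    (∀ φ : X ⟶ Y⟦n⟧, φ = 0) ↔ (∀ ψ : X⟦-n⟧ ⟶ Y, ψ = 0) := by
  constructor
  · intro H ψ
    have h1 : (shiftNegShift X n).inv ≫ ψ⟦n⟧' = 0 := H _
    have h2 : ψ⟦n⟧' = 0 := (cancel_epi (shiftNegShift X n).inv).1 (h1.trans comp_zero.symm)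
    exact (shiftFunctor C n).map_injective (h2.trans (Functor.map_zero _ _ _).symm)
  · intro H φ
    have h1 : φ⟦-n⟧' ≫ (shiftShiftNeg Y n).hom = 0 := H _
    have h2 : φ⟦-n⟧' = 0 := (cancel_mono (shiftShiftNeg Y n).hom).1 (h1.trans zero_comp.symm)
    exact (shiftFunctor C (-n)).map_injective (h2.trans (Functor.map_zero _ _ _).symm)

end Shift

lemma single_orth_iff (M : ModuleCat.{u} A) (K : Dual.D A) (n : ℤ) :
    Subsingleton ((singleFunctor (ModuleCat.{u} A) 0).obj M ⟶ K⟦n⟧) ↔
      ∀ φ : (singleFunctor (ModuleCat.{u} A) n).obj M ⟶ K, φ = 0 := by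
  have h1 : Subsingleton ((singleFunctor (ModuleCat.{u} A) 0).obj M ⟶ K⟦n⟧) ↔
      ∀ φ : (singleFunctor (ModuleCat.{u} A) 0).obj M ⟶ K⟦n⟧, φ = 0 :=
    ⟨fun h φ => Subsingleton.elim _ _, fun h => ⟨fun a b => (h a).trans (h b).symm⟩⟩
  rw [h1, hom_shift_zero_iff]
  let e : ((singleFunctor (ModuleCat.{u} A) 0).obj M)⟦-n⟧ ≅ (singleFunctor (ModuleCat.{u} A) n).obj M :=
    ((singleFunctors (ModuleCat.{u} A)).shiftIso (-n) n 0 (by lia)).app M
  constructor
  · intro H φ
    have := H (e.hom ≫ φ)
    exact (cancel_epi e.hom).1 (this.trans comp_zero.symm)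
  · intro H ψ
    have := H (e.inv ≫ ψ)
    exact (cancel_epi e.inv).1 (this.trans comp_zero.symm)

lemma cat_injective_iff (f : A) (H : ModuleCat.{u} A) :
    (∀ g : (resSC f).X₂ ⟶ H, (resSC f).f ≫ g = 0 → g = 0) ↔ Function.Injective (seqMap H f) := by
  rw [← injective_iff]
  constructor
  · intro h g hg
    have := h (ModuleCat.ofHom g) (by
      apply ModuleCat.hom_ext
      exact hg)
    exact congrArg ModuleCat.Hom.hom this
  · intro h g hg
    apply ModuleCat.hom_ext
    exact h g.hom (congrArg ModuleCat.Hom.hom hg)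

lemma cat_surjective_iff (f : A) (H : ModuleCat.{u} A) :
    (∀ h : (resSC f).X₁ ⟶ H, ∃ g : (resSC f).X₂ ⟶ H, (resSC f).f ≫ g = h) ↔
      Function.Surjective (seqMap H f) := by
  rw [← surjective_iff]
  constructor
  · intro h k
    obtain ⟨g, hg⟩ := h (ModuleCat.ofHom k)
    exact ⟨g.hom, congrArg ModuleCat.Hom.hom hg⟩
  · intro h k
    obtain ⟨g, hg⟩ := h k.hom
    refine ⟨ModuleCat.ofHom g, ?_⟩
    apply ModuleCat.hom_ext
    exact hg

/-- orthogonality to all shifts of `A_f[0]` in terms of sequences -/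
theorem away_orth_iff (f : A) (K : Dual.D A) :
    (∀ n : ℤ, Subsingleton (Dual.inD A (Localization.Away f) ⟶ K⟦n⟧)) ↔
      ∀ i : ℤ, SeqBij f (Dual.HD A K i) := by
  have key : ∀ n : ℤ, Subsingleton (Dual.inD A (Localization.Away f) ⟶ K⟦n⟧) ↔
      Function.Injective (seqMap (Dual.HD A K n) f) ∧
        Function.Surjective (seqMap (Dual.HD A K (n - 1)) f) := by
    intro n
    rw [← cat_injective_iff, ← cat_surjective_iff]
    rw [← TwoTermOrth.orth_iff (resSC f) (resSC_shortExact f) n (n - 1) (by lia) K]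
    exact single_orth_iff (ModuleCat.of A (Localization.Away f)) K n
  constructor
  · intro H i
    exact ⟨((key i).1 (H i)).1, by
      have := ((key (i + 1)).1 (H (i + 1))).2
      rwa [add_sub_cancel_right] at this⟩
  · intro H n
    exact (key n).2 ⟨(H n).1, (H (n - 1)).2⟩

theorem isDerivedComplete_iff (I : Ideal A) (K : Dual.D A) :
    DRing.IsDerivedComplete I K ↔ ∀ f ∈ I, ∀ i : ℤ, SeqBij f (Dual.HD A K i) := by
  constructor
  · intro H f hf
    exact (away_orth_iff f K).1 (H f hf)
  · intro H f hf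
    exact (away_orth_iff f K).2 (H f hf)

end Groth.Agent.Lib.Helper84.DComp

namespace Groth.Agent.Lib.Helper84.DComp

open Groth.Agent.Lib.Helper84 AwayRes DCompAlg

variable {A : Type u} [CommRing A]

lemma seqMap_equiv {N N' : Type u} [AddCommGroup N] [Module A N] [AddCommGroup N'] [Module A N']
    (e : N ≃ₗ[A] N') (f : A) (m : ℕ → N) :
    seqMap N' f (fun k => e (m k)) = fun k => e (seqMap N f m k) := by
  ext k
  simp [seqMap]

lemma seqBij_of_equiv {N N' : Type u} [AddCommGroup N] [Module A N] [AddCommGroup N']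
    [Module A N'] (e : N ≃ₗ[A] N') (f : A) (h : SeqBij f N) : SeqBij f N' := by
  constructor
  · intro m m' hm
    have h1 : seqMap N f (fun k => e.symm (m k)) = seqMap N f (fun k => e.symm (m' k)) := by
      rw [seqMap_equiv e.symm, seqMap_equiv e.symm]
      ext k
      exact congrArg e.symm (congrFun hm k)
    have h2 := h.1 h1
    ext k
    have := congrFun h2 k
    simpa using congrArg e this
  · intro c
    obtain ⟨m, hm⟩ := h.2 (fun k => e.symm (c k))
    refine ⟨fun k => e (m k), ?_⟩
    rw [seqMap_equiv e, hm]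
    ext k
    simp

lemma seqBij_of_subsingleton (N : Type u) [AddCommGroup N] [Module A N] [Subsingleton N] (f : A) :
    SeqBij f N :=
  ⟨fun _ _ _ => Subsingleton.elim _ _, fun c => ⟨c, Subsingleton.elim _ _⟩⟩

theorem isDerivedComplete_module_iff (I : Ideal A) (M : Type u) [AddCommGroup M] [Module A M] :
    DRing.IsDerivedComplete I (Dual.inD A M) ↔ ∀ f ∈ I, SeqBij f M := by
  rw [isDerivedComplete_iff]
  have e0 : Dual.HD A (Dual.inD A M) 0 ≃ₗ[A] M :=
    ((singleFunctorCompHomologyFunctorIso (ModuleCat.{u} A) 0).app (ModuleCat.of A M)).toLinearEquiv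
  constructor
  · intro H f hf
    exact seqBij_of_equiv e0 f (H f hf 0)
  · intro H f hf i
    by_cases hi : i = 0
    · subst hi
      exact seqBij_of_equiv e0.symm f (H f hf)
    · have hz : IsZero ((homologyFunctor (ModuleCat.{u} A) i).obj (Dual.inD A M)) := by
        rcases lt_or_gt_of_ne hi with h | h
        · exact isZero_of_isGE (Dual.inD A M) 0 i h
        · exact isZero_of_isLE (Dual.inD A M) 0 i h
      haveI : Subsingleton (Dual.HD A (Dual.inD A M) i) := ModuleCat.subsingleton_of_isZero hz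
      exact seqBij_of_subsingleton _ f

/-- an object is derived complete iff all its cohomology modules are -/
theorem isDerivedComplete_iff_homology (I : Ideal A) (K : Dual.D A) :
    DRing.IsDerivedComplete I K ↔
      ∀ i : ℤ, DRing.IsDerivedComplete I (Dual.inD A (Dual.HD A K i)) := by
  rw [isDerivedComplete_iff]
  simp only [isDerivedComplete_module_iff]
  exact ⟨fun H i f hf => H f hf i, fun H f hf i => H i f hf⟩

end Groth.Agent.Lib.Helper84.DComp

namespace Groth.Agent.Lib.Helper84.DComp

open Groth.Agent.Lib.Helper84 AwayRes DCompAlg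

variable {A : Type u} [CommRing A]

/-- the cohomology of (the image in `D(A)` of) a complex with `SeqBij` terms is `SeqBij` -/
lemma seqBij_HD_toD (F : DRing.Cx A) (f : A) (h : ∀ j : ℤ, SeqBij f (F.X j)) (i : ℤ) :
    SeqBij f (Dual.HD A (DRing.toD F) i) := by
  have e : (homologyFunctor (ModuleCat.{u} A) i).obj (Q.obj F) ≅ F.homology i :=
    (homologyFunctorFactors (ModuleCat.{u} A) i).app F
  refine seqBij_of_linearEquiv e.toLinearEquiv.symm f ?_
  exact seqBij_homology (F.sc i) f (h _) (h _) (h _)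

lemma isDerivedComplete_of_iso (I : Ideal A) {K L : Dual.D A} (e : K ≅ L)
    (h : DRing.IsDerivedComplete I K) : DRing.IsDerivedComplete I L := by
  rw [isDerivedComplete_iff] at h ⊢
  intro f hf i
  exact seqBij_of_linearEquiv
    ((homologyFunctor (ModuleCat.{u} A) i).mapIso e).toLinearEquiv f (h f hf i)

/-- a complex whose terms are derived complete modules (sequence form) is derived complete -/
lemma isDerivedComplete_toD (I : Ideal A) (F : DRing.Cx A)
    (h : ∀ f ∈ I, ∀ j : ℤ, SeqBij f (F.X j)) : DRing.IsDerivedComplete I (DRing.toD F) := by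
  rw [isDerivedComplete_iff]
  intro f hf i
  exact seqBij_HD_toD F f (h f hf) i

end Groth.Agent.Lib.Helper84.DComp
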