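import Mathlib

/-!
# Direct sums of injective modules over a Noetherian ring are injective (Bass–Papp) (helper84)
-/

set_option autoImplicit false
universe u

namespace Groth.Agent.Lib.Helper84.BassPapp

variable {A : Type u} [CommRing A] [IsNoetherianRing A]

/-- a finitely generated submodule of `ι →₀ E` is supported on a finite set -/
lemma exists_le_supported {ι : Type*} {E : Type*} [AddCommGroup E] [Module A E]
    (N : Submodule A (ι →₀ E)) (hN : N.FG) :
    ∃ s : Finset ι, N ≤ Finsupp.supported E A (s : Set ι) := by
  classical
  obtain ⟨T, rfl⟩ := hN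
  refine ⟨T.biUnion Finsupp.support, ?_⟩
  rw [Submodule.span_le]
  intro m hm
  rw [SetLike.mem_coe, Finsupp.mem_supported]
  intro i hi
  exact Finset.mem_biUnion.2 ⟨m, hm, hi⟩

theorem baer_finsupp (ι : Type) (E : Type u) [AddCommGroup E] [Module A E]
    [Module.Injective A E] : Module.Baer A (ι →₀ E) := by
  classical
  intro I g
  have hfg : (LinearMap.range g).FG := by
    rw [LinearMap.range_eq_map]
    exact Submodule.FG.map _ (Module.Finite.fg_top)
  obtain ⟨s, hs⟩ := exists_le_supported _ hfg
  -- the supported submodule is injective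
  have hB : Module.Baer A (Finsupp.supported E A (s : Set ι)) := by
    have h1 : Module.Baer A (((s : Set ι) : Type) → E) := Module.Baer.of_injective inferInstance
    exact Module.Baer.of_equiv
      ((Finsupp.supportedEquivFinsupp (R := A) (M := E) (s : Set ι)).trans
        (Finsupp.linearEquivFunOnFinite A E (s : Set ι))).symm h1
  let g₀ : I →ₗ[A] Finsupp.supported E A (s : Set ι) :=
    g.codRestrict _ (fun x => hs (LinearMap.mem_range_self g x))
  obtain ⟨h₀, hh₀⟩ := hB I g₀
  refine ⟨(Finsupp.supported E A (s : Set ι)).subtype ∘ₗ h₀, fun x hx => ?_⟩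
  rw [LinearMap.comp_apply, hh₀ x hx]
  rfl

theorem injective_finsupp (ι : Type) (E : Type u) [AddCommGroup E] [Module A E]
    [Module.Injective A E] : Module.Injective A (ι →₀ E) :=
  Module.Baer.injective (baer_finsupp ι E)

end Groth.Agent.Lib.Helper84.BassPapp
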