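import Mathlib

/-!
# The coinduced resolution `0 → N → Hom_A(A[X], N) → Hom_A(A[X], N) → 0` (helper84)
-/

set_option autoImplicit false
universe u

open Polynomial

namespace Groth.Agent.Lib.Helper84.CoindPoly

variable {A : Type u} [CommRing A] {N : Type u} [AddCommGroup N] [Module A N] [Module A[X] N]
  [IsScalarTower A A[X] N]

/-- the recursive sequence used to solve `φ (X p) - X φ(p) = ψ p` -/
noncomputable def cseq (ψ : A[X] →ₗ[A] N) : ℕ → N
  | 0 => 0
  | n + 1 => (X : A[X]) • cseq ψ n + ψ (X ^ n)

/-- multiplication by `X` on `N`, as an `A`-linear map -/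
noncomputable def mulX : N →ₗ[A] N where
  toFun n := (X : A[X]) • n
  map_add' := smul_add _
  map_smul' a n := by
    rw [RingHom.id_apply]
    exact smul_comm _ _ _

lemma constr_X_pow (c : ℕ → N) (k : ℕ) : (basisMonomials A).constr A c (X ^ k) = c k := by
  have := (basisMonomials A).constr_basis A c k
  rw [coe_basisMonomials] at this
  simpa [← X_pow_eq_monomial] using this

@[simp] lemma mulX_apply (n : N) : mulX (A := A) n = (X : A[X]) • n := rfl

/-- surjectivity of `φ ↦ (p ↦ φ (X p) - X φ(p))` -/
theorem exists_solution (ψ : A[X] →ₗ[A] N) :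
    ∃ φ : A[X] →ₗ[A] N, ∀ p : A[X], φ (X * p) - (X : A[X]) • φ p = ψ p := by
  refine ⟨(basisMonomials A).constr A (cseq ψ), ?_⟩
  -- both sides are linear in `p`
  let L : A[X] →ₗ[A] N :=
    ((basisMonomials A).constr A (cseq ψ)) ∘ₗ (LinearMap.mulLeft A (X : A[X])) -
      (mulX (A := A) (N := N)) ∘ₗ ((basisMonomials A).constr A (cseq ψ))
  have hL : L = ψ := by
    apply (basisMonomials A).ext
    intro n
    have hb : (basisMonomials A) n = X ^ n := by
      rw [coe_basisMonomials]
      exact (X_pow_eq_monomial n).symm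
    rw [hb]
    simp only [L, LinearMap.sub_apply, LinearMap.comp_apply, LinearMap.mulLeft_apply, mulX_apply]
    rw [← pow_succ', constr_X_pow, constr_X_pow, cseq]
    abel
  intro p
  exact LinearMap.congr_fun hL p

/-- exactness in the middle -/
theorem eq_smul_of_comm (φ : A[X] →ₗ[A] N) (h : ∀ p : A[X], φ (X * p) = (X : A[X]) • φ p)
    (p : A[X]) : φ p = p • φ 1 := by
  induction p using Polynomial.induction_on with
  | C a =>
    have : (C a : A[X]) = a • (1 : A[X]) := by rw [smul_eq_C_mul, mul_one]
    rw [this, map_smul, smul_assoc, one_smul]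
  | add p q hp hq => rw [map_add, hp, hq, add_smul]
  | monomial n a ih =>
    have : (C a * X ^ (n + 1) : A[X]) = X * (C a * X ^ n) := by ring
    rw [this, h, ih, smul_smul]

end Groth.Agent.Lib.Helper84.CoindPoly

namespace Groth.Agent.Lib.Helper84.CoindPoly

open CategoryTheory CategoryTheory.Limits

section Cat

variable {A : Type u} [CommRing A] (M : ModuleCat.{u} A[X])

/-- `M` as an `A`-module -/
noncomputable abbrev MA : ModuleCat.{u} A := (ModuleCat.restrictScalars (C : A →+* A[X])).obj M

/-- the coinduced module `Hom_A(A[X], M)` -/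
noncomputable abbrev Co : ModuleCat.{u} A[X] :=
  (ModuleCat.coextendScalars (C : A →+* A[X])).obj (MA M)

/-- `m ↦ (p ↦ p • m)` -/
noncomputable def eta : M ⟶ Co M :=
  (ModuleCat.restrictCoextendScalarsAdj (C : A →+* A[X])).unit.app M

/-- multiplication by `X` on `M`, as an `A`-linear map -/
noncomputable def mulXhom : MA M ⟶ MA M :=
  (ModuleCat.restrictScalars (C : A →+* A[X])).map ((X : A[X]) • 𝟙 M)

/-- `φ ↦ (p ↦ φ (X p) - X φ(p))` -/
noncomputable def delta : Co M ⟶ Co M :=
  (X : A[X]) • 𝟙 (Co M) - (ModuleCat.coextendScalars (C : A →+* A[X])).map (mulXhom M)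

/-- evaluation of an element of the coinduced module -/
noncomputable def ev (φ : Co M) (p : A[X]) : M :=
  (ModuleCat.CoextendScalars.equiv (C : A →+* A[X]) (MA M) φ).toFun p

lemma ev_add (φ : Co M) (p q : A[X]) : ev M φ (p + q) = ev M φ p + ev M φ q :=
  (ModuleCat.CoextendScalars.equiv (C : A →+* A[X]) (MA M) φ).map_add' p q

lemma ev_C_mul (φ : Co M) (a : A) (p : A[X]) : ev M φ (C a * p) = (C a : A[X]) • ev M φ p :=
  (ModuleCat.CoextendScalars.equiv (C : A →+* A[X]) (MA M) φ).map_smul' a p

lemma ev_zero (p : A[X]) : ev M (0 : Co M) p = 0 := rfl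

lemma ev_eta (m : M) (p : A[X]) : ev M (eta M m) p = p • m := rfl

lemma ev_delta (φ : Co M) (p : A[X]) :
    ev M (delta M φ) p = ev M φ (p * X) - (X : A[X]) • ev M φ p := rfl

lemma ev_ext {φ φ' : Co M} (h : ∀ p : A[X], ev M φ p = ev M φ' p) : φ = φ' := by
  apply ModuleCat.CoextendScalars.ext
  apply LinearMap.ext
  intro p
  exact h p

/-- the `A`-module structure on (the carrier of) `M` -/
noncomputable local instance instModA : Module A M := Module.compHom M (C : A →+* A[X])

local instance instTower : IsScalarTower A A[X] M :=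
  ⟨fun a p m => by
    change (a • p) • m = (C a : A[X]) • (p • m)
    rw [smul_eq_C_mul, mul_smul]⟩

lemma smul_def (a : A) (m : M) : a • m = (C a : A[X]) • m := rfl

/-- an element of the coinduced module as a linear map -/
noncomputable def toLin (φ : Co M) : A[X] →ₗ[A] M where
  toFun p := ev M φ p
  map_add' p q := ev_add M φ p q
  map_smul' a p := by
    rw [RingHom.id_apply, smul_eq_C_mul, ev_C_mul, smul_def]

/-- a linear map as an element of the coinduced module -/
noncomputable def fromLin (φ : A[X] →ₗ[A] M) : Co M :=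
  (ModuleCat.CoextendScalars.equiv (C : A →+* A[X]) (MA M)).symm
    { toFun := fun p => φ (show A[X] from p)
      map_add' := fun p q => map_add φ (show A[X] from p) (show A[X] from q)
      map_smul' := fun a p => by
        rw [RingHom.id_apply]
        change φ ((C a : A[X]) * (show A[X] from p)) = a • φ (show A[X] from p)
        rw [← smul_eq_C_mul, map_smul] }

lemma toLin_apply (φ : Co M) (p : A[X]) : toLin M φ p = ev M φ p := rfl

lemma ev_fromLin (φ : A[X] →ₗ[A] M) (p : A[X]) : ev M (fromLin M φ) p = φ p := rfl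

lemma eta_injective : Function.Injective (eta M) := by
  intro m m' h
  have h1 : ev M (eta M m) 1 = ev M (eta M m') 1 := by rw [h]
  rwa [ev_eta, ev_eta, one_smul, one_smul] at h1

lemma delta_surjective : Function.Surjective (delta M) := by
  intro ψ
  obtain ⟨φ, hφ⟩ := exists_solution (toLin M ψ)
  refine ⟨fromLin M φ, ?_⟩
  apply ev_ext
  intro p
  rw [ev_delta, ev_fromLin, ev_fromLin, mul_comm]
  exact hφ p

lemma eta_delta : eta M ≫ delta M = 0 := by
  apply ModuleCat.hom_ext
  apply LinearMap.ext
  intro m
  apply ev_ext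
  intro p
  change ev M (delta M (eta M m)) p = 0
  rw [ev_delta, ev_eta, ev_eta, mul_comm, mul_smul, sub_self]

lemma exact_eta_delta (φ : Co M) (h : delta M φ = 0) : ∃ m : M, eta M m = φ := by
  refine ⟨ev M φ 1, ?_⟩
  apply ev_ext
  intro p
  have hc : ∀ q : A[X], toLin M φ (X * q) = (X : A[X]) • toLin M φ q := by
    intro q
    have h1 : ev M (delta M φ) q = 0 := by rw [h]; rfl
    rw [ev_delta, sub_eq_zero, mul_comm] at h1
    exact h1
  rw [ev_eta]
  exact (eq_smul_of_comm (toLin M φ) hc p).symm

/-- the coinduced resolution, as a short complex -/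
noncomputable def coindSC : ShortComplex (ModuleCat.{u} A[X]) :=
  ShortComplex.mk (eta M) (delta M) (eta_delta M)

lemma coindSC_shortExact : (coindSC M).ShortExact := by
  have hm : Mono (coindSC M).f := (ModuleCat.mono_iff_injective _).2 (eta_injective M)
  have he : Epi (coindSC M).g := (ModuleCat.epi_iff_surjective _).2 (delta_surjective M)
  refine ShortComplex.ShortExact.mk ?_
  rw [ShortComplex.moduleCat_exact_iff]
  intro x hx
  exact exact_eta_delta M x hx

end Cat

end Groth.Agent.Lib.Helper84.CoindPoly
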