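import Groth.Agent.Lib.Helper84.DRingInjAmp
import Groth.Agent.Lib.Helper84.DRingInj

/-!
# Injective amplitude `[0, 1]` from a two-term injective resolution (helper84)
-/

set_option autoImplicit false
universe u

open CategoryTheory CategoryTheory.Limits CategoryTheory.Pretriangulated DerivedCategory
open DRing

attribute [local instance] HasDerivedCategory.standard

namespace Groth.Agent.Lib.Helper84.InjAmpSES

variable {R : Type u} [CommRing R]

/-- no maps `N[-n] ⟶ X[0]` for `n ≠ 0` and `X` injective -/
lemma hom_single_single_eq_zero (N X : ModuleCat.{u} R) [Injective X] (n : ℤ) (hn : n ≠ 0)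
    (φ : (DerivedCategory.singleFunctor (ModuleCat.{u} R) n).obj N ⟶
      (DerivedCategory.singleFunctor (ModuleCat.{u} R) 0).obj X) : φ = 0 := by
  let J : Cx R := (CochainComplex.singleFunctor (ModuleCat.{u} R) 0).obj X
  have hv : VanishesOutside J 0 0 := by
    intro j hj
    exact HomologicalComplex.isZero_single_obj_X (ComplexShape.up ℤ) 0 X j (by
      rcases hj with hj | hj <;> lia)
  have hinj : TermwiseInjective J := by
    intro j
    rw [DRingInj.injective_obj_iff]
    by_cases hj : j = 0
    · subst hj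
      exact Injective.of_iso (HomologicalComplex.singleObjXSelf (ComplexShape.up ℤ) 0 X).symm
        inferInstance
    · exact (HomologicalComplex.isZero_single_obj_X (ComplexShape.up ℤ) 0 X j hj).injective
  haveI : J.IsKInjective := DRingInj.isKInjective_of_termwiseInjective J 0 0 hv hinj
  let e : (DerivedCategory.singleFunctor (ModuleCat.{u} R) 0).obj X ≅ Q.obj J :=
    (DerivedCategory.singleFunctorIsoCompQ (ModuleCat.{u} R) 0).app X
  have h0 : φ ≫ e.hom = 0 :=
    InjAmp.hom_single_eq_zero_of_isZero J N n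
      (HomologicalComplex.isZero_single_obj_X (ComplexShape.up ℤ) 0 X n hn) _
  exact (cancel_mono e.hom).1 (h0.trans zero_comp.symm)

theorem hasInjAmplitudeIn_of_shortExact (S : ShortComplex (ModuleCat.{u} R)) (hS : S.ShortExact)
    [Injective S.X₂] [Injective S.X₃] :
    HasInjAmplitudeIn R 0 1 ((DerivedCategory.singleFunctor (ModuleCat.{u} R) 0).obj S.X₁) := by
  apply DRingInjAmp.hasInjAmplitudeIn_of_vanishing
  intro I i hi φ
  have hT := hS.singleTriangle_distinguished
  have hi0 : i ≠ 0 := by rcases hi with hi | hi <;> lia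
  have hi1 : i - 1 ≠ 0 := by rcases hi with hi | hi <;> lia
  have h1 : φ ≫ hS.singleTriangle.mor₁ = 0 :=
    hom_single_single_eq_zero _ S.X₂ i hi0 _
  have h1' : φ⟦(1 : ℤ)⟧' ≫ hS.singleTriangle.mor₁⟦(1 : ℤ)⟧' = 0 := by
    have := congrArg (fun f => (shiftFunctor (Dual.D R) (1 : ℤ)).map f) h1
    simp only [Functor.map_comp, Functor.map_zero] at this
    exact this
  obtain ⟨g, hg⟩ := Triangle.coyoneda_exact₁ _ hT (φ⟦(1 : ℤ)⟧') h1'
  let e := ((singleFunctors (ModuleCat.{u} R)).shiftIso 1 (i - 1) i (by lia)).app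
    (ModuleCat.of R (R ⧸ I))
  have hg0 : g = 0 := by
    have : e.inv ≫ g = 0 := hom_single_single_eq_zero _ S.X₃ (i - 1) hi1 _
    exact (cancel_epi e.inv).1 (this.trans comp_zero.symm)
  rw [hg0, zero_comp] at hg
  exact (shiftFunctor (Dual.D R) (1 : ℤ)).map_injective (hg.trans (Functor.map_zero _ _ _).symm)

end Groth.Agent.Lib.Helper84.InjAmpSES
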