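import Groth.Agent.Lib.Helper84.KInj
import Mathlib

/-!
# Maps from single objects into K-injective complexes (helper84)
-/

set_option autoImplicit false
universe w v u

open CategoryTheory CategoryTheory.Limits CategoryTheory.Pretriangulated DerivedCategory

namespace Groth.Agent.Lib.Helper84.InjAmp

variable {C : Type u} [Category.{v} C] [Abelian C] [HasDerivedCategory.{w} C]

/-- no maps from a single object in degree `n` to a K-injective complex whose `n`-th term is zero -/
lemma hom_single_eq_zero_of_isZero (J : CochainComplex C ℤ) [J.IsKInjective] (N : C) (n : ℤ)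
    (hn : IsZero (J.X n)) (φ : (DerivedCategory.singleFunctor C n).obj N ⟶ Q.obj J) : φ = 0 := by
  obtain ⟨f, rfl⟩ := KInj.exists_Q_map_eq ((CochainComplex.singleFunctor C n).obj N) J φ
  have : f = 0 := by
    apply HomologicalComplex.from_single_hom_ext
    exact hn.eq_of_tgt _ _
  rw [this]
  exact Functor.map_zero _ _ _

/-- if there are no nonzero maps `N[-n] ⟶ J` in the derived category (`J` K-injective), every
`g : N ⟶ Jⁿ` with `d g = 0` factors through `d : Jⁿ⁻¹ ⟶ Jⁿ` -/
lemma exists_factor (J : CochainComplex C ℤ) [J.IsKInjective] (N : C) (n n' n'' : ℤ)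
    (hn' : n' + 1 = n) (hn'' : n + 1 = n'')
    (H : ∀ φ : (DerivedCategory.singleFunctor C n).obj N ⟶ Q.obj J, φ = 0)
    (g : N ⟶ J.X n) (hg : g ≫ J.d n n'' = 0) : ∃ h : N ⟶ J.X n', h ≫ J.d n' n = g := by
  let ĝ : (CochainComplex.singleFunctor C n).obj N ⟶ J :=
    HomologicalComplex.mkHomFromSingle g (by
      intro k hk
      have : k = n'' := by
        have : n + 1 = k := hk
        lia
      subst this
      exact hg)
  have h0 : Q.map ĝ = Q.map 0 := by
    rw [Functor.map_zero]
    exact H _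
  obtain ⟨ho⟩ := KInj.nonempty_homotopy_of_Q_map_eq _ J ĝ 0 h0
  have h1 := ho.comm n
  rw [dNext_eq ho.hom (show (ComplexShape.up ℤ).Rel n n'' from hn''),
    prevD_eq ho.hom (show (ComplexShape.up ℤ).Rel n' n from hn')] at h1
  have h2 : ((CochainComplex.singleFunctor C n).obj N).d n n'' = 0 := by
    apply (HomologicalComplex.isZero_single_obj_X (ComplexShape.up ℤ) n N n'' (by lia)).eq_of_tgt
  rw [h2, zero_comp, zero_add, HomologicalComplex.zero_f, add_zero,
    HomologicalComplex.mkHomFromSingle_f] at h1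
  refine ⟨(HomologicalComplex.singleObjXSelf (ComplexShape.up ℤ) n N).inv ≫ ho.hom n n', ?_⟩
  rw [Category.assoc]
  exact ((Iso.inv_comp_eq _).2 h1.symm)

end Groth.Agent.Lib.Helper84.InjAmp

namespace Groth.Agent.Lib.Helper84.InjAmp

section Baer

variable {R : Type u} [CommRing R] {X Y W : Type u} [AddCommGroup X] [Module R X]
  [AddCommGroup Y] [Module R Y] [AddCommGroup W] [Module R W]

/-- Baer-type criterion: `ker d` is injective if `X` is injective and every `R/I → Y` killed by
`d'` lifts along `d : X → Y` -/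
lemma injective_ker (d : X →ₗ[R] Y) (d' : Y →ₗ[R] W) (hdd : d' ∘ₗ d = 0)
    (hX : Module.Injective R X)
    (H : ∀ (I : Ideal R) (g : (R ⧸ I) →ₗ[R] Y), d' ∘ₗ g = 0 →
      ∃ h : (R ⧸ I) →ₗ[R] X, d ∘ₗ h = g) :
    Module.Injective R (LinearMap.ker d) := by
  apply Module.Baer.injective
  intro I g
  obtain ⟨ψ, hψ⟩ := (Module.Baer.of_injective hX) I ((LinearMap.ker d).subtype ∘ₗ g)
  -- `d ∘ ψ` kills `I`
  have hkill : I ≤ LinearMap.ker (d ∘ₗ ψ) := by
    intro x hx
    rw [LinearMap.mem_ker, LinearMap.comp_apply, hψ x hx]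
    exact (g ⟨x, hx⟩).2
  let gbar : (R ⧸ I) →ₗ[R] Y := Submodule.liftQ I (d ∘ₗ ψ) hkill
  have hgbar : d' ∘ₗ gbar = 0 := by
    apply LinearMap.ext
    intro q
    obtain ⟨x, rfl⟩ := Submodule.mkQ_surjective _ q
    change d' (d (ψ x)) = 0
    exact LinearMap.congr_fun hdd (ψ x)
  obtain ⟨h, hh⟩ := H I gbar hgbar
  let g' : R →ₗ[R] X := ψ - h ∘ₗ I.mkQ
  have hg' : ∀ x, g' x ∈ LinearMap.ker d := by
    intro x
    rw [LinearMap.mem_ker]
    change d (ψ x - h (I.mkQ x)) = 0
    rw [map_sub, sub_eq_zero]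
    have := LinearMap.congr_fun hh (I.mkQ x)
    exact this.symm
  refine ⟨LinearMap.codRestrict _ g' hg', ?_⟩
  intro x hx
  apply Subtype.ext
  change ψ x - h (I.mkQ x) = _
  have h0 : I.mkQ x = 0 := (Submodule.Quotient.mk_eq_zero I).2 hx
  rw [h0, map_zero, sub_zero, hψ x hx]
  rfl

end Baer

end Groth.Agent.Lib.Helper84.InjAmp
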