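import Groth.Prelude.Def_DRing2
import Groth.Agent.Lib.Helper84.InjAmp
import Groth.Agent.Lib.Helper84.DRingBasic
import Groth.Agent.Lib.Helper84.DRingInj
import Groth.Agent.Lib.Helper84.HomPart
import Mathlib

/-!
# Injective amplitude in `D(R)` via vanishing of `Hom(R/I[-i], K)` (helper84)
-/

set_option autoImplicit false
universe u

open CategoryTheory CategoryTheory.Limits CategoryTheory.Pretriangulated DerivedCategory

attribute [local instance] HasDerivedCategory.standard

namespace Groth.Agent.Lib.Helper84.DRingInjAmp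

open DRing Groth.Agent.Lib.Helper84
open scoped ZeroObject

variable {R : Type u} [CommRing R]

/-- `R ⧸ ⊥` is projective -/
instance : Projective (ModuleCat.of R (R ⧸ (⊥ : Ideal R))) := by
  have : Module.Projective R (R ⧸ (⊥ : Ideal R)) :=
    Module.Projective.of_equiv (Submodule.quotEquivOfEqBot (⊥ : Ideal R) rfl).symm
  exact (IsProjective.iff_projective _).1 this

/-- vanishing of `Hom((R/⊥)[-i], K)` kills `H^i(K)` -/
lemma subsingleton_HD_of_hom_eq_zero (K : Dual.D R) (i : ℤ)
    (H : ∀ φ : (DerivedCategory.singleFunctor (ModuleCat.{u} R) i).obj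
      (ModuleCat.of R (R ⧸ (⊥ : Ideal R))) ⟶ K, φ = 0) : Subsingleton (Dual.HD R K i) := by
  refine ⟨fun x y => ?_⟩
  have key : ∀ x : Dual.HD R K i, x = 0 := by
    intro x
    let g : (R ⧸ (⊥ : Ideal R)) →ₗ[R] Dual.HD R K i :=
      (LinearMap.toSpanSingleton R _ x) ∘ₗ (Submodule.quotEquivOfEqBot (⊥ : Ideal R) rfl).toLinearMap
    obtain ⟨φ, hφ⟩ := HomPart.exists_homPart_eq (P := ModuleCat.of R (R ⧸ (⊥ : Ideal R))) i K
      (ModuleCat.ofHom g)
    rw [H φ, HomPart.homPart_zero] at hφ
    have h1 : g = 0 := by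
      have := congrArg ModuleCat.Hom.hom hφ
      exact this.symm
    have h2 := LinearMap.congr_fun h1 (Submodule.Quotient.mk 1)
    have h3 : g (Submodule.Quotient.mk 1) = x := by
      change (LinearMap.toSpanSingleton R _ x)
        ((Submodule.quotEquivOfEqBot (⊥ : Ideal R) rfl) (Submodule.Quotient.mk 1)) = x
      rw [Submodule.quotEquivOfEqBot_apply_mk, LinearMap.toSpanSingleton_apply, one_smul]
    rw [← h3, h2]
    rfl
  rw [key x, key y]

/-- the kernel of `d : Jᵇ → Jᵇ⁺¹`, as the cycles of the complex -/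
noncomputable def cyclesIsoKer (J : Cx R) (b b' : ℤ) (hb : b + 1 = b') :
    J.cycles b ≅ ModuleCat.of R (LinearMap.ker (J.d b b').hom) :=
  IsLimit.conePointUniqueUpToIso (J.cyclesIsKernel b b' (by simp [← hb]))
    (ModuleCat.kernelIsLimit (J.d b b'))

theorem hasInjAmplitudeIn_of_vanishing (K : Dual.D R) (a b : ℤ)
    (H : ∀ (I : Ideal R) (i : ℤ), (i < a ∨ b < i) →
      ∀ φ : (DerivedCategory.singleFunctor (ModuleCat.{u} R) i).obj
        (ModuleCat.of R (R ⧸ I)) ⟶ K, φ = 0) : HasInjAmplitudeIn R a b K := by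
  -- cohomological bounds
  haveI : K.IsGE a := DRingBasic.isGE_of_subsingleton K a
    (fun i hi => subsingleton_HD_of_hom_eq_zero K i (H ⊥ i (Or.inl hi)))
  haveI : K.IsLE b := DRingBasic.isLE_of_subsingleton K b
    (fun i hi => subsingleton_HD_of_hom_eq_zero K i (H ⊥ i (Or.inr hi)))
  -- an injective resolution in degrees `≥ a`
  obtain ⟨L, hL, ⟨e₁⟩⟩ := DerivedCategory.exists_iso_Q_obj_of_isGE K a
  obtain ⟨J, i, hi, hJinj, hJ⟩ :=
    CochainComplex.Plus.modelCategoryQuillen.exists_quasiIso_injective L a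
  haveI : J.IsKInjective := CochainComplex.isKInjective_of_injective J a
  have e : K ≅ Q.obj J := e₁ ≪≫ asIso (Q.map i)
  haveI : (Q.obj J).IsLE b := DerivedCategory.TStructure.t.isLE_of_iso e b
  haveI : J.IsLE b := (DerivedCategory.isLE_Q_obj_iff J b).1 inferInstance
  -- the lifting property in degree `b + 1`
  have hlift : ∀ (I : Ideal R) (g : (R ⧸ I) →ₗ[R] J.X (b + 1)),
      (J.d (b + 1) (b + 1 + 1)).hom ∘ₗ g = 0 →
      ∃ h : (R ⧸ I) →ₗ[R] J.X b, (J.d b (b + 1)).hom ∘ₗ h = g := by
    intro I g hg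
    obtain ⟨h, hh⟩ := InjAmp.exists_factor J (ModuleCat.of R (R ⧸ I)) (b + 1) b (b + 1 + 1) rfl rfl
      (fun φ => by
        have := H I (b + 1) (Or.inr (by lia)) (φ ≫ e.inv)
        exact (cancel_mono e.inv).1 (this.trans zero_comp.symm))
      (ModuleCat.ofHom g) (by
        apply ModuleCat.hom_ext
        exact hg)
    refine ⟨h.hom, ?_⟩
    have := congrArg ModuleCat.Hom.hom hh
    exact this
  have hZ : Module.Injective R (LinearMap.ker (J.d b (b + 1)).hom) := by
    refine InjAmp.injective_ker (J.d b (b + 1)).hom (J.d (b + 1) (b + 1 + 1)).hom ?_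
      ((DRingInj.injective_obj_iff _).2 (hJinj b)) hlift
    have := congrArg ModuleCat.Hom.hom (J.d_comp_d b (b + 1) (b + 1 + 1))
    exact this
  -- the truncation
  refine ⟨J.truncLE b, ?_, ?_, ⟨asIso (Q.map (J.ιTruncLE b)) ≪≫ e.symm⟩⟩
  · intro j hj
    by_cases hjb : b < j
    · exact CochainComplex.isZero_of_isStrictlyLE _ b j hjb
    · have hja : j < a := by
        rcases hj with hj | hj
        · exact hj
        · exact absurd hj hjb
      have hz : IsZero (J.X j) := CochainComplex.isZero_of_isStrictlyGE J a j hja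
      rcases eq_or_lt_of_le (not_lt.1 hjb) with rfl | hlt
      · exact IsZero.of_iso (IsZero.of_mono (J.iCycles j) hz) (J.truncLEXIsoCycles j)
      · exact IsZero.of_iso hz (J.truncLEXIso b j hlt)
  · intro j
    rw [DRingInj.injective_obj_iff]
    rcases lt_trichotomy j b with hlt | rfl | hgt
    · exact Injective.of_iso (J.truncLEXIso b j hlt).symm (hJinj j)
    · have h1 : Injective (ModuleCat.of R (LinearMap.ker (J.d j (j + 1)).hom)) :=
        (DRingInj.injective_obj_iff _).1 hZ
      exact Injective.of_iso ((J.truncLEXIsoCycles j) ≪≫ cyclesIsoKer J j (j + 1) rfl).symm h1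
    · exact (CochainComplex.isZero_of_isStrictlyLE _ b j hgt).injective

end Groth.Agent.Lib.Helper84.DRingInjAmp
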