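import Groth.Agent.Lib.Helper84.FlatAmpTri
import Groth.Agent.Lib.Helper84.DRingPerf
import Groth.Agent.Lib.Helper84.DRingPC

/-!
# Tor amplitude and perfect complexes (helper84)

* `exists_finiteProjective_trunc`: a bounded above complex `F` of finite projective modules with
  `H^i(N ⊗ F) = 0` for all `N` and `i < a` is quasi-isomorphic to a complex of finite projective
  modules in degrees `[a, n]`.
-/

set_option autoImplicit false
universe u

open CategoryTheory CategoryTheory.Limits CategoryTheory.Pretriangulated DerivedCategory
open DRing MonoidalCategory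

attribute [local instance] HasDerivedCategory.standard

namespace Groth.Agent.Lib.Helper84.FlatAmp

open TensCx

variable {R : Type u} [CommRing R]

lemma finiteProjective_of_isZero {M : ModuleCat.{u} R} (h : IsZero M) :
    Module.Finite R M ∧ Module.Projective R M := by
  haveI := ModuleCat.isZero_iff_subsingleton.1 h
  exact ⟨inferInstance, inferInstance⟩

/-- a flat cokernel of a map of finite projective modules is finite projective -/
lemma finiteProjective_coker {P1 P2 : Type u} [AddCommGroup P1] [AddCommGroup P2] [Module R P1]
    [Module R P2] [Module.Finite R P1] [Module.Finite R P2] [Module.Projective R P2]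
    (d1 : P1 →ₗ[R] P2) [Module.Flat R (P2 ⧸ LinearMap.range d1)] :
    Module.Finite R (P2 ⧸ LinearMap.range d1) ∧ Module.Projective R (P2 ⧸ LinearMap.range d1) := by
  haveI : Module.FinitePresentation R P2 := Module.finitePresentation_of_projective R P2
  haveI : Module.FinitePresentation R (P2 ⧸ LinearMap.range d1) :=
    Module.finitePresentation_of_surjective (LinearMap.range d1).mkQ
      (Submodule.mkQ_surjective _) (by
        rw [Submodule.ker_mkQ, LinearMap.range_eq_map]
        exact Module.Finite.fg_top.map d1)
  exact ⟨inferInstance, Module.Flat.projective_of_finitePresentation⟩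

/-- truncating a bounded above complex of finite projective modules with vanishing Tor below
`a` -/
theorem exists_finiteProjective_trunc (F : Cx R) (a n : ℤ) (hn : VanishesAbove F n)
    (hF : TermwiseFiniteProjective F)
    (hex : ∀ (N : ModuleCat.{u} R) (i : ℤ), i < a → ((tens N).obj F).ExactAt i) :
    ∃ E : Cx R, VanishesOutside E a n ∧ TermwiseFiniteProjective E ∧
      Nonempty (toD E ≅ toD F) := by
  haveI : F.IsGE a := by
    rw [CochainComplex.isGE_iff]
    intro i hi
    exact exactAt_of_exactAt_tens_unit F i (hex _ i hi)
  haveI : QuasiIso (F.πTruncGE a) := inferInstance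
  haveI : IsIso (Q.map (F.πTruncGE a)) := by
    rw [isIso_Q_map_iff_quasiIso]
    infer_instance
  refine ⟨F.truncGE a, ?_, ?_, ⟨(asIso (Q.map (F.πTruncGE a))).symm⟩⟩
  · intro i hi
    rcases lt_trichotomy i a with hlt | rfl | hgt
    · exact CochainComplex.isZero_of_isStrictlyGE _ a i hlt
    · have hi' : n < i := by
        rcases hi with hi | hi
        · exact absurd hi (lt_irrefl _)
        · exact hi
      exact IsZero.of_iso (IsZero.of_epi (F.pOpcycles i) (hn i hi')) (F.truncGEXIsoOpcycles i)
    · have hi' : n < i := by
        rcases hi with hi | hi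
        · lia
        · exact hi
      exact IsZero.of_iso (hn i hi') (F.truncGEXIso a i hgt)
  · intro i
    rcases lt_trichotomy i a with hlt | rfl | hgt
    · exact finiteProjective_of_isZero (CochainComplex.isZero_of_isStrictlyGE _ a i hlt)
    · obtain ⟨h1, h2⟩ := hF i
      obtain ⟨h1', _⟩ := hF (i - 1)
      haveI : Module.Flat R (F.X i) := inferInstance
      haveI : Module.Flat R (F.X i ⧸ LinearMap.range (F.d (i - 1) i).hom) :=
        flat_coker_of_exactAt F i (fun N => hex N (i - 1) (by lia))
      have h3 := finiteProjective_coker (F.d (i - 1) i).hom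
      exact DRingPerf.finiteProjective_of_iso ((F.truncGEXIsoOpcycles i) ≪≫
        opcyclesIsoCoker F (i - 1) i (by lia)).symm h3
    · exact DRingPerf.finiteProjective_of_iso (F.truncGEXIso a i hgt).symm (hF i)

lemma termwiseFlat_of_finiteProjective {F : Cx R} (hF : TermwiseFiniteProjective F) :
    TermwiseFlat F := fun i => by
  obtain ⟨_, h2⟩ := hF i
  infer_instance

lemma termwiseFiniteProjective_of_finiteFree {F : Cx R} (hF : TermwiseFiniteFree F) :
    TermwiseFiniteProjective F := fun i => by
  obtain ⟨h1, h2⟩ := hF i
  exact ⟨h1, inferInstance⟩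

/-- pseudo-coherent + tor amplitude in `[a, b]` gives a finite projective representative in
degrees `[a, n]` for some `n` -/
theorem exists_finiteProjective_of_pc_of_torAmp (K : Dual.D R) (hK : IsPseudoCoherent' R K)
    (a b : ℤ) (h : HasTorAmplitudeIn R a b K) :
    ∃ (E : Cx R) (n : ℤ), VanishesOutside E a n ∧ TermwiseFiniteProjective E ∧
      Nonempty (toD E ≅ K) := by
  obtain ⟨F, n, hn, hF, ⟨e⟩⟩ := hK
  have hF' := termwiseFiniteProjective_of_finiteFree hF
  obtain ⟨E, h1, h2, ⟨e'⟩⟩ := exists_finiteProjective_trunc F a n hn hF' (fun N i hi =>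
    exactAt_tens_of_hasTorAmplitudeIn F n hn (termwiseFlat_of_finiteProjective hF') a b
      (torAmp_of_iso h e.symm) N i hi)
  exact ⟨E, n, h1, h2, ⟨e' ≪≫ e⟩⟩

end Groth.Agent.Lib.Helper84.FlatAmp
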