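import Groth.Agent.Lib.Helper84.K0Euler
import Groth.Agent.Lib.Helper84.Devissage

/-!
# `K₀(R) ≅ K₀(D_perf(R))` (helper84)
-/

set_option autoImplicit false
universe u

open CategoryTheory CategoryTheory.Limits CategoryTheory.Pretriangulated DerivedCategory
open DRing
open scoped ZeroObject

attribute [local instance] HasDerivedCategory.standard

namespace Groth.Agent.Lib.Helper84.K0Perf

open K0Euler

variable (R : Type u) [CommRing R]

/-- perfect objects of `D(R)` -/
abbrev Perf : ObjectProperty (Dual.D R) := fun K : Dual.D R => DRing.IsPerfect R K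

variable {R}

/-- the class of an object in `K₀(D_perf(R))` -/
noncomputable abbrev clT (K : Dual.D R) : KZero.K0tr (Perf R) := KZero.clTr (Perf R) K

lemma clT_of_triangle (T : Triangle (Dual.D R)) (hT : T ∈ distTriang _)
    (h₁ : Perf R T.obj₁) (h₂ : Perf R T.obj₂) (h₃ : Perf R T.obj₃) :
    clT T.obj₂ = clT T.obj₁ + clT T.obj₃ := by
  unfold clT KZero.clTr
  rw [dif_pos h₁, dif_pos h₂, dif_pos h₃, ← sub_eq_zero, ← sub_sub, ← QuotientAddGroup.mk_sub,
    ← QuotientAddGroup.mk_sub, QuotientAddGroup.eq_zero_iff]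
  exact AddSubgroup.subset_closure ⟨T, h₁, h₂, h₃, hT, rfl⟩

lemma perf_zero : Perf R (0 : Dual.D R) := DRingPerf.isPerfect_of_isZero _ (isZero_zero _)

lemma clT_zero : clT (0 : Dual.D R) = 0 := by
  have h := clT_of_triangle _ (contractible_distinguished (0 : Dual.D R)) perf_zero perf_zero
    perf_zero
  simpa using h

lemma clT_of_iso {K L : Dual.D R} (e : K ≅ L) (hK : Perf R K) : clT K = clT L := by
  have hL : Perf R L := DRingPerf.isPerfect_of_iso e hK
  have hT : Triangle.mk e.hom (0 : L ⟶ (0 : Dual.D R)) 0 ∈ distTriang (Dual.D R) := by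
    refine isomorphic_distinguished _ (contractible_distinguished K) _
      (Triangle.isoMk _ _ (Iso.refl _) e.symm (Iso.refl _)
        (by change e.hom ≫ e.inv = 𝟙 K ≫ 𝟙 K; rw [e.hom_inv_id, Category.comp_id])
        (by change (0 : L ⟶ 0) ≫ 𝟙 0 = e.inv ≫ (0 : K ⟶ 0); rw [zero_comp, comp_zero])
        (by change (0 : (0 : Dual.D R) ⟶ K⟦(1 : ℤ)⟧) ≫ (shiftFunctor (Dual.D R) (1 : ℤ)).map (𝟙 K)
              = 𝟙 0 ≫ 0; rw [zero_comp, comp_zero]))
  have h := clT_of_triangle _ hT hK hL perf_zero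
  simp only [Triangle.mk_obj₁, Triangle.mk_obj₂, Triangle.mk_obj₃] at h
  rw [h, clT_zero, add_zero]

lemma clT_of_isZero {K : Dual.D R} (hK : IsZero K) : clT K = 0 := by
  rw [clT_of_iso (hK.iso (isZero_zero _)) (DRingPerf.isPerfect_of_isZero _ hK), clT_zero]

lemma clT_shift_one (K : Dual.D R) (hK : Perf R K) : clT (K⟦(1 : ℤ)⟧) = - clT K := by
  have hT := rot_of_distTriang _ (contractible_distinguished K)
  have h := clT_of_triangle _ hT hK perf_zero (DRingPerf.isPerfect_shift K 1 hK)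
  simp only [Triangle.rotate_obj₁, Triangle.rotate_obj₂, Triangle.rotate_obj₃,
    contractibleTriangle_obj₁, contractibleTriangle_obj₂, contractibleTriangle_obj₃] at h
  rw [clT_zero] at h
  exact (neg_eq_of_add_eq_zero_right h.symm).symm

lemma perf_single (M : ModuleCat.{u} R) (hM : FP R M) (i : ℤ) :
    Perf R ((DerivedCategory.singleFunctor (ModuleCat.{u} R) i).obj M) := by
  refine ⟨(CochainComplex.singleFunctor (ModuleCat.{u} R) i).obj M, i, i, ?_, ?_,
    ⟨((DerivedCategory.singleFunctorIsoCompQ (ModuleCat.{u} R) i).app M).symm⟩⟩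
  · intro j hj
    exact HomologicalComplex.isZero_single_obj_X (ComplexShape.up ℤ) i M j (by
      rcases hj with hj | hj <;> lia)
  · intro j
    by_cases hj : j = i
    · subst hj
      exact DRingPerf.finiteProjective_of_iso
        (HomologicalComplex.singleObjXSelf (ComplexShape.up ℤ) j M).symm hM
    · exact fp_of_isZero (HomologicalComplex.isZero_single_obj_X (ComplexShape.up ℤ) i M j hj)

/-- the map on generators `K₀(R) → K₀(D_perf(R))` -/
noncomputable def phiGen : Subtype (FP R) → KZero.K0tr (Perf R) :=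
  fun M => clT ((DerivedCategory.singleFunctor (ModuleCat.{u} R) 0).obj M.1)

lemma relSub_le : KZero.relSub (FP R) ≤ (FreeAbelianGroup.lift (phiGen (R := R))).ker := by
  unfold KZero.relSub
  rw [AddSubgroup.closure_le]
  rintro x ⟨S, h₁, h₂, h₃, hS, rfl⟩
  change FreeAbelianGroup.lift phiGen _ = 0
  rw [map_sub, map_sub, FreeAbelianGroup.lift_apply_of, FreeAbelianGroup.lift_apply_of,
    FreeAbelianGroup.lift_apply_of, sub_sub, sub_eq_zero]
  exact clT_of_triangle _ hS.singleTriangle_distinguished (perf_single _ h₁ 0)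
    (perf_single _ h₂ 0) (perf_single _ h₃ 0)

/-- `K₀(R) → K₀(D_perf(R))` -/
noncomputable def phi : KZero.K0sub (FP R) →+ KZero.K0tr (Perf R) :=
  QuotientAddGroup.lift (KZero.relSub (FP R)) (FreeAbelianGroup.lift phiGen) relSub_le

lemma phi_cl (M : ModuleCat.{u} R) (hM : FP R M) :
    phi (cl M) = clT ((DerivedCategory.singleFunctor (ModuleCat.{u} R) 0).obj M) := by
  unfold cl KZero.clSub
  rw [dif_pos hM]
  change FreeAbelianGroup.lift phiGen (FreeAbelianGroup.of ⟨M, hM⟩) = _
  rw [FreeAbelianGroup.lift_apply_of]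
  rfl

/-- the map on generators `K₀(D_perf(R)) → K₀(R)`: Euler characteristic of a chosen
representative -/
noncomputable def psiGen : Subtype (Perf R) → KZero.K0sub (FP R) :=
  fun K => chi K.2.choose K.2.choose_spec.choose K.2.choose_spec.choose_spec.choose

lemma psiGen_eq (K : Dual.D R) (hK : Perf R K) (E : Cx R) (a b : ℤ) (hv : VanishesOutside E a b)
    (hp : TermwiseFiniteProjective E) (e : toD E ≅ K) : psiGen ⟨K, hK⟩ = chi E a b := by
  obtain ⟨h1, h2, ⟨e'⟩⟩ := hK.choose_spec.choose_spec.choose_spec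
  exact chi_eq_of_iso _ _ _ _ _ _ h1 hv h2 hp (e' ≪≫ e.symm)

lemma relTr_le : KZero.relTr (Perf R) ≤ (FreeAbelianGroup.lift (psiGen (R := R))).ker := by
  unfold KZero.relTr
  rw [AddSubgroup.closure_le]
  rintro x ⟨T, h₁, h₂, h₃, hT, rfl⟩
  change FreeAbelianGroup.lift psiGen _ = 0
  rw [map_sub, map_sub, FreeAbelianGroup.lift_apply_of, FreeAbelianGroup.lift_apply_of,
    FreeAbelianGroup.lift_apply_of, sub_sub, sub_eq_zero]
  obtain ⟨E₁, a₁, b₁, v₁, p₁, ⟨e₁⟩⟩ := h₁
  obtain ⟨E₂, a₂, b₂, v₂, p₂, ⟨e₂⟩⟩ := h₂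
  obtain ⟨E₃, a₃, b₃, v₃, p₃, ⟨e₃⟩⟩ := h₃
  rw [psiGen_eq _ _ E₁ a₁ b₁ v₁ p₁ e₁, psiGen_eq _ _ E₂ a₂ b₂ v₂ p₂ e₂,
    psiGen_eq _ _ E₃ a₃ b₃ v₃ p₃ e₃]
  exact chi_add_of_triangle T hT E₁ E₂ E₃ _ _ _ _ _ _ v₁ v₂ v₃ p₁ p₂ p₃ e₁ e₂ e₃

/-- `K₀(D_perf(R)) → K₀(R)` -/
noncomputable def psi : KZero.K0tr (Perf R) →+ KZero.K0sub (FP R) :=
  QuotientAddGroup.lift (KZero.relTr (Perf R)) (FreeAbelianGroup.lift psiGen) relTr_le

lemma psi_clT (K : Dual.D R) (E : Cx R) (a b : ℤ) (hv : VanishesOutside E a b)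
    (hp : TermwiseFiniteProjective E) (e : toD E ≅ K) : psi (clT K) = chi E a b := by
  have hK : Perf R K := ⟨E, a, b, hv, hp, ⟨e⟩⟩
  unfold clT KZero.clTr
  rw [dif_pos hK]
  change FreeAbelianGroup.lift psiGen (FreeAbelianGroup.of ⟨K, hK⟩) = _
  rw [FreeAbelianGroup.lift_apply_of]
  exact psiGen_eq K hK E a b hv hp e

lemma psi_phi_cl (M : ModuleCat.{u} R) (hM : FP R M) : psi (phi (cl M)) = cl M := by
  rw [phi_cl M hM]
  have hv : VanishesOutside ((CochainComplex.singleFunctor (ModuleCat.{u} R) 0).obj M) 0 0 := by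
    intro j hj
    exact HomologicalComplex.isZero_single_obj_X (ComplexShape.up ℤ) 0 M j (by
      rcases hj with hj | hj <;> lia)
  have hp : TermwiseFiniteProjective ((CochainComplex.singleFunctor (ModuleCat.{u} R) 0).obj M) := by
    intro j
    by_cases hj : j = 0
    · subst hj
      exact DRingPerf.finiteProjective_of_iso
        (HomologicalComplex.singleObjXSelf (ComplexShape.up ℤ) 0 M).symm hM
    · exact fp_of_isZero (HomologicalComplex.isZero_single_obj_X (ComplexShape.up ℤ) 0 M j hj)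
  rw [psi_clT _ _ 0 0 hv hp ((DerivedCategory.singleFunctorIsoCompQ (ModuleCat.{u} R) 0).app M).symm]
  unfold chi
  rw [Finset.Icc_self, Finset.sum_singleton, Int.negOnePow_zero]
  simp only [Units.val_one, one_smul]
  exact cl_of_iso (HomologicalComplex.singleObjXSelf (ComplexShape.up ℤ) 0 M) (hp 0)

lemma psi_phi (x : KZero.K0sub (FP R)) : psi (phi x) = x := by
  induction x using QuotientAddGroup.induction_on with
  | H z =>
    induction z using FreeAbelianGroup.induction_on with
    | zero => simp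
    | of M =>
      have h : (QuotientAddGroup.mk (FreeAbelianGroup.of M) : KZero.K0sub (FP R)) = cl M.1 := by
        unfold cl KZero.clSub
        rw [dif_pos M.2]
      rw [h]
      exact psi_phi_cl M.1 M.2
    | neg M ih =>
      rw [QuotientAddGroup.mk_neg, map_neg, map_neg, ih]
    | add x y hx hy =>
      rw [QuotientAddGroup.mk_add, map_add, map_add, hx, hy]

/-- the property used for the dévissage: perfect with class in the range of `phi` -/
def InRange : ObjectProperty (Dual.D R) := fun K => Perf R K ∧ clT K ∈ (phi (R := R)).range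

instance : (InRange (R := R)).IsClosedUnderIsomorphisms :=
  ⟨fun e h => ⟨DRingPerf.isPerfect_of_iso e h.1, by rw [← clT_of_iso e h.1]; exact h.2⟩⟩

lemma inRange_of_isZero (K : Dual.D R) (hK : IsZero K) : InRange K :=
  ⟨DRingPerf.isPerfect_of_isZero K hK, by rw [clT_of_isZero hK]; exact zero_mem _⟩

lemma inRange_obj₂ (T : Triangle (Dual.D R)) (hT : T ∈ distTriang _) (h₁ : InRange T.obj₁)
    (h₃ : InRange T.obj₃) : InRange T.obj₂ := by
  have h₂ := DRingPerf.isPerfect_obj₂ T hT h₁.1 h₃.1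
  refine ⟨h₂, ?_⟩
  rw [clT_of_triangle T hT h₁.1 h₂ h₃.1]
  exact add_mem h₁.2 h₃.2

lemma inRange_shift_one (K : Dual.D R) (hK : InRange K) : InRange (K⟦(1 : ℤ)⟧) :=
  ⟨DRingPerf.isPerfect_shift K 1 hK.1, by rw [clT_shift_one K hK.1]; exact neg_mem hK.2⟩

lemma inRange_shift_neg_one (K : Dual.D R) (hK : InRange K) : InRange (K⟦(-1 : ℤ)⟧) := by
  have hp := DRingPerf.isPerfect_shift K (-1) hK.1
  refine ⟨hp, ?_⟩
  have h1 := clT_shift_one _ hp
  have h2 : clT ((K⟦(-1 : ℤ)⟧)⟦(1 : ℤ)⟧) = clT K :=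
    clT_of_iso (shiftNegShift K (1 : ℤ)) (DRingPerf.isPerfect_shift _ 1 hp)
  rw [h2] at h1
  rw [← neg_neg (clT (K⟦(-1 : ℤ)⟧)), ← h1]
  exact neg_mem hK.2

lemma inRange_shift (K : Dual.D R) (hK : InRange K) (n : ℤ) : InRange (K⟦n⟧) := by
  induction n using Int.induction_on with
  | zero => exact (InRange (R := R)).prop_of_iso ((shiftFunctorZero (Dual.D R) ℤ).app K).symm hK
  | succ n ih =>
    exact (InRange (R := R)).prop_of_iso
      ((shiftFunctorAdd' (Dual.D R) (n : ℤ) 1 (n + 1) rfl).app K).symm (inRange_shift_one _ ih)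
  | pred n ih =>
    exact (InRange (R := R)).prop_of_iso
      ((shiftFunctorAdd' (Dual.D R) (-(n : ℤ)) (-1) (-(n : ℤ) - 1) (by lia)).app K).symm
      (inRange_shift_neg_one _ ih)

lemma inRange_single (M : ModuleCat.{u} R) (hM : FP R M) (i : ℤ) :
    InRange ((DerivedCategory.singleFunctor (ModuleCat.{u} R) i).obj M) := by
  have h0 : InRange ((DerivedCategory.singleFunctor (ModuleCat.{u} R) 0).obj M) :=
    ⟨perf_single M hM 0, ⟨cl M, phi_cl M hM⟩⟩
  exact (InRange (R := R)).prop_of_iso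
    (((singleFunctors (ModuleCat.{u} R)).shiftIso (-i) i 0 (by lia)).app M)
    (inRange_shift _ h0 (-i))

lemma inRange_of_perf (K : Dual.D R) (hK : Perf R K) : InRange K := by
  obtain ⟨E, a, b, hv, hp, ⟨e⟩⟩ := hK
  refine (InRange (R := R)).prop_of_iso e ?_
  exact Devissage.prop_of_bounded_complex (InRange (R := R)) inRange_of_isZero
    (fun T hT h₁ h₃ => inRange_obj₂ T hT h₁ h₃) E a b hv
    (fun i => inRange_single (E.X i) (hp i) i)

lemma phi_surjective : Function.Surjective (phi (R := R)) := by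
  intro y
  rw [← AddMonoidHom.mem_range]
  induction y using QuotientAddGroup.induction_on with
  | H z =>
    induction z using FreeAbelianGroup.induction_on with
    | zero => exact zero_mem _
    | of K =>
      have h : (QuotientAddGroup.mk (FreeAbelianGroup.of K) : KZero.K0tr (Perf R)) = clT K.1 := by
        unfold clT KZero.clTr
        rw [dif_pos K.2]
      rw [h]
      exact (inRange_of_perf K.1 K.2).2
    | neg K ih =>
      rw [QuotientAddGroup.mk_neg]
      exact neg_mem ih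
    | add x y hx hy =>
      rw [QuotientAddGroup.mk_add]
      exact add_mem hx hy

lemma phi_injective : Function.Injective (phi (R := R)) :=
  Function.LeftInverse.injective (g := psi) psi_phi

/-- `K₀(R) ≃ K₀(D_perf(R))` -/
noncomputable def phiEquiv : KZero.K0sub (FP R) ≃+ KZero.K0tr (Perf R) :=
  AddEquiv.ofBijective phi ⟨phi_injective, phi_surjective⟩

lemma phiEquiv_symm_apply (y : KZero.K0tr (Perf R)) : phiEquiv.symm y = psi y := by
  have h := psi_phi (phiEquiv.symm y)
  have h2 : phi (phiEquiv.symm y) = y := phiEquiv.apply_symm_apply y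
  rw [h2] at h
  exact h.symm

theorem main :
    ∃ φ : KZero.K0sub (FP R) ≃+ KZero.K0tr (Perf R),
      (∀ (M : Type u) [AddCommGroup M] [Module R M], Module.Finite R M → Module.Projective R M →
        φ (KZero.clSub (FP R) (ModuleCat.of R M)) = KZero.clTr (Perf R) (Dual.inD R M)) ∧
      ∀ (E : DRing.Cx R) (a b : ℤ), DRing.VanishesOutside E a b →
        DRing.TermwiseFiniteProjective E →
        φ.symm (KZero.clTr (Perf R) (DRing.toD E)) =
          (Finset.Icc a b).sum (fun i => (i.negOnePow : ℤ) • KZero.clSub (FP R) (E.X i)) := by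
  refine ⟨phiEquiv, ?_, ?_⟩
  · intro M _ _ h1 h2
    exact phi_cl (ModuleCat.of R M) ⟨h1, h2⟩
  · intro E a b hv hp
    rw [phiEquiv_symm_apply]
    exact psi_clT _ E a b hv hp (Iso.refl _)

end Groth.Agent.Lib.Helper84.K0Perf
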