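import Groth.Agent.Lib.Helper84.TotF

/-!
# The total complex functor preserves quasi-isomorphisms of bounded below double complexes
(helper84)
-/

open CategoryTheory CategoryTheory.Limits HomologicalComplex

namespace Groth.Agent.Lib.Helper84.Tot

universe v u
variable {A : Type u} [Category.{v} A] [Abelian A]

theorem main (a : ℤ) (m : ℕ) : ∀ (b : ℤ) (K L : HomologicalComplex₂ A up up) (φ : K ⟶ L)
    [K.HasTotal up] [L.HasTotal up] (_ : Bdd K a b) (_ : Bdd L a b) (_ : RowQis K L φ),
    (∀ n : ℤ, n < a + b + m → Mono (homologyMap (HomologicalComplex₂.total.map φ up) n)) ∧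
    (∀ n : ℤ, n + 1 < a + b + m →
      IsIso (homologyMap (HomologicalComplex₂.total.map φ up) n)) := by
  induction m with
  | zero =>
    intro b K L φ _ _ hK hL hφ
    constructor
    · intro n hn
      have hz : IsZero ((K.total up).homology n) :=
        isZero_homology_of_isZero_X n (isZero_total_X_of_bdd K a b hK n (by simpa using hn))
      exact ⟨fun _ _ _ => hz.eq_of_tgt _ _⟩
    · intro n hn
      have hn' : n < a + b := by
        simp only [Nat.cast_zero, add_zero] at hn
        omega
      exact isIso_of_isZero _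
        (isZero_homology_of_isZero_X n (isZero_total_X_of_bdd K a b hK n hn'))
        (isZero_homology_of_isZero_X n (isZero_total_X_of_bdd L a b hL n hn'))
  | succ m ih =>
    intro b K L φ _ _ hK hL hφ
    have := hasTotal_of_bdd (gtK b K) a (b + 1) (bdd_gtK b K a hK)
    have := hasTotal_of_bdd (gtK b L) a (b + 1) (bdd_gtK b L a hL)
    have hK' : RowBdd b K := fun p q h => hK p q (Or.inr h)
    have hL' : RowBdd b L := fun p q h => hL p q (Or.inr h)
    obtain ⟨ihm, ihi⟩ := ih (b + 1) (gtK b K) (gtK b L) (gtKMap b K L φ) (bdd_gtK b K a hK)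
      (bdd_gtK b L a hL) (rowQis_gtKMap b K L φ hφ)
    have hrow : QuasiIso (rowCxMap b K L φ) := quasiIso_rowCxMap b K L φ hφ
    have h3 : ∀ n, IsIso (homologyMap (rowCxMap b K L φ) n) := fun n => by
      rw [← quasiIsoAt_iff_isIso_homologyMap]; infer_instance
    have e1 := shortExact_SK b K hK'
    have e2 := shortExact_SK b L hL'
    constructor
    · intro n hn
      have h3' := h3 (n - 1)
      have h3'' := h3 n
      have h4 : Epi (homologyMap (rowCxMap b K L φ) (n - 1)) := inferInstance
      have h5 : Mono (homologyMap (rowCxMap b K L φ) n) := inferInstance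
      exact mono_homologyMap_τ₂ (SKMap b K L φ hK' hL') e1 e2 (n - 1) n (by simp)
        h4 (ihm n (by push_cast at hn ⊢; omega)) h5
    · intro n hn
      have h3' := h3 (n - 1)
      have h4 : Epi (homologyMap (rowCxMap b K L φ) (n - 1)) := inferInstance
      exact isIso_homologyMap_τ₂ (SKMap b K L φ hK' hL') e1 e2 (n - 1) n (n + 1) (by simp) (by simp)
        h4
        (ihi n (by push_cast at hn ⊢; omega))
        (h3 n)
        (ihm (n + 1) (by push_cast at hn ⊢; omega))

theorem quasiIso_total_map (K L : HomologicalComplex₂ A up up) (φ : K ⟶ L) (a b : ℤ)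
    (hK : Bdd K a b) (hL : Bdd L a b) [K.HasTotal up] [L.HasTotal up] [QuasiIso φ] :
    QuasiIso (HomologicalComplex₂.total.map φ up) := by
  rw [quasiIso_iff]
  intro n
  rw [quasiIsoAt_iff_isIso_homologyMap]
  have hm : n + 1 < a + b + ((n + 2 - a - b).toNat : ℤ) := by
    have := Int.self_le_toNat (n + 2 - a - b)
    omega
  exact (main a (n + 2 - a - b).toNat b K L φ hK hL (rowQis_of_quasiIso K L φ)).2 n hm

end Groth.Agent.Lib.Helper84.Tot
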