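import Mathlib
import Groth.Prelude.Def_SekSuwa
import Groth.Prelude.Def_NonAbH2

/-!
# Flatness / affineness / surjectivity of `G^(λ)` and its base changes (helper84, for lead's S14687)

* `flat_A` : `SekSuwa.A R lam` is flat over `R` (it is a retract of `R[X]_{1 + λX}`).
* `flat_G`, `flat_bc` : `G^(λ) → Spec R` and every base change of it is flat.
* `isAffineHom_bc_G`, `isAffineHom_bc_Gm` : base changes of `G^(λ)` and `Red.diag R ℤ` are affine over the base.
* `surjective_bc` : base changes of a group object are surjective onto the base (unit section).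
-/

set_option autoImplicit false
universe u
open CategoryTheory CategoryTheory.Limits AlgebraicGeometry Polynomial

namespace Groth.Agent.Lib.Helper84.SekFlat

section Alg
variable (R : Type u) [CommRing R] (lam : R)

/-- the polynomial `1 + λX` -/
noncomputable def pol : R[X] := 1 + C lam * X

/-- `R[X]_{1+λX}` -/
abbrev L : Type u := Localization.Away (pol R lam)

theorem flat_L : Module.Flat R (L R lam) := by
  haveI : Module.Flat R[X] (L R lam) := IsLocalization.flat (L R lam) (Submonoid.powers (pol R lam))
  exact Module.Flat.trans R R[X] (L R lam)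

theorem rel_L :
    (1 + lam • (algebraMap R[X] (L R lam) X)) * IsLocalization.Away.invSelf (pol R lam) = 1 := by
  have h : algebraMap R[X] (L R lam) (pol R lam) * IsLocalization.Away.invSelf (pol R lam) = 1 :=
    IsLocalization.Away.mul_invSelf (pol R lam)
  have e : algebraMap R[X] (L R lam) (pol R lam) = 1 + lam • (algebraMap R[X] (L R lam) X) := by
    have e0 : algebraMap R[X] (L R lam) (pol R lam) =
        algebraMap R[X] (L R lam) (1 + C lam * X) := rfl
    rw [e0, map_add, map_one, map_mul, Algebra.smul_def,
      IsScalarTower.algebraMap_apply R R[X] (L R lam)]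
    rfl
  rw [← e]
  exact h

/-- `A R lam → R[X]_{1+λX}`, `t ↦ X`, `inv ↦ 1/(1+λX)` -/
noncomputable def toL : SekSuwa.A R lam →ₐ[R] L R lam :=
  SekSuwa.A.lift R lam (algebraMap R[X] (L R lam) X) (IsLocalization.Away.invSelf (pol R lam))
    (rel_L R lam)

theorem aeval_pol : Polynomial.aeval (SekSuwa.A.t : SekSuwa.A R lam) (pol R lam) = SekSuwa.A.u := by
  have e0 : Polynomial.aeval (SekSuwa.A.t : SekSuwa.A R lam) (pol R lam) =
      Polynomial.aeval (SekSuwa.A.t : SekSuwa.A R lam) (1 + C lam * X) := rfl
  rw [e0, map_add, map_one, map_mul, Polynomial.aeval_C, Polynomial.aeval_X, SekSuwa.A.u_def]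

/-- `R[X]_{1+λX} → A R lam`, `X ↦ t` -/
noncomputable def fromL : L R lam →ₐ[R] SekSuwa.A R lam :=
  IsLocalization.liftAlgHom (M := Submonoid.powers (pol R lam))
    (f := Polynomial.aeval (SekSuwa.A.t : SekSuwa.A R lam)) (by
      rintro ⟨_, n, rfl⟩
      change IsUnit (Polynomial.aeval (SekSuwa.A.t : SekSuwa.A R lam) (pol R lam ^ n))
      rw [map_pow, aeval_pol]
      exact SekSuwa.A.isUnit_u.pow n)

theorem fromL_algebraMap (p : R[X]) :
    fromL R lam (algebraMap R[X] (L R lam) p) = Polynomial.aeval (SekSuwa.A.t : SekSuwa.A R lam) p := by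
  unfold fromL
  exact IsLocalization.lift_eq _ p

theorem fromL_comp_toL : (fromL R lam).comp (toL R lam) = AlgHom.id R (SekSuwa.A R lam) := by
  apply SekSuwa.A.algHom_ext
  · change fromL R lam (toL R lam SekSuwa.A.t) = SekSuwa.A.t
    rw [toL, SekSuwa.A.lift_t, fromL_algebraMap, Polynomial.aeval_X]
  · change fromL R lam (toL R lam SekSuwa.A.inv) = SekSuwa.A.inv
    rw [toL, SekSuwa.A.lift_inv]
    have h1 : fromL R lam (algebraMap R[X] (L R lam) (pol R lam)) *
        fromL R lam (IsLocalization.Away.invSelf (pol R lam)) = 1 := by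
      rw [← map_mul, IsLocalization.Away.mul_invSelf, map_one]
    rw [fromL_algebraMap, aeval_pol] at h1
    calc fromL R lam (IsLocalization.Away.invSelf (pol R lam))
        = (SekSuwa.A.inv * SekSuwa.A.u) * fromL R lam (IsLocalization.Away.invSelf (pol R lam)) := by
          rw [SekSuwa.A.inv_mul_u, one_mul]
      _ = SekSuwa.A.inv * (SekSuwa.A.u * fromL R lam (IsLocalization.Away.invSelf (pol R lam))) := by
          rw [mul_assoc]
      _ = SekSuwa.A.inv := by rw [h1, mul_one]

/-- **(a)** the coordinate ring of `G^(λ)` is flat over `R`. -/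
theorem flat_A : Module.Flat R (SekSuwa.A R lam) := by
  have := flat_L R lam
  refine Module.Flat.of_retract (toL R lam).toLinearMap (fromL R lam).toLinearMap ?_
  ext a
  exact congrArg (fun φ : SekSuwa.A R lam →ₐ[R] SekSuwa.A R lam => φ a) (fromL_comp_toL R lam)

end Alg

section Geom
variable {X : Scheme.{u}} (R : Type u) [CommRing R] (lam : R) (f : X ⟶ Spec (CommRingCat.of R))

theorem G_hom : (SekSuwa.G R lam).hom =
    Spec.map (CommRingCat.ofHom (algebraMap R (SekSuwa.A R lam))) := rfl

instance flat_G : Flat (SekSuwa.G R lam).hom := by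
  change Flat (Spec.map (CommRingCat.ofHom (algebraMap R (SekSuwa.A R lam))))
  rw [HasRingHomProperty.Spec_iff (P := @Flat)]
  change (algebraMap R (SekSuwa.A R lam)).Flat
  rw [RingHom.flat_algebraMap_iff]
  exact flat_A R lam

theorem bc_hom (Y : Over (Spec (CommRingCat.of R))) : (Red.bc f Y).hom = pullback.snd Y.hom f := rfl

/-- **(b)** every base change of `G^(λ)` is flat over the base. -/
instance flat_bc : Flat (Red.bc f (SekSuwa.G R lam)).hom := by
  change Flat (pullback.snd (SekSuwa.G R lam).hom f)
  infer_instance

instance isAffineHom_G : IsAffineHom (SekSuwa.G R lam).hom := by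
  change IsAffineHom (Spec.map (CommRingCat.ofHom (algebraMap R (SekSuwa.A R lam))))
  infer_instance

/-- **(c)** every base change of `G^(λ)` is affine over the base. -/
instance isAffineHom_bc_G : IsAffineHom (Red.bc f (SekSuwa.G R lam)).hom := by
  change IsAffineHom (pullback.snd (SekSuwa.G R lam).hom f)
  exact MorphismProperty.pullback_snd (P := @IsAffineHom) _ _ inferInstance

theorem diag_hom (M : Type) [AddCommGroup M] : (Red.diag R M).hom =
    Spec.map (CommRingCat.ofHom (algebraMap R (MonoidAlgebra R (Multiplicative M)))) := rfl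

/-- **(c')** every base change of the split multiplicative group is affine over the base. -/
instance isAffineHom_diag (M : Type) [AddCommGroup M] : IsAffineHom (Red.diag R M).hom := by
  change IsAffineHom (Spec.map (CommRingCat.ofHom (algebraMap R (MonoidAlgebra R (Multiplicative M)))))
  infer_instance

instance isAffineHom_bc_Gm : IsAffineHom (Red.bc f (Red.diag R ℤ)).hom := by
  change IsAffineHom (pullback.snd (Red.diag R ℤ).hom f)
  exact MorphismProperty.pullback_snd (P := @IsAffineHom) _ _ inferInstance

/-- a morphism with a section is surjective -/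
theorem surjective_of_section {Y Z : Scheme.{u}} (p : Y ⟶ Z) (s : Z ⟶ Y) (h : s ≫ p = 𝟙 Z) :
    Surjective p := by
  refine ⟨fun z => ⟨s.base z, ?_⟩⟩
  rw [← Scheme.Hom.comp_apply, h]
  rfl

/-- the structure morphism of a monoid object over `S` is surjective (unit section) -/
theorem surjective_of_monObj {S : Scheme.{u}} (Y : Over S) [MonObj Y] : Surjective Y.hom := by
  refine surjective_of_section Y.hom (MonObj.one (X := Y)).left ?_
  exact Over.w (MonObj.one (X := Y))

/-- **(d)** every base change of `G^(λ)` is surjective onto the base. -/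
instance surjective_bc : Surjective (Red.bc f (SekSuwa.G R lam)).hom :=
  surjective_of_monObj _

instance surjective_bc_Gm : Surjective (Red.bc f (Red.diag R ℤ)).hom :=
  surjective_of_monObj _

end Geom

end Groth.Agent.Lib.Helper84.SekFlat
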