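import Mathlib

/-!
# Artin–Rees for tensor products with powers of an ideal (module-level core for S14102)
-/

namespace Groth.Agent.Lib.Helper84.ARDer

open TensorProduct

universe u v

variable {A : Type u} [CommRing A]

/-- The multiplication map `I ⊗ M → M`. -/
noncomputable def mu (I : Ideal A) (M : Type v) [AddCommGroup M] [Module A M] :
    (I ⊗[A] M) →ₗ[A] M :=
  (TensorProduct.lid A M).toLinearMap ∘ₗ (LinearMap.rTensor M I.subtype)

section
variable (I : Ideal A) (M : Type v) [AddCommGroup M] [Module A M]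

@[simp] lemma mu_tmul (a : I) (x : M) : mu I M (a ⊗ₜ x) = (a : A) • x := by
  simp [mu]

lemma mu_injective [Module.Flat A M] : Function.Injective (mu I M) := by
  unfold mu
  have h1 := Module.Flat.rTensor_preserves_injective_linearMap (M := M) I.subtype
    Subtype.val_injective
  exact (TensorProduct.lid A M).injective.comp h1

lemma mu_mem (w : I ⊗[A] M) : mu I M w ∈ I • (⊤ : Submodule A M) := by
  induction w using TensorProduct.induction_on with
  | zero => simp
  | tmul a x => rw [mu_tmul]; exact Submodule.smul_mem_smul a.2 trivial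
  | add x y hx hy => rw [map_add]; exact add_mem hx hy

end

lemma mu_lTensor (I : Ideal A) {M N : Type v} [AddCommGroup M] [Module A M]
    [AddCommGroup N] [Module A N] (f : M →ₗ[A] N) (w : I ⊗[A] M) :
    mu I N (LinearMap.lTensor I f w) = f (mu I M w) := by
  induction w using TensorProduct.induction_on with
  | zero => simp
  | tmul a x => simp
  | add x y hx hy => simp only [map_add, hx, hy]

lemma mu_rTensor_inclusion {I I' : Ideal A} (h : I ≤ I') (M : Type v) [AddCommGroup M] [Module A M]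
    (w : I ⊗[A] M) :
    mu I' M (LinearMap.rTensor M (Submodule.inclusion h) w) = mu I M w := by
  induction w using TensorProduct.induction_on with
  | zero => simp
  | tmul a x => simp
  | add x y hx hy => simp only [map_add, hx, hy]

/-- Module-level Artin–Rees core. -/
theorem core [IsNoetherianRing A] (J : Ideal A) {K0 K1 K2 : Type v}
    [AddCommGroup K0] [Module A K0] [AddCommGroup K1] [Module A K1] [AddCommGroup K2] [Module A K2]
    [Module.Finite A K1] [Module.Flat A K1]
    (d₁ : K0 →ₗ[A] K1) (d₂ : K1 →ₗ[A] K2)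
    (hJ : ∀ x ∈ J, ∀ z : K1, d₂ z = 0 → x • z ∈ LinearMap.range d₁) :
    ∃ c : ℕ, ∀ (n m : ℕ) (h : c + m ≤ n) (w : (↥(J ^ n)) ⊗[A] K1),
      LinearMap.lTensor (↥(J ^ n)) d₂ w = 0 →
      ∃ v : (↥(J ^ m)) ⊗[A] K0, LinearMap.lTensor (↥(J ^ m)) d₁ v =
        LinearMap.rTensor K1 (Submodule.inclusion
          (Ideal.pow_le_pow_right (le_trans (Nat.le_add_left m c) h))) w := by
  obtain ⟨k, hk⟩ := Ideal.exists_pow_inf_eq_pow_smul J (LinearMap.ker d₂)
  refine ⟨k + 1, fun n m h w hw => ?_⟩
  -- the image of `w` in `K1`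
  have hy1 : mu (J ^ n) K1 w ∈ (J ^ n) • (⊤ : Submodule A K1) := mu_mem _ _ w
  have hy2 : mu (J ^ n) K1 w ∈ LinearMap.ker d₂ := by
    rw [LinearMap.mem_ker, ← mu_lTensor, hw, map_zero]
  have hy : mu (J ^ n) K1 w ∈ (J ^ n) • (⊤ : Submodule A K1) ⊓ LinearMap.ker d₂ := ⟨hy1, hy2⟩
  rw [hk n (by omega)] at hy
  -- `J^(n-k) • N' ≤ J^m • range d₁`
  have hle : J ^ (n - k) • ((J ^ k) • (⊤ : Submodule A K1) ⊓ LinearMap.ker d₂) ≤
      LinearMap.range ((mu (J ^ m) K1) ∘ₗ (LinearMap.lTensor (↥(J ^ m)) d₁)) := by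
    have e : n - k = (n - k - (m + 1)) + m + 1 := by omega
    rw [e, pow_succ, pow_add, mul_assoc, mul_smul, mul_smul]
    refine le_trans Submodule.smul_le_right ?_
    rw [Submodule.smul_le]
    intro r hr z hz
    have hz' : z ∈ LinearMap.range d₁ := by
      refine Submodule.smul_induction_on hz ?_ ?_
      · intro x hx z hz
        exact hJ x hx z hz.2
      · intro x y hx hy
        exact add_mem hx hy
    obtain ⟨t, rfl⟩ := hz'
    refine ⟨(⟨r, hr⟩ : ↥(J ^ m)) ⊗ₜ t, ?_⟩
    simp
  obtain ⟨v, hv⟩ := hle hy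
  refine ⟨v, ?_⟩
  apply mu_injective (J ^ m) K1
  rw [mu_rTensor_inclusion]
  exact hv

end Groth.Agent.Lib.Helper84.ARDer
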