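import Groth.Agent.Lib.Helper84.ARDer

/-!
# Artin–Rees for `J^p ⊗ K`, homological part (for S14102)
-/

namespace Groth.Agent.Lib.Helper84.ARDer

open CategoryTheory MonoidalCategory Limits TensorProduct

universe u

variable {A : Type u} [CommRing A] (J : Ideal A) (K : CochainComplex (ModuleCat.{u} A) ℤ)

/-- The complex `J^p ⊗ K`. -/
noncomputable abbrev T (p : ℕ) : CochainComplex (ModuleCat.{u} A) ℤ :=
  (((curriedTensor (ModuleCat.{u} A)).obj (ModuleCat.of A ↥(J ^ p))).mapHomologicalComplex
    (ComplexShape.up ℤ)).obj K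

/-- The map `J^n ⊗ K ⟶ J^m ⊗ K` for `m ≤ n`. -/
noncomputable abbrev ι {n m : ℕ} (h : m ≤ n) : T J K n ⟶ T J K m :=
  (NatTrans.mapHomologicalComplex
    ((curriedTensor (ModuleCat.{u} A)).map
      (ModuleCat.ofHom (Submodule.inclusion (p := J ^ n) (p' := J ^ m)
        (Ideal.pow_le_pow_right h))))
    (ComplexShape.up ℤ)).app K

/-- From annihilation of homology to the element-level hypothesis. -/
lemma smul_mem_range_of_homology (q : ℤ)
    (hJ : ∀ x ∈ J, ∀ c : ↑(K.homology q), x • c = 0) :
    ∀ x ∈ J, ∀ z : K.X q, (K.d q (q + 1)).hom z = 0 →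
      x • z ∈ LinearMap.range (K.d (q - 1) q).hom := by
  intro x hx z hz
  -- lift z to cycles
  let f : ModuleCat.of A A ⟶ K.X q := ModuleCat.ofHom (LinearMap.toSpanSingleton A (K.X q) z)
  have hf : f ≫ K.d q (q + 1) = 0 := by
    ext
    simp [f, hz]
  let g := K.liftCycles f (q + 1) (by simp) hf
  have hg : g ≫ K.iCycles q = f := K.liftCycles_i _ _ _ _
  let z' : K.cycles q := g.hom (1 : A)
  have hz' : (K.iCycles q).hom z' = z := by
    have := congrArg (fun φ => φ.hom (1 : A)) hg
    simpa [f] using this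
  have hex : (ShortComplex.mk (K.toCycles (q - 1) q) (K.homologyπ q) (by simp)).Exact :=
    ShortComplex.exact_of_g_is_cokernel _ (K.homologyIsCokernel (q - 1) q (by simp))
  rw [ShortComplex.moduleCat_exact_iff] at hex
  have h0 : (K.homologyπ q).hom (x • z') = 0 := by
    rw [map_smul]
    exact hJ x hx _
  obtain ⟨v, hv⟩ := hex (x • z') h0
  refine ⟨v, ?_⟩
  have h1 := congrArg (fun φ => φ.hom v) (K.toCycles_i (q - 1) q)
  simp only [ModuleCat.hom_comp, LinearMap.comp_apply] at h1
  dsimp at hv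
  rw [← h1, hv, map_smul, hz']

/-- Vanishing of the map on homology, given the element-level Artin–Rees statement. -/
theorem homologyMap_ι_eq_zero (q : ℤ) (c : ℕ)
    (hc : ∀ (n m : ℕ) (h : c + m ≤ n) (w : (↥(J ^ n)) ⊗[A] K.X q),
      LinearMap.lTensor (↥(J ^ n)) (K.d q (q + 1)).hom w = 0 →
      ∃ v : (↥(J ^ m)) ⊗[A] K.X (q - 1), LinearMap.lTensor (↥(J ^ m)) (K.d (q - 1) q).hom v =
        LinearMap.rTensor (K.X q) (Submodule.inclusion
          (Ideal.pow_le_pow_right (le_trans (Nat.le_add_left m c) h))) w)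
    {n m : ℕ} (h : c + m ≤ n) :
    HomologicalComplex.homologyMap (ι J K (le_trans (Nat.le_add_left m c) h)) q = 0 := by
  rw [← cancel_epi ((T J K n).homologyπ q), comp_zero, HomologicalComplex.homologyπ_naturality]
  ext z
  set w := ((T J K n).iCycles q).hom z with hw
  have hw0 : LinearMap.lTensor (↥(J ^ n)) (K.d q (q + 1)).hom w = 0 := by
    have := congrArg (fun φ => φ.hom z) ((T J K n).iCycles_d q (q + 1))
    simp only [ModuleCat.hom_comp, LinearMap.comp_apply] at this
    exact this
  obtain ⟨v, hv⟩ := hc n m h w hw0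
  have key : (HomologicalComplex.cyclesMap (ι J K (le_trans (Nat.le_add_left m c) h)) q).hom z =
      ((T J K m).toCycles (q - 1) q).hom v := by
    apply (ModuleCat.mono_iff_injective _).1 (inferInstance : Mono ((T J K m).iCycles q))
    have h1 := congrArg (fun φ => φ.hom z)
      (HomologicalComplex.cyclesMap_i (ι J K (le_trans (Nat.le_add_left m c) h)) q)
    have h2 := congrArg (fun φ => φ.hom v) ((T J K m).toCycles_i (q - 1) q)
    simp only [ModuleCat.hom_comp, LinearMap.comp_apply] at h1 h2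
    rw [h1, h2]
    exact hv.symm
  have h3 := congrArg (fun φ => φ.hom v) ((T J K m).toCycles_comp_homologyπ (q - 1) q)
  simp only [ModuleCat.hom_comp, LinearMap.comp_apply] at h3
  simp only [ModuleCat.hom_comp, LinearMap.comp_apply, key, h3]
  rfl

end Groth.Agent.Lib.Helper84.ARDer
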