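import Groth.Agent.Lib.Helper84.ARDer2
import Groth.Agent.S14100

/-!
# Artin–Rees for `J^p ⊗ K`, derived part (for S14102)
-/

namespace Groth.Agent.Lib.Helper84.ARDer

open CategoryTheory MonoidalCategory Limits TensorProduct

universe w u

variable {A : Type u} [CommRing A] (J : Ideal A) (K : CochainComplex (ModuleCat.{u} A) ℤ)

lemma ι_refl (n : ℕ) : ι J K (le_refl n) = 𝟙 _ := by
  ext q : 1
  dsimp
  ext : 1
  apply TensorProduct.ext'
  intro a x
  rfl

lemma ι_comp {n m l : ℕ} (h₁ : m ≤ n) (h₂ : l ≤ m) :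
    ι J K h₁ ≫ ι J K h₂ = ι J K (h₂.trans h₁) := by
  ext q : 1
  dsimp
  ext : 1
  apply TensorProduct.ext'
  intro a x
  rfl

section
variable [HasDerivedCategory.{w} (ModuleCat.{u} A)]

/-- The chain `i ↦ Q(J^{e i} ⊗ K)` as a functor from `ℕ`. -/
noncomputable def chain (e : ℕ → ℕ) (he : Antitone e) : ℕ ⥤ DerivedCategory (ModuleCat.{u} A) where
  obj i := DerivedCategory.Q.obj (T J K (e i))
  map {i j} f := DerivedCategory.Q.map (ι J K (he (leOfHom f)))
  map_id i := by
    rw [← DerivedCategory.Q.map_id]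
    congr 1
    exact ι_refl J K _
  map_comp {i j k} f g := by
    rw [← DerivedCategory.Q.map_comp]
    congr 1
    exact (ι_comp J K _ _).symm

lemma homologyFunctor_map_Q_eq_zero {X Y : CochainComplex (ModuleCat.{u} A) ℤ} (φ : X ⟶ Y) (q : ℤ)
    (h : HomologicalComplex.homologyMap φ q = 0) :
    (DerivedCategory.homologyFunctor (ModuleCat.{u} A) q).map (DerivedCategory.Q.map φ) = 0 := by
  have nat := (DerivedCategory.homologyFunctorFactors (ModuleCat.{u} A) q).hom.naturality φ
  have h' : (HomologicalComplex.homologyFunctor (ModuleCat.{u} A) (ComplexShape.up ℤ) q).map φ = 0 := h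
  rw [h', comp_zero, Functor.comp_map] at nat
  have h3 := congrArg
    (fun f => f ≫ (DerivedCategory.homologyFunctorFactors (ModuleCat.{u} A) q).inv.app Y) nat
  simp only [Category.assoc, Iso.hom_inv_id_app, zero_comp] at h3
  rw [← h3]
  exact (Category.comp_id _).symm

end

lemma isZero_T_X (p : ℕ) (q : ℤ) (h : IsZero (K.X q)) : IsZero ((T J K p).X q) := by
  have : Subsingleton (K.X q) := ModuleCat.subsingleton_of_isZero h
  have h2 : Subsingleton ((↥(J ^ p)) ⊗[A] (K.X q)) := inferInstance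
  exact (ModuleCat.isZero_iff_subsingleton (M := (T J K p).X q)).2 h2

/-- Uniform Artin–Rees constant for a bounded complex of finite projective modules. -/
theorem exists_uniform [IsNoetherianRing A] (a b : ℤ)
    (hK : ∀ q : ℤ, q < a ∨ b < q → IsZero (K.X q))
    (hfin : ∀ q : ℤ, Module.Finite A (K.X q)) (hproj : ∀ q : ℤ, Module.Projective A (K.X q))
    (hJ : ∀ q : ℤ, ∀ x ∈ J, ∀ c : ↑(K.homology q), x • c = 0) :
    ∃ c : ℕ, ∀ (q : ℤ) (n m : ℕ) (h : c + m ≤ n),
      HomologicalComplex.homologyMap (ι J K (le_trans (Nat.le_add_left m c) h)) q = 0 := by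
  have hcore : ∀ q : ℤ, ∃ c : ℕ, ∀ (n m : ℕ) (h : c + m ≤ n) (w : (↥(J ^ n)) ⊗[A] K.X q),
      LinearMap.lTensor (↥(J ^ n)) (K.d q (q + 1)).hom w = 0 →
      ∃ v : (↥(J ^ m)) ⊗[A] K.X (q - 1), LinearMap.lTensor (↥(J ^ m)) (K.d (q - 1) q).hom v =
        LinearMap.rTensor (K.X q) (Submodule.inclusion
          (Ideal.pow_le_pow_right (le_trans (Nat.le_add_left m c) h))) w := by
    intro q
    have := hfin q
    have := hproj q
    exact core J (K.d (q - 1) q).hom (K.d q (q + 1)).hom
      (smul_mem_range_of_homology J K q (hJ q))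
  choose cq hcq using hcore
  refine ⟨(Finset.Icc a b).sup cq, fun q n m h => ?_⟩
  by_cases hq : q ∈ Finset.Icc a b
  · have hle : cq q ≤ (Finset.Icc a b).sup cq := Finset.le_sup hq
    exact homologyMap_ι_eq_zero J K q ((Finset.Icc a b).sup cq)
      (fun n m h w hw => hcq q n m (le_trans (Nat.add_le_add_right hle m) h) w hw) h
  · have hz : IsZero (K.X q) := by
      apply hK
      rw [Finset.mem_Icc] at hq
      omega
    apply IsZero.eq_of_src
    have : IsZero ((T J K n).X q) := isZero_T_X J K n q hz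
    exact (HomologicalComplex.ExactAt.of_isZero this).isZero_homology
  
end Groth.Agent.Lib.Helper84.ARDer
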