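import Groth.Agent.Lib.Helper98.KoszulEuler

/-!
# The Koszul complex between `A[0]` and `N[0]` (helper84)

For a list `l` of elements killing a module `N` and a map `π : A ⟶ N`, the stalk map
`π[0] : A[0] ⟶ N[0]` factors as `A[0] --u--> K(l) --v--> N[0]`.
-/

set_option autoImplicit false
universe u
open CategoryTheory CategoryTheory.Limits HomologicalComplex CochainComplex HomComplex

namespace Groth.Agent.Lib.Helper84.KoszulUV

variable {A : Type u} [CommRing A]

/-- the stalk complex functor in degree 0 -/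
noncomputable abbrev S : ModuleCat.{u} A ⥤ DRing.Cx A :=
  HomologicalComplex.single (ModuleCat.{u} A) (ComplexShape.up ℤ) 0

/-- `A[0] ⟶ K(l)` -/
noncomputable def u : (l : List A) → ((S.obj (ModuleCat.of A A) : DRing.Cx A) ⟶ Koszul.koszul A l)
  | [] => 𝟙 _
  | f :: l => u l ≫ mappingCone.inr (f • 𝟙 (Koszul.koszul A l))

lemma smul_to_single_eq_zero {K : DRing.Cx A} (N : ModuleCat.{u} A) (f : A) (hf : ∀ x : N, f • x = 0)
    (φ : K ⟶ S.obj N) : f • φ = 0 := by
  apply HomologicalComplex.to_single_hom_ext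
  ext x
  exact Groth.Agent.Lib.Helper98.KoszulEuler.kills_of_iso
    (HomologicalComplex.singleObjXSelf (ComplexShape.up ℤ) (0 : ℤ) N) f hf _

/-- `K(l) ⟶ N[0]` when `l` kills `N`. -/
noncomputable def v (N : ModuleCat.{u} A) (π : ModuleCat.of A A ⟶ N) :
    (l : List A) → (∀ f ∈ l, ∀ x : N, f • x = 0) → (Koszul.koszul A l ⟶ (S.obj N : DRing.Cx A))
  | [], _ => S.map π
  | f :: l, h => mappingCone.desc (f • 𝟙 (Koszul.koszul A l)) 0
      (v N π l (fun g hg => h g (List.mem_cons_of_mem _ hg))) (by
        rw [δ_zero, Linear.smul_comp, Category.id_comp,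
          smul_to_single_eq_zero N f (h f List.mem_cons_self), Cochain.ofHom_zero])

lemma u_v (N : ModuleCat.{u} A) (π : ModuleCat.of A A ⟶ N) (l : List A)
    (h : ∀ f ∈ l, ∀ x : N, f • x = 0) : u l ≫ v N π l h = S.map π := by
  induction l with
  | nil => exact Category.id_comp _
  | cons f l ih =>
    change (u l ≫ mappingCone.inr _) ≫ mappingCone.desc _ _ _ _ = _
    rw [Category.assoc, mappingCone.inr_desc]
    exact ih _

end Groth.Agent.Lib.Helper84.KoszulUV
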