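import Groth.Agent.Lib.Helper84.ARSub
import Groth.Agent.Lib.Helper84.KoszulUV
import Groth.Agent.Lib.Helper43.KoszulGen

/-!
# Artin–Rees applied to `K(l) ⊗ M` (helper84)

For a finite module `M` over a Noetherian ring and any chain map `ρ : M[0] ⟶ K(l)^• ⊗ M`, the
restriction of `ρ` to `(l)^n M` is zero in `D(A)` for some `n > 0`.
-/

set_option autoImplicit false
universe u
open CategoryTheory CategoryTheory.Limits HomologicalComplex CochainComplex HomComplex MonoidalCategory

attribute [local instance] HasDerivedCategory.standard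

namespace Groth.Agent.Lib.Helper84.ARKoszul

open Groth.Agent.Lib.Helper98.KoszulEuler Groth.Agent.Lib.Helper84.KoszulUV

variable {A : Type u} [CommRing A]

lemma kills_of_nullH {C : DRing.Cx A} {s : A} (h : NullH C s) (q : ℤ) (x : C.homology q) :
    s • x = 0 := by
  obtain ⟨z, hz⟩ := h
  have H : Homotopy (s • 𝟙 C) 0 := (Cochain.equivHomotopy _ _).symm ⟨z, by
    rw [hz, Cochain.ofHom_zero, add_zero]⟩
  have h1 : homologyMap (s • 𝟙 C) q = s • 𝟙 _ := by
    rw [Helper98.KoszulLES.homologyMap_smul', homologyMap_id]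
  rw [H.homologyMap_eq q, homologyMap_zero] at h1
  have := congrArg (fun f => f.hom x) h1
  exact this.symm

/-- any chain map out of a stalk complex restricted to `J^n M` lands in `J^n L` -/
theorem factor (J : Ideal A) (L : DRing.Cx A) (M₀ : Type u) [AddCommGroup M₀] [Module A M₀]
    (ρ : (S.obj (ModuleCat.of A M₀) : DRing.Cx A) ⟶ L) (n : ℕ) :
    ∃ θ : (S.obj (ModuleCat.of A ↥(J ^ n • (⊤ : Submodule A M₀))) : DRing.Cx A) ⟶ ARSub.sub J L n,
      θ ≫ ARSub.subι J L n =
        S.map (ModuleCat.ofHom (J ^ n • (⊤ : Submodule A M₀)).subtype) ≫ ρ := by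
  let ψ : ModuleCat.of A M₀ ⟶ L.X 0 :=
    (HomologicalComplex.singleObjXSelf (ComplexShape.up ℤ) (0 : ℤ) (ModuleCat.of A M₀)).inv ≫ ρ.f 0
  have hψ : ∀ k : ℤ, ψ ≫ L.d 0 k = 0 := by
    intro k
    dsimp only [ψ]
    rw [Category.assoc, ρ.comm 0 k, HomologicalComplex.single_obj_d, zero_comp, comp_zero]
  let φ : ModuleCat.of A ↥(J ^ n • (⊤ : Submodule A M₀)) ⟶ (ARSub.sub J L n).X 0 :=
    ModuleCat.ofHom (LinearMap.restrict ψ.hom
      (fun _ hx => ARSub.map_mem_smul_top (J ^ n) _ hx))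
  have hφ : ∀ k : ℤ, (ComplexShape.up ℤ).Rel 0 k → φ ≫ (ARSub.sub J L n).d 0 k = 0 := by
    intro k _
    ext x
    have := congrArg (fun f => f.hom x.1) (hψ k)
    exact Subtype.ext this
  refine ⟨HomologicalComplex.mkHomFromSingle φ hφ, ?_⟩
  apply HomologicalComplex.from_single_hom_ext
  rw [HomologicalComplex.comp_f, HomologicalComplex.comp_f, HomologicalComplex.mkHomFromSingle_f,
    HomologicalComplex.single_map_f_self]
  simp only [Category.assoc]
  congr 1

theorem exists_Q_incl_comp_eq_zero [IsNoetherianRing A] (l : List A) (M₀ : Type u) [AddCommGroup M₀]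
    [Module A M₀] [Module.Finite A M₀]
    (ρ : (S.obj (ModuleCat.of A M₀) : DRing.Cx A) ⟶ (tensF (ModuleCat.of A M₀)).obj (Koszul.koszul A l)) :
    ∃ n : ℕ, 0 < n ∧ DerivedCategory.Q.map
      (S.map (ModuleCat.ofHom ((Ideal.ofList l) ^ n • (⊤ : Submodule A M₀)).subtype) ≫ ρ) = 0 := by
  obtain ⟨n, hn, h0⟩ := ARSub.exists_subι_eq_zero (Ideal.ofList l)
    ((tensF (ModuleCat.of A M₀)).obj (Koszul.koszul A l)) (-(l.length : ℤ)) 0
    (fun q hq => by
      have h := Groth.Agent.Lib.Helper43.KoszulPerf.koszul_vanishesOutside l q hq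
      exact Functor.map_isZero (tensorRight (ModuleCat.of A M₀)) h)
    (fun q => by
      obtain ⟨h1, h2⟩ := Groth.Agent.Lib.Helper43.KoszulPerf.koszul_termwiseFiniteFree l q
      change Module.Finite A (TensorProduct A ((Koszul.koszul A l).X q) M₀)
      infer_instance)
    (fun q x hx c => kills_of_nullH (nullH_map _ _ x
      (Groth.Agent.Lib.Helper43.KoszulGen.nullH_of_mem_ofList l x hx)) q c)
  obtain ⟨θ, hθ⟩ := factor (Ideal.ofList l) _ M₀ ρ n
  refine ⟨n, hn, ?_⟩
  rw [← hθ, Functor.map_comp, h0, comp_zero]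

end Groth.Agent.Lib.Helper84.ARKoszul
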