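import Groth.Agent.Lib.Helper84.ARDer3

/-!
# Artin–Rees for the subcomplexes `J^p L ⊆ L` of a bounded complex of finite modules
-/

namespace Groth.Agent.Lib.Helper84.ARSub

open CategoryTheory Limits

universe w u

variable {A : Type u} [CommRing A]

/-- linear maps preserve `I • ⊤` -/
lemma map_mem_smul_top (I : Ideal A) {M N : Type u} [AddCommGroup M] [Module A M]
    [AddCommGroup N] [Module A N] (f : M →ₗ[A] N) {x : M}
    (hx : x ∈ I • (⊤ : Submodule A M)) : f x ∈ I • (⊤ : Submodule A N) := by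
  have : Submodule.map f (I • (⊤ : Submodule A M)) ≤ I • (⊤ : Submodule A N) := by
    rw [Submodule.map_smul'']
    exact Submodule.smul_mono le_rfl le_top
  exact this ⟨x, hx, rfl⟩

/-- Module-level Artin–Rees core, submodule version. -/
theorem core [IsNoetherianRing A] (J : Ideal A) {K0 K1 K2 : Type u}
    [AddCommGroup K0] [Module A K0] [AddCommGroup K1] [Module A K1] [AddCommGroup K2] [Module A K2]
    [Module.Finite A K1]
    (d₁ : K0 →ₗ[A] K1) (d₂ : K1 →ₗ[A] K2)
    (hJ : ∀ x ∈ J, ∀ z : K1, d₂ z = 0 → x • z ∈ LinearMap.range d₁) :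
    ∃ c : ℕ, ∀ (n m : ℕ), c + m ≤ n → ∀ w : K1, w ∈ (J ^ n) • (⊤ : Submodule A K1) → d₂ w = 0 →
      ∃ v : K0, v ∈ (J ^ m) • (⊤ : Submodule A K0) ∧ d₁ v = w := by
  obtain ⟨k, hk⟩ := Ideal.exists_pow_inf_eq_pow_smul J (LinearMap.ker d₂)
  refine ⟨k + 1, fun n m h w hw1 hw2 => ?_⟩
  have hy : w ∈ (J ^ n) • (⊤ : Submodule A K1) ⊓ LinearMap.ker d₂ := ⟨hw1, hw2⟩
  rw [hk n (by omega)] at hy
  have hle : J ^ (n - k) • ((J ^ k) • (⊤ : Submodule A K1) ⊓ LinearMap.ker d₂) ≤
      Submodule.map d₁ ((J ^ m) • (⊤ : Submodule A K0)) := by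
    have e : n - k = (n - k - (m + 1)) + m + 1 := by omega
    rw [e, pow_succ, pow_add, mul_assoc, mul_smul, mul_smul]
    refine le_trans Submodule.smul_le_right ?_
    rw [Submodule.map_smul'']
    refine Submodule.smul_mono le_rfl ?_
    rw [Submodule.smul_le]
    intro r hr z hz
    rw [Submodule.map_top]
    exact hJ r hr z hz.2
  obtain ⟨v, hv, rfl⟩ := hle hy
  exact ⟨v, hv, rfl⟩

variable (J : Ideal A) (L : CochainComplex (ModuleCat.{u} A) ℤ)

/-- The subcomplex `J^p L`. -/
noncomputable def sub (p : ℕ) : CochainComplex (ModuleCat.{u} A) ℤ where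
  X q := ModuleCat.of A ↥((J ^ p) • (⊤ : Submodule A (L.X q)))
  d q q' := ModuleCat.ofHom (LinearMap.restrict (L.d q q').hom
    (fun _ hx => map_mem_smul_top (J ^ p) _ hx))
  shape q q' h := by
    ext x
    simp [L.shape q q' h]
  d_comp_d' q q' q'' _ _ := by
    ext x
    have := congrArg (fun φ => φ.hom x.1) (L.d_comp_d q q' q'')
    simp only [ModuleCat.hom_comp, LinearMap.comp_apply, ModuleCat.hom_zero,
      LinearMap.zero_apply] at this
    simpa using this

/-- The inclusion `J^p L ⟶ L`. -/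
noncomputable def subι (p : ℕ) : sub J L p ⟶ L where
  f q := ModuleCat.ofHom (Submodule.subtype _)
  comm' q q' _ := by
    ext x
    rfl

/-- The inclusion `J^n L ⟶ J^m L` for `m ≤ n`. -/
noncomputable def subTr {n m : ℕ} (h : m ≤ n) : sub J L n ⟶ sub J L m where
  f q := ModuleCat.ofHom (Submodule.inclusion
    (Submodule.smul_mono_left (Ideal.pow_le_pow_right h)))
  comm' q q' _ := by
    ext x
    rfl

lemma subTr_ι {n m : ℕ} (h : m ≤ n) : subTr J L h ≫ subι J L m = subι J L n := by
  ext q x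
  rfl

lemma subTr_refl (n : ℕ) : subTr J L (le_refl n) = 𝟙 _ := by
  ext q x
  rfl

lemma subTr_comp {n m l : ℕ} (h₁ : m ≤ n) (h₂ : l ≤ m) :
    subTr J L h₁ ≫ subTr J L h₂ = subTr J L (h₂.trans h₁) := by
  ext q x
  rfl

theorem homologyMap_subTr_eq_zero (q : ℤ) (c : ℕ)
    (hc : ∀ (n m : ℕ), c + m ≤ n → ∀ w : L.X q, w ∈ (J ^ n) • (⊤ : Submodule A (L.X q)) →
      (L.d q (q + 1)).hom w = 0 →
      ∃ v : L.X (q - 1), v ∈ (J ^ m) • (⊤ : Submodule A (L.X (q - 1))) ∧
        (L.d (q - 1) q).hom v = w)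
    {n m : ℕ} (h : c + m ≤ n) :
    HomologicalComplex.homologyMap (subTr J L (le_trans (Nat.le_add_left m c) h)) q = 0 := by
  rw [← cancel_epi ((sub J L n).homologyπ q), comp_zero, HomologicalComplex.homologyπ_naturality]
  ext z
  set w := ((sub J L n).iCycles q).hom z with hw
  have hw0 : (L.d q (q + 1)).hom w.1 = 0 := by
    have := congrArg (fun φ => (φ.hom z).1) ((sub J L n).iCycles_d q (q + 1))
    simp only [ModuleCat.hom_comp, LinearMap.comp_apply] at this
    exact this
  obtain ⟨v, hv1, hv2⟩ := hc n m h w.1 w.2 hw0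
  have key : (HomologicalComplex.cyclesMap (subTr J L (le_trans (Nat.le_add_left m c) h)) q).hom z =
      ((sub J L m).toCycles (q - 1) q).hom ⟨v, hv1⟩ := by
    apply (ModuleCat.mono_iff_injective _).1 (inferInstance : Mono ((sub J L m).iCycles q))
    have h1 := congrArg (fun φ => φ.hom z)
      (HomologicalComplex.cyclesMap_i (subTr J L (le_trans (Nat.le_add_left m c) h)) q)
    have h2 := congrArg (fun φ => φ.hom ⟨v, hv1⟩) ((sub J L m).toCycles_i (q - 1) q)
    simp only [ModuleCat.hom_comp, LinearMap.comp_apply] at h1 h2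
    rw [h1, h2]
    apply Subtype.ext
    exact hv2.symm
  have h3 := congrArg (fun φ => φ.hom (⟨v, hv1⟩ : (sub J L m).X (q - 1)))
    ((sub J L m).toCycles_comp_homologyπ (q - 1) q)
  simp only [ModuleCat.hom_comp, LinearMap.comp_apply] at h3
  simp only [ModuleCat.hom_comp, LinearMap.comp_apply, key, h3]
  rfl

lemma isZero_sub_X (p : ℕ) (q : ℤ) (h : IsZero (L.X q)) : IsZero ((sub J L p).X q) := by
  have : Subsingleton (L.X q) := ModuleCat.subsingleton_of_isZero h
  have h2 : Subsingleton ↥((J ^ p) • (⊤ : Submodule A (L.X q))) := inferInstance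
  exact (ModuleCat.isZero_iff_subsingleton (M := (sub J L p).X q)).2 h2

/-- Uniform Artin–Rees constant for a bounded complex of finite modules. -/
theorem exists_uniform [IsNoetherianRing A] (a b : ℤ)
    (hL : ∀ q : ℤ, q < a ∨ b < q → IsZero (L.X q))
    (hfin : ∀ q : ℤ, Module.Finite A (L.X q))
    (hJ : ∀ q : ℤ, ∀ x ∈ J, ∀ c : ↑(L.homology q), x • c = 0) :
    ∃ c : ℕ, ∀ (q : ℤ) (n m : ℕ) (h : c + m ≤ n),
      HomologicalComplex.homologyMap (subTr J L (le_trans (Nat.le_add_left m c) h)) q = 0 := by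
  have hcore : ∀ q : ℤ, ∃ c : ℕ, ∀ (n m : ℕ), c + m ≤ n → ∀ w : L.X q,
      w ∈ (J ^ n) • (⊤ : Submodule A (L.X q)) → (L.d q (q + 1)).hom w = 0 →
      ∃ v : L.X (q - 1), v ∈ (J ^ m) • (⊤ : Submodule A (L.X (q - 1))) ∧
        (L.d (q - 1) q).hom v = w := by
    intro q
    have := hfin q
    exact core J (L.d (q - 1) q).hom (L.d q (q + 1)).hom
      (ARDer.smul_mem_range_of_homology J L q (hJ q))
  choose cq hcq using hcore
  refine ⟨(Finset.Icc a b).sup cq, fun q n m h => ?_⟩
  by_cases hq : q ∈ Finset.Icc a b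
  · have hle : cq q ≤ (Finset.Icc a b).sup cq := Finset.le_sup hq
    exact homologyMap_subTr_eq_zero J L q ((Finset.Icc a b).sup cq)
      (fun n m h w hw1 hw2 => hcq q n m (le_trans (Nat.add_le_add_right hle m) h) w hw1 hw2) h
  · have hz : IsZero (L.X q) := by
      apply hL
      rw [Finset.mem_Icc] at hq
      omega
    apply IsZero.eq_of_src
    have : IsZero ((sub J L n).X q) := isZero_sub_X J L n q hz
    exact (HomologicalComplex.ExactAt.of_isZero this).isZero_homology

section
variable [HasDerivedCategory.{w} (ModuleCat.{u} A)]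

/-- The chain `i ↦ Q(J^{e i} L)` as a functor from `ℕ`. -/
noncomputable def chain (e : ℕ → ℕ) (he : Antitone e) : ℕ ⥤ DerivedCategory (ModuleCat.{u} A) where
  obj i := DerivedCategory.Q.obj (sub J L (e i))
  map {i j} f := DerivedCategory.Q.map (subTr J L (he (leOfHom f)))
  map_id i := by
    rw [← DerivedCategory.Q.map_id]
    exact congrArg _ (subTr_refl J L _)
  map_comp {i j k} f g := by
    rw [← DerivedCategory.Q.map_comp]
    exact congrArg _ (subTr_comp J L _ _).symm

/-- Main result: for a bounded complex `L` of finite modules whose cohomology is killed by `J`,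
the inclusion `J^n L ⟶ L` is zero in the derived category for some `n > 0`. -/
theorem exists_subι_eq_zero [IsNoetherianRing A] (a b : ℤ)
    (hL : ∀ q : ℤ, q < a ∨ b < q → IsZero (L.X q))
    (hfin : ∀ q : ℤ, Module.Finite A (L.X q))
    (hJ : ∀ q : ℤ, ∀ x ∈ J, ∀ c : ↑(L.homology q), x • c = 0) :
    ∃ n : ℕ, 0 < n ∧ DerivedCategory.Q.map (subι J L n) = 0 := by
  obtain ⟨c, hc⟩ := exists_uniform J L a b hL hfin hJ
  let N : ℕ := (b - a).toNat
  let e : ℕ → ℕ := fun i => (c + 1) * (N + 1 - i)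
  have he : Antitone e := fun i j hij => by
    dsimp [e]
    exact Nat.mul_le_mul_left (c + 1) (Nat.sub_le_sub_left hij (N + 1))
  let F := chain J L e he
  have hT : ∀ p : ℕ, (DerivedCategory.Q.obj (sub J L p)).IsGE a ∧
      (DerivedCategory.Q.obj (sub J L p)).IsLE (a + N) := by
    intro p
    have h1 : (sub J L p).IsStrictlyGE a := by
      rw [CochainComplex.isStrictlyGE_iff]
      intro q hq
      exact isZero_sub_X J L p q (hL q (Or.inl hq))
    have h2 : (sub J L p).IsStrictlyLE (a + N) := by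
      rw [CochainComplex.isStrictlyLE_iff]
      intro q hq
      refine isZero_sub_X J L p q (hL q (Or.inr ?_))
      have : b - a ≤ (N : ℤ) := Int.self_le_toNat (b - a)
      omega
    exact ⟨inferInstance, inferInstance⟩
  have key := Groth.Agent.S14100.result (ModuleCat.{u} A) a N F
    (fun i _ => (hT (e i)).1) (fun i _ => (hT (e i)).2)
    (fun i hi q => by
      apply ARDer.homologyFunctor_map_Q_eq_zero
      have h : c + e (i + 1) ≤ e i := by
        dsimp [e]
        have : N + 1 - i = (N + 1 - (i + 1)) + 1 := by omega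
        rw [this, Nat.mul_add]
        omega
      exact hc q (e i) (e (i + 1)) h)
  refine ⟨e 0, ?_, ?_⟩
  · dsimp [e]
    exact Nat.mul_pos (Nat.succ_pos c) (Nat.succ_pos N)
  · have h1 : subTr J L (he (Nat.zero_le (N + 1))) ≫ subι J L (e (N + 1)) = subι J L (e 0) :=
      subTr_ι J L _
    rw [← h1, Functor.map_comp]
    have h2 : DerivedCategory.Q.map (subTr J L (he (Nat.zero_le (N + 1)))) = 0 := key
    rw [h2, zero_comp]

end

end Groth.Agent.Lib.Helper84.ARSub
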