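import Groth.Agent.Lib.Helper15.LDerived

/-!
# Base change along a pushout square of rings: comparison isomorphism (helper84)

For `k`-algebras `S`, `B` and a `B`-module `M`:
`(S ⊗[k] B) ⊗[B] M ≅ S ⊗[k] M` as `S`-modules, in the `ModuleCat` language.
-/

set_option autoImplicit false
universe u

open CategoryTheory CategoryTheory.Limits TensorProduct ChangeOfRings

attribute [local instance] Algebra.TensorProduct.rightAlgebra

namespace Groth.Agent.Lib.Helper84.BCCompare

variable (k S B : Type u) [CommRing k] [CommRing S] [CommRing B] [Algebra k S] [Algebra k B]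

/-- the left hand side -/
noncomputable abbrev LHS (M : ModuleCat.{u} B) : ModuleCat.{u} S :=
  (ModuleCat.restrictScalars (algebraMap S (S ⊗[k] B))).obj
    ((ModuleCat.extendScalars.{u, u, u}
      (Algebra.TensorProduct.includeRight.toRingHom : B →+* S ⊗[k] B)).obj M)

/-- the right hand side -/
noncomputable abbrev RHS (M : ModuleCat.{u} B) : ModuleCat.{u} S :=
  (ModuleCat.extendScalars.{u, u, u} (algebraMap k S)).obj
    ((ModuleCat.restrictScalars (algebraMap k B)).obj M)

section

variable (M : ModuleCat.{u} B)

/-- `S` with its two `k`-module structures -/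
noncomputable def idS : S ≃ₗ[k] ((ModuleCat.restrictScalars (algebraMap k S)).obj (ModuleCat.of S S)) :=
  { AddEquiv.refl S with
    map_smul' := fun c s => by
      change c • s = algebraMap k S c * s
      rw [Algebra.smul_def] }

/-- the underlying additive equivalence -/
noncomputable def cmpAddEquiv : RHS k S B M ≃+ LHS k S B M :=
  letI : Module k M := Module.compHom M (algebraMap k B)
  haveI : IsScalarTower k B M := ⟨fun c b m => by
    change (c • b) • m = algebraMap k B c • (b • m)
    rw [Algebra.smul_def, mul_smul]⟩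
  ((TensorProduct.congr (idS k S) (LinearEquiv.refl k M)).symm.toAddEquiv).trans
    (Algebra.IsPushout.cancelBaseChange k S B (S ⊗[k] B) M).symm.toAddEquiv

lemma cmpAddEquiv_tmul (s : S) (m : M) :
    cmpAddEquiv k S B M
      (s ⊗ₜ[k, algebraMap k S] (m : (ModuleCat.restrictScalars (algebraMap k B)).obj M)) =
      ((algebraMap S (S ⊗[k] B) s) ⊗ₜ[B, (Algebra.TensorProduct.includeRight.toRingHom :
        B →+* S ⊗[k] B)] m : (ModuleCat.extendScalars.{u, u, u}
          (Algebra.TensorProduct.includeRight.toRingHom : B →+* S ⊗[k] B)).obj M) := by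
  letI : Module k M := Module.compHom M (algebraMap k B)
  haveI : IsScalarTower k B M := ⟨fun c b m => by
    change (c • b) • m = algebraMap k B c • (b • m)
    rw [Algebra.smul_def, mul_smul]⟩
  exact Algebra.IsPushout.cancelBaseChange_symm_tmul k S B (S ⊗[k] B) M s m

lemma cmpAddEquiv_smul (s : S) (x : RHS k S B M) :
    cmpAddEquiv k S B M (s • x) = s • cmpAddEquiv k S B M x := by
  refine TensorProduct.induction_on
    (motive := fun x => cmpAddEquiv k S B M (s • (show ↑(RHS k S B M) from x)) =
      s • cmpAddEquiv k S B M (show ↑(RHS k S B M) from x)) x ?_ ?_ ?_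
  · change cmpAddEquiv k S B M (s • (0 : RHS k S B M)) =
      s • cmpAddEquiv k S B M (0 : RHS k S B M)
    rw [smul_zero, map_zero, smul_zero]
  · intro s' m
    change cmpAddEquiv k S B M ((s * (show S from s')) ⊗ₜ[k, algebraMap k S] m) =
      s • cmpAddEquiv k S B M ((show S from s') ⊗ₜ[k, algebraMap k S] m)
    rw [cmpAddEquiv_tmul, cmpAddEquiv_tmul, map_mul]
    rfl
  · intro a b ha hb
    change cmpAddEquiv k S B M (s • ((show ↑(RHS k S B M) from a) +
      (show ↑(RHS k S B M) from b))) = s • cmpAddEquiv k S B M
        ((show ↑(RHS k S B M) from a) + (show ↑(RHS k S B M) from b))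
    rw [smul_add, map_add, map_add, smul_add, ha, hb]

/-- the comparison isomorphism -/
noncomputable def cmpIso : RHS k S B M ≅ LHS k S B M :=
  LinearEquiv.toModuleIso
    (AddEquiv.toLinearEquiv (R := S) (M := RHS k S B M) (M₂ := LHS k S B M)
      (cmpAddEquiv k S B M) (cmpAddEquiv_smul k S B M))

lemma cmpIso_hom_tmul (s : S) (m : M) :
    (cmpIso k S B M).hom
      (s ⊗ₜ[k, algebraMap k S] (m : (ModuleCat.restrictScalars (algebraMap k B)).obj M)) =
      ((algebraMap S (S ⊗[k] B) s) ⊗ₜ[B, (Algebra.TensorProduct.includeRight.toRingHom :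
        B →+* S ⊗[k] B)] m : (ModuleCat.extendScalars.{u, u, u}
          (Algebra.TensorProduct.includeRight.toRingHom : B →+* S ⊗[k] B)).obj M) := by
  exact cmpAddEquiv_tmul k S B M s m

end

/-- naturality of the comparison isomorphism -/
lemma cmpIso_naturality {M M' : ModuleCat.{u} B} (f : M ⟶ M') :
    (ModuleCat.extendScalars.{u, u, u} (algebraMap k S)).map
        ((ModuleCat.restrictScalars (algebraMap k B)).map f) ≫ (cmpIso k S B M').hom =
      (cmpIso k S B M).hom ≫ (ModuleCat.restrictScalars (algebraMap S (S ⊗[k] B))).map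
        ((ModuleCat.extendScalars.{u, u, u}
          (Algebra.TensorProduct.includeRight.toRingHom : B →+* S ⊗[k] B)).map f) := by
  apply ModuleCat.ExtendScalars.hom_ext
  intro m
  change (cmpIso k S B M').hom ((1 : S) ⊗ₜ[k, algebraMap k S]
      (((ModuleCat.restrictScalars (algebraMap k B)).map f) m)) =
    ((ModuleCat.restrictScalars (algebraMap S (S ⊗[k] B))).map
      ((ModuleCat.extendScalars.{u, u, u}
        (Algebra.TensorProduct.includeRight.toRingHom : B →+* S ⊗[k] B)).map f))
      ((cmpIso k S B M).hom ((1 : S) ⊗ₜ[k, algebraMap k S] m))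
  rw [cmpIso_hom_tmul, cmpIso_hom_tmul]
  rfl

open DRing Groth.Agent.Lib.Helper15 in
/-- the comparison isomorphism of complexes -/
noncomputable def cmpCx (E : Cx B) :
    LDerived.extCx (algebraMap k S) ((restrictCx (algebraMap k B)).obj E) ≅
      (restrictCx (algebraMap S (S ⊗[k] B))).obj
        (LDerived.extCx (Algebra.TensorProduct.includeRight.toRingHom : B →+* S ⊗[k] B) E) :=
  HomologicalComplex.Hom.isoOfComponents (fun i => cmpIso k S B (E.X i)) (by
    intro i j _
    exact (cmpIso_naturality k S B (E.d i j)).symm)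

end Groth.Agent.Lib.Helper84.BCCompare
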