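import Mathlib

/-!
# L4a for helper8's S18636: Euclid in a ℤ-graded ring (helper84)

For a non-homogeneous prime `p` of a ℤ-graded ring with prime homogeneous core `q`, there is
`a ∈ p ∖ q` such that every `b ∈ p` satisfies `s * b ∈ q + (a)` for some `s ∉ p`.
-/

set_option autoImplicit false
universe u

namespace Groth.Agent.Lib.Helper84.BassShiftL4a

open DirectSum

section

variable {R : Type u} [CommRing R] (𝒜 : ℤ → AddSubgroup R) [GradedRing 𝒜]

/-- components of a product with a homogeneous left factor -/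
theorem comp_mul_left {x : R} {i : ℤ} (hx : x ∈ 𝒜 i) (y : R) (n : ℤ) :
    (decompose 𝒜 (x * y) n : R) = x * (decompose 𝒜 y (n - i) : R) := by
  have h := coe_decompose_mul_add_of_left_mem 𝒜 (i := i) (j := n - i) hx (b := y)
  rwa [add_sub_cancel] at h

theorem exists_generator_mod_core (p : Ideal R) [p.IsPrime]
    (hp : ¬ Ideal.IsHomogeneous 𝒜 p) [hqp : (Ideal.homogeneousCore 𝒜 p).toIdeal.IsPrime] :
    ∃ a ∈ p, a ∉ (Ideal.homogeneousCore 𝒜 p).toIdeal ∧
      ∀ b ∈ p, ∃ s : R, s ∉ p ∧
        s * b ∈ (Ideal.homogeneousCore 𝒜 p).toIdeal ⊔ Ideal.span {a} := by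
  classical
  set q : Ideal R := (Ideal.homogeneousCore 𝒜 p).toIdeal with hq
  have hqh : Ideal.IsHomogeneous 𝒜 q := (Ideal.homogeneousCore 𝒜 p).isHomogeneous
  have hqle : q ≤ p := Ideal.toIdeal_homogeneousCore_le 𝒜 p
  -- homogeneous elements of `p` lie in `q`
  have hcomp : ∀ (x : R) (n : ℤ), (decompose 𝒜 x n : R) ∈ p → (decompose 𝒜 x n : R) ∈ q := by
    intro x n h
    exact Ideal.mem_homogeneousCore_of_homogeneous_of_mem ⟨n, (decompose 𝒜 x n).2⟩ h
  -- membership in `q` componentwise
  have hmemq : ∀ x : R, (∀ n, (decompose 𝒜 x n : R) ∈ q) → x ∈ q := fun x h => hqh.mem_iff.2 h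
  -- an element of `p ∖ q`
  have hex : ∃ a ∈ p, a ∉ q := by
    by_contra hcon
    push_neg at hcon
    apply hp
    have : q = p := le_antisymm hqle hcon
    rw [← this]
    exact hqh
  -- the width predicate
  let P : ℕ → Prop := fun d => ∃ a ∈ p, a ∉ q ∧ ∃ lo : ℤ,
    ∀ n, (decompose 𝒜 a n : R) ∉ q → lo ≤ n ∧ n ≤ lo + d
  have hP : ∃ d, P d := by
    obtain ⟨a, hap, haq⟩ := hex
    obtain ⟨hi, hhi⟩ := ((decompose 𝒜 a).support : Finset ℤ).bddAbove
    obtain ⟨lo, hlo⟩ := ((decompose 𝒜 a).support : Finset ℤ).bddBelow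
    refine ⟨(hi - lo).toNat, a, hap, haq, lo, fun n hn => ?_⟩
    have hmem : n ∈ (decompose 𝒜 a).support := by
      rw [DFinsupp.mem_support_iff]
      intro h0
      apply hn
      rw [h0]
      exact q.zero_mem
    have h1 : lo ≤ n := hlo hmem
    have h2 : n ≤ hi := hhi hmem
    have h3 : hi - lo ≤ ((hi - lo).toNat : ℤ) := Int.self_le_toNat _
    exact ⟨h1, by omega⟩
  set d₀ := Nat.find hP with hd₀
  obtain ⟨a, hap, haq, loa, hsupp⟩ := Nat.find_spec hP
  have hmin : ∀ b ∈ p, b ∉ q → ∀ (lo : ℤ) (d : ℕ),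
      (∀ n, (decompose 𝒜 b n : R) ∉ q → lo ≤ n ∧ n ≤ lo + d) → d₀ ≤ d := by
    intro b hbp hbq lo d h
    exact Nat.find_min' hP ⟨b, hbp, hbq, lo, h⟩
  set α : ℤ := loa + d₀ with hα
  -- the top component of `a` is not in `q`
  have htop : (decompose 𝒜 a α : R) ∉ q := by
    intro htop
    rcases Nat.eq_zero_or_pos d₀ with h0 | hpos
    · apply haq
      apply hmemq
      intro n
      by_contra hn
      obtain ⟨h1, h2⟩ := hsupp n hn
      have : n = α := by omega
      rw [this] at hn
      exact hn htop
    · have hlt : d₀ - 1 < d₀ := by omega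
      apply Nat.find_min hP hlt
      refine ⟨a, hap, haq, loa, fun n hn => ?_⟩
      obtain ⟨h1, h2⟩ := hsupp n hn
      refine ⟨h1, ?_⟩
      have hne : n ≠ α := by
        intro h
        rw [h] at hn
        exact hn htop
      have hlt' : n < α := lt_of_le_of_ne h2 hne
      omega
  have hsα : (decompose 𝒜 a α : R) ∉ p := fun h => htop (hcomp a α h)
  refine ⟨a, hap, haq, ?_⟩
  -- the induction
  have key : ∀ (d : ℕ) (b : R), b ∈ p → ∀ lo : ℤ,
      (∀ n, (decompose 𝒜 b n : R) ∉ q → lo ≤ n ∧ n < lo + d) →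
      ∃ s : R, s ∉ p ∧ s * b ∈ q ⊔ Ideal.span {a} := by
    intro d
    induction d with
    | zero =>
      intro b hbp lo h
      refine ⟨1, (Ideal.ne_top_iff_one p).1 (Ideal.IsPrime.ne_top inferInstance), ?_⟩
      rw [one_mul]
      apply Ideal.mem_sup_left
      apply hmemq
      intro n
      by_contra hn
      obtain ⟨h1, h2⟩ := h n hn
      push_cast at h2
      omega
    | succ d ih =>
      intro b hbp lo h
      by_cases hbq : b ∈ q
      · refine ⟨1, (Ideal.ne_top_iff_one p).1 (Ideal.IsPrime.ne_top inferInstance), ?_⟩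
        rw [one_mul]
        exact Ideal.mem_sup_left hbq
      · have hd : d₀ ≤ d := by
          apply hmin b hbp hbq lo d
          intro n hn
          obtain ⟨h1, h2⟩ := h n hn
          push_cast at h2
          exact ⟨h1, by omega⟩
        set β : ℤ := lo + d with hβ
        set aα : R := (decompose 𝒜 a α : R) with haα
        set bβ : R := (decompose 𝒜 b β : R) with hbβ
        have haα_mem : aα ∈ 𝒜 α := (decompose 𝒜 a α).2
        have hbβ_mem : bβ ∈ 𝒜 β := (decompose 𝒜 b β).2
        set b' : R := aα * b - bβ * a with hb'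
        have hb'p : b' ∈ p := p.sub_mem (p.mul_mem_left _ hbp) (p.mul_mem_left _ hap)
        have hcompb' : ∀ n, (decompose 𝒜 b' n : R) =
            aα * (decompose 𝒜 b (n - α) : R) - bβ * (decompose 𝒜 a (n - β) : R) := by
          intro n
          rw [hb', decompose_sub, DirectSum.sub_apply, AddSubgroup.coe_sub,
            comp_mul_left 𝒜 haα_mem, comp_mul_left 𝒜 hbβ_mem]
        have hbsupp : ∀ m, (m < lo ∨ β < m) → (decompose 𝒜 b m : R) ∈ q := by
          intro m hm
          by_contra hn
          obtain ⟨h1, h2⟩ := h m hn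
          push_cast at h2
          omega
        have hasupp : ∀ m, (m < loa ∨ α < m) → (decompose 𝒜 a m : R) ∈ q := by
          intro m hm
          by_contra hn
          obtain ⟨h1, h2⟩ := hsupp m hn
          omega
        have hdz : (d₀ : ℤ) ≤ (d : ℤ) := by exact_mod_cast hd
        have hb'supp : ∀ n, (decompose 𝒜 b' n : R) ∉ q → (α + lo) ≤ n ∧ n < (α + lo) + d := by
          intro n hn
          by_contra hcon
          apply hn
          rw [hcompb']
          have hcases : n < α + lo ∨ n = α + β ∨ α + β < n := by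
            by_contra h'
            push_neg at h'
            apply hcon
            obtain ⟨h1, h2, h3⟩ := h'
            refine ⟨h1, ?_⟩
            have : n < α + β := lt_of_le_of_ne h3 h2
            omega
          rcases hcases with h1 | h1 | h1
          · refine q.sub_mem (q.mul_mem_left _ (hbsupp _ (Or.inl (by omega))))
              (q.mul_mem_left _ (hasupp _ (Or.inl (by omega))))
          · have e1 : n - α = β := by omega
            have e2 : n - β = α := by omega
            rw [e1, e2, ← haα, ← hbβ, mul_comm, sub_self]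
            exact q.zero_mem
          · refine q.sub_mem (q.mul_mem_left _ (hbsupp _ (Or.inr (by omega))))
              (q.mul_mem_left _ (hasupp _ (Or.inr (by omega))))
        obtain ⟨s', hs'p, hs'⟩ := ih b' hb'p (α + lo) hb'supp
        refine ⟨s' * aα, ?_, ?_⟩
        · intro hmem
          rcases (Ideal.IsPrime.mem_or_mem inferInstance hmem) with h1 | h1
          · exact hs'p h1
          · exact hsα h1
        · have e : s' * aα * b = s' * b' + (s' * bβ) * a := by
            rw [hb']
            ring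
          rw [e]
          refine Ideal.add_mem _ hs' (Ideal.mem_sup_right ?_)
          exact Ideal.mul_mem_left _ _ (Ideal.subset_span rfl)
  intro b hbp
  -- bound the support of `b`
  obtain ⟨hi, hhi⟩ := ((decompose 𝒜 b).support : Finset ℤ).bddAbove
  obtain ⟨lo, hlo⟩ := ((decompose 𝒜 b).support : Finset ℤ).bddBelow
  apply key ((hi - lo).toNat + 1) b hbp lo
  intro n hn
  have hmem : n ∈ (decompose 𝒜 b).support := by
    rw [DFinsupp.mem_support_iff]
    intro h0
    apply hn
    rw [h0]
    exact q.zero_mem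
  have h1 : lo ≤ n := hlo hmem
  have h2 : n ≤ hi := hhi hmem
  have h3 : hi - lo ≤ ((hi - lo).toNat : ℤ) := Int.self_le_toNat _
  refine ⟨h1, ?_⟩
  push_cast
  omega

end

end Groth.Agent.Lib.Helper84.BassShiftL4a
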