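import Groth.Agent.Lib.Helper25.LocDual.CMLocus2
import Groth.Agent.Lib.Helper25.LocDual.HomLocPrime
import Groth.Agent.Lib.Helper25.LocDual.ExtNonvanish
import Groth.Agent.Lib.Helper25.LocDual.ExtVanishD

/-!
# Cohen–Macaulay criterion for finite modules over a local ring with a dualizing complex
-/

set_option autoImplicit false
universe u

namespace Groth.Agent.Lib.Helper84.CMMod

open CategoryTheory CategoryTheory.Limits CategoryTheory.Pretriangulated DerivedCategory
open Groth.Agent.Lib.Helper25.Bidual Groth.Agent.Lib.Helper25.LocDual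

attribute [local instance] HasDerivedCategory.standard

variable {B : Type u} [CommRing B] [IsLocalRing B] [IsNoetherianRing B]

/-- the support dimension of a nonzero finite module over a local ring with a dualizing complex is
a natural number -/
theorem exists_supportDim_eq (ω : Dual.D B) (hω : Dual.IsDualizing B ω)
    (V : Type u) [AddCommGroup V] [Module B V] [Module.Finite B V] [Nontrivial V] :
    ∃ d : ℕ, Module.supportDim B V = d := by
  obtain ⟨d0, hd0⟩ := exists_supportDim_self_eq ω hω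
  have hle : Module.supportDim B V ≤ (d0 : WithBot ℕ∞) := by
    rw [← hd0, Module.supportDim_self_eq_ringKrullDim]
    exact Module.supportDim_le_ringKrullDim B V
  have h0 : Module.supportDim B V ≠ ⊥ := Module.supportDim_ne_bot_of_nontrivial B V
  obtain ⟨x, hx⟩ := WithBot.ne_bot_iff_exists.1 h0
  have hx' : x ≠ ⊤ := by
    rintro rfl
    rw [← hx] at hle
    have : ((⊤ : ℕ∞) : WithBot ℕ∞) ≤ ((d0 : ℕ∞) : WithBot ℕ∞) := hle
    rw [WithBot.coe_le_coe] at this
    exact absurd this (by simp)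
  obtain ⟨d, hd⟩ := ENat.ne_top_iff_exists.1 hx'
  exact ⟨d, by rw [← hx, ← hd]; rfl⟩

/-- normalization data: a shift of `ω` which is normalized -/
theorem exists_normalized_shift (ω : Dual.D B) (hω : Dual.IsDualizing B ω) :
    ∃ n : ℤ, Dual.IsDualizing B (ω⟦n⟧) ∧ Dual.IsNormalized B (ω⟦n⟧) := by
  obtain ⟨n, hn1, -⟩ := residue_main (IsLocalRing.maximalIdeal B) ω hω
  refine ⟨n, isDualizing_shift ω hω n, ?_⟩
  have eadd : ∀ i : ℤ, (ω⟦n⟧)⟦i⟧ ≅ ω⟦n + i⟧ := fun i =>
    ((shiftFunctorAdd' (Dual.D B) n i (n + i) rfl).app ω).symm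
  intro i hi
  exact (subsingleton_hom_congr_right (eadd i)).2 (hn1 (n + i) (by omega))

/-- for a normalized dualizing complex: the `Ext` modules of a nonzero finite module `V` are
concentrated in degrees `[-dim V, -depth V]`, and are nonzero at both ends. -/
theorem ext_range (ω : Dual.D B) (hω : Dual.IsDualizing B ω) (hnorm : Dual.IsNormalized B ω)
    (V : Type u) [AddCommGroup V] [Module B V] [Module.Finite B V] [Nontrivial V]
    (d t : ℕ) (hd : Module.supportDim B V = d) (ht : LocCoh.depth B V = t) :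
    (∀ j : ℤ, (j < -(d : ℤ) ∨ -(t : ℤ) < j) → Subsingleton (Dual.inD B V ⟶ ω⟦j⟧)) ∧
      Nontrivial (Dual.inD B V ⟶ ω⟦(-(d : ℤ))⟧) ∧ Nontrivial (Dual.inD B V ⟶ ω⟦(-(t : ℤ))⟧) := by
  obtain ⟨g1, g2⟩ := (depth_eq_iff ω hω hnorm V t).1 ht
  refine ⟨?_, nontrivial_ext_neg_dim ω hω hnorm V d hd, g2⟩
  rintro j (hj | hj)
  · exact Groth.Agent.Lib.Helper39.Dual.dimVan ω hω hnorm d j hj V (le_of_eq hd)
  · by_cases hpos : 0 < j
    · refine hom_vanish_of_ge_zero ω hω hnorm (Dual.inD B V)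
        (fun j => Groth.Agent.Lib.Helper68.DualBasic.finite_HD_single B V j) 0 (fun j hj => ?_)
        (fun j hj => ?_) j hpos
      · exact ModuleCat.subsingleton_of_isZero (isZero_of_isLE _ 0 j hj)
      · exact ModuleCat.subsingleton_of_isZero (isZero_of_isGE _ 0 j hj)
    · obtain ⟨δ, hδ⟩ : ∃ δ : ℕ, j = -(δ : ℤ) := ⟨(-j).toNat, by omega⟩
      rw [hδ]
      exact g1 δ (by omega)

/-- the Cohen–Macaulay criterion for a nonzero finite module -/
theorem cm_iff_single (ω : Dual.D B) (hω : Dual.IsDualizing B ω)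
    (V : Type u) [AddCommGroup V] [Module B V] [Module.Finite B V] [Nontrivial V] :
    LocCoh.IsCohenMacaulayModule B V ↔
      ∃ m : ℤ, ∀ i : ℤ, i ≠ m → Subsingleton (Dual.inD B V ⟶ ω⟦i⟧) := by
  obtain ⟨n, hω', hnorm⟩ := exists_normalized_shift ω hω
  obtain ⟨d, hd⟩ := exists_supportDim_eq ω hω V
  have hne : LocCoh.depth B V ≠ ⊤ := Groth.Agent.Lib.Helper67.depth_ne_top (R := B) (M := V)
  obtain ⟨t, ht⟩ := ENat.ne_top_iff_exists.1 hne
  obtain ⟨h1, h2, h3⟩ := ext_range (ω⟦n⟧) hω' hnorm V d t hd ht.symm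
  have e2 : ∀ j : ℤ, (ω⟦n⟧)⟦j⟧ ≅ ω⟦n + j⟧ := fun j =>
    ((shiftFunctorAdd' (Dual.D B) n j (n + j) rfl).app ω).symm
  unfold LocCoh.IsCohenMacaulayModule
  rw [hd, ← ht]
  constructor
  · intro h
    have hdt : d = t := by
      have h1' : ((d : ℕ∞) : WithBot ℕ∞) = ((t : ℕ∞) : WithBot ℕ∞) := h
      exact_mod_cast WithBot.coe_injective h1'
    subst hdt
    refine ⟨n - d, fun i hi => ?_⟩
    have e3 : (ω⟦n⟧)⟦i - n⟧ ≅ ω⟦i⟧ :=
      ((shiftFunctorAdd' (Dual.D B) n (i - n) i (by omega)).app ω).symm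
    rw [← subsingleton_hom_congr_right e3]
    exact h1 (i - n) (by omega)
  · rintro ⟨m, hm⟩
    have hd' : n + -(d : ℤ) = m := by
      by_contra hne
      have hs := (subsingleton_hom_congr_right (e2 (-(d : ℤ)))).2 (hm _ hne)
      exact not_subsingleton _ hs
    have ht' : n + -(t : ℤ) = m := by
      by_contra hne
      have hs := (subsingleton_hom_congr_right (e2 (-(t : ℤ)))).2 (hm _ hne)
      exact not_subsingleton _ hs
    have hdt : d = t := by omega
    rw [hdt]
    rfl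

/-- a nonzero finite module of dimension zero is Cohen–Macaulay -/
theorem cm_of_supportDim_eq_zero (ω : Dual.D B) (hω : Dual.IsDualizing B ω)
    (V : Type u) [AddCommGroup V] [Module B V] [Module.Finite B V] [Nontrivial V]
    (hd : Module.supportDim B V = 0) : LocCoh.IsCohenMacaulayModule B V := by
  obtain ⟨n, hω', hnorm⟩ := exists_normalized_shift ω hω
  have hne : LocCoh.depth B V ≠ ⊤ := Groth.Agent.Lib.Helper67.depth_ne_top (R := B) (M := V)
  obtain ⟨t, ht⟩ := ENat.ne_top_iff_exists.1 hne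
  have hd' : Module.supportDim B V = ((0 : ℕ) : WithBot ℕ∞) := by rw [hd]; rfl
  obtain ⟨h1, -, h3⟩ := ext_range (ω⟦n⟧) hω' hnorm V 0 t hd' ht.symm
  have ht0 : t = 0 := by
    by_contra hne
    have hs := h1 (-(t : ℤ)) (Or.inl (by simp; omega))
    exact not_subsingleton _ hs
  subst ht0
  unfold LocCoh.IsCohenMacaulayModule
  rw [hd, ← ht]
  rfl

/-- a nonzero finite module has some nonvanishing `Ext` into a dualizing complex -/
theorem exists_nontrivial_hom (ω : Dual.D B) (hω : Dual.IsDualizing B ω)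
    (V : Type u) [AddCommGroup V] [Module B V] [Module.Finite B V] [Nontrivial V] :
    ∃ i : ℤ, Nontrivial (Dual.inD B V ⟶ ω⟦i⟧) := by
  obtain ⟨n, hω', hnorm⟩ := exists_normalized_shift ω hω
  have hne : LocCoh.depth B V ≠ ⊤ := Groth.Agent.Lib.Helper67.depth_ne_top (R := B) (M := V)
  obtain ⟨t, ht⟩ := ENat.ne_top_iff_exists.1 hne
  obtain ⟨-, g2⟩ := (depth_eq_iff (ω⟦n⟧) hω' hnorm V t).1 ht.symm
  have e2 : (ω⟦n⟧)⟦(-(t : ℤ))⟧ ≅ ω⟦n + -(t : ℤ)⟧ :=
    ((shiftFunctorAdd' (Dual.D B) n (-(t : ℤ)) (n + -(t : ℤ)) rfl).app ω).symm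
  exact ⟨n + -(t : ℤ), (nontrivial_hom_congr_right e2).1 g2⟩

end Groth.Agent.Lib.Helper84.CMMod
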