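import Groth.Agent.Lib.Helper84.CMMod
import Groth.Agent.Lib.Helper56.SkLift

/-!
# The Cohen–Macaulay locus of a finite module over a ring with a dualizing complex
-/

set_option autoImplicit false
universe u

namespace Groth.Agent.Lib.Helper84.CMMod

open CategoryTheory CategoryTheory.Limits CategoryTheory.Pretriangulated DerivedCategory
open Groth.Agent.Lib.Helper84 Groth.Agent.Lib.Helper25.Bidual Groth.Agent.Lib.Helper25.LocDual

attribute [local instance] HasDerivedCategory.standard

section Loc

variable {A : Type u} [CommRing A] (S : Submonoid A)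

/-- `B ⊗ M ≅ M_S` as `B`-modules, `B = S⁻¹A`. -/
theorem nonempty_ext_iso_localizedModule (M : Type u) [AddCommGroup M] [Module A M] :
    Nonempty ((ModuleCat.extendScalars.{u, u, u} (algebraMap A (Localization S))).obj
        (ModuleCat.of A M) ≅ ModuleCat.of (Localization S) (LocalizedModule S M)) := by
  have hloc : @IsLocalization A _ S (Localization S) _
      (algebraMap A (Localization S)).toAlgebra := by
    have h : (algebraMap A (Localization S)).toAlgebra =
        (inferInstance : Algebra A (Localization S)) :=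
      Algebra.algebra_ext _ _ (fun _ => rfl)
    rw [h]
    infer_instance
  have hsm : ∀ (r : A) (v : LocalizedModule S M),
      (algebraMap A (Localization S) r) • v = r • v := fun r v => algebraMap_smul _ r v
  letI := (algebraMap A (Localization S)).toAlgebra
  haveI := hloc
  haveI : @IsScalarTower A (Localization S) (LocalizedModule S M)
      (@Algebra.toSMul _ _ _ _ (algebraMap A (Localization S)).toAlgebra) _ _ :=
    @IsScalarTower.mk A (Localization S) (LocalizedModule S M)
      (@Algebra.toSMul _ _ _ _ (algebraMap A (Localization S)).toAlgebra) _ _ (fun a b v => by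
        show (algebraMap A (Localization S) a * b) • v = a • b • v
        rw [mul_smul]
        exact hsm a (b • v))
  have hb : IsBaseChange (Localization S) (LocalizedModule.mkLinearMap S M) :=
    IsLocalizedModule.isBaseChange S (Localization S) _
  exact ⟨hb.equiv.toModuleIso⟩

end Loc

section Global

variable {A : Type u} [CommRing A] [IsNoetherianRing A]

/-- `M_p` is zero or CM iff `p` lies in the support of at most one `Ext^i(M, ω)` -/
theorem cm_localization_iff_mod (ω : Dual.D A) (hω : Dual.IsDualizing A ω)
    (M : Type u) [AddCommGroup M] [Module A M] [Module.Finite A M] (p : PrimeSpectrum A) :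
    (Subsingleton (LocalizedModule p.asIdeal.primeCompl M) ∨
      LocCoh.IsCohenMacaulayModule (Localization.AtPrime p.asIdeal)
        (LocalizedModule p.asIdeal.primeCompl M)) ↔
      ∃ m : ℤ, ∀ i : ℤ, i ≠ m → p ∉ Module.support A (Dual.inD A M ⟶ ω⟦i⟧) := by
  let S := p.asIdeal.primeCompl
  let B := Localization.AtPrime p.asIdeal
  let φ : A →+* B := algebraMap A B
  have hloc : @IsLocalization A _ S B _ φ.toAlgebra := by
    have h : φ.toAlgebra = (inferInstance : Algebra A B) :=
      Algebra.algebra_ext _ _ (fun _ => rfl)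
    rw [h]
    infer_instance
  obtain ⟨I, a, b, hI, hz, ⟨e⟩⟩ := exists_bounded_injective_model ω hω
  have hz' : ∀ i, (i < a ∨ max a b < i) → IsZero (I.X i) := fun i hi => by
    rcases hi with hi | hi
    · exact hz i (Or.inl hi)
    · exact hz i (Or.inr (lt_of_le_of_lt (le_max_right a b) hi))
  have hB : Dual.IsDualizing B (Q.obj ((DTen.extCx φ).obj I)) :=
    isDualizing_ext φ S hloc I a (max a b) (le_max_left a b) hI hz'
      (isDualizing_of_iso e.symm hω)
  haveI : IsNoetherianRing B := hB.isNoetherianRing
  obtain ⟨eM⟩ := nonempty_ext_iso_localizedModule S M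
  have key : ∀ i : ℤ, p ∉ Module.support A (Dual.inD A M ⟶ ω⟦i⟧) ↔
      Subsingleton (Dual.inD B (LocalizedModule S M) ⟶
        (Q.obj ((DTen.extCx φ).obj I))⟦i⟧) := fun i => by
    rw [Module.notMem_support_iff, ← locZero_iff_subsingleton]
    have h1 : LocZero S (Dual.inD A M ⟶ ω⟦i⟧) ↔ LocZero S (Dual.inD A M ⟶ (Q.obj I)⟦i⟧) :=
      ⟨LocZero.of_linearEquiv
        (Linear.homCongr A (Iso.refl _) ((shiftFunctor (Dual.D A) i).mapIso e.symm)),
       LocZero.of_linearEquiv
        (Linear.homCongr A (Iso.refl _) ((shiftFunctor (Dual.D A) i).mapIso e))⟩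
    rw [h1, locZero_hom_single_iff φ S hloc I a (max a b) hI hz' (ModuleCat.of A M) i]
    exact subsingleton_hom_congr_left
      ((DerivedCategory.singleFunctor (ModuleCat.{u} B) 0).mapIso eM)
  simp only [key]
  by_cases hV : Subsingleton (LocalizedModule S M)
  · simp only [S] at hV
    simp only [hV, true_or, true_iff]
    exact ⟨0, fun i _ => Groth.Agent.Lib.Helper39.Dual.subsingleton_hom_of_subsingleton _ _⟩
  · haveI : Nontrivial (LocalizedModule S M) := not_subsingleton_iff_nontrivial.1 hV
    rw [← cm_iff_single _ hB (LocalizedModule S M)]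
    simp only [S] at hV
    simp only [hV, false_or]
    rfl

/-- at a minimal prime of the support, `M_p` is Cohen–Macaulay -/
theorem cm_of_minimal (ω : Dual.D A) (hω : Dual.IsDualizing A ω)
    (M : Type u) [AddCommGroup M] [Module A M] [Module.Finite A M] (p : Ideal A)
    (hp : p ∈ (Module.annihilator A M).minimalPrimes) :
    LocCoh.IsCohenMacaulayModule (Localization.AtPrime p (hp := hp.1.1))
      (LocalizedModule (Ideal.primeCompl p (hp := hp.1.1)) M) := by
  haveI : p.IsPrime := hp.1.1
  let p' : PrimeSpectrum A := ⟨p, hp.1.1⟩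
  have hsupp : p' ∈ Module.support A M := Module.mem_support_iff_of_finite.2 hp.1.2
  let S := p.primeCompl
  let B := Localization.AtPrime p
  let φ : A →+* B := algebraMap A B
  have hloc : @IsLocalization A _ S B _ φ.toAlgebra := by
    have h : φ.toAlgebra = (inferInstance : Algebra A B) :=
      Algebra.algebra_ext _ _ (fun _ => rfl)
    rw [h]
    infer_instance
  obtain ⟨I, a, b, hI, hz, ⟨e⟩⟩ := exists_bounded_injective_model ω hω
  have hz' : ∀ i, (i < a ∨ max a b < i) → IsZero (I.X i) := fun i hi => by
    rcases hi with hi | hi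
    · exact hz i (Or.inl hi)
    · exact hz i (Or.inr (lt_of_le_of_lt (le_max_right a b) hi))
  have hB : Dual.IsDualizing B (Q.obj ((DTen.extCx φ).obj I)) :=
    isDualizing_ext φ S hloc I a (max a b) (le_max_left a b) hI hz'
      (isDualizing_of_iso e.symm hω)
  haveI : IsNoetherianRing B := hB.isNoetherianRing
  haveI : Nontrivial (LocalizedModule S M) := Module.mem_support_iff.1 hsupp
  let P : Module.support A M := ⟨p', hsupp⟩
  have hmin : IsMin P := by
    intro P' hP'
    have h1 : Module.annihilator A M ≤ P'.1.asIdeal := Module.mem_support_iff_of_finite.1 P'.2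
    have h2 : P'.1.asIdeal ≤ p := hP'
    have h3 : p ≤ P'.1.asIdeal := hp.2 ⟨P'.1.isPrime, h1⟩ h2
    exact h3
  have hdim : Module.supportDim B (LocalizedModule S M) = 0 := by
    have h := Groth.Agent.Lib.Helper56.supportDim_localization_eq_height M P
    rw [Order.height_eq_zero.2 hmin] at h
    exact h
  exact cm_of_supportDim_eq_zero _ hB (LocalizedModule S M) hdim

/-- S1716 -/
theorem cm_locus_mod (ω : Dual.D A) (hω : Dual.IsDualizing A ω)
    (M : Type u) [AddCommGroup M] [Module A M] [Module.Finite A M] :
    IsOpen {p : PrimeSpectrum A | Subsingleton (LocalizedModule p.asIdeal.primeCompl M) ∨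
        LocCoh.IsCohenMacaulayModule (Localization.AtPrime p.asIdeal)
          (LocalizedModule p.asIdeal.primeCompl M)} ∧
      Module.support A M ⊆ closure ({p : PrimeSpectrum A |
        LocCoh.IsCohenMacaulayModule (Localization.AtPrime p.asIdeal)
          (LocalizedModule p.asIdeal.primeCompl M)} ∩ Module.support A M) := by
  constructor
  · have hset : {p : PrimeSpectrum A | Subsingleton (LocalizedModule p.asIdeal.primeCompl M) ∨
          LocCoh.IsCohenMacaulayModule (Localization.AtPrime p.asIdeal)
            (LocalizedModule p.asIdeal.primeCompl M)} =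
        {p | ∃ m : ℤ, ∀ i : ℤ, i ≠ m → p ∉ Module.support A (Dual.inD A M ⟶ ω⟦i⟧)} :=
      Set.ext (fun p => cm_localization_iff_mod ω hω M p)
    rw [hset]
    obtain ⟨a, b, hab⟩ := hω.finite_injective_dimension
    have hBF : HomFinite.BddFin ω := by
      obtain ⟨I, a', b', hI, hz, ⟨e⟩⟩ := exists_bounded_injective_model ω hω
      refine ⟨⟨a', b', fun i hi => ?_⟩, hω.finite_cohomology⟩
      have h1 : IsZero ((homologyFunctor (ModuleCat.{u} A) i).obj (Q.obj I)) :=
        HomFinite.isZero_homology_Q I i (hz i hi)
      exact h1.of_iso ((homologyFunctor (ModuleCat.{u} A) i).mapIso e.symm)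
    have hfin : ∀ i : ℤ, Module.Finite A (Dual.inD A M ⟶ ω⟦i⟧) := fun i => by
      haveI : IsNoetherian A (Dual.inD A M ⟶ ω⟦i⟧) :=
        HomFinite.noeth_single_left (ModuleCat.of A M) 0 ω hBF i
      infer_instance
    have h2 : {p : PrimeSpectrum A |
          ∃ m : ℤ, ∀ i : ℤ, i ≠ m → p ∉ Module.support A (Dual.inD A M ⟶ ω⟦i⟧)} =
        ⋃ m : ℤ, ⋂ i ∈ (Finset.Icc a b).filter (· ≠ m),
          (Module.support A (Dual.inD A M ⟶ ω⟦i⟧))ᶜ := by
      ext p
      simp only [Set.mem_setOf_eq, Set.mem_iUnion, Set.mem_iInter, Finset.mem_filter,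
        Finset.mem_Icc, Set.mem_compl_iff]
      constructor
      · rintro ⟨m, hm⟩
        exact ⟨m, fun i hi => hm i hi.2⟩
      · rintro ⟨m, hm⟩
        refine ⟨m, fun i hi => ?_⟩
        by_cases hi' : a ≤ i ∧ i ≤ b
        · exact hm i ⟨hi', hi⟩
        · intro hmem
          haveI := hab M i (by omega)
          rw [Module.mem_support_iff] at hmem
          exact not_subsingleton _ (inferInstance :
            Subsingleton (LocalizedModule p.asIdeal.primeCompl (Dual.inD A M ⟶ ω⟦i⟧)))
    rw [h2]
    refine isOpen_iUnion (fun m => isOpen_biInter_finset (fun i _ => ?_))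
    haveI := hfin i
    exact Module.isClosed_support.isOpen_compl
  · intro q hq
    have hle : Module.annihilator A M ≤ q.asIdeal := Module.mem_support_iff_of_finite.1 hq
    obtain ⟨p, hp, hpq⟩ := Ideal.exists_minimalPrimes_le hle
    haveI : p.IsPrime := hp.1.1
    let p' : PrimeSpectrum A := ⟨p, hp.1.1⟩
    have hsupp : p' ∈ Module.support A M := Module.mem_support_iff_of_finite.2 hp.1.2
    have hcm := cm_of_minimal ω hω M p hp
    have hspec : p' ⤳ q := (PrimeSpectrum.le_iff_specializes p' q).1 hpq
    have hcl : q ∈ closure ({p'} : Set (PrimeSpectrum A)) := specializes_iff_mem_closure.1 hspec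
    have hmem : p' ∈ {p : PrimeSpectrum A |
        LocCoh.IsCohenMacaulayModule (Localization.AtPrime p.asIdeal)
          (LocalizedModule p.asIdeal.primeCompl M)} ∩ Module.support A M := ⟨hcm, hsupp⟩
    exact closure_mono (Set.singleton_subset_iff.2 hmem) hcl

end Global

end Groth.Agent.Lib.Helper84.CMMod
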