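import Mathlib

/-!
# Lifting maps from finite free modules along filtered colimits of modules (helper84)
-/

set_option autoImplicit false
universe u

open CategoryTheory CategoryTheory.Limits

namespace Groth.Agent.Lib.Helper84.FilteredLift

variable {R : Type u} [CommRing R] {J : Type u} [SmallCategory J] [IsFiltered J]
  (F : J ⥤ ModuleCat.{u} R) (c : Cocone F) (hc : IsColimit c)

include hc

/-- a map from a finitely generated module to a stage which dies in the colimit dies at a later
stage -/
lemma exists_map_eq_zero (P : ModuleCat.{u} R) [Module.Finite R P] (j : J) (u : P ⟶ F.obj j)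
    (hu : u ≫ c.ι.app j = 0) : ∃ (j' : J) (f : j ⟶ j'), u ≫ F.map f = 0 := by
  classical
  obtain ⟨s, hs⟩ := (Module.Finite.fg_top : (⊤ : Submodule R P).FG)
  have key : ∀ t : Finset P, ∃ (j' : J) (f : j ⟶ j'), ∀ x ∈ t, (F.map f) (u x) = 0 := by
    intro t
    induction t using Finset.induction_on with
    | empty => exact ⟨j, 𝟙 j, fun x hx => absurd hx (Finset.notMem_empty x)⟩
    | insert g t _ ih =>
      obtain ⟨j1, f1, h1⟩ := ih
      have h0 : c.ι.app j (u g) = c.ι.app j (0 : F.obj j) := by
        have := congrArg (fun φ => φ g) (congrArg (fun φ => (φ.hom : P → c.pt)) hu)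
        rw [map_zero]
        exact this
      obtain ⟨k, f2, g2, h2⟩ := Concrete.isColimit_exists_of_rep_eq F hc (u g) (0 : F.obj j) h0
      rw [map_zero] at h2
      obtain ⟨j', a, b, hab⟩ := IsFiltered.span f1 f2
      refine ⟨j', f1 ≫ a, ?_⟩
      intro x hx
      rcases Finset.mem_insert.1 hx with rfl | hx
      · rw [hab, F.map_comp]
        change (F.map b) ((F.map f2) (u x)) = 0
        rw [h2, map_zero]
      · rw [F.map_comp]
        change (F.map a) ((F.map f1) (u x)) = 0
        rw [h1 x hx, map_zero]
  obtain ⟨j', f, hf⟩ := key s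
  refine ⟨j', f, ?_⟩
  apply ModuleCat.hom_ext
  apply LinearMap.ext_on_range (v := fun x : s => (x : P))
  · rw [Subtype.range_coe_subtype]
    simpa using hs
  · rintro ⟨x, hx⟩
    exact hf x hx

/-- a map from a finite free module to a filtered colimit lifts to some stage -/
lemma exists_lift (P : ModuleCat.{u} R) [Module.Finite R P] [Module.Free R P] (z : P ⟶ c.pt) :
    ∃ (j : J) (z' : P ⟶ F.obj j), z' ≫ c.ι.app j = z := by
  classical
  let ι := Module.Free.ChooseBasisIndex R P
  let b : Module.Basis ι R P := Module.Free.chooseBasis R P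
  have hrep : ∀ i : ι, ∃ (j : J) (y : F.obj j), c.ι.app j y = z (b i) :=
    fun i => Concrete.isColimit_exists_rep F hc (z (b i))
  choose jj y hy using hrep
  obtain ⟨S, hS⟩ := IsFiltered.sup_objs_exists (Finset.image jj Finset.univ)
  have hS' : ∀ i : ι, Nonempty (jj i ⟶ S) :=
    fun i => hS (Finset.mem_image.2 ⟨i, Finset.mem_univ i, rfl⟩)
  let t : ∀ i : ι, jj i ⟶ S := fun i => (hS' i).some
  refine ⟨S, ModuleCat.ofHom (b.constr R (fun i => (F.map (t i)) (y i))), ?_⟩
  apply ModuleCat.hom_ext
  apply b.ext
  intro i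
  change c.ι.app S ((b.constr R (fun i => (F.map (t i)) (y i))) (b i)) = z (b i)
  rw [Module.Basis.constr_basis, ← hy i]
  have := congrArg (fun φ => (φ.hom : F.obj (jj i) → c.pt) (y i)) (c.w (t i))
  exact this

end Groth.Agent.Lib.Helper84.FilteredLift
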