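import Groth.Agent.Lib.Helper84.ToSingle
import Groth.Agent.Lib.Helper84.FilteredLift
import Mathlib

/-!
# `Hom(Q E, -[-p])` and filtered colimits of modules, for `E` K-projective with finite free terms
(helper84)
-/

set_option autoImplicit false
universe u

open CategoryTheory CategoryTheory.Limits DerivedCategory

attribute [local instance] HasDerivedCategory.standard

namespace Groth.Agent.Lib.Helper84.ColimHom

open Groth.Agent.Lib.Helper84

variable {R : Type u} [CommRing R] {J : Type u} [SmallCategory J] [IsFiltered J]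
  (F : J ⥤ ModuleCat.{u} R) (c : Cocone F) (hc : IsColimit c)
  (E : CochainComplex (ModuleCat.{u} R) ℤ) [E.IsKProjective]
  {p p' p'' : ℤ} (hp' : p' + 1 = p) (hp'' : p + 1 = p'')

include hc hp' in
/-- surjectivity: a map `Q E ⟶ (colim M_j)[-p]` factors through some `M_j[-p]` -/
lemma exists_lift_single [Module.Finite R (E.X p)] [Module.Free R (E.X p)]
    [Module.Finite R (E.X p')]
    (x : Q.obj E ⟶ (DerivedCategory.singleFunctor (ModuleCat.{u} R) p).obj c.pt) :
    ∃ (j : J) (y : Q.obj E ⟶ (DerivedCategory.singleFunctor (ModuleCat.{u} R) p).obj (F.obj j)),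
      y ≫ (DerivedCategory.singleFunctor (ModuleCat.{u} R) p).map (c.ι.app j) = x := by
  obtain ⟨z, hz, rfl⟩ := ToSingle.exists_Q_map_toSingleHom_eq E hp' x
  obtain ⟨j, z₁, hz₁⟩ := FilteredLift.exists_lift F c hc (E.X p) z
  have h0 : (E.d p' p ≫ z₁) ≫ c.ι.app j = 0 := by rw [Category.assoc, hz₁, hz]
  obtain ⟨j', f, hf⟩ := FilteredLift.exists_map_eq_zero F c hc (E.X p') j (E.d p' p ≫ z₁) h0
  have hz' : E.d p' p ≫ (z₁ ≫ F.map f) = 0 := by rw [← Category.assoc, hf]
  refine ⟨j', Q.map (ToSingle.toSingleHom E hp' (z₁ ≫ F.map f) hz'), ?_⟩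
  refine (ToSingle.Q_toSingleHom_comp_single_map E hp' _ hz' (c.ι.app j')).trans ?_
  rw [ToSingle.toSingleHom_congr E hp' (show (z₁ ≫ F.map f) ≫ c.ι.app j' = z by
    rw [Category.assoc, c.w f, hz₁])]

include hc hp' hp'' in
/-- injectivity: a map `Q E ⟶ M_j[-p]` dying in the colimit dies at a later stage -/
lemma exists_map_eq_zero_single [Module.Finite R (E.X p)]
    [Module.Finite R (E.X p'')] [Module.Free R (E.X p'')] (j : J)
    (y : Q.obj E ⟶ (DerivedCategory.singleFunctor (ModuleCat.{u} R) p).obj (F.obj j))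
    (hy : y ≫ (DerivedCategory.singleFunctor (ModuleCat.{u} R) p).map (c.ι.app j) = 0) :
    ∃ (j' : J) (f : j ⟶ j'),
      y ≫ (DerivedCategory.singleFunctor (ModuleCat.{u} R) p).map (F.map f) = 0 := by
  obtain ⟨z, hz, rfl⟩ := ToSingle.exists_Q_map_toSingleHom_eq E hp' y
  have hy' := (ToSingle.Q_toSingleHom_comp_single_map E hp' z hz (c.ι.app j)).symm.trans hy
  obtain ⟨g, hg⟩ := (ToSingle.Q_map_toSingleHom_eq_zero_iff E hp' hp'' _ _).1 hy'
  obtain ⟨j₁, g₁, hg₁⟩ := FilteredLift.exists_lift F c hc (E.X p'') g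
  let j₂ := IsFiltered.max j j₁
  let f₁ : j ⟶ j₂ := IsFiltered.leftToMax j j₁
  let f₂ : j₁ ⟶ j₂ := IsFiltered.rightToMax j j₁
  have h0 : (z ≫ F.map f₁ - E.d p p'' ≫ g₁ ≫ F.map f₂) ≫ c.ι.app j₂ = 0 := by
    rw [Preadditive.sub_comp, Category.assoc, Category.assoc, Category.assoc, c.w f₁, c.w f₂,
      hg₁, hg, sub_self]
  obtain ⟨j₃, f₃, hf₃⟩ := FilteredLift.exists_map_eq_zero F c hc (E.X p) j₂ _ h0
  refine ⟨j₃, f₁ ≫ f₃, ?_⟩
  refine (ToSingle.Q_toSingleHom_comp_single_map E hp' z hz (F.map (f₁ ≫ f₃))).trans ?_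
  refine (ToSingle.Q_map_toSingleHom_eq_zero_iff E hp' hp'' _ _).2 ?_
  refine ⟨g₁ ≫ F.map (f₂ ≫ f₃), ?_⟩
  rw [Preadditive.sub_comp, sub_eq_zero] at hf₃
  rw [F.map_comp, F.map_comp, ← Category.assoc z, hf₃]
  simp only [Category.assoc]

end Groth.Agent.Lib.Helper84.ColimHom
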