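import Mathlib

/-!
# Rank two subalgebras of a rank two algebra over `k⟦t⟧`

Helper library for S13880 / S13881 (crimps of double covers of the formal disk).
-/

set_option autoImplicit false
universe u

namespace Groth.Agent.Lib.Helper84.CrimpDouble

open Module Matrix

section general

variable {A : Type u} [CommRing A] {S' : Type u} [CommRing S'] [Algebra A S']
  (B : Basis (Fin 2) A S')

/-- second coordinate -/
noncomputable def π : S' →ₗ[A] A := B.coord 1
/-- first coordinate -/
noncomputable def ρ : S' →ₗ[A] A := B.coord 0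

theorem decomp (hB0 : B 0 = 1) (x : S') : x = ρ B x • (1 : S') + π B x • B 1 := by
  have h := B.sum_repr x
  rw [Fin.sum_univ_two, hB0] at h
  exact h.symm

theorem π_one (hB0 : B 0 = 1) : π B (1 : S') = 0 := by
  rw [← hB0]
  simp [π, Basis.coord_apply]

theorem ρ_one (hB0 : B 0 = 1) : ρ B (1 : S') = 1 := by
  rw [← hB0]
  simp [ρ, Basis.coord_apply]

theorem π_e : π B (B 1) = 1 := by
  simp [π, Basis.coord_apply]

theorem ρ_e : ρ B (B 1) = 0 := by
  simp [ρ, Basis.coord_apply]

theorem π_comb (hB0 : B 0 = 1) (a b : A) : π B (a • (1 : S') + b • B 1) = b := by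
  rw [map_add, map_smul, map_smul, π_one B hB0, π_e]
  simp

theorem ρ_comb (hB0 : B 0 = 1) (a b : A) : ρ B (a • (1 : S') + b • B 1) = a := by
  rw [map_add, map_smul, map_smul, ρ_one B hB0, ρ_e]
  simp

theorem ext_coords (hB0 : B 0 = 1) {x y : S'} (h0 : ρ B x = ρ B y) (h1 : π B x = π B y) :
    x = y := by
  rw [decomp B hB0 x, decomp B hB0 y, h0, h1]

/-- The submodule `A·1 + g S'`. -/
def T (g : A) : Submodule A S' :=
  Submodule.span A {(1 : S')} ⊔ Ideal.span {g} • (⊤ : Submodule A S')

theorem mem_T (hB0 : B 0 = 1) (g : A) (x : S') : x ∈ T (S' := S') g ↔ g ∣ π B x := by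
  constructor
  · intro hx
    obtain ⟨y, hy, z, hz, rfl⟩ := Submodule.mem_sup.1 hx
    rw [map_add]
    apply dvd_add
    · obtain ⟨a, rfl⟩ := Submodule.mem_span_singleton.1 hy
      rw [map_smul, π_one B hB0, smul_zero]
      exact dvd_zero _
    · refine Submodule.smul_induction_on hz ?_ ?_
      · intro r hr n _
        obtain ⟨c, rfl⟩ := Ideal.mem_span_singleton'.1 hr
        rw [map_smul, smul_eq_mul, mul_comm c g, mul_assoc]
        exact dvd_mul_right _ _
      · intro x y hx hy
        rw [map_add]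
        exact dvd_add hx hy
  · rintro ⟨c, hc⟩
    rw [decomp B hB0 x, hc]
    refine Submodule.add_mem _ (Submodule.mem_sup_left
      (Submodule.smul_mem _ _ (Submodule.mem_span_singleton_self _))) (Submodule.mem_sup_right ?_)
    rw [mul_smul]
    exact Submodule.smul_mem_smul (Ideal.mem_span_singleton_self g) Submodule.mem_top

variable (S : Subalgebra A S')

theorem mem_of_π_eq (hB0 : B 0 = 1) {x s : S'} (hs : s ∈ S) (h : π B x = π B s) : x ∈ S := by
  have hx : x = (ρ B x - ρ B s) • (1 : S') + s := by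
    apply ext_coords B hB0
    · rw [map_add, map_smul, ρ_one B hB0]
      simp
    · rw [map_add, map_smul, π_one B hB0, h]
      simp
  rw [hx]
  exact S.add_mem (S.smul_mem S.one_mem _) hs

/-- The ideal of second coordinates of elements of `S`. -/
noncomputable def I : Ideal A := Submodule.map (π B) (Subalgebra.toSubmodule S)

theorem mem_iff_π_mem_I (hB0 : B 0 = 1) (x : S') : x ∈ S ↔ π B x ∈ I B S := by
  constructor
  · intro hx
    exact ⟨x, hx, rfl⟩
  · rintro ⟨s, hs, hsx⟩
    exact mem_of_π_eq B S hB0 hs hsx.symm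

theorem toSubmodule_eq_T (hB0 : B 0 = 1) (g : A) (hI : I B S = Ideal.span {g}) :
    Subalgebra.toSubmodule S = T g := by
  ext x
  rw [Subalgebra.mem_toSubmodule, mem_iff_π_mem_I B S hB0, hI, Ideal.mem_span_singleton,
    mem_T B hB0]

theorem I_eq_of_toSubmodule_eq_T (hB0 : B 0 = 1) (g : A)
    (hS : Subalgebra.toSubmodule S = T g) : ∀ x, x ∈ S ↔ g ∣ π B x := by
  intro x
  rw [← Subalgebra.mem_toSubmodule, hS, mem_T B hB0]

section basis

/-- Hypotheses: `B 0 = 1`, `g` a non-zero-divisor, `S = {x | g ∣ π x}`. -/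
structure Data (B : Basis (Fin 2) A S') (S : Subalgebra A S') (g : A) : Prop where
  hB0 : B 0 = 1
  hg : g ∈ nonZeroDivisors A
  hS : ∀ x, x ∈ S ↔ g ∣ π B x

variable {B} {S} {g : A} (h : Data B S g)

include h in
theorem ge_mem : g • B 1 ∈ S := by
  rw [h.hS, map_smul, π_e]
  simp

/-- The two basis vectors `1, g e` of `S`. -/
noncomputable def cvec : Fin 2 → S :=
  ![⟨1, S.one_mem⟩, ⟨g • B 1, ge_mem h⟩]

theorem cvec_li : LinearIndependent A (cvec h) := by
  rw [Fintype.linearIndependent_iff]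
  intro c hc
  rw [Fin.sum_univ_two] at hc
  have h1 : c 0 • (1 : S') + (c 1 * g) • B 1 = 0 := by
    have := congrArg Subtype.val hc
    simp only [cvec, Matrix.cons_val_zero, Matrix.cons_val_one, Submodule.coe_add,
      Submodule.coe_smul_of_tower, Subalgebra.coe_toSubmodule] at this
    rw [mul_smul]
    simpa using this
  have h2 := congrArg (π B) h1
  have h3 := congrArg (ρ B) h1
  rw [π_comb B h.hB0, map_zero] at h2
  rw [ρ_comb B h.hB0, map_zero] at h3
  have h4 : c 1 = 0 := (mem_nonZeroDivisors_iff_right.1 h.hg) _ h2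
  intro i
  fin_cases i
  · exact h3
  · exact h4

theorem cvec_span : ⊤ ≤ Submodule.span A (Set.range (cvec h)) := by
  rintro ⟨x, hx⟩ -
  obtain ⟨c, hc⟩ := (h.hS x).1 hx
  have : (⟨x, hx⟩ : S) = ρ B x • cvec h 0 + c • cvec h 1 := by
    apply Subtype.ext
    simp only [cvec, Matrix.cons_val_zero, Matrix.cons_val_one]
    change x = ρ B x • (1 : S') + c • (g • B 1)
    rw [smul_smul, mul_comm c g, ← hc]
    exact decomp B h.hB0 x
  rw [this]
  exact Submodule.add_mem _ (Submodule.smul_mem _ _ (Submodule.subset_span ⟨0, rfl⟩))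
    (Submodule.smul_mem _ _ (Submodule.subset_span ⟨1, rfl⟩))

/-- The basis `1, g e` of `S`. -/
noncomputable def cbasis : Basis (Fin 2) A S :=
  Basis.mk (cvec_li h) (cvec_span h)

theorem cbasis_apply (i : Fin 2) : cbasis h i = cvec h i := by
  simp [cbasis]

theorem cbasis_zero : cbasis h 0 = 1 := by
  rw [cbasis_apply]; rfl

theorem cbasis_one_val : ((cbasis h 1 : S) : S') = g • B 1 := by
  rw [cbasis_apply]; rfl

variable (B) in
/-- structure constants of `S'` -/
noncomputable def α : A := ρ B (B 1 * B 1)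
variable (B) in
noncomputable def β : A := π B (B 1 * B 1)

include h in
theorem e_sq : B 1 * B 1 = α B • (1 : S') + β B • B 1 := decomp B h.hB0 _

theorem c1_sq : cbasis h 1 * cbasis h 1 =
    (g * g * α B) • cbasis h 0 + (g * β B) • cbasis h 1 := by
  apply Subtype.ext
  rw [cbasis_zero]
  simp only [Subalgebra.coe_mul, Subalgebra.coe_add, Subalgebra.coe_smul, Subalgebra.coe_one,
    cbasis_one_val]
  rw [smul_mul_smul_comm, e_sq h, smul_add, smul_smul, smul_smul, smul_smul]
  congr 2
  ring

theorem repr_comb (a b : A) (i : Fin 2) :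
    (cbasis h).repr (a • cbasis h 0 + b • cbasis h 1) i = ![a, b] i := by
  rw [map_add, map_smul, map_smul, Basis.repr_self, Basis.repr_self]
  fin_cases i <;> simp

theorem trace_comb (a b : A) :
    Algebra.trace A S (a • cbasis h 0 + b • cbasis h 1) = 2 * a + b * (g * β B) := by
  have h0 : Algebra.trace A S (cbasis h 0) = 2 := by
    rw [cbasis_zero, Algebra.trace_eq_matrix_trace (cbasis h)]
    rw [map_one, Matrix.trace_one]
    simp
  have h1 : Algebra.trace A S (cbasis h 1) = g * β B := by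
    rw [Algebra.trace_eq_matrix_trace (cbasis h), Matrix.trace, Fin.sum_univ_two]
    simp only [Matrix.diag_apply, Algebra.leftMulMatrix_eq_repr_mul]
    rw [c1_sq]
    have e1 : cbasis h 1 * cbasis h 0 =
        (0 : A) • cbasis h 0 + (1 : A) • cbasis h 1 := by
      rw [cbasis_zero]; simp
    rw [e1, repr_comb, repr_comb]
    simp
  rw [map_add, map_smul, map_smul, h0, h1]
  simp [mul_comm]

theorem discr_cbasis :
    Algebra.discr A (cbasis h) = g * g * (4 * α B + β B * β B) := by
  rw [Algebra.discr_def, Matrix.det_fin_two]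
  simp only [Algebra.traceMatrix_apply, Algebra.traceForm_apply]
  have e00 : cbasis h 0 * cbasis h 0 =
      (1 : A) • cbasis h 0 + (0 : A) • cbasis h 1 := by
    rw [cbasis_zero]; simp
  have e01 : cbasis h 0 * cbasis h 1 =
      (0 : A) • cbasis h 0 + (1 : A) • cbasis h 1 := by
    rw [cbasis_zero]; simp
  have e10 : cbasis h 1 * cbasis h 0 =
      (0 : A) • cbasis h 0 + (1 : A) • cbasis h 1 := by
    rw [cbasis_zero]; simp
  rw [e00, e01, e10, c1_sq, trace_comb, trace_comb, trace_comb]
  ring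

end basis

end general

section adjoinRoot

open Polynomial in
/-- An algebra with basis `1, y` and `y ^ 2 = γ` is `A[Y] / (Y ^ 2 - γ)`. -/
theorem nonempty_algEquiv_adjoinRoot {A : Type u} [CommRing A] [Nontrivial A] {S : Type u}
    [CommRing S] [Algebra A S]
    (y : S) (γ : A) (hy : y * y = algebraMap A S γ)
    (hli : ∀ a b : A, a • (1 : S) + b • y = 0 → a = 0 ∧ b = 0)
    (hspan : ∀ s : S, ∃ a b : A, s = a • (1 : S) + b • y) :
    Nonempty (S ≃ₐ[A] AdjoinRoot (Polynomial.X ^ 2 - Polynomial.C γ)) := by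
  set f : A[X] := Polynomial.X ^ 2 - Polynomial.C γ with hf
  have hmonic : f.Monic := Polynomial.monic_X_pow_sub_C γ two_ne_zero
  have hdeg : f.natDegree = 2 := Polynomial.natDegree_X_pow_sub_C
  have hroot : f.eval₂ (Algebra.ofId A S : A →+* S) y = 0 := by
    rw [hf, eval₂_sub, eval₂_pow, eval₂_X, eval₂_C, pow_two, hy]
    exact sub_self _
  let φ : AdjoinRoot f →ₐ[A] S := AdjoinRoot.liftAlgHom f (Algebra.ofId A S) y hroot
  have hφlin : ∀ a b : A, φ (AdjoinRoot.mk f (C a * X + C b)) = b • (1 : S) + a • y := by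
    intro a b
    rw [AdjoinRoot.liftAlgHom_mk]
    rw [eval₂_add, eval₂_mul, eval₂_C, eval₂_C, eval₂_X]
    change algebraMap A S a * y + algebraMap A S b = _
    rw [Algebra.smul_def, Algebra.smul_def, mul_one, add_comm]
  have hinj : Function.Injective φ := by
    rw [injective_iff_map_eq_zero]
    intro z hz
    obtain ⟨p, rfl⟩ := AdjoinRoot.mk_surjective z
    have h1 : AdjoinRoot.mk f p = AdjoinRoot.mk f (p %ₘ f) := by
      rw [AdjoinRoot.mk_eq_mk]
      refine ⟨p /ₘ f, ?_⟩
      have := Polynomial.modByMonic_add_div p f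
      linear_combination (-1 : A[X]) * this
    have h2 : (p %ₘ f).natDegree ≤ 1 := by
      have := Polynomial.natDegree_modByMonic_lt p hmonic (by
        intro h1
        rw [h1] at hdeg
        simp at hdeg)
      omega
    obtain ⟨a, b, hab⟩ := Polynomial.exists_eq_X_add_C_of_natDegree_le_one h2
    rw [h1, hab] at hz ⊢
    rw [hφlin] at hz
    obtain ⟨hb, ha⟩ := hli _ _ hz
    rw [ha, hb]
    simp
  have hsurj : Function.Surjective φ := by
    intro s
    obtain ⟨a, b, rfl⟩ := hspan s
    exact ⟨AdjoinRoot.mk f (C b * X + C a), hφlin b a⟩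
  exact ⟨(AlgEquiv.ofBijective φ ⟨hinj, hsurj⟩).symm⟩

end adjoinRoot

section powerSeries

variable {k : Type u} [Field k] {S' : Type u} [CommRing S'] [Algebra (PowerSeries k) S']
  (B : Basis (Fin 2) (PowerSeries k) S') (S : Subalgebra (PowerSeries k) S')

theorem X_pow_mem_nonZeroDivisors (n : ℕ) :
    (PowerSeries.X : PowerSeries k) ^ n ∈ nonZeroDivisors (PowerSeries k) :=
  mem_nonZeroDivisors_of_ne_zero (pow_ne_zero _ PowerSeries.X_ne_zero)

theorem data_of_toSubmodule_eq (hB0 : B 0 = 1) (n : ℕ)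
    (hS : Subalgebra.toSubmodule S = T ((PowerSeries.X : PowerSeries k) ^ n)) :
    Data B S ((PowerSeries.X : PowerSeries k) ^ n) :=
  ⟨hB0, X_pow_mem_nonZeroDivisors n, I_eq_of_toSubmodule_eq_T B S hB0 _ hS⟩

theorem I_ne_bot (hB0 : B 0 = 1) (bS : Basis (Fin 2) (PowerSeries k) S) : I B S ≠ ⊥ := by
  intro hI
  have hπ : ∀ s : S, π B (s : S') = 0 := by
    intro s
    have : π B (s : S') ∈ I B S := ⟨s, s.2, rfl⟩
    rw [hI] at this
    exact this
  have hs : ∀ s : S, ∃ r : PowerSeries k, (s : S') = r • (1 : S') := by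
    intro s
    have := decomp B hB0 (s : S')
    rw [hπ s, zero_smul, add_zero] at this
    exact ⟨_, this⟩
  obtain ⟨r0, e0⟩ := hs (bS 0)
  obtain ⟨r1, e1⟩ := hs (bS 1)
  have hrel : r1 • bS 0 + (-r0) • bS 1 = 0 := by
    apply Subtype.ext
    simp only [Subalgebra.coe_add, Subalgebra.coe_smul, Subalgebra.coe_zero]
    rw [e0, e1, smul_smul, smul_smul, ← add_smul]
    have : r1 * r0 + -r0 * r1 = 0 := by ring
    rw [this, zero_smul]
  have hli := Fintype.linearIndependent_iff.1 bS.linearIndependent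
    ![r1, -r0] (by
      rw [Fin.sum_univ_two]
      simpa using hrel)
  have h0 : r0 = 0 := by
    have := hli 1
    simpa using this
  apply bS.ne_zero 0
  apply Subtype.ext
  rw [e0, h0, zero_smul]
  rfl

theorem exists_basis_iff (hB0 : B 0 = 1) (J : Ideal (PowerSeries k)) :
    (∃ bS : Basis (Fin 2) (PowerSeries k) S,
      Ideal.span {Algebra.discr (PowerSeries k) ⇑bS} = J) ↔
    ∃ n : ℕ, Ideal.span {(PowerSeries.X : PowerSeries k) ^ n * PowerSeries.X ^ n *
        (4 * α B + β B * β B)} = J ∧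
      Subalgebra.toSubmodule S = T ((PowerSeries.X : PowerSeries k) ^ n) := by
  constructor
  · rintro ⟨bS, hbS⟩
    have hI := I_ne_bot B S hB0 bS
    obtain ⟨n, hn⟩ := IsDiscreteValuationRing.ideal_eq_span_pow_irreducible hI
      PowerSeries.X_irreducible
    have hT := toSubmodule_eq_T B S hB0 _ hn
    have hD := data_of_toSubmodule_eq B S hB0 n hT
    refine ⟨n, ?_, hT⟩
    rw [← hbS, ← discr_cbasis hD]
    have h1 : (⇑bS : Fin 2 → S) = (cbasis hD) ᵥ*
        (((cbasis hD).toMatrix bS).map (algebraMap (PowerSeries k) S)) :=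
      ((cbasis hD).toMatrix_map_vecMul bS).symm
    rw [h1, Algebra.discr_of_matrix_vecMul]
    have hu : IsUnit (((cbasis hD).toMatrix bS).det ^ 2) := by
      rw [← Basis.det_apply]
      exact ((cbasis hD).isUnit_det bS).pow 2
    exact (Ideal.span_singleton_mul_left_unit hu _).symm
  · rintro ⟨n, hJ, hT⟩
    have hD := data_of_toSubmodule_eq B S hB0 n hT
    exact ⟨cbasis hD, by rw [discr_cbasis hD]; exact hJ⟩

theorem X_pow_eq_of_span_eq {a b : ℕ} {u : PowerSeries k} (hu : IsUnit u)
    (h : Ideal.span {(PowerSeries.X : PowerSeries k) ^ a * u} =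
      Ideal.span {(PowerSeries.X : PowerSeries k) ^ b}) : a = b := by
  rw [Ideal.span_singleton_mul_right_unit hu] at h
  have h1 : (PowerSeries.X : PowerSeries k) ^ a ∣ PowerSeries.X ^ b := by
    rw [← Ideal.mem_span_singleton, h]
    exact Ideal.mem_span_singleton_self _
  have h2 : (PowerSeries.X : PowerSeries k) ^ b ∣ PowerSeries.X ^ a := by
    rw [← Ideal.mem_span_singleton, ← h]
    exact Ideal.mem_span_singleton_self _
  have key : ∀ {c d : ℕ}, (PowerSeries.X : PowerSeries k) ^ c ∣ PowerSeries.X ^ d → c ≤ d := by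
    intro c d hcd
    by_contra hlt
    rw [not_le] at hlt
    have := (PowerSeries.X_pow_dvd_iff.1 hcd) d hlt
    rw [PowerSeries.coeff_X_pow_self] at this
    exact one_ne_zero this
  exact le_antisymm (key h1) (key h2)

end powerSeries

end Groth.Agent.Lib.Helper84.CrimpDouble
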