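import Mathlib

set_option autoImplicit false

namespace Groth.Agent.Lib.Helper84.DiffLoc

open nonZeroDivisors Submodule

universe u

/-- fraction field of a localization of a domain is a fraction field of the domain -/
theorem isFractionRing_of_tower (R S T : Type*) [CommRing R] [IsDomain R] [CommRing S] [Field T]
    [Algebra R S] [Algebra S T] [Algebra R T] [IsScalarTower R S T] (M : Submonoid R)
    (hM : M ≤ R⁰) [IsLocalization M S] [IsFractionRing S T] : IsFractionRing R T := by
  have hinj : Function.Injective (algebraMap R T) := by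
    rw [IsScalarTower.algebraMap_eq R S T]
    exact (IsFractionRing.injective S T).comp (IsLocalization.injective S hM)
  haveI : FaithfulSMul R T := (faithfulSMul_iff_algebraMap_injective R T).mpr hinj
  have hmk : ∀ (a : R) (s : M), algebraMap S T (IsLocalization.mk' S a s) =
      algebraMap R T a / algebraMap R T s := by
    intro a s
    have hs0 : algebraMap R T s ≠ 0 := by
      rw [Ne, map_eq_zero_iff _ hinj]
      exact nonZeroDivisors.ne_zero (hM s.2)
    rw [eq_div_iff hs0, IsScalarTower.algebraMap_apply R S T (s : R), ← map_mul,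
      IsLocalization.mk'_spec, ← IsScalarTower.algebraMap_apply]
  apply IsFractionRing.of_field
  intro z
  obtain ⟨x, y, hy, rfl⟩ := IsFractionRing.div_surjective (A := S) z
  obtain ⟨a, s, rfl⟩ := IsLocalization.exists_mk'_eq M x
  obtain ⟨b, t, rfl⟩ := IsLocalization.exists_mk'_eq M y
  refine ⟨a * t, b * s, ?_⟩
  rw [hmk, hmk, div_div_div_eq, map_mul, map_mul, mul_comm (algebraMap R T b)]

section core

variable (A B Aₛ Bₛ K : Type*) (L : Type u) [CommRing A] [CommRing B] [CommRing Aₛ] [CommRing Bₛ]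
  [Field K] [Field L]
  [Algebra A B] [Algebra A Aₛ] [Algebra B Bₛ] [Algebra Aₛ Bₛ] [Algebra A Bₛ]
  [Algebra A K] [Algebra Aₛ K] [Algebra B L] [Algebra Bₛ L] [Algebra K L] [Algebra A L]
  [Algebra Aₛ L]
  [IsScalarTower A Aₛ Bₛ] [IsScalarTower A B Bₛ] [IsScalarTower A K L] [IsScalarTower A B L]
  [IsScalarTower Aₛ K L] [IsScalarTower Aₛ Bₛ L] [IsScalarTower A Aₛ K] [IsScalarTower B Bₛ L]
  (S : Submonoid A) [IsLocalization S Aₛ] [IsLocalization (Algebra.algebraMapSubmonoid B S) Bₛ]

include S in
/-- `T ⊆ T'`. -/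
lemma traceDual_le (y : L) (hy : y ∈ Submodule.traceDual A K (1 : Submodule B L)) :
    y ∈ Submodule.traceDual Aₛ K (1 : Submodule Bₛ L) := by
  rw [Submodule.mem_traceDual] at hy ⊢
  intro b' hb'
  rw [Submodule.mem_one] at hb'
  obtain ⟨z, rfl⟩ := hb'
  obtain ⟨⟨b, t⟩, hbt⟩ := IsLocalization.surj (Algebra.algebraMapSubmonoid B S) z
  obtain ⟨s, hs, hst⟩ := t.2
  obtain ⟨a, ha⟩ := hy (algebraMap B L b) (Submodule.mem_one.mpr ⟨b, rfl⟩)
  -- z * s = b in L
  have h1 : algebraMap Bₛ L z * algebraMap K L (algebraMap A K s) = algebraMap B L b := by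
    have := congrArg (algebraMap Bₛ L) hbt
    rw [map_mul, ← IsScalarTower.algebraMap_apply B Bₛ L, ← IsScalarTower.algebraMap_apply B Bₛ L]
      at this
    rw [← this]
    congr 1
    rw [← IsScalarTower.algebraMap_apply A K L, IsScalarTower.algebraMap_apply A B L]
    change _ = algebraMap B L t.1
    rw [← hst]
  have hs0 : algebraMap A K s ≠ 0 := by
    rw [IsScalarTower.algebraMap_apply A Aₛ K]
    exact ((IsLocalization.map_units Aₛ (⟨s, hs⟩ : S)).map (algebraMap Aₛ K)).ne_zero
  refine ⟨IsLocalization.mk' Aₛ a (⟨s, hs⟩ : S), ?_⟩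
  apply mul_right_cancel₀ hs0
  have h2 : algebraMap Aₛ K (IsLocalization.mk' Aₛ a (⟨s, hs⟩ : S)) * algebraMap A K s =
      algebraMap A K a := by
    rw [IsScalarTower.algebraMap_apply A Aₛ K, ← map_mul, IsLocalization.mk'_spec,
      ← IsScalarTower.algebraMap_apply A Aₛ K]
  rw [h2, ha]
  rw [Algebra.traceForm_apply, Algebra.traceForm_apply, ← h1, mul_comm _ (algebraMap A K s),
    ← smul_eq_mul (algebraMap A K s), ← map_smul, Algebra.smul_def]
  congr 1
  ring

include S in
/-- clearing denominators: `T' ⊆ S⁻¹ T`. -/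
lemma exists_smul_mem_traceDual [Module.Finite A B] (y : L)
    (hy : y ∈ Submodule.traceDual Aₛ K (1 : Submodule Bₛ L)) :
    ∃ s ∈ S, algebraMap A L s * y ∈ Submodule.traceDual A K (1 : Submodule B L) := by
  classical
  rw [Submodule.mem_traceDual] at hy
  have key : ∀ b : B, ∃ s ∈ S, algebraMap A K s * Algebra.trace K L (y * algebraMap B L b) ∈
      (algebraMap A K).range := by
    intro b
    obtain ⟨w, hw⟩ := hy (algebraMap B L b)
      (Submodule.mem_one.mpr ⟨algebraMap B Bₛ b, (IsScalarTower.algebraMap_apply B Bₛ L b).symm⟩)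
    obtain ⟨⟨a, t⟩, hat⟩ := IsLocalization.surj S w
    refine ⟨t.1, t.2, a, ?_⟩
    rw [Algebra.traceForm_apply] at hw
    rw [← hw, IsScalarTower.algebraMap_apply A Aₛ K a, ← hat, map_mul, mul_comm,
      ← IsScalarTower.algebraMap_apply A Aₛ K]
  have key2 : ∀ G : Finset B, ∃ s ∈ S, ∀ b ∈ G,
      algebraMap A K s * Algebra.trace K L (y * algebraMap B L b) ∈ (algebraMap A K).range := by
    intro G
    induction G using Finset.induction_on with
    | empty => exact ⟨1, S.one_mem, by simp⟩
    | insert b G _ ih =>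
      obtain ⟨s₁, hs₁, h₁⟩ := ih
      obtain ⟨s₂, hs₂, h₂⟩ := key b
      refine ⟨s₂ * s₁, S.mul_mem hs₂ hs₁, ?_⟩
      intro b' hb'
      rw [Finset.mem_insert] at hb'
      rcases hb' with rfl | hb'
      · rw [map_mul, mul_comm (algebraMap A K s₂), mul_assoc]
        exact Subring.mul_mem _ ⟨s₁, rfl⟩ h₂
      · rw [map_mul, mul_assoc]
        exact Subring.mul_mem _ ⟨s₂, rfl⟩ (h₁ b' hb')
  obtain ⟨G, hG⟩ := (Module.Finite.fg_top : (⊤ : Submodule A B).FG)
  obtain ⟨s, hs, hsG⟩ := key2 G
  refine ⟨s, hs, ?_⟩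
  rw [Submodule.mem_traceDual]
  intro c hc
  rw [Submodule.mem_one] at hc
  obtain ⟨b', rfl⟩ := hc
  have hb' : b' ∈ Submodule.span A (G : Set B) := by rw [hG]; trivial
  have hform : ∀ b' : B, Algebra.traceForm K L (algebraMap A L s * y) (algebraMap B L b') =
      algebraMap A K s * Algebra.trace K L (y * algebraMap B L b') := by
    intro b'
    rw [Algebra.traceForm_apply, IsScalarTower.algebraMap_apply A K L, mul_assoc,
      ← Algebra.smul_def, map_smul, smul_eq_mul]
  rw [hform]
  induction hb' using Submodule.span_induction with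
  | mem x hx => exact hsG x hx
  | zero => simp
  | add x z _ _ hx hz =>
    rw [map_add, mul_add, map_add, mul_add]
    exact Subring.add_mem _ hx hz
  | smul a x _ hx =>
    have : y * algebraMap B L (a • x) = algebraMap A K a • (y * algebraMap B L x) := by
      rw [Algebra.smul_def a x, map_mul, ← IsScalarTower.algebraMap_apply A B L,
        IsScalarTower.algebraMap_apply A K L, Algebra.smul_def]
      ring
    rw [this, map_smul, smul_eq_mul, mul_left_comm]
    exact Subring.mul_mem _ ⟨a, rfl⟩ hx

variable [IsDomain A] [IsDomain Aₛ] [IsIntegrallyClosed A] [IsIntegrallyClosed Aₛ]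
  [IsDedekindDomain B] [IsDedekindDomain Bₛ] [Module.IsTorsionFree A B]
  [Module.IsTorsionFree Aₛ Bₛ] [IsFractionRing A K] [IsFractionRing Aₛ K] [IsFractionRing B L]
  [IsFractionRing Bₛ L] [IsIntegralClosure B A L] [IsIntegralClosure Bₛ Aₛ L]
  [FiniteDimensional K L] [Algebra.IsSeparable K L] [Module.Finite A B]

include S K L in
theorem map_differentIdeal_eq :
    Ideal.map (algebraMap B Bₛ) (differentIdeal A B) = differentIdeal Aₛ Bₛ := by
  apply IsFractionRing.coeSubmodule_injective Bₛ L
  rw [coeSubmodule_differentIdeal Aₛ K Bₛ]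
  have hD : IsLocalization.coeSubmodule L (differentIdeal A B) =
      1 / Submodule.traceDual A K (1 : Submodule B L) := coeSubmodule_differentIdeal A K B
  apply le_antisymm
  · rw [IsLocalization.coeSubmodule, Ideal.map, ← Ideal.submodule_span_eq, Submodule.map_span,
      Submodule.span_le]
    rintro _ ⟨_, ⟨d, hd, rfl⟩, rfl⟩
    rw [SetLike.mem_coe, Submodule.mem_div_iff_forall_mul_mem]
    intro y hy
    obtain ⟨s, hs, hsy⟩ := exists_smul_mem_traceDual A B Aₛ Bₛ K L S y hy
    have hd' : algebraMap B L d ∈ 1 / Submodule.traceDual A K (1 : Submodule B L) := by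
      rw [← hD]
      exact ⟨d, hd, rfl⟩
    rw [Submodule.mem_div_iff_forall_mul_mem] at hd'
    obtain ⟨b, hb⟩ := Submodule.mem_one.mp (hd' _ hsy)
    rw [Submodule.mem_one]
    have hsmem : algebraMap A B s ∈ Algebra.algebraMapSubmonoid B S := ⟨s, hs, rfl⟩
    refine ⟨IsLocalization.mk' Bₛ b ⟨algebraMap A B s, hsmem⟩, ?_⟩
    have hs0 : algebraMap Bₛ L (algebraMap B Bₛ (algebraMap A B s)) ≠ 0 :=
      ((IsLocalization.map_units Bₛ (⟨algebraMap A B s, hsmem⟩ :
        Algebra.algebraMapSubmonoid B S)).map (algebraMap Bₛ L)).ne_zero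
    apply mul_right_cancel₀ hs0
    rw [← map_mul, IsLocalization.mk'_spec, ← IsScalarTower.algebraMap_apply B Bₛ L, hb,
      Algebra.linearMap_apply, ← IsScalarTower.algebraMap_apply B Bₛ L,
      ← IsScalarTower.algebraMap_apply B Bₛ L, ← IsScalarTower.algebraMap_apply A B L]
    ring
  · intro x hx
    rw [Submodule.mem_div_iff_forall_mul_mem] at hx
    have h1 : (1 : Submodule B L) = IsLocalization.coeSubmodule L (differentIdeal A B) *
        Submodule.traceDual A K (1 : Submodule B L) := by
      have h2 := coeIdeal_differentIdeal A K L B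
      have h3 : (↑(differentIdeal A B) : FractionalIdeal B⁰ L) *
          FractionalIdeal.dual A K (1 : FractionalIdeal B⁰ L) = 1 := by
        rw [h2]
        exact inv_mul_cancel₀ (FractionalIdeal.dual_ne_zero A K one_ne_zero)
      have h4 := congrArg (fun I : FractionalIdeal B⁰ L => (I : Submodule B L)) h3
      simp only [FractionalIdeal.coe_mul, FractionalIdeal.coe_coeIdeal,
        FractionalIdeal.coe_dual_one, FractionalIdeal.coe_one] at h4
      exact h4.symm
    have key : ∀ m ∈ IsLocalization.coeSubmodule L (differentIdeal A B) *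
        Submodule.traceDual A K (1 : Submodule B L),
        x * m ∈ IsLocalization.coeSubmodule L (Ideal.map (algebraMap B Bₛ) (differentIdeal A B)) := by
      intro m hm
      refine Submodule.mul_induction_on hm ?_ ?_
      · intro d hd t ht
        obtain ⟨d', hd', rfl⟩ := hd
        obtain ⟨c, hc⟩ := Submodule.mem_one.mp (hx t (traceDual_le A B Aₛ Bₛ K L S t ht))
        refine ⟨c * algebraMap B Bₛ d', Ideal.mul_mem_left _ _ (Ideal.mem_map_of_mem _ hd'), ?_⟩
        rw [Algebra.linearMap_apply, map_mul, hc, ← IsScalarTower.algebraMap_apply B Bₛ L,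
          Algebra.linearMap_apply]
        ring
      · intro a b ha hb
        rw [mul_add]
        exact Submodule.add_mem _ ha hb
    have := key 1 (h1 ▸ Submodule.one_le.mp le_rfl)
    rwa [mul_one] at this

end core

end Groth.Agent.Lib.Helper84.DiffLoc
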