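import Mathlib

/-!
# Eilenberg–Watts: right exact coproduct-preserving functors between module categories are tensor
products (helper84)
-/

set_option autoImplicit false
universe u
open CategoryTheory CategoryTheory.Limits TensorProduct

namespace Groth.Agent.Lib.Helper84.EW

variable {A B : Type u} [CommRing A] [CommRing B] (F : ModuleCat.{u} A ⥤ ModuleCat.{u} B)

/-- the bimodule `F(A)`. -/
def KK : Type u := F.obj (ModuleCat.of A A)

instance : AddCommGroup (KK F) := inferInstanceAs (AddCommGroup (F.obj (ModuleCat.of A A)))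
instance : Module B (KK F) := inferInstanceAs (Module B (F.obj (ModuleCat.of A A)))

/-- the map `A ⟶ M`, `1 ↦ m`. -/
noncomputable def hat {M : ModuleCat.{u} A} (m : M) : ModuleCat.of A A ⟶ M :=
  ModuleCat.ofHom (LinearMap.toSpanSingleton A M m)

@[simp] lemma hat_apply {M : ModuleCat.{u} A} (m : M) (a : A) : (hat m).hom a = a • m := rfl

lemma hat_add {M : ModuleCat.{u} A} (m m' : M) : hat (m + m') = hat m + hat m' := by
  ext; simp [hat]

lemma hat_smul {M : ModuleCat.{u} A} (a : A) (m : M) :
    hat (a • m) = (a • 𝟙 (ModuleCat.of A A)) ≫ hat m := by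
  ext; simp [hat]

lemma hat_comp {M N : ModuleCat.{u} A} (f : M ⟶ N) (m : M) : hat m ≫ f = hat (f.hom m) := by
  ext; simp [hat]

lemma hat_one : hat (M := ModuleCat.of A A) (1 : A) = 𝟙 _ := by
  ext; simp [hat]

variable [F.Additive]

noncomputable instance : SMul A (KK F) :=
  ⟨fun a k => (F.map (a • 𝟙 (ModuleCat.of A A))).hom k⟩

lemma smul_def (a : A) (k : KK F) : a • k = (F.map (a • 𝟙 (ModuleCat.of A A))).hom k := rfl

noncomputable instance : Module A (KK F) where
  one_smul k := by rw [smul_def, one_smul, F.map_id]; rfl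
  mul_smul a b k := by
    rw [smul_def, smul_def, smul_def, ← LinearMap.comp_apply, ← ModuleCat.hom_comp, ← F.map_comp]
    congr 3
    rw [Linear.smul_comp, Linear.comp_smul, Category.id_comp, smul_smul, mul_comm]
  smul_zero a := map_zero _
  smul_add a k k' := map_add _ _ _
  add_smul a b k := by rw [smul_def, add_smul, F.map_add]; rfl
  zero_smul k := by rw [smul_def, zero_smul, F.map_zero]; rfl

instance : SMulCommClass A B (KK F) :=
  ⟨fun a b k => map_smul (F.map (a • 𝟙 (ModuleCat.of A A))).hom b k⟩

/-- the comparison map, additive version. -/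
noncomputable def θadd (M : ModuleCat.{u} A) : KK F ⊗[A] M →+ F.obj M :=
  TensorProduct.liftAddHom
    (AddMonoidHom.mk' (fun k : KK F => AddMonoidHom.mk' (fun m : M => (F.map (hat m)).hom k)
      (fun m m' => by rw [hat_add, F.map_add]; rfl))
      (fun k k' => by ext m; exact map_add (F.map (hat m)).hom k k'))
    (fun a k m => by
      change (F.map (hat m)).hom (a • k) = (F.map (hat (a • m))).hom k
      rw [hat_smul, F.map_comp, smul_def]
      rfl)

lemma θadd_tmul (M : ModuleCat.{u} A) (k : KK F) (m : M) :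
    θadd F M (k ⊗ₜ m) = (F.map (hat m)).hom k := rfl

/-- the comparison map `F(A) ⊗ M ⟶ F(M)`. -/
noncomputable def θ (M : ModuleCat.{u} A) : KK F ⊗[A] M →ₗ[B] F.obj M where
  toFun := θadd F M
  map_add' := map_add _
  map_smul' b x := by
    induction x using TensorProduct.induction_on with
    | zero => simp
    | tmul k m =>
      rw [TensorProduct.smul_tmul', θadd_tmul, θadd_tmul]
      exact map_smul _ _ _
    | add x y hx hy =>
      rw [smul_add, map_add, hx, hy, map_add, smul_add]

@[simp]
lemma θ_tmul (M : ModuleCat.{u} A) (k : KK F) (m : M) :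
    θ F M (k ⊗ₜ m) = (F.map (hat m)).hom k := rfl

lemma θ_natural {M N : ModuleCat.{u} A} (f : M ⟶ N) (x : KK F ⊗[A] M) :
    θ F N (LinearMap.lTensor (KK F) f.hom x) = (F.map f).hom (θ F M x) := by
  induction x using TensorProduct.induction_on with
  | zero => simp
  | tmul k m =>
    rw [LinearMap.lTensor_tmul, θ_tmul, θ_tmul, ← hat_comp, F.map_comp]
    rfl
  | add x y hx hy => rw [map_add, map_add, hx, hy, map_add, map_add]

end Groth.Agent.Lib.Helper84.EW

namespace Groth.Agent.Lib.Helper84.EW

variable {A B : Type u} [CommRing A] [CommRing B] (F : ModuleCat.{u} A ⥤ ModuleCat.{u} B)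

section Free

variable (A) (J : Type u)

/-- the free module on `J`. -/
noncomputable abbrev Fr : ModuleCat.{u} A := ModuleCat.of A (J →₀ A)

/-- the inclusions. -/
noncomputable def frι (j : J) : ModuleCat.of A A ⟶ Fr A J := ModuleCat.ofHom (Finsupp.lsingle j)

/-- the cofan. -/
noncomputable def frCofan : Cofan (fun _ : J => ModuleCat.of A A) := Cofan.mk (Fr A J) (frι A J)

/-- the free module is the coproduct of copies of `A`. -/
noncomputable def frIsColimit : IsColimit (frCofan A J) :=
  Cofan.IsColimit.mk _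
    (fun t => ModuleCat.ofHom (Finsupp.lsum ℕ (fun j => (t.inj j).hom)))
    (fun t j => by
      ext
      simp [frCofan, frι])
    (fun t m hm => by
      ext : 1
      apply Finsupp.lhom_ext'
      intro j
      have := hm j
      ext
      have h2 := congrArg (fun f => f.hom (1 : A)) this
      simpa [frCofan, frι] using h2)

lemma hat_single (j : J) : hat (M := Fr A J) (Finsupp.single j (1 : A)) = frι A J j := by
  ext
  simp [hat, frι]

end Free

end Groth.Agent.Lib.Helper84.EW

namespace Groth.Agent.Lib.Helper84.EW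

variable {A B : Type u} [CommRing A] [CommRing B] (F : ModuleCat.{u} A ⥤ ModuleCat.{u} B)
  [F.Additive]

section FreeBij

variable (J : Type u) [PreservesColimitsOfShape (Discrete J) F]

/-- `F (Fr J)` is the coproduct of copies of `F(A)`. -/
noncomputable def FfrIsColimit :
    IsColimit (Cofan.mk (F.obj (Fr A J)) fun j => F.map (frι A J j) :
      Cofan fun _ : J => F.obj (ModuleCat.of A A)) :=
  isColimitCofanMkObjOfIsColimit F _ (frι A J) (frIsColimit A J)

/-- the legs `k ↦ k ⊗ e_j`. -/
noncomputable def leg (j : J) : KK F →ₗ[B] KK F ⊗[A] (J →₀ A) where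
  toFun k := k ⊗ₜ Finsupp.single j (1 : A)
  map_add' k k' := TensorProduct.add_tmul _ _ _
  map_smul' b k := (TensorProduct.smul_tmul' b k _).symm

/-- the inverse map. -/
noncomputable def ψ : F.obj (Fr A J) ⟶ ModuleCat.of B (KK F ⊗[A] (J →₀ A)) :=
  Cofan.IsColimit.desc (FfrIsColimit F J) (fun j => ModuleCat.ofHom (leg F J j))

lemma ψ_map_frι (j : J) (k : KK F) :
    (ψ F J).hom ((F.map (frι A J j)).hom k) = k ⊗ₜ Finsupp.single j (1 : A) := by
  have := Cofan.IsColimit.fac (FfrIsColimit F J) (fun j => ModuleCat.ofHom (leg F J j)) j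
  exact congrArg (fun f => f.hom k) this

lemma ψ_θ (x : KK F ⊗[A] (J →₀ A)) : (ψ F J).hom (θ F (Fr A J) x) = x := by
  induction x using TensorProduct.induction_on with
  | zero => simp
  | tmul k m =>
    induction m using Finsupp.induction_linear with
    | zero => simp
    | add m m' hm hm' => rw [TensorProduct.tmul_add, map_add, map_add, hm, hm']
    | single j a =>
      have h1 : (Finsupp.single j a : J →₀ A) = a • Finsupp.single j (1 : A) := by
        rw [Finsupp.smul_single, smul_eq_mul, mul_one]
      have h2 : hat (M := Fr A J) (Finsupp.single j a) =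
          (a • 𝟙 (ModuleCat.of A A)) ≫ frι A J j := by
        rw [h1, hat_smul, hat_single]
      rw [θ_tmul, h2, F.map_comp]
      change (ψ F J).hom ((F.map (frι A J j)).hom (a • k)) = _
      rw [ψ_map_frι, h1, TensorProduct.smul_tmul]
  | add x y hx hy => rw [map_add, map_add, hx, hy]

lemma θ_ψ (y : F.obj (Fr A J)) : θ F (Fr A J) ((ψ F J).hom y) = y := by
  have h : ψ F J ≫ ModuleCat.ofHom (θ F (Fr A J)) = 𝟙 _ := by
    apply Cofan.IsColimit.hom_ext (FfrIsColimit F J)
    intro j
    ext k
    change θ F (Fr A J) ((ψ F J).hom ((F.map (frι A J j)).hom k)) = (F.map (frι A J j)).hom k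
    rw [ψ_map_frι, θ_tmul, hat_single]
  exact congrArg (fun f => f.hom y) h

lemma θ_bijective_free : Function.Bijective (θ F (Fr A J)) :=
  ⟨Function.LeftInverse.injective (ψ_θ F J), Function.RightInverse.surjective (θ_ψ F J)⟩

end FreeBij

end Groth.Agent.Lib.Helper84.EW

namespace Groth.Agent.Lib.Helper84.EW

variable {A B : Type u} [CommRing A] [CommRing B] (F : ModuleCat.{u} A ⥤ ModuleCat.{u} B)
  [F.Additive] [PreservesFiniteColimits F] [∀ J : Type u, PreservesColimitsOfShape (Discrete J) F]

/-- right exactness of `F` in elementwise form. -/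
lemma map_exact_surjective {M₁ M₂ M₃ : ModuleCat.{u} A} (f : M₁ ⟶ M₂) (g : M₂ ⟶ M₃)
    (hfg : Function.Exact f.hom g.hom) (hg : Function.Surjective g.hom) :
    Function.Exact (F.map f).hom (F.map g).hom ∧ Function.Surjective (F.map g).hom := by
  have hzero : f ≫ g = 0 := by
    ext x
    exact hfg.apply_apply_eq_zero x
  let S : ShortComplex (ModuleCat.{u} A) := ShortComplex.mk f g hzero
  have hS : S.Exact := (ShortComplex.ShortExact.moduleCat_exact_iff_function_exact S).2 hfg
  have hepi : Epi S.g := (ModuleCat.epi_iff_surjective _).2 hg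
  have hS' : (S.map F).Exact := hS.map_of_epi_of_preservesCokernel F hepi inferInstance
  refine ⟨(ShortComplex.ShortExact.moduleCat_exact_iff_function_exact (S.map F)).1 hS', ?_⟩
  have : Epi (F.map g) := F.map_epi g
  exact (ModuleCat.epi_iff_surjective _).1 this

theorem θ_bijective' (M : Type u) [AddCommGroup M] [Module A M] :
    Function.Bijective (θ F (ModuleCat.of A M)) := by
  -- presentation
  let π : (M →₀ A) →ₗ[A] M := Finsupp.linearCombination A id
  have hπ : Function.Surjective π := Finsupp.linearCombination_id_surjective A M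
  let ρ : (LinearMap.ker π →₀ A) →ₗ[A] (M →₀ A) := Finsupp.linearCombination A Subtype.val
  have hρ : LinearMap.range ρ = LinearMap.ker π := by
    rw [Finsupp.range_linearCombination, Subtype.range_coe]
    exact Submodule.span_eq (LinearMap.ker π)
  have hex : Function.Exact ρ π := by
    rw [LinearMap.exact_iff, hρ]
  obtain ⟨hFex, hFsurj⟩ := map_exact_surjective F (ModuleCat.ofHom ρ) (ModuleCat.ofHom π) hex hπ
  have htex := lTensor_exact (KK F) hex hπ
  have htsurj := LinearMap.lTensor_surjective (KK F) hπ
  have hJ := θ_bijective_free F M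
  have hI := θ_bijective_free F (LinearMap.ker π)
  have natπ : ∀ x, θ F (ModuleCat.of A M) (LinearMap.lTensor (KK F) π x) =
      (F.map (ModuleCat.ofHom π)).hom (θ F (Fr A M) x) := θ_natural F (ModuleCat.ofHom π)
  have natρ : ∀ x, θ F (Fr A M) (LinearMap.lTensor (KK F) ρ x) =
      (F.map (ModuleCat.ofHom ρ)).hom (θ F (Fr A (LinearMap.ker π)) x) :=
    θ_natural F (ModuleCat.ofHom ρ)
  constructor
  · rw [injective_iff_map_eq_zero]
    intro x hx
    obtain ⟨z, rfl⟩ := htsurj x
    rw [natπ] at hx
    obtain ⟨w, hw⟩ := (hFex _).1 hx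
    obtain ⟨v, rfl⟩ := hI.2 w
    rw [← natρ] at hw
    have := hJ.1 hw
    rw [← this]
    exact htex.apply_apply_eq_zero v
  · intro y
    obtain ⟨y', rfl⟩ := hFsurj y
    obtain ⟨z, rfl⟩ := hJ.2 y'
    exact ⟨_, natπ z⟩

theorem θ_bijective (M : ModuleCat.{u} A) : Function.Bijective (θ F M) :=
  θ_bijective' F M

/-- the natural isomorphism `F(A) ⊗ M ≃ F(M)`. -/
noncomputable def η (M : ModuleCat.{u} A) : (KK F ⊗[A] M) ≃ₗ[B] F.obj M :=
  LinearEquiv.ofBijective (θ F M) (θ_bijective F M)

lemma η_apply (M : ModuleCat.{u} A) (x : KK F ⊗[A] M) : η F M x = θ F M x := rfl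

lemma η_natural {M N : ModuleCat.{u} A} (f : M ⟶ N) (x : KK F ⊗[A] M) :
    η F N (LinearMap.lTensor (KK F) f.hom x) = (F.map f).hom (η F M x) :=
  θ_natural F f x

end Groth.Agent.Lib.Helper84.EW

namespace Groth.Agent.Lib.Helper84.EW

variable {A B : Type u} [CommRing A] [CommRing B] (F F' : ModuleCat.{u} A ⥤ ModuleCat.{u} B)
  [F.Additive] [PreservesFiniteColimits F] [∀ J : Type u, PreservesColimitsOfShape (Discrete J) F]
  [F'.Additive] [PreservesFiniteColimits F']
  [∀ J : Type u, PreservesColimitsOfShape (Discrete J) F']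

lemma θ_tmul_one (k : KK F) : θ F (ModuleCat.of A A) (k ⊗ₜ (1 : A)) = k := by
  rw [θ_tmul, hat_one, F.map_id]
  rfl

/-- natural transformations are determined by their component at `A`. -/
theorem natTrans_ext (t t' : F ⟶ F') (h : t.app (ModuleCat.of A A) = t'.app (ModuleCat.of A A)) :
    t = t' := by
  ext M y
  obtain ⟨z, rfl⟩ := (θ_bijective F M).2 y
  induction z using TensorProduct.induction_on with
  | zero => simp
  | tmul k m =>
    rw [θ_tmul]
    have h1 := congrArg (fun f => f.hom k) (t.naturality (hat m))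
    have h2 := congrArg (fun f => f.hom k) (t'.naturality (hat m))
    simp only [ModuleCat.hom_comp, LinearMap.comp_apply] at h1 h2
    rw [h1, h2, h]
  | add x y hx hy => rw [map_add, map_add, map_add, hx, hy]

section Construct

variable {F F'} (φ : F.obj (ModuleCat.of A A) ⟶ F'.obj (ModuleCat.of A A))
  (hφ : ∀ a : A, F.map (a • 𝟙 (ModuleCat.of A A)) ≫ φ = φ ≫ F'.map (a • 𝟙 (ModuleCat.of A A)))

/-- `φ` as an `A`-linear map. -/
noncomputable def φA : KK F →ₗ[A] KK F' where
  toFun k := φ.hom k
  map_add' := map_add _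
  map_smul' a k := by
    have := congrArg (fun f => f.hom k) (hφ a)
    simp only [ModuleCat.hom_comp, LinearMap.comp_apply] at this
    exact this

/-- `φ ⊗ M` as a `B`-linear map. -/
noncomputable def φT (M : ModuleCat.{u} A) : KK F ⊗[A] M →ₗ[B] KK F' ⊗[A] M where
  toFun := LinearMap.rTensor M (φA φ hφ)
  map_add' := map_add _
  map_smul' b x := by
    induction x using TensorProduct.induction_on with
    | zero => simp
    | tmul k m =>
      rw [TensorProduct.smul_tmul', LinearMap.rTensor_tmul, LinearMap.rTensor_tmul,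
        RingHom.id_apply, TensorProduct.smul_tmul']
      congr 1
      exact map_smul φ.hom b k
    | add x y hx hy => rw [smul_add, map_add, hx, hy, map_add, smul_add]

lemma φT_apply (M : ModuleCat.{u} A) (x : KK F ⊗[A] M) :
    φT φ hφ M x = LinearMap.rTensor M (φA φ hφ) x := rfl

/-- the natural transformation with component `φ` at `A`. -/
noncomputable def natTransOf : F ⟶ F' where
  app M := ModuleCat.ofHom ((θ F' M).comp ((φT φ hφ M).comp (η F M).symm.toLinearMap))
  naturality M N f := by
    ext y
    obtain ⟨z, rfl⟩ := (η F M).surjective y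
    simp only [ModuleCat.hom_comp, LinearMap.comp_apply, ModuleCat.hom_ofHom,
      LinearEquiv.coe_coe, LinearEquiv.symm_apply_apply]
    rw [← η_natural, LinearEquiv.symm_apply_apply, φT_apply, φT_apply, ← θ_natural]
    congr 1
    rw [← LinearMap.comp_apply, ← LinearMap.comp_apply, LinearMap.rTensor_comp_lTensor,
      LinearMap.lTensor_comp_rTensor]

lemma natTransOf_app_self_apply (k : KK F) :
    ((natTransOf φ hφ).app (ModuleCat.of A A)).hom k = φ.hom k := by
  have hk : (η F (ModuleCat.of A A)).symm k = k ⊗ₜ[A] (1 : A) := by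
    rw [LinearEquiv.symm_apply_eq, η_apply]
    exact (θ_tmul_one F k).symm
  change θ F' _ (φT φ hφ _ ((η F (ModuleCat.of A A)).symm k)) = _
  rw [hk, φT_apply, LinearMap.rTensor_tmul]
  exact θ_tmul_one F' _

lemma natTransOf_app_self : (natTransOf φ hφ).app (ModuleCat.of A A) = φ := by
  ext k
  exact natTransOf_app_self_apply φ hφ k

end Construct

end Groth.Agent.Lib.Helper84.EW
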