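import Mathlib
import Groth.Agent.Lib.Helper45.FPTensor2

/-!
# Eilenberg–Watts on finitely presented modules: full faithfulness (helper84)
-/

set_option autoImplicit false
set_option linter.style.haveILetI false
set_option linter.unusedSectionVars false
universe u v' u'
open CategoryTheory CategoryTheory.Limits

namespace Groth.Agent.Lib.Helper84.EWfp

open Groth.Agent.Lib.Helper45.FPTensor

variable {A : Type u} [CommRing A]

/-- `A` as a finitely presented module. -/
abbrev AA (A : Type u) [CommRing A] : FPMod A := ⟨ModuleCat.of A A, inferInstance⟩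

/-- morphisms from linear maps. -/
def mkHom {M N : FPMod A} (f : M.obj →ₗ[A] N.obj) : M ⟶ N :=
  ObjectProperty.homMk (ModuleCat.ofHom f)

@[simp] lemma mkHom_apply {M N : FPMod A} (f : M.obj →ₗ[A] N.obj) (x : M.obj) :
    (mkHom f).hom.hom x = f x := rfl

lemma hom_ext' {M N : FPMod A} {f g : M ⟶ N} (h : ∀ x, f.hom.hom x = g.hom.hom x) : f = g := by
  apply ObjectProperty.hom_ext; apply ModuleCat.hom_ext; apply LinearMap.ext; exact h

/-- underlying linear map, additively. -/
def homAdd (M N : FPMod A) : (M ⟶ N) →+ (M.obj →ₗ[A] N.obj) where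
  toFun f := f.hom.hom
  map_zero' := rfl
  map_add' _ _ := rfl

lemma hom_sum {ι : Type*} (s : Finset ι) {M N : FPMod A} (f : ι → (M ⟶ N)) (x : M.obj) :
    (∑ j ∈ s, f j).hom.hom x = ∑ j ∈ s, (f j).hom.hom x := by
  have h := map_sum (homAdd M N) f s
  have h2 := congrArg (fun l : M.obj →ₗ[A] N.obj => l x) h
  simp only [LinearMap.sum_apply] at h2
  exact h2

/-- the map `A ⟶ M`, `1 ↦ m`. -/
def hat {M : FPMod A} (m : M.obj) : AA A ⟶ M := mkHom (LinearMap.toSpanSingleton A M.obj m)

@[simp] lemma hat_apply {M : FPMod A} (m : M.obj) (a : A) : (hat m).hom.hom a = a • m := rfl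

lemma hat_comp {M N : FPMod A} (f : M ⟶ N) (m : M.obj) : hat m ≫ f = hat (f.hom.hom m) := by
  apply hom_ext'
  intro a
  change f.hom.hom (a • m) = a • f.hom.hom m
  rw [map_smul]

/-- multiplication by `a`. -/
def lsm (a : A) : AA A ⟶ AA A :=
  ObjectProperty.homMk (ModuleCat.ofHom (LinearMap.lsmul A A a))

lemma lsm_eq (a : A) : lsm a = hat (M := AA A) a := by
  apply hom_ext'
  intro (x : A)
  change a * x = x * a
  rw [mul_comm]

/-- the free module of rank `n`. -/
abbrev P (A : Type u) [CommRing A] (n : ℕ) : FPMod A := ⟨ModuleCat.of A (Fin n → A), inferInstance⟩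

/-- projections. -/
def π {n : ℕ} (j : Fin n) : P A n ⟶ AA A := mkHom (LinearMap.proj j)

/-- inclusions. -/
def ι {n : ℕ} (j : Fin n) : AA A ⟶ P A n := mkHom (LinearMap.single A (fun _ => A) j)

lemma hat_π {n : ℕ} (x : Fin n → A) (j : Fin n) : hat (M := P A n) x ≫ π j = lsm (x j) := by
  rw [hat_comp, lsm_eq]
  rfl

lemma sum_lsm_ι {n : ℕ} (x : Fin n → A) : ∑ j, lsm (x j) ≫ ι j = hat (M := P A n) x := by
  apply hom_ext'
  intro (a : A)
  rw [hom_sum]
  change ∑ j, Pi.single j (x j * a) = a • x
  ext k
  rw [Finset.sum_apply, Finset.sum_eq_single k]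
  · simp [mul_comm]
  · intro j _ hj
    simp [Pi.single_apply, hj.symm]
  · simp

lemma sum_π_hat_apply {n : ℕ} {M : FPMod A} (v : Fin n → M.obj) (x : Fin n → A) :
    (∑ j, π j ≫ hat (v j)).hom.hom x = ∑ j, x j • v j := by
  rw [hom_sum]
  rfl

section Functors

variable {B : Type u'} [Category.{v'} B] [Preadditive B] [HasFiniteBiproducts B] [HasCokernels B]
  (F F' : FPMod A ⥤ B) [PreservesFiniteColimits F] [PreservesFiniteColimits F']

lemma additive : F.Additive := by
  haveI : HasZeroObject B := hasZeroObject_of_hasFiniteBiproducts B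
  haveI : F.PreservesZeroMorphisms := F.preservesZeroMorphisms_of_preserves_initial_object
  haveI : PreservesBinaryBiproducts F := preservesBinaryBiproducts_of_preservesBinaryCoproducts F
  exact Functor.additive_of_preservesBinaryBiproducts F

lemma epi_of_surjective {M N : FPMod A} (p : M ⟶ N) (hp : Function.Surjective p.hom.hom) :
    Epi p := by
  haveI : Epi p.hom := (ModuleCat.epi_iff_surjective _).2 hp
  exact (ObjectProperty.ι _).epi_of_epi_map (f := p) (by simpa using this)

/-- joint epimorphy of the `F(hat m)`. -/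
theorem jointly_epi (M : FPMod A) {X : B} (g g' : F.obj M ⟶ X)
    (h : ∀ m : M.obj, F.map (hat m) ≫ g = F.map (hat m) ≫ g') : g = g' := by
  haveI := additive F
  obtain ⟨n, v, hv⟩ := Module.Finite.exists_fin (R := A) (M := M.obj)
  let p : P A n ⟶ M := ∑ j, π j ≫ hat (v j)
  have hp : Function.Surjective p.hom.hom := by
    intro m
    have hm : m ∈ Submodule.span A (Set.range v) := by rw [hv]; trivial
    obtain ⟨c, rfl⟩ := (Submodule.mem_span_range_iff_exists_fun A).1 hm
    exact ⟨c, sum_π_hat_apply v c⟩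
  haveI := epi_of_surjective p hp
  haveI : F.PreservesEpimorphisms := preservesEpimorphisms_of_preservesColimitsOfShape F
  rw [← cancel_epi (F.map p)]
  have hFp : F.map p = ∑ j, F.map (π j) ≫ F.map (hat (v j)) := by
    rw [F.map_sum]
    simp only [F.map_comp]
  rw [hFp, Preadditive.sum_comp, Preadditive.sum_comp]
  refine Finset.sum_congr rfl fun j _ => ?_
  rw [Category.assoc, Category.assoc, h]

end Functors

section Coker

variable {M N Q : FPMod A} (r : M ⟶ N) (p : N ⟶ Q)
  (hex : Function.Exact r.hom.hom p.hom.hom) (hp : Function.Surjective p.hom.hom)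

include hex in
lemma exact_w : r ≫ p = 0 := by
  apply hom_ext'
  intro x
  exact hex.apply_apply_eq_zero x

lemma range_le_ker {Z : FPMod A} (g : N ⟶ Z) (hg : r ≫ g = 0) :
    LinearMap.range r.hom.hom ≤ LinearMap.ker g.hom.hom := by
  rintro _ ⟨x, rfl⟩
  rw [LinearMap.mem_ker]
  exact congrArg (fun k : M ⟶ Z => k.hom.hom x) hg

/-- the descent map. -/
noncomputable def cokerDesc {Z : FPMod A} (g : N ⟶ Z) (hg : r ≫ g = 0) : Q ⟶ Z :=
  mkHom (((LinearMap.range r.hom.hom).liftQ g.hom.hom (range_le_ker r g hg)).comp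
    (hex.linearEquivOfSurjective hp).symm.toLinearMap)

lemma cokerDesc_apply {Z : FPMod A} (g : N ⟶ Z) (hg : r ≫ g = 0) (x : N.obj) :
    (cokerDesc r p hex hp g hg).hom.hom (p.hom.hom x) = g.hom.hom x := by
  change (LinearMap.range r.hom.hom).liftQ g.hom.hom (range_le_ker r g hg)
    ((hex.linearEquivOfSurjective hp).symm (p.hom.hom x)) = _
  rw [Function.Exact.linearEquivOfSurjective_symm_apply]
  rfl

/-- right exact sequences give cokernels in `FPMod`. -/
noncomputable def isColimitOfExact :
    IsColimit (CokernelCofork.ofπ p (exact_w r p hex)) :=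
  CokernelCofork.IsColimit.ofπ _ _
    (fun {Z} g hg => cokerDesc r p hex hp g hg)
    (fun {Z} g hg => by
      apply hom_ext'
      intro x
      exact cokerDesc_apply r p hex hp g hg x)
    (fun {Z} g hg m hm => by
      apply hom_ext'
      intro y
      obtain ⟨x, rfl⟩ := hp y
      rw [cokerDesc_apply]
      exact congrArg (fun k : N ⟶ Z => k.hom.hom x) hm)

end Coker

section Exist

variable {B : Type u'} [Category.{v'} B] [Preadditive B] [HasFiniteBiproducts B] [HasCokernels B]
  {F F' : FPMod A ⥤ B} [PreservesFiniteColimits F] [PreservesFiniteColimits F']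
  (φ : F.obj (AA A) ⟶ F'.obj (AA A))
  (hφ : ∀ a : A, F.map (lsm a) ≫ φ = φ ≫ F'.map (lsm a))

/-- the transformation on free modules. -/
noncomputable def sFree (n : ℕ) : F.obj (P A n) ⟶ F'.obj (P A n) :=
  ∑ j, F.map (π j) ≫ φ ≫ F'.map (ι j)

include hφ in
lemma sFree_spec (n : ℕ) (x : Fin n → A) :
    F.map (hat (M := P A n) x) ≫ sFree φ n = φ ≫ F'.map (hat (M := P A n) x) := by
  haveI := additive F
  haveI := additive F'
  unfold sFree
  rw [Preadditive.comp_sum]
  have h : ∀ j : Fin n, F.map (hat (M := P A n) x) ≫ F.map (π j) ≫ φ ≫ F'.map (ι j) =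
      φ ≫ F'.map (lsm (x j) ≫ ι j) := by
    intro j
    rw [← F.map_comp_assoc, hat_π, ← Category.assoc, hφ (x j), Category.assoc, F'.map_comp]
  simp only [h]
  rw [← Preadditive.comp_sum, ← F'.map_sum, sum_lsm_ι]

include hφ in
/-- existence of the component at `M`. -/
theorem exists_component (M : FPMod A) :
    ∃ s : F.obj M ⟶ F'.obj M, ∀ m : M.obj, F.map (hat m) ≫ s = φ ≫ F'.map (hat m) := by
  haveI := additive F
  haveI := additive F'
  obtain ⟨n, k, p₀, r₀, hp₀, hex₀⟩ := Module.FinitePresentation.exists_fin' A M.obj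
  let p : P A n ⟶ M := mkHom p₀
  let r : P A k ⟶ P A n := mkHom r₀
  have hex : Function.Exact r.hom.hom p.hom.hom := hex₀
  have hp : Function.Surjective p.hom.hom := hp₀
  have hc := isColimitOfExact r p hex hp
  have hc' := CokernelCofork.mapIsColimit _ hc F
  -- naturality on free modules
  have hnat : F.map r ≫ sFree φ n = sFree φ k ≫ F'.map r := by
    apply jointly_epi F
    intro x
    rw [← F.map_comp_assoc, hat_comp, sFree_spec φ hφ, reassoc_of% (sFree_spec φ hφ k x),
      ← F'.map_comp, hat_comp]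
  have hzero : F.map r ≫ sFree φ n ≫ F'.map p = 0 := by
    rw [← Category.assoc, hnat, Category.assoc, ← F'.map_comp, exact_w r p hex, F'.map_zero,
      comp_zero]
  refine ⟨hc'.desc (CokernelCofork.ofπ (sFree φ n ≫ F'.map p) hzero), ?_⟩
  have hfac : F.map p ≫ hc'.desc (CokernelCofork.ofπ (sFree φ n ≫ F'.map p) hzero) =
      sFree φ n ≫ F'.map p := hc'.fac _ WalkingParallelPair.one
  intro m
  obtain ⟨x, rfl⟩ := hp m
  have hx : hat (p.hom.hom x) = hat (M := P A n) x ≫ p := (hat_comp p x).symm
  rw [hx, F.map_comp, Category.assoc, hfac, reassoc_of% (sFree_spec φ hφ n x), ← F'.map_comp]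

/-- the natural transformation. -/
noncomputable def natTransOf : F ⟶ F' where
  app M := (exists_component φ hφ M).choose
  naturality M N f := by
    apply jointly_epi F
    intro m
    have h1 := (exists_component φ hφ M).choose_spec m
    have h2 := (exists_component φ hφ N).choose_spec (f.hom.hom m)
    rw [← F.map_comp_assoc, hat_comp, h2, reassoc_of% h1, ← F'.map_comp, hat_comp]

lemma natTransOf_app_self : (natTransOf φ hφ).app (AA A) = φ := by
  apply jointly_epi F
  intro a
  have h1 := (exists_component φ hφ (AA A)).choose_spec a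
  have h2 := hφ a
  rw [lsm_eq] at h2
  exact h1.trans h2.symm

end Exist

section Main

variable {B : Type u'} [Category.{v'} B] [Preadditive B] [HasFiniteBiproducts B] [HasCokernels B]
  (F F' : FPMod A ⥤ B) [PreservesFiniteColimits F] [PreservesFiniteColimits F']

theorem natTrans_ext (t t' : F ⟶ F') (h : t.app (AA A) = t'.app (AA A)) : t = t' := by
  ext M
  apply jointly_epi F
  intro m
  rw [t.naturality, t'.naturality, h]

end Main

end Groth.Agent.Lib.Helper84.EWfp
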