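import Mathlib
import Groth.Agent.Lib.Helper86.ExtReg

/-!
# `Ext^i(N/(xs)N, M) ≅ M^(…)` naturally in `M` killed by `J ∋ xs` (helper84)

Natural-in-`M` splitting of the long exact sequence (Yoneda on `A/J`).
-/

set_option autoImplicit false
universe u

open CategoryTheory Abelian

namespace Groth.Agent.Lib.Helper84.ExtSplit

open Groth.Agent.Lib.Helper86.ExtReg

variable {A : Type u} [CommRing A] (J : Ideal A)

/-- `M` is killed by `J`. -/
def Killed (M : ModuleCat.{u} A) : Prop := ∀ a ∈ J, ∀ m : M, a • m = 0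

/-- The universal module killed by `J`. -/
abbrev RJ : ModuleCat.{u} A := ModuleCat.of A (A ⧸ J)

lemma killed_RJ : Killed J (RJ J) := by
  intro a ha m
  obtain ⟨b, rfl⟩ := Submodule.Quotient.mk_surjective J m
  rw [← Submodule.Quotient.mk_smul, Submodule.Quotient.mk_eq_zero]
  exact J.mul_mem_right b ha

variable {J}

/-- The map `A/J → M`, `1 ↦ m`. -/
noncomputable def fm {M : ModuleCat.{u} A} (hM : Killed J M) (m : M) : RJ J ⟶ M :=
  ModuleCat.ofHom (Submodule.liftQ J (LinearMap.toSpanSingleton A M m) (by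
    intro a ha
    simp only [LinearMap.mem_ker, LinearMap.toSpanSingleton_apply]
    exact hM a ha m))

lemma fm_apply_mk {M : ModuleCat.{u} A} (hM : Killed J M) (m : M) (a : A) :
    (fm hM m).hom (Ideal.Quotient.mk J a) = a • m := by
  change Submodule.liftQ J _ _ (Submodule.Quotient.mk a) = _
  rw [Submodule.liftQ_apply]
  simp

lemma fm_apply_one {M : ModuleCat.{u} A} (hM : Killed J M) (m : M) :
    (fm hM m).hom (1 : A ⧸ J) = m := by
  have := fm_apply_mk hM m 1
  simpa using this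

lemma fm_hom_ext {M : ModuleCat.{u} A} {f g : RJ J ⟶ M}
    (h : f.hom (1 : A ⧸ J) = g.hom (1 : A ⧸ J)) : f = g := by
  apply ModuleCat.hom_ext
  apply Submodule.linearMap_qext
  apply LinearMap.ext_ring
  simpa using h

lemma fm_add {M : ModuleCat.{u} A} (hM : Killed J M) (m m' : M) :
    fm hM (m + m') = fm hM m + fm hM m' := by
  apply fm_hom_ext
  rw [fm_apply_one, ModuleCat.hom_add, LinearMap.add_apply, fm_apply_one, fm_apply_one]

lemma fm_smul {M : ModuleCat.{u} A} (hM : Killed J M) (a : A) (m : M) :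
    fm hM (a • m) = a • fm hM m := by
  apply fm_hom_ext
  rw [fm_apply_one, ModuleCat.hom_smul, LinearMap.smul_apply, fm_apply_one]

lemma fm_comp {M M' : ModuleCat.{u} A} (hM : Killed J M) (hM' : Killed J M') (f : M ⟶ M')
    (m : M) : fm hM m ≫ f = fm hM' (f.hom m) := by
  apply fm_hom_ext
  rw [ModuleCat.hom_comp, LinearMap.comp_apply, fm_apply_one, fm_apply_one]

variable (J)

/-- A family of isomorphisms `(ι → M) ≃ Ext^i(N, M)` natural in `M` killed by `J`. -/
structure NatIso (N : ModuleCat.{u} A) (i : ℕ) (ι : Type) where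
  θ : ∀ (M : ModuleCat.{u} A), Killed J M → ((ι → M) ≃ₗ[A] Ext N M i)
  nat : ∀ (M M' : ModuleCat.{u} A) (hM : Killed J M) (hM' : Killed J M') (f : M ⟶ M')
    (v : ι → M), θ M' hM' (fun j => f.hom (v j)) = (θ M hM v).comp (Ext.mk₀ f) (add_zero i)

namespace NatIso

variable {J}

/-- Reindexing. -/
noncomputable def reindex {N : ModuleCat.{u} A} {i : ℕ} {ι κ : Type} (D : NatIso J N i ι)
    (e : ι ≃ κ) : NatIso J N i κ where
  θ M hM := LinearEquiv.funCongrLeft A M e ≪≫ₗ D.θ M hM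
  nat M M' hM hM' f v := D.nat M M' hM hM' f (fun j => v (e j))

/-- Transport along an isomorphism in the first variable. -/
noncomputable def congrLeft {N N' : ModuleCat.{u} A} {i : ℕ} {ι : Type} (D : NatIso J N i ι)
    (e : N' ≅ N) : NatIso J N' i ι where
  θ M hM := D.θ M hM ≪≫ₗ extCongrLeft e M i
  nat M M' hM hM' f v := by
    have h1 : ∀ (M : ModuleCat.{u} A) (y : Ext N M i),
        extCongrLeft e M i y = (Ext.mk₀ e.hom).comp y (zero_add i) := fun _ _ => rfl
    simp only [LinearEquiv.trans_apply, h1]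
    rw [D.nat M M' hM hM' f v, Ext.comp_assoc_of_third_deg_zero]

end NatIso

section Step

variable {J}
variable (N : ModuleCat.{u} A) (x : A) (hx : IsSMulRegular N x) (hxJ : x ∈ J)

/-- The quotient module `N/xN`. -/
abbrev Nq : ModuleCat.{u} A := ModuleCat.of A (QuotSMulTop x N)

/-- Restriction along `N → N/xN`. -/
noncomputable def gS (M : ModuleCat.{u} A) (i : ℕ) : Ext (Nq N x) M i →ₗ[A] Ext N M i :=
  Ext.precompOfLinear (Ext.mk₀ (N.smulShortComplex x).g) A M (zero_add i)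

lemma gS_apply (M : ModuleCat.{u} A) (i : ℕ) (e : Ext (Nq N x) M i) :
    gS N x M i e = (Ext.mk₀ (N.smulShortComplex x).g).comp e (zero_add i) := rfl

include hxJ in
lemma smul_ext_eq_zero {M : ModuleCat.{u} A} (hM : Killed J M) {r : ℕ} (y : Ext N M r) :
    x • y = 0 := by
  rw [Ext.smul_eq_comp_mk₀]
  have : x • 𝟙 M = 0 := by
    ext m
    exact hM x hxJ m
  rw [this, Ext.mk₀_zero, Ext.comp_zero]

include hx hxJ in
lemma gS_surjective {M : ModuleCat.{u} A} (hM : Killed J M) (i : ℕ) :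
    Function.Surjective (gS N x M i) := by
  intro y
  have h0 : (Ext.mk₀ (N.smulShortComplex x).f).comp y (zero_add i) = 0 := by
    rw [mk₀_smulShortComplex_f_comp]
    exact smul_ext_eq_zero N x hxJ hM y
  exact Ext.contravariant_sequence_exact₂ hx.smulShortComplex_shortExact M y h0

include hxJ in
lemma δ_injective {M : ModuleCat.{u} A} (hM : Killed J M) (i : ℕ) :
    Function.Injective (δ M N x hx i) := by
  rw [← LinearMap.ker_eq_bot, LinearMap.ker_eq_bot']
  intro y hy
  rw [δ_apply] at hy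
  obtain ⟨x₂, hx₂⟩ := Ext.contravariant_sequence_exact₁ hx.smulShortComplex_shortExact M y
    (add_comm 1 i) hy
  rw [← hx₂, mk₀_smulShortComplex_f_comp]
  exact smul_ext_eq_zero N x hxJ hM x₂

lemma gS_δ (M : ModuleCat.{u} A) (i : ℕ) (t : Ext N M i) :
    gS N x M (i + 1) (δ M N x hx i t) = 0 := by
  rw [gS_apply, δ_apply]
  exact hx.smulShortComplex_shortExact.comp_extClass_assoc t (add_comm 1 i)

lemma exists_δ_eq (M : ModuleCat.{u} A) (i : ℕ) (e : Ext (Nq N x) M (i + 1))
    (he : gS N x M (i + 1) e = 0) : ∃ t, δ M N x hx i t = e :=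
  Ext.contravariant_sequence_exact₃ hx.smulShortComplex_shortExact M e he (add_comm 1 i)

include hx in
lemma gS_zero_injective (M : ModuleCat.{u} A) : Function.Injective (gS N x M 0) := by
  have : Epi (N.smulShortComplex x).g := hx.smulShortComplex_shortExact.epi_g
  intro a b hab
  exact Ext.precomp_mk₀_injective_of_epi M (N.smulShortComplex x).g hab

lemma gS_comp {M M' : ModuleCat.{u} A} (f : M ⟶ M') (i : ℕ) (e : Ext (Nq N x) M i) :
    gS N x M' i (e.comp (Ext.mk₀ f) (add_zero i)) =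
      (gS N x M i e).comp (Ext.mk₀ f) (add_zero i) := by
  rw [gS_apply, gS_apply]
  exact (Ext.comp_assoc_of_third_deg_zero _ _ _ _).symm

lemma δ_comp {M M' : ModuleCat.{u} A} (f : M ⟶ M') (i : ℕ) (t : Ext N M i) :
    δ M' N x hx i (t.comp (Ext.mk₀ f) (add_zero i)) =
      (δ M N x hx i t).comp (Ext.mk₀ f) (add_zero (i + 1)) := by
  rw [δ_apply, δ_apply]
  exact (Ext.comp_assoc_of_third_deg_zero _ _ _ _).symm

end Step

section Split

variable {J}
variable (N : ModuleCat.{u} A) (x : A) (hx : IsSMulRegular N x) (hxJ : x ∈ J)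
variable {ι : Type} [Fintype ι] [DecidableEq ι] {i : ℕ} (D : NatIso J N (i + 1) ι)

/-- Universal classes in `Ext^{i+1}(N, A/J)`. -/
noncomputable def ww (j : ι) : Ext N (RJ J) (i + 1) :=
  D.θ (RJ J) (killed_RJ J) (Pi.single j (1 : A ⧸ J))

/-- Lifts of the universal classes to `Ext^{i+1}(N/xN, A/J)`. -/
noncomputable def uu (j : ι) : Ext (Nq N x) (RJ J) (i + 1) :=
  (gS_surjective N x hx hxJ (killed_RJ J) (i + 1) (ww N D j)).choose

lemma gS_uu (j : ι) : gS N x (RJ J) (i + 1) (uu N x hx hxJ D j) = ww N D j :=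
  (gS_surjective N x hx hxJ (killed_RJ J) (i + 1) (ww N D j)).choose_spec

/-- The natural section. -/
noncomputable def sec {M : ModuleCat.{u} A} (hM : Killed J M) :
    (ι → M) →ₗ[A] Ext (Nq N x) M (i + 1) where
  toFun v := ∑ j, (uu N x hx hxJ D j).comp (Ext.mk₀ (fm hM (v j))) (add_zero _)
  map_add' v v' := by
    simp only [Pi.add_apply, fm_add, Ext.mk₀_add, Ext.comp_add, Finset.sum_add_distrib]
  map_smul' a v := by
    simp only [Pi.smul_apply, fm_smul, Ext.mk₀_smul, Ext.comp_smul, Finset.smul_sum,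
      RingHom.id_apply]

lemma sec_apply {M : ModuleCat.{u} A} (hM : Killed J M) (v : ι → M) :
    sec N x hx hxJ D hM v =
      ∑ j, (uu N x hx hxJ D j).comp (Ext.mk₀ (fm hM (v j))) (add_zero _) := rfl

lemma gS_sec {M : ModuleCat.{u} A} (hM : Killed J M) (v : ι → M) :
    gS N x M (i + 1) (sec N x hx hxJ D hM v) = D.θ M hM v := by
  have hv : v = ∑ j, Pi.single j (v j) := (Finset.univ_sum_single v).symm
  conv_rhs => rw [hv, map_sum]
  rw [sec_apply, map_sum]
  refine Finset.sum_congr rfl (fun j _ => ?_)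
  rw [gS_comp, gS_uu, ww, ← D.nat (RJ J) M (killed_RJ J) hM]
  congr 1
  ext k
  by_cases h : k = j
  · subst h
    rw [Pi.single_eq_same, Pi.single_eq_same, fm_apply_one]
  · rw [Pi.single_eq_of_ne h, Pi.single_eq_of_ne h, map_zero]

lemma sec_comp {M M' : ModuleCat.{u} A} (hM : Killed J M) (hM' : Killed J M') (f : M ⟶ M')
    (v : ι → M) :
    sec N x hx hxJ D hM' (fun j => f.hom (v j)) =
      (sec N x hx hxJ D hM v).comp (Ext.mk₀ f) (add_zero _) := by
  rw [sec_apply, sec_apply, Ext.sum_comp]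
  refine Finset.sum_congr rfl (fun j _ => ?_)
  rw [Ext.comp_assoc_of_third_deg_zero, Ext.mk₀_comp_mk₀, fm_comp hM hM']

variable {κ : Type} (D₀ : NatIso J N i κ)

/-- The natural map `M^ι × M^κ → Ext^{i+1}(N/xN, M)`. -/
noncomputable def Φ {M : ModuleCat.{u} A} (hM : Killed J M) :
    (ι ⊕ κ → M) →ₗ[A] Ext (Nq N x) M (i + 1) :=
  (sec N x hx hxJ D hM) ∘ₗ (LinearMap.funLeft A M Sum.inl) +
    (δ M N x hx i) ∘ₗ (D₀.θ M hM).toLinearMap ∘ₗ (LinearMap.funLeft A M Sum.inr)

lemma Φ_apply {M : ModuleCat.{u} A} (hM : Killed J M) (v : ι ⊕ κ → M) :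
    Φ N x hx hxJ D D₀ hM v = sec N x hx hxJ D hM (fun j => v (Sum.inl j)) +
      δ M N x hx i (D₀.θ M hM (fun k => v (Sum.inr k))) := rfl

lemma Φ_bijective {M : ModuleCat.{u} A} (hM : Killed J M) :
    Function.Bijective (Φ N x hx hxJ D D₀ hM) := by
  constructor
  · rw [← LinearMap.ker_eq_bot, LinearMap.ker_eq_bot']
    intro v hv
    rw [Φ_apply] at hv
    have h1 := congrArg (gS N x M (i + 1)) hv
    rw [map_add, gS_sec, gS_δ, add_zero, map_zero] at h1
    have h2 : (fun j => v (Sum.inl j)) = 0 :=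
      (D.θ M hM).injective (by rw [h1, map_zero])
    rw [h2, map_zero, zero_add] at hv
    have h3 : D₀.θ M hM (fun k => v (Sum.inr k)) = 0 :=
      δ_injective N x hx hxJ hM i (by rw [hv, map_zero])
    have h4 : (fun k => v (Sum.inr k)) = 0 :=
      (D₀.θ M hM).injective (by rw [h3, map_zero])
    ext s
    cases s with
    | inl j => exact congrFun h2 j
    | inr k => exact congrFun h4 k
  · intro e
    have h1 : gS N x M (i + 1)
        (e - sec N x hx hxJ D hM ((D.θ M hM).symm (gS N x M (i + 1) e))) = 0 := by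
      rw [map_sub, gS_sec, LinearEquiv.apply_symm_apply, sub_self]
    obtain ⟨t, ht⟩ := exists_δ_eq N x hx M i _ h1
    refine ⟨Sum.elim ((D.θ M hM).symm (gS N x M (i + 1) e)) ((D₀.θ M hM).symm t), ?_⟩
    rw [Φ_apply]
    simp only [Sum.elim_inl, Sum.elim_inr]
    rw [LinearEquiv.apply_symm_apply, ht]
    abel

/-- The inductive step in positive degree. -/
noncomputable def natIsoSucc : NatIso J (Nq N x) (i + 1) (ι ⊕ κ) where
  θ M hM := LinearEquiv.ofBijective (Φ N x hx hxJ D D₀ hM) (Φ_bijective N x hx hxJ D D₀ hM)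
  nat M M' hM hM' f v := by
    simp only [LinearEquiv.ofBijective_apply, Φ_apply]
    rw [Ext.add_comp, ← sec_comp N x hx hxJ D hM hM', ← δ_comp, ← D₀.nat M M' hM hM']

/-- `Ext^0(N/xN, M) ≃ Ext^0(N, M)` for `M` killed by `x`. -/
noncomputable def gSEquivZero {M : ModuleCat.{u} A} (hM : Killed J M) :
    Ext (Nq N x) M 0 ≃ₗ[A] Ext N M 0 :=
  LinearEquiv.ofBijective (gS N x M 0)
    ⟨gS_zero_injective N x hx M, gS_surjective N x hx hxJ hM 0⟩

/-- The inductive step in degree zero. -/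
noncomputable def natIsoZero {ι : Type} (D : NatIso J N 0 ι) : NatIso J (Nq N x) 0 ι where
  θ M hM := D.θ M hM ≪≫ₗ (gSEquivZero N x hx hxJ hM).symm
  nat M M' hM hM' f v := by
    apply (gSEquivZero N x hx hxJ hM').injective
    simp only [LinearEquiv.trans_apply, LinearEquiv.apply_symm_apply]
    change _ = gS N x M' 0 _
    rw [gS_comp]
    change _ = ((gSEquivZero N x hx hxJ hM) _).comp _ _
    rw [LinearEquiv.apply_symm_apply]
    exact D.nat M M' hM hM' f v

end Split

section Main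

/-- The Pascal step on rank functions. -/
def T (c : ℕ → ℕ) : ℕ → ℕ
  | 0 => c 0
  | (i + 1) => c (i + 1) + c i

/-- The rank function of `A`. -/
def c₀ : ℕ → ℕ
  | 0 => 1
  | (_ + 1) => 0

lemma iterate_T_c₀ (p i : ℕ) : T^[p] c₀ i = p.choose i := by
  induction p generalizing i with
  | zero =>
    cases i with
    | zero => rfl
    | succ i => simp [c₀]
  | succ p ih =>
    rw [Function.iterate_succ_apply']
    cases i with
    | zero => simp [T, ih]
    | succ i =>
      simp only [T, ih]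
      rw [Nat.choose_succ_succ, add_comm]

variable {J}

/-- One step of the induction, all degrees. -/
lemma nonempty_natIso_step (N : ModuleCat.{u} A) (x : A) (hx : IsSMulRegular N x) (hxJ : x ∈ J)
    (c : ℕ → ℕ) (h : ∀ i, Nonempty (NatIso J N i (Fin (c i)))) (i : ℕ) :
    Nonempty (NatIso J (Nq N x) i (Fin (T c i))) := by
  classical
  cases i with
  | zero =>
    obtain ⟨D⟩ := h 0
    exact ⟨natIsoZero N x hx hxJ D⟩
  | succ i =>
    obtain ⟨D⟩ := h (i + 1)
    obtain ⟨D₀⟩ := h i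
    exact ⟨(natIsoSucc N x hx hxJ D D₀).reindex finSumFinEquiv⟩

theorem nonempty_natIso_quot_ofList : ∀ (xs : List A) (N : ModuleCat.{u} A) (c : ℕ → ℕ),
    (∀ x ∈ xs, x ∈ J) → RingTheory.Sequence.IsWeaklyRegular N xs →
    (∀ i, Nonempty (NatIso J N i (Fin (c i)))) →
    ∀ i, Nonempty (NatIso J
      (ModuleCat.of A (N ⧸ Ideal.ofList xs • (⊤ : Submodule A N))) i (Fin (T^[xs.length] c i))) := by
  intro xs
  induction xs with
  | nil =>
    intro N c _ _ h i
    have hbot : Ideal.ofList ([] : List A) • (⊤ : Submodule A N) = ⊥ := by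
      rw [Ideal.ofList_nil, Submodule.bot_smul]
    let e : ModuleCat.of A (N ⧸ Ideal.ofList ([] : List A) • (⊤ : Submodule A N)) ≅ N :=
      (Submodule.quotEquivOfEqBot _ hbot).toModuleIso
    obtain ⟨D⟩ := h i
    exact ⟨D.congrLeft e⟩
  | cons x xs ih =>
    intro N c hJ hreg h i
    rw [RingTheory.Sequence.isWeaklyRegular_cons_iff] at hreg
    obtain ⟨hx, hreg'⟩ := hreg
    have h' := nonempty_natIso_step N x hx (hJ x (List.mem_cons_self)) c h
    obtain ⟨D⟩ := ih (Nq N x) (T c) (fun y hy => hJ y (List.mem_cons_of_mem _ hy)) hreg' h' i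
    let e : ModuleCat.of A (N ⧸ Ideal.ofList (x :: xs) • (⊤ : Submodule A N)) ≅
        ModuleCat.of A (QuotSMulTop x N ⧸ Ideal.ofList xs • (⊤ : Submodule A (QuotSMulTop x N))) :=
      (Submodule.quotOfListConsSMulTopEquivQuotSMulTopInner N x xs).toModuleIso
    exact ⟨D.congrLeft e⟩

/-- `Ext^0(A, M) ≃ M^1`. -/
noncomputable def e₀ (M : ModuleCat.{u} A) :
    Ext (ModuleCat.of A A) M 0 ≃ₗ[A] (Fin 1 → M) :=
  Ext.linearEquiv₀ ≪≫ₗ ModuleCat.homLinearEquiv (S := A) ≪≫ₗ
    LinearMap.ringLmapEquivSelf A A M ≪≫ₗ (LinearEquiv.funUnique (Fin 1) A M).symm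

lemma e₀_mk₀ (M : ModuleCat.{u} A) (φ : ModuleCat.of A A ⟶ M) (j : Fin 1) :
    e₀ M (Ext.mk₀ φ) j = φ.hom (1 : A) := by
  have h : Ext.addEquiv₀ (Ext.mk₀ φ) = φ := Ext.addEquiv₀.apply_symm_apply φ
  simp only [e₀, Ext.linearEquiv₀, LinearEquiv.trans_apply]
  change (ModuleCat.homLinearEquiv (S := A) (Ext.addEquiv₀ (Ext.mk₀ φ))) 1 = _
  rw [h]
  rfl

lemma e₀_comp {M M' : ModuleCat.{u} A} (f : M ⟶ M') (y : Ext (ModuleCat.of A A) M 0) :
    e₀ M' (y.comp (Ext.mk₀ f) (add_zero 0)) = fun j => f.hom (e₀ M y j) := by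
  obtain ⟨φ, rfl⟩ := (Ext.mk₀_bijective _ _).2 y
  rw [Ext.mk₀_comp_mk₀]
  ext j
  rw [e₀_mk₀, e₀_mk₀]
  rfl

/-- The base case: `Ext^i(A, M)`. -/
lemma nonempty_natIso_self (i : ℕ) :
    Nonempty (NatIso J (ModuleCat.of A A) i (Fin (c₀ i))) := by
  cases i with
  | zero =>
    change Nonempty (NatIso J (ModuleCat.of A A) 0 (Fin 1))
    refine ⟨{ θ := fun M _ => (e₀ M).symm, nat := ?_ }⟩
    intro M M' hM hM' f v
    apply (e₀ M').injective
    rw [LinearEquiv.apply_symm_apply, e₀_comp, LinearEquiv.apply_symm_apply]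
  | succ i =>
    have hs : ∀ M : ModuleCat.{u} A, Subsingleton (Ext (ModuleCat.of A A) M (i + 1)) :=
      fun M => Ext.subsingleton_of_projective _ _ i
    have h0 : c₀ (i + 1) = 0 := rfl
    have hE : IsEmpty (Fin (c₀ (i + 1))) := by rw [h0]; infer_instance
    refine ⟨{ θ := fun M _ => ?_, nat := ?_ }⟩
    · have := hs M
      exact LinearEquiv.ofSubsingleton _ _
    · intro M M' hM hM' f v
      have := hs M'
      exact Subsingleton.elim _ _

end Main

end Groth.Agent.Lib.Helper84.ExtSplit
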