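import Mathlib
import Groth.Agent.Lib.Helper84.ExtSplit

/-!
# `Ext^p(M, Y) ≅ Hom(Hom(A/J, M), Ext^p(A/J, Y))` for `M` killed by `J`, when lower `Ext` vanish
(helper84)
-/

set_option autoImplicit false
universe u

open CategoryTheory Abelian

namespace Groth.Agent.Lib.Helper84.ExtTop

open Groth.Agent.Lib.Helper84.ExtSplit

variable {A : Type u} [CommRing A] (J : Ideal A) (Y : ModuleCat.{u} A) (p : ℕ)

/-- pullback of `Ext` classes, bilinear. -/
noncomputable def pull (N N' : ModuleCat.{u} A) :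
    (N ⟶ N') →ₗ[A] Ext N' Y p →ₗ[A] Ext N Y p :=
  (Ext.bilinearCompOfLinear A N N' Y 0 p p (zero_add p)) ∘ₗ
    (Ext.linearEquiv₀ (R := A)).symm.toLinearMap

variable {J Y p}

lemma pull_apply {N N' : ModuleCat.{u} A} (f : N ⟶ N') (ξ : Ext N' Y p) :
    pull Y p N N' f ξ = (Ext.mk₀ f).comp ξ (zero_add p) := rfl

@[simp]
lemma pull_id {N : ModuleCat.{u} A} (ξ : Ext N Y p) : pull Y p N N (𝟙 N) ξ = ξ := by
  rw [pull_apply, Ext.mk₀_id_comp]

lemma pull_comp {N N' N'' : ModuleCat.{u} A} (f : N ⟶ N') (g : N' ⟶ N'') (ξ : Ext N'' Y p) :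
    pull Y p N N'' (f ≫ g) ξ = pull Y p N N' f (pull Y p N' N'' g ξ) := by
  rw [pull_apply, pull_apply, pull_apply, ← Ext.mk₀_comp_mk₀, Ext.comp_assoc_of_second_deg_zero]

variable (J Y p)

/-- the injectivity property. -/
def PInj (N : ModuleCat.{u} A) : Prop :=
  ∀ ξ : Ext N Y p, (∀ u : RJ J ⟶ N, pull Y p _ _ u ξ = 0) → ξ = 0

/-- the surjectivity property. -/
def PSurj (N : ModuleCat.{u} A) : Prop :=
  ∀ g : (RJ J ⟶ N) →ₗ[A] Ext (RJ J) Y p, ∃ ξ : Ext N Y p, ∀ u, g u = pull Y p _ _ u ξ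

variable {J Y p}

lemma exists_eq_smul_id (v : RJ J ⟶ RJ J) : ∃ c : A, v = c • 𝟙 (RJ J) := by
  obtain ⟨c, hc⟩ := Ideal.Quotient.mk_surjective (v.hom (1 : A ⧸ J))
  refine ⟨c, fm_hom_ext ?_⟩
  rw [ModuleCat.hom_smul, LinearMap.smul_apply, ModuleCat.hom_id, LinearMap.id_apply, ← hc]
  rw [Algebra.smul_def, mul_one]
  rfl

lemma pull_apply_linear {N : ModuleCat.{u} A} (v : RJ J ⟶ RJ J)
    (g : (RJ J ⟶ N) →ₗ[A] Ext (RJ J) Y p) (w : RJ J ⟶ N) :
    pull Y p _ _ v (g w) = g (v ≫ w) := by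
  obtain ⟨c, rfl⟩ := exists_eq_smul_id v
  rw [map_smul, LinearMap.smul_apply, pull_id, Linear.smul_comp, Category.id_comp, map_smul]

section Free

variable (k : ℕ)

/-- the free `A/J`-module of rank `k`, as an `A`-module. -/
abbrev FJ : ModuleCat.{u} A := ModuleCat.of A (Fin k → A ⧸ J)

/-- inclusion of a factor. -/
noncomputable def inj (j : Fin k) : RJ J ⟶ FJ (J := J) k :=
  ModuleCat.ofHom (LinearMap.single A (fun _ => A ⧸ J) j)

/-- projection to a factor. -/
noncomputable def prj (j : Fin k) : FJ (J := J) k ⟶ RJ J :=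
  ModuleCat.ofHom (LinearMap.proj j)

lemma sum_prj_inj : ∑ j, prj (J := J) k j ≫ inj k j = 𝟙 _ := by
  apply ModuleCat.hom_ext
  apply LinearMap.ext
  intro x
  rw [ModuleCat.hom_sum, LinearMap.sum_apply]
  simp only [ModuleCat.hom_comp, ModuleCat.hom_id, LinearMap.id_apply, LinearMap.comp_apply]
  change ∑ j, Pi.single j (x j) = x
  exact Finset.univ_sum_single x

lemma pInj_FJ : PInj J Y p (FJ (J := J) k) := by
  intro ξ h
  rw [← pull_id ξ, ← sum_prj_inj, map_sum, LinearMap.sum_apply]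
  apply Finset.sum_eq_zero
  intro j _
  rw [pull_comp, h, map_zero]

lemma pSurj_FJ : PSurj J Y p (FJ (J := J) k) := by
  intro g
  refine ⟨∑ j, pull Y p _ _ (prj k j) (g (inj k j)), fun u => ?_⟩
  rw [map_sum]
  have : ∀ j, pull Y p _ _ u (pull Y p _ _ (prj k j) (g (inj k j))) =
      g (u ≫ prj k j ≫ inj k j) := by
    intro j
    rw [← pull_comp, pull_apply_linear, Category.assoc]
  simp only [this]
  rw [← map_sum, ← Preadditive.comp_sum, sum_prj_inj, Category.comp_id]

end Free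

end Groth.Agent.Lib.Helper84.ExtTop

namespace Groth.Agent.Lib.Helper84.ExtTop

open Groth.Agent.Lib.Helper84.ExtSplit

variable {A : Type u} [CommRing A] {J : Ideal A} {Y : ModuleCat.{u} A} {p : ℕ}

section LemmaA

variable {S : ShortComplex (ModuleCat.{u} A)} (hS : S.ShortExact)

include hS in
lemma pull_g_injective (hvan : ∀ i, i < p → Subsingleton (Ext S.X₁ Y i)) (ξ : Ext S.X₃ Y p)
    (h : pull Y p _ _ S.g ξ = 0) : ξ = 0 := by
  rw [pull_apply] at h
  cases p with
  | zero =>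
    have := hS.epi_g
    exact Ext.precomp_mk₀_injective_of_epi Y S.g (h.trans (map_zero _).symm)
  | succ q =>
    obtain ⟨x₁, hx₁⟩ := Ext.contravariant_sequence_exact₃ hS Y ξ h (add_comm 1 q)
    have := hvan q (Nat.lt_succ_self q)
    rw [← hx₁, Subsingleton.elim x₁ 0, Ext.comp_zero]

end LemmaA

lemma killed_FJ (k : ℕ) : Killed J (FJ (J := J) k) := by
  intro a ha m
  funext j
  exact killed_RJ J a ha (m j)

lemma killed_ker {N N' : Type u} [AddCommGroup N] [Module A N] [AddCommGroup N'] [Module A N']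
    (f : N →ₗ[A] N') (hN : Killed J (ModuleCat.of A N)) :
    Killed J (ModuleCat.of A (LinearMap.ker f)) := by
  intro a ha m
  apply Subtype.ext
  exact hN a ha m.1

/-- any finite module killed by `J` is a quotient of a finite free `A/J`-module. -/
lemma exists_surjective (N : ModuleCat.{u} A) [Module.Finite A N] (hN : Killed J N) :
    ∃ (k : ℕ) (π : FJ (J := J) k ⟶ N), Function.Surjective π.hom := by
  obtain ⟨k, f, hf⟩ := Module.Finite.exists_fin' A N
  refine ⟨k, ∑ j, prj k j ≫ fm hN (f (Pi.single j 1)), ?_⟩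
  intro n
  obtain ⟨c, rfl⟩ := hf n
  refine ⟨fun j => Ideal.Quotient.mk J (c j), ?_⟩
  rw [ModuleCat.hom_sum, LinearMap.sum_apply]
  have : ∀ j, ((prj (J := J) k j ≫ fm hN (f (Pi.single j 1))).hom
      fun j => Ideal.Quotient.mk J (c j)) = f (Pi.single j (c j)) := by
    intro j
    rw [ModuleCat.hom_comp, LinearMap.comp_apply]
    change (fm hN (f (Pi.single j 1))).hom (Ideal.Quotient.mk J (c j)) = _
    rw [fm_apply_mk, ← map_smul, ← Pi.single_smul, smul_eq_mul, mul_one]
  simp only [this]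
  rw [← map_sum, Finset.univ_sum_single]

end Groth.Agent.Lib.Helper84.ExtTop

namespace Groth.Agent.Lib.Helper84.ExtTop

open Groth.Agent.Lib.Helper84.ExtSplit

variable {A : Type u} [CommRing A] [IsNoetherianRing A] {J : Ideal A} {Y : ModuleCat.{u} A} {p : ℕ}

/-- the vanishing hypothesis. -/
def Van (J : Ideal A) (Y : ModuleCat.{u} A) (p : ℕ) : Prop :=
  ∀ (N : Type u) [AddCommGroup N] [Module A N] [Module.Finite A N],
    Killed J (ModuleCat.of A N) → ∀ i, i < p → Subsingleton (Ext (ModuleCat.of A N) Y i)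

lemma pull_surj_injective (hvan : Van J Y p) {k : ℕ} {N : Type u} [AddCommGroup N] [Module A N]
    (π : (Fin k → A ⧸ J) →ₗ[A] N) (hπ : Function.Surjective π)
    (ξ : Ext (ModuleCat.of A N) Y p)
    (h : pull Y p (FJ (J := J) k) (ModuleCat.of A N) (ModuleCat.ofHom π) ξ = 0) : ξ = 0 := by
  refine pull_g_injective (LinearMap.shortExact_shortComplexKer hπ) ?_ ξ h
  intro i hi
  exact hvan (LinearMap.ker π) (killed_ker π (killed_FJ k)) i hi

theorem pInj_of_van (hvan : Van J Y p) (M : Type u) [AddCommGroup M] [Module A M]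
    [Module.Finite A M] (hM : Killed J (ModuleCat.of A M)) : PInj J Y p (ModuleCat.of A M) := by
  intro ξ h
  obtain ⟨k, π, hπ⟩ := exists_surjective (ModuleCat.of A M) hM
  have h1 : pull Y p _ _ π ξ = 0 := by
    apply pInj_FJ k
    intro v
    rw [← pull_comp]
    exact h _
  exact pull_surj_injective hvan π.hom hπ ξ h1

theorem pSurj_of_van (hvan : Van J Y p) (M : Type u) [AddCommGroup M] [Module A M]
    [Module.Finite A M] (hM : Killed J (ModuleCat.of A M)) : PSurj J Y p (ModuleCat.of A M) := by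
  intro g
  obtain ⟨k, π, hπ⟩ := exists_surjective (ModuleCat.of A M) hM
  -- the kernel
  have hSES := LinearMap.shortExact_shortComplexKer hπ
  have hKkilled : Killed J (ModuleCat.of A (LinearMap.ker π.hom)) := killed_ker π.hom (killed_FJ k)
  obtain ⟨k', σ, hσ⟩ := exists_surjective (ModuleCat.of A (LinearMap.ker π.hom)) hKkilled
  -- the class on the free module
  obtain ⟨η, hη⟩ := pSurj_FJ (Y := Y) (p := p) k (g ∘ₗ Linear.rightComp A (RJ J) π)
  have hη' : ∀ v : RJ J ⟶ FJ k, g (v ≫ π) = pull Y p _ _ v η := hη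
  let i : ModuleCat.of A (LinearMap.ker π.hom) ⟶ FJ k := (π.hom.shortComplexKer).f
  have hiπ : i ≫ π = 0 := (π.hom.shortComplexKer).zero
  have h1 : pull Y p _ _ i η = 0 := by
    apply pull_surj_injective hvan σ.hom hσ
    change pull Y p _ _ σ _ = 0
    apply pInj_FJ k'
    intro w
    rw [← pull_comp, ← pull_comp, ← hη', Category.assoc, Category.assoc, hiπ, Limits.comp_zero,
      Limits.comp_zero, map_zero]
  obtain ⟨ξ, hξ⟩ := Ext.contravariant_sequence_exact₂ hSES Y η h1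
  refine ⟨ξ, fun u => ?_⟩
  obtain ⟨x, hx⟩ := hπ (u.hom (1 : A ⧸ J))
  have hv : fm (killed_FJ k) x ≫ π = u := by
    rw [fm_comp (killed_FJ k) hM]
    apply fm_hom_ext
    rw [fm_apply_one, hx]
  rw [← hv, hη', ← hξ, pull_comp]
  rfl

end Groth.Agent.Lib.Helper84.ExtTop
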