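import Mathlib

/-!
# Family version of `IsLocalRing.linearIndependent_of_flat` (helper84, for helper55's FamFlat)

`A'` local, `(N l)` a family of flat `A'`-modules, `x j ∈ ∏ l, N l` finitely many vectors which are
"jointly independent modulo `m'`" (JI).  Then they are jointly linearly independent.
-/

set_option autoImplicit false
universe u v w

namespace Groth.Agent.Lib.Helper84.FamFlat1

open Module

variable {A' : Type u} [CommRing A'] [IsLocalRing A']

/-- joint independence modulo the maximal ideal -/
def JI {Λ : Type v} (N : Λ → Type w) [∀ l, AddCommGroup (N l)] [∀ l, Module A' (N l)]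
    {n : ℕ} (x : Fin n → ∀ l, N l) : Prop :=
  ∀ b : Fin n → A',
    (∀ l, ∑ j, b j • x j l ∈ (IsLocalRing.maximalIdeal A') • (⊤ : Submodule A' (N l))) →
    ∀ j, b j ∈ IsLocalRing.maximalIdeal A'

theorem family_linearIndependent {Λ : Type v} (N : Λ → Type w) [∀ l, AddCommGroup (N l)]
    [∀ l, Module A' (N l)] [∀ l, Module.Flat A' (N l)] :
    ∀ (n : ℕ) (x : Fin n → ∀ l, N l), JI (A' := A') N x →
      ∀ a : Fin n → A', (∀ l, ∑ j, a j • x j l = 0) → ∀ j, a j = 0 := by
  intro n
  induction n with
  | zero => intro x _ a _ j; exact j.elim0
  | succ n ih =>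
    intro x hJI a ha
    -- the last vector is nonzero modulo m' at some index l0
    have h1 : ¬ ∀ l, x (Fin.last n) l ∈
        (IsLocalRing.maximalIdeal A') • (⊤ : Submodule A' (N l)) := by
      intro hall
      have := hJI (fun j => if j = Fin.last n then 1 else 0) (by
        intro l
        have : ∑ j, (if j = Fin.last n then (1 : A') else 0) • x j l = x (Fin.last n) l := by
          rw [Finset.sum_eq_single (Fin.last n)]
          · simp
          · intro j _ hj; simp [hj]
          · intro h; exact absurd (Finset.mem_univ _) h
        rw [this]; exact hall l) (Fin.last n)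
      simp only [if_true] at this
      exact (IsLocalRing.maximalIdeal.isMaximal A').ne_top
        ((Ideal.eq_top_iff_one _).mpr this)
    push_neg at h1
    obtain ⟨l0, hl0⟩ := h1
    obtain ⟨k, α, y, hxy, hα⟩ :=
      Module.Flat.isTrivialRelation_of_sum_smul_eq_zero (ha l0)
    -- some coefficient of the last vector is a unit
    have h2 : ∃ s, α (Fin.last n) s ∉ IsLocalRing.maximalIdeal A' := by
      by_contra hcon
      push_neg at hcon
      apply hl0
      have e1 : x (Fin.last n) l0 = ∑ j, α (Fin.last n) j • y j := hxy (Fin.last n)
      rw [e1]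
      exact Submodule.sum_mem _ fun s _ =>
        Submodule.smul_mem_smul (hcon s) Submodule.mem_top
    obtain ⟨s0, hs0⟩ := h2
    have hu : IsUnit (α (Fin.last n) s0) := by
      by_contra h; exact hs0 ((IsLocalRing.mem_maximalIdeal _).mpr h)
    obtain ⟨u, hu'⟩ := hu
    -- a_last = Σ_{j<n} a_j d_j
    set d : Fin n → A' := fun j => -(α (Fin.castSucc j) s0 * (↑u⁻¹ : A')) with hd
    have hlast : a (Fin.last n) = ∑ j : Fin n, a (Fin.castSucc j) * d j := by
      have h3 := hα s0
      rw [Fin.sum_univ_castSucc] at h3
      have h4 : a (Fin.last n) * α (Fin.last n) s0 =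
          -∑ j : Fin n, a (Fin.castSucc j) * α (Fin.castSucc j) s0 := by
        linear_combination h3
      have h5 : a (Fin.last n) = a (Fin.last n) * α (Fin.last n) s0 * (↑u⁻¹ : A') := by
        rw [← hu', mul_assoc, Units.mul_inv, mul_one]
      rw [h5, h4, neg_mul, Finset.sum_mul, ← Finset.sum_neg_distrib]
      refine Finset.sum_congr rfl fun j _ => ?_
      simp only [hd]; ring
    -- new family
    set x' : Fin n → ∀ l, N l := fun j l => x (Fin.castSucc j) l + d j • x (Fin.last n) l with hx'
    have hJI' : JI (A' := A') N x' := by
      intro b hb j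
      have := hJI (Fin.snoc b (∑ j, b j * d j)) (by
        intro l
        rw [Fin.sum_univ_castSucc]
        simp only [Fin.snoc_castSucc, Fin.snoc_last]
        have := hb l
        simp only [hx', smul_add, Finset.sum_add_distrib] at this
        convert this using 2
        rw [Finset.sum_smul]
        refine Finset.sum_congr rfl fun j _ => ?_
        rw [mul_smul]) (Fin.castSucc j)
      simpa using this
    have hrel' : ∀ l, ∑ j, a (Fin.castSucc j) • x' j l = 0 := by
      intro l
      have := ha l
      rw [Fin.sum_univ_castSucc, hlast, Finset.sum_smul] at this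
      simp only [hx', smul_add, Finset.sum_add_distrib]
      convert this using 2
      refine Finset.sum_congr rfl fun j _ => ?_
      rw [mul_smul]
    have h0 := ih x' hJI' (fun j => a (Fin.castSucc j)) hrel'
    intro j
    refine Fin.lastCases ?_ (fun j => h0 j) j
    rw [hlast]
    exact Finset.sum_eq_zero fun j _ => by rw [h0 j, zero_mul]

end Groth.Agent.Lib.Helper84.FamFlat1
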