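import Mathlib

/-!
# Two auxiliary lemmas for FamFlat (helper84, for helper55)
* `exists_of_colon_not_le` : prime avoidance step.
* `exists_smul_mem_of_mk_mem` : membership in `I • ⊤` of a localized module, denominators cleared.
-/

set_option autoImplicit false
universe u

namespace Groth.Agent.Lib.Helper84.FamFlat2

open TensorProduct

theorem exists_of_colon_not_le {B B' : Type u} [CommRing B] [CommRing B'] [Algebra B B']
    (𝔭 : Ideal B) [𝔭.IsPrime] (𝔞 : Ideal B')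
    (h : ∀ 𝔮 : Ideal B', 𝔮.IsPrime → 𝔮.comap (algebraMap B B') = 𝔭 → ¬ 𝔞 ≤ 𝔮) :
    ∃ s ∈ 𝔭.primeCompl, ∃ α ∈ 𝔞, ∃ π ∈ 𝔭.map (algebraMap B B'),
      algebraMap B B' s = α + π := by
  by_contra hcon
  have hdisj : Disjoint ((𝔞 ⊔ 𝔭.map (algebraMap B B') : Ideal B') : Set B')
      (Algebra.algebraMapSubmonoid B' 𝔭.primeCompl : Set B') := by
    rw [Set.disjoint_left]
    rintro x hx ⟨s, hs, rfl⟩
    obtain ⟨α, hα, π, hπ, hsum⟩ := Submodule.mem_sup.mp hx
    exact hcon ⟨s, hs, α, hα, π, hπ, hsum.symm⟩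
  obtain ⟨𝔮, h𝔮, hle, hd⟩ := Ideal.exists_le_prime_disjoint _ _ hdisj
  refine h 𝔮 h𝔮 ?_ (le_sup_left.trans hle)
  apply le_antisymm
  · intro x hx
    by_contra hxp
    exact Set.disjoint_left.mp hd hx ⟨x, hxp, rfl⟩
  · intro x hx
    exact hle (Ideal.mem_sup_right (Ideal.mem_map_of_mem _ hx))

theorem exists_smul_mem_of_mk_mem {A' B' : Type u} [CommRing A'] [CommRing B'] [Algebra A' B']
    {N : Type u} [AddCommGroup N] [Module B' N] [Module A' N] [IsScalarTower A' B' N]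
    (I : Ideal A') (𝔮 : Ideal B') [𝔮.IsPrime] (n₀ : N)
    (h : LocalizedModule.mk n₀ (1 : 𝔮.primeCompl) ∈
      I • (⊤ : Submodule A' (LocalizedModule 𝔮.primeCompl N))) :
    ∃ t, t ∉ 𝔮 ∧ t • n₀ ∈ (I.map (algebraMap A' B')) • (⊤ : Submodule B' N) := by
  set S' : Submodule B' N := (I.map (algebraMap A' B')) • (⊤ : Submodule B' N) with hS'
  have key : ∀ y ∈ I • (⊤ : Submodule A' (LocalizedModule 𝔮.primeCompl N)),
      ∃ (n : N) (s : 𝔮.primeCompl), n ∈ S' ∧ y = LocalizedModule.mk n s := by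
    intro y hy
    induction hy using Submodule.smul_induction_on' with
    | smul a ha y _ =>
      induction y using LocalizedModule.induction_on with
      | h n s =>
        refine ⟨a • n, s, ?_, ?_⟩
        · rw [← algebraMap_smul B' a n]
          exact Submodule.smul_mem_smul (Ideal.mem_map_of_mem _ ha) Submodule.mem_top
        · rw [← algebraMap_smul B' a (LocalizedModule.mk n s), LocalizedModule.smul'_mk,
            algebraMap_smul]
    | add y₁ _ y₂ _ h₁ h₂ =>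
      obtain ⟨n₁, s₁, hn₁, rfl⟩ := h₁
      obtain ⟨n₂, s₂, hn₂, rfl⟩ := h₂
      refine ⟨s₂ • n₁ + s₁ • n₂, s₁ * s₂, ?_, ?_⟩
      · exact S'.add_mem (S'.smul_mem _ hn₁) (S'.smul_mem _ hn₂)
      · rw [LocalizedModule.mk_add_mk]
  obtain ⟨n, s, hn, heq⟩ := key _ h
  obtain ⟨u, hu⟩ := LocalizedModule.mk_eq.mp heq
  refine ⟨(u : B') * s, ?_, ?_⟩
  · exact (u * s).2
  · have : ((u : B') * s) • n₀ = (u : B') • n := by
      rw [mul_smul]
      simpa [Submonoid.smul_def] using hu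
    rw [this]
    exact S'.smul_mem _ hn

end Groth.Agent.Lib.Helper84.FamFlat2
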