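import Mathlib
import Groth.Agent.Lib.Helper84.FamFlat2

/-!
# The contraction `Θ` and the Krull step for FamFlat (helper84, for helper55)
-/

set_option autoImplicit false
universe u

namespace Groth.Agent.Lib.Helper84.FamFlat3

open TensorProduct

variable {A : Type u} [CommRing A] [IsLocalRing A]
  {B : Type u} [CommRing B] [Algebra A B] [IsNoetherianRing B]
  {M : Type u} [AddCommGroup M] [Module B M] [Module A M] [IsScalarTower A B M]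
  [Module.Finite B M] (𝔭 : Ideal B) [𝔭.IsPrime]

variable (A M) in
/-- `m_A · M_𝔭` as a submodule over `B_𝔭` -/
def mQ : Submodule (Localization.AtPrime 𝔭) (LocalizedModule 𝔭.primeCompl M) :=
  ((IsLocalRing.maximalIdeal A).map (algebraMap A (Localization.AtPrime 𝔭))) • ⊤

variable (A M) in
/-- `M_𝔭 / m_A M_𝔭` -/
abbrev X := (LocalizedModule 𝔭.primeCompl M) ⧸ mQ A M 𝔭

variable (A M) in
/-- `M → M_𝔭 / m_A M_𝔭` -/
noncomputable def ψ : M →ₗ[B] X A M 𝔭 :=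
  ((mQ A M 𝔭).mkQ.restrictScalars B).comp (LocalizedModule.mkLinearMap 𝔭.primeCompl M)

theorem smul_X_eq_zero (a : A) (ha : a ∈ IsLocalRing.maximalIdeal A) (x : X A M 𝔭) :
    a • x = 0 := by
  obtain ⟨q, rfl⟩ := Submodule.Quotient.mk_surjective _ x
  rw [← Submodule.Quotient.mk_smul, Submodule.Quotient.mk_eq_zero,
    ← algebraMap_smul (Localization.AtPrime 𝔭) a q]
  exact Submodule.smul_mem_smul (Ideal.mem_map_of_mem _ ha) Submodule.mem_top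

variable (A M) in
/-- the action of the residue field `A/m` on `X` -/
noncomputable def ρ : (A ⧸ IsLocalRing.maximalIdeal A) →ₗ[A] (X A M 𝔭 →ₗ[A] X A M 𝔭) :=
  Submodule.liftQ (IsLocalRing.maximalIdeal A) (LinearMap.lsmul A (X A M 𝔭)) (by
    intro a ha
    rw [LinearMap.mem_ker]
    exact LinearMap.ext fun x => smul_X_eq_zero 𝔭 a ha x)

theorem ρ_mk (a : A) (x : X A M 𝔭) : ρ A M 𝔭 (Ideal.Quotient.mk _ a) x = a • x := rfl

theorem ρ_smul (κ : A ⧸ IsLocalRing.maximalIdeal A) (b : B) (x : X A M 𝔭) :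
    ρ A M 𝔭 κ (b • x) = b • ρ A M 𝔭 κ x := by
  obtain ⟨a, rfl⟩ := Ideal.Quotient.mk_surjective κ
  rw [ρ_mk, ρ_mk, smul_comm]

variable {A' B' : Type u} [CommRing A'] [IsLocalRing A'] [Algebra A A'] [CommRing B']
  [Algebra A B'] [Algebra A' B'] [Algebra B B'] [IsScalarTower A A' B'] [IsScalarTower A B B']
  [Algebra.IsPushout A A' B B']

variable (ϑ : A' →ₗ[A] (A ⧸ IsLocalRing.maximalIdeal A))

/-- the bilinear map `(a', m) ↦ ϑ(a') · [m/1]` -/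
noncomputable def f : A' →ₗ[A] M →ₗ[A] X A M 𝔭 :=
  LinearMap.mk₂ A (fun a' m => ρ A M 𝔭 (ϑ a') (ψ A M 𝔭 m))
    (fun a₁ a₂ m => by simp only [map_add, LinearMap.add_apply])
    (fun c a m => by simp only [map_smul, LinearMap.smul_apply])
    (fun a m₁ m₂ => by simp only [map_add])
    (fun c a m => by
      rw [← algebraMap_smul B c m, map_smul, ρ_smul, algebraMap_smul])

noncomputable def Θ₀ : A' ⊗[A] M →ₗ[A] X A M 𝔭 := TensorProduct.lift (f 𝔭 ϑ)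

/-- the contraction `B' ⊗_B M → M_𝔭 / m M_𝔭` -/
noncomputable def Θ (z : B' ⊗[B] M) : X A M 𝔭 :=
  Θ₀ 𝔭 ϑ (Algebra.IsPushout.cancelBaseChange A A' B B' M z)

theorem Θ_add (z₁ z₂ : B' ⊗[B] M) : Θ 𝔭 ϑ (z₁ + z₂) = Θ 𝔭 ϑ z₁ + Θ 𝔭 ϑ z₂ := by
  simp only [Θ, map_add]

theorem Θ_zero : Θ 𝔭 ϑ (0 : B' ⊗[B] M) = 0 := by simp only [Θ, map_zero]

theorem Θ_sum {ι : Type*} (s : Finset ι) (z : ι → B' ⊗[B] M) :
    Θ 𝔭 ϑ (∑ i ∈ s, z i) = ∑ i ∈ s, Θ 𝔭 ϑ (z i) := by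
  simp only [Θ, map_sum]

theorem Θ_smul_one_tmul (a' : A') (m : M) :
    Θ 𝔭 ϑ (a' • ((1 : B') ⊗ₜ[B] m)) = ρ A M 𝔭 (ϑ a') (ψ A M 𝔭 m) := by
  simp only [Θ, map_smul, Algebra.IsPushout.cancelBaseChange_tmul]
  rw [TensorProduct.smul_tmul', smul_eq_mul, mul_one]
  rfl

/-- elements of `B' ⊗_B M` come from `A' ⊗_A M` -/
theorem induction_N (_hpo : Algebra.IsPushout A A' B B') {P : B' ⊗[B] M → Prop} (h0 : P 0)
    (htmul : ∀ (a' : A') (m : M), P (algebraMap A' B' a' ⊗ₜ[B] m))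
    (hadd : ∀ z₁ z₂, P z₁ → P z₂ → P (z₁ + z₂)) (z : B' ⊗[B] M) : P z := by
  obtain ⟨y, rfl⟩ := (Algebra.IsPushout.cancelBaseChange A A' B B' M).symm.surjective z
  induction y using TensorProduct.induction_on with
  | zero => rw [map_zero]; exact h0
  | tmul a' m => rw [Algebra.IsPushout.cancelBaseChange_symm_tmul]; exact htmul a' m
  | add y₁ y₂ h₁ h₂ => rw [map_add]; exact hadd _ _ h₁ h₂

theorem Θ_algebraMap_tmul (a' : A') (m : M) :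
    Θ 𝔭 ϑ (algebraMap A' B' a' ⊗ₜ[B] m) = ρ A M 𝔭 (ϑ a') (ψ A M 𝔭 m) := by
  have : algebraMap A' B' a' ⊗ₜ[B] m = a' • ((1 : B') ⊗ₜ[B] m) := by
    rw [TensorProduct.smul_tmul', Algebra.smul_def, mul_one]
  rw [this, Θ_smul_one_tmul]

theorem Θ_smul_B (b : B) (z : B' ⊗[B] M) : Θ 𝔭 ϑ (b • z) = b • Θ 𝔭 ϑ z := by
  refine induction_N (A := A) (A' := A') inferInstance
    (P := fun z => Θ 𝔭 ϑ (b • z) = b • Θ 𝔭 ϑ z) ?_ ?_ ?_ z
  · rw [smul_zero, Θ_zero, smul_zero]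
  · intro a' m
    have : Θ 𝔭 ϑ (b • (algebraMap A' B' a' ⊗ₜ[B] m)) =
        Θ 𝔭 ϑ (algebraMap A' B' a' ⊗ₜ[B] (b • m)) := by
      congr 1
      rw [TensorProduct.tmul_smul]
    rw [this, Θ_algebraMap_tmul, Θ_algebraMap_tmul, map_smul, ρ_smul]
  · intro z₁ z₂ h₁ h₂
    rw [smul_add, Θ_add, Θ_add, h₁, h₂, smul_add]

variable (hϑ : ∀ a'' ∈ IsLocalRing.maximalIdeal A', ∀ a', ϑ (a'' * a') = 0)
include hϑ

theorem Θ_smul_A' (a'' : A') (ha : a'' ∈ IsLocalRing.maximalIdeal A') (z : B' ⊗[B] M) :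
    Θ 𝔭 ϑ (a'' • z) = 0 := by
  refine induction_N (A := A) (A' := A') inferInstance
    (P := fun z => Θ 𝔭 ϑ (a'' • z) = 0) ?_ ?_ ?_ z
  · rw [smul_zero, Θ_zero]
  · intro a' m
    have : Θ 𝔭 ϑ (a'' • (algebraMap A' B' a' ⊗ₜ[B] m)) =
        Θ 𝔭 ϑ (algebraMap A' B' (a'' * a') ⊗ₜ[B] m) := by
      congr 1
      rw [TensorProduct.smul_tmul', Algebra.smul_def, map_mul]
    rw [this, Θ_algebraMap_tmul, hϑ a'' ha a', map_zero, LinearMap.zero_apply]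
  · intro z₁ z₂ h₁ h₂
    rw [smul_add, Θ_add, h₁, h₂, add_zero]

/-- `Θ` kills `m' B' · N` -/
theorem Θ_eq_zero_of_mem (y : B' ⊗[B] M)
    (hy : y ∈ ((IsLocalRing.maximalIdeal A').map (algebraMap A' B')) •
      (⊤ : Submodule B' (B' ⊗[B] M))) : Θ 𝔭 ϑ y = 0 := by
  have key : ∀ r ∈ (IsLocalRing.maximalIdeal A').map (algebraMap A' B'),
      ∀ n : B' ⊗[B] M, Θ 𝔭 ϑ (r • n) = 0 := by
    intro r hr
    refine Submodule.span_induction (p := fun r _ => ∀ n : B' ⊗[B] M, Θ 𝔭 ϑ (r • n) = 0)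
      ?_ ?_ ?_ ?_ hr
    · rintro _ ⟨a'', ha, rfl⟩ n
      rw [algebraMap_smul]
      exact Θ_smul_A' 𝔭 ϑ hϑ a'' ha n
    · intro n; rw [zero_smul, Θ_zero]
    · intro r₁ r₂ _ _ h₁ h₂ n
      rw [add_smul, Θ_add, h₁, h₂, add_zero]
    · intro β r _ h n
      rw [smul_eq_mul, mul_comm, mul_smul]
      exact h _
  induction hy using Submodule.smul_induction_on' with
  | smul r hr n _ => exact key r hr n
  | add y₁ _ y₂ _ h₁ h₂ => rw [Θ_add, h₁, h₂, add_zero]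

end Groth.Agent.Lib.Helper84.FamFlat3
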