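import Mathlib
import Groth.Agent.Lib.Helper84.FamFlat3

/-!
# The Krull step for FamFlat (helper84, for helper55)
-/

set_option autoImplicit false
universe u

namespace Groth.Agent.Lib.Helper84.FamFlat4

open TensorProduct Groth.Agent.Lib.Helper84.FamFlat3

variable {A : Type u} [CommRing A] [IsLocalRing A]
  {B : Type u} [CommRing B] [Algebra A B] [IsNoetherianRing B]
  {M : Type u} [AddCommGroup M] [Module B M] [Module A M] [IsScalarTower A B M]
  [Module.Finite B M] (𝔭 : Ideal B) [𝔭.IsPrime]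
  {A' B' : Type u} [CommRing A'] [IsLocalRing A'] [Algebra A A'] [CommRing B']
  [Algebra A B'] [Algebra A' B'] [Algebra B B'] [IsScalarTower A A' B'] [IsScalarTower A B B']
  [Algebra.IsPushout A A' B B']
  (ϑ : A' →ₗ[A] (A ⧸ IsLocalRing.maximalIdeal A))
  (hϑ : ∀ a'' ∈ IsLocalRing.maximalIdeal A', ∀ a', ϑ (a'' * a') = 0)

include hϑ in
theorem Θ_eq_zero_of_forall (n₀ : B' ⊗[B] M)
    (H : ∀ 𝔮 : Ideal B', 𝔮.IsPrime → 𝔮.comap (algebraMap B B') = 𝔭 →
      𝔮.comap (algebraMap A' B') = IsLocalRing.maximalIdeal A' →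
      ∃ t, t ∉ 𝔮 ∧ t • n₀ ∈ ((IsLocalRing.maximalIdeal A').map (algebraMap A' B')) •
        (⊤ : Submodule B' (B' ⊗[B] M))) :
    Θ 𝔭 ϑ n₀ = 0 := by
  set S' : Submodule B' (B' ⊗[B] M) :=
    ((IsLocalRing.maximalIdeal A').map (algebraMap A' B')) • ⊤ with hS'
  set 𝔫 := IsLocalRing.maximalIdeal (Localization.AtPrime 𝔭) with h𝔫
  have key : ∀ n : ℕ, ∀ β : B', Θ 𝔭 ϑ (β • n₀) ∈
      (𝔫 ^ n • ⊤ : Submodule (Localization.AtPrime 𝔭) (X A M 𝔭)) := by
    intro n
    induction n with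
    | zero => intro β; simp
    | succ n ih =>
      intro β
      -- Claim P
      have claimP : ∀ π ∈ 𝔭.map (algebraMap B B'), ∀ β : B', Θ 𝔭 ϑ (π • β • n₀) ∈
          (𝔫 ^ (n + 1) • ⊤ : Submodule (Localization.AtPrime 𝔭) (X A M 𝔭)) := by
        intro π hπ
        refine Submodule.span_induction (p := fun π _ => ∀ β : B', Θ 𝔭 ϑ (π • β • n₀) ∈
          (𝔫 ^ (n + 1) • ⊤ : Submodule (Localization.AtPrime 𝔭) (X A M 𝔭))) ?_ ?_ ?_ ?_ hπ
        · rintro _ ⟨p, hp, rfl⟩ β
          rw [algebraMap_smul, Θ_smul_B, ← algebraMap_smul (Localization.AtPrime 𝔭) p,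
            pow_succ', Submodule.mul_smul]
          refine Submodule.smul_mem_smul ?_ (ih β)
          exact (IsLocalization.AtPrime.to_map_mem_maximal_iff _ 𝔭 p).mpr hp
        · intro β; rw [zero_smul, Θ_zero]; exact Submodule.zero_mem _
        · intro π₁ π₂ _ _ h₁ h₂ β
          rw [add_smul, Θ_add]; exact Submodule.add_mem _ (h₁ β) (h₂ β)
        · intro γ π _ h β
          have : (γ • π) • β • n₀ = π • (γ * β) • n₀ := by
            rw [smul_eq_mul, mul_smul, mul_smul, smul_comm γ π]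
          rw [this]; exact h _
      set z := β • n₀ with hz
      obtain ⟨s, hs, α, hα, π, hπ, hsum⟩ :=
        FamFlat2.exists_of_colon_not_le 𝔭 (S'.colon {z}) (by
          intro 𝔮 h𝔮 hcomap hle
          have hJ : (IsLocalRing.maximalIdeal A').map (algebraMap A' B') ≤ 𝔮 := fun t ht =>
            hle (Submodule.mem_colon_singleton.mpr
              (Submodule.smul_mem_smul ht Submodule.mem_top))
          have hA' : 𝔮.comap (algebraMap A' B') = IsLocalRing.maximalIdeal A' :=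
            ((IsLocalRing.maximalIdeal.isMaximal A').eq_of_le
              (Ideal.comap_ne_top _ h𝔮.ne_top) (Ideal.map_le_iff_le_comap.mp hJ)).symm
          obtain ⟨t, ht𝔮, ht⟩ := H 𝔮 h𝔮 hcomap hA'
          apply ht𝔮
          apply hle
          rw [Submodule.mem_colon_singleton]
          have : t • z = β • (t • n₀) := by rw [hz, smul_comm]
          rw [this]
          exact S'.smul_mem _ ht)
      have h1 : s • Θ 𝔭 ϑ z = Θ 𝔭 ϑ (π • z) := by
        rw [← Θ_smul_B, ← algebraMap_smul B' s z, hsum, add_smul, Θ_add,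
          Θ_eq_zero_of_mem 𝔭 ϑ hϑ (α • z) (Submodule.mem_colon_singleton.mp hα), zero_add]
      have h2 := claimP π hπ β
      rw [← hz, ← h1, ← algebraMap_smul (Localization.AtPrime 𝔭) s] at h2
      have hu : IsUnit (algebraMap B (Localization.AtPrime 𝔭) s) :=
        IsLocalization.map_units (Localization.AtPrime 𝔭) (⟨s, hs⟩ : 𝔭.primeCompl)
      exact (Submodule.smul_mem_iff_of_isUnit _ hu).mp h2
  have hK := Ideal.iInf_pow_smul_eq_bot_of_isLocalRing (R := Localization.AtPrime 𝔭)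
    (M := X A M 𝔭) 𝔫 (IsLocalRing.maximalIdeal.isMaximal _).ne_top
  have hmem : Θ 𝔭 ϑ n₀ ∈ (⨅ i, 𝔫 ^ i • ⊤ :
      Submodule (Localization.AtPrime 𝔭) (X A M 𝔭)) := by
    rw [Submodule.mem_iInf]
    intro n
    have := key n 1
    rwa [one_smul] at this
  rw [hK] at hmem
  exact (Submodule.mem_bot _).mp hmem

end Groth.Agent.Lib.Helper84.FamFlat4
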