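import Mathlib
import Groth.Agent.Lib.Helper84.FamFlat4

/-!
# Auxiliary lemmas for the assembly of FamFlat (helper84, for helper55)
-/

set_option autoImplicit false
universe u

namespace Groth.Agent.Lib.Helper84.FamFlat5

open TensorProduct Groth.Agent.Lib.Helper84.FamFlat3

section Theta
variable {A : Type u} [CommRing A] [IsLocalRing A]
  {A' : Type u} [CommRing A'] [IsLocalRing A'] [Algebra A A']

theorem algebraMap_mem_maximalIdeal (hA : IsNilpotent (IsLocalRing.maximalIdeal A)) (a : A)
    (ha : a ∈ IsLocalRing.maximalIdeal A) :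
    algebraMap A A' a ∈ IsLocalRing.maximalIdeal A' := by
  obtain ⟨n, hn⟩ := hA
  have h1 : a ^ n = 0 := by
    have : a ^ n ∈ IsLocalRing.maximalIdeal A ^ n := Ideal.pow_mem_pow ha n
    rw [hn] at this
    exact this
  rw [IsLocalRing.mem_maximalIdeal, mem_nonunits_iff]
  intro hu
  have h2 : (algebraMap A A' a) ^ n = 0 := by rw [← map_pow, h1, map_zero]
  have : IsUnit ((algebraMap A A' a) ^ n) := hu.pow n
  rw [h2] at this
  exact not_isUnit_zero this

/-- a functional `A' → A/m` killing `m'` and detecting a given element outside `m'` -/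
theorem exists_theta (hA : IsNilpotent (IsLocalRing.maximalIdeal A)) (b : A')
    (hb : b ∉ IsLocalRing.maximalIdeal A') :
    ∃ ϑ : A' →ₗ[A] (A ⧸ IsLocalRing.maximalIdeal A),
      (∀ a'' ∈ IsLocalRing.maximalIdeal A', ∀ a', ϑ (a'' * a') = 0) ∧ ϑ b ≠ 0 := by
  classical
  set m := IsLocalRing.maximalIdeal A with hm
  set m' := IsLocalRing.maximalIdeal A' with hm'
  have htors : Module.IsTorsionBySet A (A' ⧸ m') (m : Set A) := by
    intro v a
    obtain ⟨y, rfl⟩ := Ideal.Quotient.mk_surjective v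
    have : ((a : A) • (Ideal.Quotient.mk m' y) : A' ⧸ m') =
        Ideal.Quotient.mk m' (algebraMap A A' a * y) := by
      rw [← Algebra.smul_def]; rfl
    rw [this, Ideal.Quotient.eq_zero_iff_mem]
    exact Ideal.mul_mem_right _ _ (algebraMap_mem_maximalIdeal hA a a.2)
  letI : Field (A ⧸ m) := Ideal.Quotient.field m
  letI : Module (A ⧸ m) (A' ⧸ m') := htors.module
  haveI : IsScalarTower A (A ⧸ m) (A' ⧸ m') := htors.isScalarTower
  have hb0 : (Ideal.Quotient.mk m' b : A' ⧸ m') ≠ 0 := by
    rw [Ne, Ideal.Quotient.eq_zero_iff_mem]; exact hb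
  obtain ⟨θ, hθ⟩ : ∃ θ : Module.Dual (A ⧸ m) (A' ⧸ m'), θ (Ideal.Quotient.mk m' b) ≠ 0 := by
    by_contra hcon
    push_neg at hcon
    exact hb0 ((Module.forall_dual_apply_eq_zero_iff (A ⧸ m) _).mp hcon)
  refine ⟨(θ.restrictScalars A).comp ((Submodule.mkQ m').restrictScalars A), ?_, ?_⟩
  · intro a'' ha a'
    have : (Submodule.mkQ m') (a'' * a') = 0 := by
      rw [Submodule.mkQ_apply, Submodule.Quotient.mk_eq_zero]
      exact Ideal.mul_mem_right _ _ ha
    simp only [LinearMap.coe_comp, LinearMap.coe_restrictScalars, Function.comp_apply, this,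
      map_zero]
  · exact hθ

end Theta

section M
variable {A : Type u} [CommRing A] [IsLocalRing A]
  {B : Type u} [CommRing B] [Algebra A B]
  {M : Type u} [AddCommGroup M] [Module B M] [Module A M] [IsScalarTower A B M]
  (𝔭 : Ideal B) [𝔭.IsPrime]

theorem one_tmul_eq_zero_of_mem (q : LocalizedModule 𝔭.primeCompl M) (hq : q ∈ mQ A M 𝔭) :
    (1 : IsLocalRing.ResidueField A) ⊗ₜ[A] q = 0 := by
  have key : ∀ r ∈ (IsLocalRing.maximalIdeal A).map (algebraMap A (Localization.AtPrime 𝔭)),
      ∀ q : LocalizedModule 𝔭.primeCompl M,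
        (1 : IsLocalRing.ResidueField A) ⊗ₜ[A] (r • q) = 0 := by
    intro r hr
    refine Submodule.span_induction (p := fun r _ => ∀ q : LocalizedModule 𝔭.primeCompl M,
        (1 : IsLocalRing.ResidueField A) ⊗ₜ[A] (r • q) = 0) ?_ ?_ ?_ ?_ hr
    · rintro _ ⟨a, ha, rfl⟩ q
      rw [algebraMap_smul, TensorProduct.tmul_smul, TensorProduct.smul_tmul',
        Algebra.smul_def, mul_one]
      have : algebraMap A (IsLocalRing.ResidueField A) a = 0 :=
        (IsLocalRing.residue_eq_zero_iff a).mpr ha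
      rw [this, TensorProduct.zero_tmul]
    · intro q; rw [zero_smul, TensorProduct.tmul_zero]
    · intro r₁ r₂ _ _ h₁ h₂ q
      rw [add_smul, TensorProduct.tmul_add, h₁, h₂, add_zero]
    · intro γ r _ h q
      rw [smul_eq_mul, mul_comm, mul_smul]; exact h _
  unfold mQ at hq
  induction hq using Submodule.smul_induction_on' with
  | smul r hr n _ => exact key r hr n
  | add y₁ _ y₂ _ h₁ h₂ => rw [TensorProduct.tmul_add, h₁, h₂, add_zero]

end M

end Groth.Agent.Lib.Helper84.FamFlat5
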