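import Mathlib
import Groth.Agent.Lib.Helper6.NilpNakayama
import Groth.Agent.Lib.Helper84.FamFlat1
import Groth.Agent.Lib.Helper84.FamFlat5

/-!
# FamFlat: flatness of `M_𝔭` over an Artinian-type local ring tested on a family of base changes
(helper84, for helper55; EGA IV 11.4.9-type core)
-/

set_option autoImplicit false
universe u

namespace Groth.Agent.Lib.Helper84.FamFlat

open TensorProduct Groth.Agent.Lib.Helper84.FamFlat3

theorem sum_smul_mk {A' B' : Type u} [CommRing A'] [CommRing B'] [Algebra A' B']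
    {N : Type u} [AddCommGroup N] [Module B' N] [Module A' N] [IsScalarTower A' B' N]
    (S : Submonoid B') {n : ℕ} (b : Fin n → A') (y : Fin n → N) :
    ∑ t, b t • (LocalizedModule.mk (y t) (1 : S)) =
      LocalizedModule.mk (∑ t, b t • y t) (1 : S) := by
  have h : ∀ m : N, LocalizedModule.mk m (1 : S) = LocalizedModule.mkLinearMap S N m :=
    fun m => (LocalizedModule.mkLinearMap_apply S N m).symm
  simp only [h, map_sum, LinearMap.map_smul_of_tower]

section core

variable {A : Type u} [CommRing A] [IsLocalRing A]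
  {B : Type u} [CommRing B] [Algebra A B] [IsNoetherianRing B]
  {M : Type u} [AddCommGroup M] [Module B M] [Module A M] [IsScalarTower A B M]
  [Module.Finite B M] (𝔭 : Ideal B) [𝔭.IsPrime]
  {A' B' : Type u} [CommRing A'] [IsLocalRing A'] [Algebra A A'] [CommRing B']
  [Algebra A B'] [Algebra A' B'] [Algebra B B'] [IsScalarTower A A' B'] [IsScalarTower A B B']
  [Algebra.IsPushout A A' B B']

theorem core (hA : IsNilpotent (IsLocalRing.maximalIdeal A))
    (hflat : ∀ (𝔮 : Ideal B') [𝔮.IsPrime], 𝔮.comap (algebraMap B B') = 𝔭 →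
      𝔮.comap (algebraMap A' B') = IsLocalRing.maximalIdeal A' →
      Module.Flat A' (LocalizedModule 𝔮.primeCompl (B' ⊗[B] M)))
    {J : Type u} (v : J → LocalizedModule 𝔭.primeCompl M)
    (w : Module.Basis J (IsLocalRing.ResidueField A)
      (IsLocalRing.ResidueField A ⊗[A] LocalizedModule 𝔭.primeCompl M))
    (hv : ∀ j, (1 : IsLocalRing.ResidueField A) ⊗ₜ[A] v j = w j)
    (x : J →₀ A) (hx : Finsupp.linearCombination A v x = 0) (j : J) :
    algebraMap A A' (x j) = 0 := by
  classical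
  by_cases hj : j ∈ x.support
  swap
  · rw [Finsupp.notMem_support_iff.mp hj, map_zero]
  set σ := x.support with hσ
  -- common denominators
  obtain ⟨b, hb⟩ := IsLocalizedModule.exist_integer_multiples 𝔭.primeCompl
    (LocalizedModule.mkLinearMap 𝔭.primeCompl M) σ v
  choose! μ₁ hμ₁ using hb
  have hrel1 : LocalizedModule.mkLinearMap 𝔭.primeCompl M (∑ j ∈ σ, x j • μ₁ j) = 0 := by
    rw [map_sum]
    calc ∑ j ∈ σ, LocalizedModule.mkLinearMap 𝔭.primeCompl M (x j • μ₁ j)
        = ∑ j ∈ σ, x j • ((b : B) • v j) := Finset.sum_congr rfl (fun j hj => by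
          rw [LinearMap.map_smul_of_tower, hμ₁ j hj])
      _ = (b : B) • ∑ j ∈ σ, x j • v j := by
          rw [Finset.smul_sum]
          exact Finset.sum_congr rfl (fun j _ => smul_comm _ _ _)
      _ = 0 := by
          have : ∑ j ∈ σ, x j • v j = Finsupp.linearCombination A v x := by
            rw [Finsupp.linearCombination_apply, Finsupp.sum]
          rw [this, hx, smul_zero]
  obtain ⟨u, hu⟩ := (IsLocalizedModule.eq_zero_iff 𝔭.primeCompl
    (LocalizedModule.mkLinearMap 𝔭.primeCompl M)).mp hrel1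
  set μ : J → M := fun j => (u : B) • μ₁ j with hμdef
  set c : B := (u : B) * (b : B) with hc
  have hcS : c ∈ 𝔭.primeCompl := (u * b).2
  have hμ : ∀ j ∈ σ, LocalizedModule.mkLinearMap 𝔭.primeCompl M (μ j) = c • v j := by
    intro j hj
    rw [hμdef, map_smul, hμ₁ j hj, hc, mul_smul]
  have hrel : ∑ j ∈ σ, x j • μ j = 0 := by
    have : ∑ j ∈ σ, x j • μ j = (u : B) • ∑ j ∈ σ, x j • μ₁ j := by
      rw [Finset.smul_sum]
      exact Finset.sum_congr rfl (fun j _ => smul_comm _ _ _)
    rw [this]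
    exact hu
  -- the family
  let Λ := {𝔮 : PrimeSpectrum B' // 𝔮.asIdeal.comap (algebraMap B B') = 𝔭 ∧
    𝔮.asIdeal.comap (algebraMap A' B') = IsLocalRing.maximalIdeal A'}
  let N : Λ → Type u := fun l => LocalizedModule l.1.asIdeal.primeCompl (B' ⊗[B] M)
  haveI : ∀ l : Λ, Module.Flat A' (N l) := fun l => hflat l.1.asIdeal l.2.1 l.2.2
  let e := σ.equivFin
  let jt : Fin σ.card → J := fun t => ((e.symm t : σ) : J)
  have hjt : ∀ t, jt t ∈ σ := fun t => (e.symm t).2
  have jt_inj : Function.Injective jt := fun t₁ t₂ h =>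
    e.symm.injective (Subtype.ext h)
  have hreindex : ∀ {G : Type u} [AddCommMonoid G] (g : J → G),
      ∑ t, g (jt t) = ∑ j ∈ σ, g j := by
    intro G _ g
    rw [← Finset.sum_coe_sort σ g]
    exact Equiv.sum_comp e.symm (fun i : σ => g i)
  let xs : Fin σ.card → ∀ l : Λ, N l := fun t l =>
    LocalizedModule.mk ((1 : B') ⊗ₜ[B] μ (jt t)) (1 : l.1.asIdeal.primeCompl)
  have hmain := FamFlat1.family_linearIndependent (A' := A') N σ.card xs ?_
    (fun t => algebraMap A A' (x (jt t))) ?_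
  · have := hmain (e ⟨j, hj⟩)
    simpa [jt] using this
  · -- JI
    intro bb hbb t₀
    by_contra hbt
    obtain ⟨ϑ, hϑ, hϑ2⟩ := FamFlat5.exists_theta (A := A) hA (bb t₀) hbt
    apply hϑ2
    set n₀ : B' ⊗[B] M := ∑ t, bb t • ((1 : B') ⊗ₜ[B] μ (jt t)) with hn₀
    have H : ∀ 𝔮 : Ideal B', 𝔮.IsPrime → 𝔮.comap (algebraMap B B') = 𝔭 →
        𝔮.comap (algebraMap A' B') = IsLocalRing.maximalIdeal A' →
        ∃ t, t ∉ 𝔮 ∧ t • n₀ ∈ ((IsLocalRing.maximalIdeal A').map (algebraMap A' B')) •
          (⊤ : Submodule B' (B' ⊗[B] M)) := by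
      intro 𝔮 h𝔮 h1 h2
      haveI := h𝔮
      let l : Λ := ⟨⟨𝔮, h𝔮⟩, h1, h2⟩
      have := hbb l
      simp only [xs] at this
      rw [sum_smul_mk] at this
      exact FamFlat2.exists_smul_mem_of_mk_mem _ 𝔮 n₀ this
    have hΘ := FamFlat4.Θ_eq_zero_of_forall 𝔭 ϑ hϑ n₀ H
    rw [hn₀, Θ_sum] at hΘ
    simp only [Θ_smul_one_tmul] at hΘ
    -- lifts
    choose d hd using fun t => Ideal.Quotient.mk_surjective (ϑ (bb t))
    have hψ : ∀ t, ψ A M 𝔭 (μ (jt t)) = c • (mQ A M 𝔭).mkQ (v (jt t)) := by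
      intro t
      change (mQ A M 𝔭).mkQ (LocalizedModule.mkLinearMap 𝔭.primeCompl M (μ (jt t))) = _
      rw [hμ _ (hjt t)]
      rfl
    have h3 : c • (mQ A M 𝔭).mkQ (∑ t, d t • v (jt t)) = 0 := by
      rw [← hΘ, map_sum, Finset.smul_sum]
      refine Finset.sum_congr rfl (fun t _ => ?_)
      rw [← hd t, ρ_mk, hψ t, smul_comm]
      rfl
    have h4 : (mQ A M 𝔭).mkQ (∑ t, d t • v (jt t)) = 0 := by
      have hunit : IsUnit (algebraMap B (Localization.AtPrime 𝔭) c) :=
        IsLocalization.map_units (Localization.AtPrime 𝔭) (⟨c, hcS⟩ : 𝔭.primeCompl)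
      rw [← algebraMap_smul (Localization.AtPrime 𝔭) c] at h3
      exact hunit.smul_eq_zero.mp h3
    have h5 : ∑ t, d t • v (jt t) ∈ mQ A M 𝔭 := by
      rwa [Submodule.mkQ_apply, Submodule.Quotient.mk_eq_zero] at h4
    have h6 := FamFlat5.one_tmul_eq_zero_of_mem 𝔭 _ h5
    have h7 : ∑ t, (IsLocalRing.residue A (d t)) • w (jt t) = 0 := by
      rw [← h6, TensorProduct.tmul_sum]
      refine Finset.sum_congr rfl (fun t _ => ?_)
      rw [TensorProduct.tmul_smul, ← hv, TensorProduct.smul_tmul', TensorProduct.smul_tmul',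
        smul_eq_mul, mul_one, Algebra.smul_def, mul_one]
      rfl
    have hli := (w.linearIndependent.comp jt jt_inj)
    have := Fintype.linearIndependent_iff.mp hli _ h7 t₀
    rw [← hd t₀]
    exact this
  · -- relation
    intro l
    simp only [xs]
    rw [sum_smul_mk]
    have : ∑ t, algebraMap A A' (x (jt t)) • ((1 : B') ⊗ₜ[B] μ (jt t)) = 0 := by
      have h1 : ∀ t, algebraMap A A' (x (jt t)) • ((1 : B') ⊗ₜ[B] μ (jt t)) =
          (1 : B') ⊗ₜ[B] (x (jt t) • μ (jt t)) := by
        intro t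
        rw [algebraMap_smul]
        exact (TensorProduct.tmul_smul (x (jt t)) (1 : B') (μ (jt t))).symm
      simp only [h1]
      rw [← TensorProduct.tmul_sum, hreindex (fun j => x j • μ j), hrel, TensorProduct.tmul_zero]
    rw [this, LocalizedModule.zero_mk]

end core

/-- **FamFlat** (helper55's exact signature). -/
theorem flat_localized_of_family {A : Type u} [CommRing A] [IsLocalRing A] (hA : IsNilpotent (IsLocalRing.maximalIdeal A)) {B : Type u} [CommRing B] [Algebra A B] [IsNoetherianRing B] {M : Type u} [AddCommGroup M] [Module B M] [Module A M] [IsScalarTower A B M] [Module.Finite B M] (𝔭 : Ideal B) [𝔭.IsPrime] {ι : Type u} (A' : ι → Type u) [∀ i, CommRing (A' i)] [∀ i, IsLocalRing (A' i)] [∀ i, Algebra A (A' i)] (hu : ∀ a : A, (∀ i, algebraMap A (A' i) a = 0) → a = 0) (B' : ι → Type u) [∀ i, CommRing (B' i)] [∀ i, Algebra A (B' i)] [∀ i, Algebra (A' i) (B' i)] [∀ i, Algebra B (B' i)] [∀ i, IsScalarTower A (A' i) (B' i)] [∀ i, IsScalarTower A B (B' i)] [∀ i,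 Algebra.IsPushout A (A' i) B (B' i)] (hflat : ∀ (i : ι) (𝔮 : Ideal (B' i)) [𝔮.IsPrime], 𝔮.comap (algebraMap B (B' i)) = 𝔭 → 𝔮.comap (algebraMap (A' i) (B' i)) = IsLocalRing.maximalIdeal (A' i) → Module.Flat (A' i) (LocalizedModule 𝔮.primeCompl (B' i ⊗[B] M))) : Module.Flat A (LocalizedModule 𝔭.primeCompl M) := by
  classical
  let w := Module.Free.chooseBasis (IsLocalRing.ResidueField A)
    (IsLocalRing.ResidueField A ⊗[A] LocalizedModule 𝔭.primeCompl M)
  have ⟨v, eq⟩ := (TensorProduct.mk_surjective A (LocalizedModule 𝔭.primeCompl M)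
    (IsLocalRing.ResidueField A) Ideal.Quotient.mk_surjective).comp_left w
  have hv : ∀ j, (1 : IsLocalRing.ResidueField A) ⊗ₜ[A] v j = w j := fun j => congrFun eq j
  set i := Finsupp.linearCombination A v with hi
  have hsurj : Function.Surjective i := by
    rw [← LinearMap.range_eq_top, Finsupp.range_linearCombination]
    apply Groth.Agent.Lib.Helper6.NilpNakayama.eq_top_of_sup_smul_top_of_isNilpotent _ hA
    have hker : LinearMap.ker (TensorProduct.mk A (IsLocalRing.ResidueField A)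
        (LocalizedModule 𝔭.primeCompl M) 1) =
        IsLocalRing.maximalIdeal A • (⊤ : Submodule A (LocalizedModule 𝔭.primeCompl M)) :=
      LinearMap.ker_tensorProductMk _
    rw [← hker, ← Submodule.comap_map_eq, Submodule.map_span,
      ← Submodule.restrictScalars_span A (IsLocalRing.ResidueField A)
        Ideal.Quotient.mk_surjective,
      ← Set.range_comp]
    have : (⇑(TensorProduct.mk A (IsLocalRing.ResidueField A)
        (LocalizedModule 𝔭.primeCompl M) 1) ∘ v) = ⇑w := eq
    rw [this, w.span_eq]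
    simp
  have hinj : Function.Injective i := by
    rw [injective_iff_map_eq_zero]
    intro x hx
    ext j
    rw [Finsupp.zero_apply]
    apply hu
    intro i₀
    exact core 𝔭 hA (fun 𝔮 _ h1 h2 => hflat i₀ 𝔮 h1 h2) v w hv x hx j
  haveI : Module.Free A (LocalizedModule 𝔭.primeCompl M) :=
    Module.Free.of_equiv (LinearEquiv.ofBijective i ⟨hinj, hsurj⟩)
  infer_instance

end Groth.Agent.Lib.Helper84.FamFlat
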