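import Mathlib
import Groth.Agent.Lib.Helper89.GorBC3
import Groth.Agent.Lib.Helper85.GorRing
import Groth.Agent.Lib.Helper85.GorField

/-!
# Ascent of dualizing complexes along a field extension of the base field (helper84)

A variant of helper89's `GorBC.isDualizing_bc_of_gorenstein_fibres` where "finite type" is replaced
by finiteness of the Krull dimension of the target, and the application to `A → K ⊗[k] A`.
-/

set_option autoImplicit false
set_option linter.style.haveILetI false
universe u

open CategoryTheory CategoryTheory.Limits CategoryTheory.Pretriangulated DerivedCategory TensorProduct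

attribute [local instance] HasDerivedCategory.standard

namespace Groth.Agent.Lib.Helper84.FieldExtDual

open Groth.Agent.Lib.Helper84 Groth.Agent.Lib.Helper89.BCHom Groth.Agent.Lib.Helper89.Bass
open Groth.Agent.Lib.Helper25.Bidual Groth.Agent.Lib.Helper15.LBCFlat
open Groth.Agent.Lib.Helper89 Groth.Agent.Lib.Helper89.GorBC

section Main

variable {A B : Type u} [CommRing A] [CommRing B] [Algebra A B] [IsNoetherianRing A]
  [IsNoetherianRing B]

/-- ascent of dualizing complexes along a flat map with Gorenstein fibres and finite dimensional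
target (helper89's proof, with the finite type hypothesis replaced by `ringKrullDim B < ⊤`) -/
theorem isDualizing_bc_of_gorenstein_fibres' [Module.Flat A B] (hdimB : ringKrullDim B < ⊤)
    (hG : ∀ p : PrimeSpectrum A, LocCoh.IsGorensteinRing (B ⊗[A] p.asIdeal.ResidueField))
    [PreservesFiniteLimits (FlatBC.ext (algebraMap A B))]
    (K : Dual.D A) (hK : Dual.IsDualizing A K) :
    Dual.IsDualizing B ((FlatBC.bc (algebraMap A B)).obj K) := by
  obtain ⟨a₀, b₀, hab₀⟩ := hK.finite_injective_dimension
  have hGE₀ : K.IsGE a₀ := isGE_of_fid K a₀ b₀ hab₀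
  haveI := hGE₀
  have hGEB : ((FlatBC.bc (algebraMap A B)).obj K).IsGE a₀ := FlatBC.isGE_bc _ K a₀
  have hfinB : ∀ j : ℤ, Module.Finite B (Dual.HD B ((FlatBC.bc (algebraMap A B)).obj K) j) :=
    fun j => Groth.Agent.Lib.Helper25.TrivDual.finite_homology_bc (algebraMap A B) K j
      (hK.finite_cohomology j)
  have hflatq : ∀ q : PrimeSpectrum B, (algebraMap B (Localization.AtPrime q.asIdeal)).Flat :=
    fun q => RingHom.flat_algebraMap_iff.2 inferInstance
  haveI : ∀ q : PrimeSpectrum B, PreservesFiniteLimits
      (FlatBC.ext (algebraMap B (Localization.AtPrime q.asIdeal))) :=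
    fun q => FlatBC.preservesFiniteLimits_ext _ (hflatq q)
  refine PtDual.isDualizing_of_pointwise hdimB _ a₀ hGEB hfinB (fun q => ?_)
  -- local data
  have hφ : (Localization.localRingHom (q.asIdeal.comap (algebraMap A B)) q.asIdeal
      (algebraMap A B) rfl).Flat :=
    RingHom.Flat.localRingHom (RingHom.flat_algebraMap_iff.2 inferInstance) q.asIdeal _ rfl
  have hfp : (algebraMap A (Localization.AtPrime (q.asIdeal.comap (algebraMap A B)))).Flat :=
    RingHom.flat_algebraMap_iff.2 inferInstance
  haveI : PreservesFiniteLimits (FlatBC.ext (Localization.localRingHom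
      (q.asIdeal.comap (algebraMap A B)) q.asIdeal (algebraMap A B) rfl)) :=
    FlatBC.preservesFiniteLimits_ext _ hφ
  haveI : PreservesFiniteLimits (FlatBC.ext
      (algebraMap A (Localization.AtPrime (q.asIdeal.comap (algebraMap A B))))) :=
    FlatBC.preservesFiniteLimits_ext _ hfp
  have hKp : Dual.IsDualizing (Localization.AtPrime (q.asIdeal.comap (algebraMap A B)))
      ((FlatBC.bc (algebraMap A (Localization.AtPrime (q.asIdeal.comap (algebraMap A B))))).obj K) :=
    isDualizing_of_iso ((lbcFlatIso _).app K)
      (Groth.Agent.S1775.result A (q.asIdeal.comap (algebraMap A B)).primeCompl K hK)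
  have h1 := local_main (Localization.localRingHom (q.asIdeal.comap (algebraMap A B)) q.asIdeal
      (algebraMap A B) rfl) hφ (gor_closedFibre A B hG q.asIdeal) _ hKp
  have hcomp : (Localization.localRingHom (q.asIdeal.comap (algebraMap A B)) q.asIdeal
      (algebraMap A B) rfl).comp
        (algebraMap A (Localization.AtPrime (q.asIdeal.comap (algebraMap A B)))) =
      (algebraMap B (Localization.AtPrime q.asIdeal)).comp (algebraMap A B) :=
    RingHom.ext fun x => by
      rw [RingHom.comp_apply, Localization.localRingHom_to_map]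
      rfl
  refine isDualizing_of_iso ?_ h1
  exact ((lbcFlatIso _).app _).symm ≪≫
    (DRing.LBaseChange (Localization.localRingHom (q.asIdeal.comap (algebraMap A B)) q.asIdeal
      (algebraMap A B) rfl)).mapIso ((lbcFlatIso _).app K).symm ≪≫
    (lbcComp _ _).app K ≪≫ (lbcOfEq hcomp).app K ≪≫
    ((lbcComp (algebraMap A B) (algebraMap B (Localization.AtPrime q.asIdeal))).app K).symm ≪≫
    (DRing.LBaseChange (algebraMap B (Localization.AtPrime q.asIdeal))).mapIso
      ((lbcFlatIso _).app K) ≪≫ (lbcFlatIso _).app _

end Main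

section FieldExt

variable (k K A : Type u) [Field k] [Field K] [Algebra k K] [CommRing A] [Algebra k A]

attribute [local instance] Algebra.TensorProduct.rightAlgebra

/-- `K ⊗[k] A ≃ A ⊗[k] K` as `A`-algebras (`A` acting on the right factor of the source). -/
noncomputable def commA : (K ⊗[k] A) ≃ₐ[A] (A ⊗[k] K) :=
  { Algebra.TensorProduct.comm k K A with
    commutes' := fun a => by
      change Algebra.TensorProduct.comm k K A ((1 : K) ⊗ₜ[k] a) = a ⊗ₜ[k] (1 : K)
      simp }

/-- the residue fields of a finite type algebra over a field are finitely generated field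
extensions -/
theorem residueField_fg [Algebra.FiniteType k A] (p : PrimeSpectrum A) :
    ∃ s : Finset p.asIdeal.ResidueField,
      IntermediateField.adjoin k (s : Set p.asIdeal.ResidueField) = ⊤ := by
  haveI : Algebra.EssFiniteType A (Localization.AtPrime p.asIdeal) :=
    Algebra.EssFiniteType.of_isLocalization _ p.asIdeal.primeCompl
  haveI : Algebra.EssFiniteType k (Localization.AtPrime p.asIdeal) :=
    Algebra.EssFiniteType.comp k A _
  haveI : Algebra.EssFiniteType k p.asIdeal.ResidueField :=
    Algebra.EssFiniteType.comp k (Localization.AtPrime p.asIdeal) _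
  exact IntermediateField.fg_top (F := k) (E := p.asIdeal.ResidueField)

/-- the fibres of `A → K ⊗[k] A` are Gorenstein -/
theorem gorRing_fibre [Algebra.FiniteType k A] (p : PrimeSpectrum A) :
    LocCoh.IsGorensteinRing ((K ⊗[k] A) ⊗[A] p.asIdeal.ResidueField) := by
  haveI : LocCoh.IsGorensteinLocalRing K :=
    Groth.Agent.Lib.Helper85.GorRing.gor_of_isField K (Field.toIsField K)
  haveI : LocCoh.IsGorensteinRing K := Groth.Agent.Lib.Helper85.GorRing.gorRing_of_gorLocal K
  haveI h0 : LocCoh.IsGorensteinRing (p.asIdeal.ResidueField ⊗[k] K) :=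
    Groth.Agent.Lib.Helper85.GorField.gorBC_of_fg k p.asIdeal.ResidueField
      (residueField_fg k A p) K inferInstance
  let e1 : p.asIdeal.ResidueField ⊗[A] (A ⊗[k] K) ≃ₐ[A] p.asIdeal.ResidueField ⊗[k] K :=
    Algebra.TensorProduct.cancelBaseChange k A A p.asIdeal.ResidueField K
  let e2 : p.asIdeal.ResidueField ⊗[A] (K ⊗[k] A) ≃ₐ[A]
      p.asIdeal.ResidueField ⊗[A] (A ⊗[k] K) :=
    Algebra.TensorProduct.congr AlgEquiv.refl (commA k K A)
  let e3 : (K ⊗[k] A) ⊗[A] p.asIdeal.ResidueField ≃ₐ[A]
      p.asIdeal.ResidueField ⊗[A] (K ⊗[k] A) :=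
    Algebra.TensorProduct.comm A _ _
  exact Groth.Agent.Lib.Helper85.GorRing.gorRing_of_ringEquiv
    ((e3.trans (e2.trans e1)).symm.toRingEquiv)

end FieldExt

section Assembly

variable (k K A : Type u) [Field k] [Field K] [Algebra k K] [CommRing A] [Algebra k A]
  [Algebra.FiniteType k A]

attribute [local instance] Algebra.TensorProduct.rightAlgebra

/-- `A → K ⊗[k] A` is flat -/
theorem flat_includeRight : Module.Flat A (K ⊗[k] A) := by
  have h : (algebraMap k K).Flat := RingHom.flat_algebraMap_iff.2 inferInstance
  have := RingHom.Flat.isStableUnderBaseChange k K A (K ⊗[k] A) h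
  exact RingHom.flat_algebraMap_iff.1 this

theorem ringKrullDim_lt_top : ringKrullDim (K ⊗[k] A) < ⊤ := by
  refine ringKrullDim_lt_top_of_finiteType (A := K) (B := K ⊗[k] A) ?_
  rw [ringKrullDim_eq_zero_of_field]
  exact WithBot.coe_lt_coe.2 (by simp)

/-- ascent of dualizing complexes along `A → K ⊗[k] A` for a finite type `k`-algebra `A`. -/
theorem isDualizing_LBaseChange_fieldExtension
    [DRing.HasLBaseChange (Algebra.TensorProduct.includeRight : A →ₐ[k] K ⊗[k] A).toRingHom]
    (ω : Dual.D A) (hω : Dual.IsDualizing A ω) :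
    Dual.IsDualizing (K ⊗[k] A)
      ((DRing.LBaseChange (Algebra.TensorProduct.includeRight : A →ₐ[k] K ⊗[k] A).toRingHom).obj ω) := by
  haveI : IsNoetherianRing A := Algebra.FiniteType.isNoetherianRing k A
  haveI : IsNoetherianRing (K ⊗[k] A) := Algebra.FiniteType.isNoetherianRing K (K ⊗[k] A)
  haveI : Module.Flat A (K ⊗[k] A) := flat_includeRight k K A
  have hflat : (algebraMap A (K ⊗[k] A)).Flat := RingHom.flat_algebraMap_iff.2 inferInstance
  haveI : PreservesFiniteLimits (FlatBC.ext (algebraMap A (K ⊗[k] A))) :=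
    FlatBC.preservesFiniteLimits_ext _ hflat
  haveI : DRing.HasLBaseChange (algebraMap A (K ⊗[k] A)) :=
    (inferInstance : DRing.HasLBaseChange
      (Algebra.TensorProduct.includeRight : A →ₐ[k] K ⊗[k] A).toRingHom)
  have e := (lbcFlatIso (algebraMap A (K ⊗[k] A))).app ω
  exact isDualizing_of_iso e.symm
    (isDualizing_bc_of_gorenstein_fibres' (ringKrullDim_lt_top k K A)
      (fun p => gorRing_fibre k K A p) ω hω)

end Assembly

end Groth.Agent.Lib.Helper84.FieldExtDual
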