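import Mathlib

/-!
# Splittings of `Γ`-filtrations of finite projective modules (helper84)

Library for S19154: an antitone `Γ`-filtration `F` of a finite module `M` is split by a grading
iff all graded pieces are finite projective and the fibrewise dimension formula holds.
-/

namespace Groth.Agent.Lib.Helper84.FiltSplit

open Module Submodule TensorProduct

section VS

variable {K V : Type*} [Field K] [AddCommGroup V] [Module K V] [FiniteDimensional K V]
variable {Γ : Type*} [LinearOrder Γ]

/-- The `γ`-th jump of a filtration of a finite dimensional vector space. -/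
noncomputable def jump (Fx : Γ → Submodule K V) (γ : Γ) : ℕ :=
  finrank K ↥(Fx γ) - finrank K ↥(⨆ η ∈ Set.Ioi γ, Fx η)

omit [FiniteDimensional K V] in
lemma iSup_Ioi_le (Fx : Γ → Submodule K V) (hFx : Antitone Fx) (γ : Γ) :
    (⨆ η ∈ Set.Ioi γ, Fx η) ≤ Fx γ :=
  iSup₂_le fun _ hη => hFx (le_of_lt hη)

lemma sum_jump_le (Fx : Γ → Submodule K V) (hFx : Antitone Fx) (S : Finset Γ) :
    ∀ a, (∀ s ∈ S, a < s) →
      ∑ γ ∈ S, jump Fx γ ≤ finrank K ↥(⨆ η ∈ Set.Ioi a, Fx η) := by
  classical
  induction S using Finset.induction_on_min with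
  | empty => intro a _; simp
  | insert b S hb ih =>
    intro a ha
    have hab : a < b := ha b (Finset.mem_insert_self _ _)
    have hbS : b ∉ S := fun h => lt_irrefl _ (hb b h)
    rw [Finset.sum_insert hbS]
    have h1 := ih b hb
    have h2 : finrank K ↥(⨆ η ∈ Set.Ioi b, Fx η) ≤ finrank K ↥(Fx b) :=
      Submodule.finrank_mono (iSup_Ioi_le Fx hFx b)
    have h3 : finrank K ↥(Fx b) ≤ finrank K ↥(⨆ η ∈ Set.Ioi a, Fx η) :=
      Submodule.finrank_mono (le_iSup₂_of_le b hab le_rfl)
    have hj : jump Fx b = finrank K ↥(Fx b) - finrank K ↥(⨆ η ∈ Set.Ioi b, Fx η) := rfl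
    omega

lemma exists_lt_finset [NoMinOrder Γ] [Nonempty Γ] (S : Finset Γ) : ∃ a, ∀ s ∈ S, a < s := by
  rcases S.eq_empty_or_nonempty with rfl | hne
  · exact ⟨Classical.arbitrary Γ, by simp⟩
  · obtain ⟨a, ha⟩ := exists_lt (S.min' hne)
    exact ⟨a, fun s hs => lt_of_lt_of_le ha (Finset.min'_le S s hs)⟩

lemma exists_gt_finset [NoMaxOrder Γ] [Nonempty Γ] (S : Finset Γ) : ∃ a, ∀ s ∈ S, s < a := by
  rcases S.eq_empty_or_nonempty with rfl | hne
  · exact ⟨Classical.arbitrary Γ, by simp⟩
  · obtain ⟨a, ha⟩ := exists_gt (S.max' hne)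
    exact ⟨a, fun s hs => lt_of_le_of_lt (Finset.le_max' S s hs) ha⟩

/-- If the dimension formula holds and each `Fx γ` is generated by `W γ` and the higher steps, then
the `W γ` span everything. -/
lemma iSup_eq_top_of_finrank_eq_finsum [NoMinOrder Γ] [Nonempty Γ]
    (Fx : Γ → Submodule K V) (hFx : Antitone Fx)
    (W : Γ → Submodule K V) (hW : ∀ γ, Fx γ = W γ ⊔ ⨆ η ∈ Set.Ioi γ, Fx η)
    (h : finrank K V = ∑ᶠ γ, jump Fx γ) : (⨆ γ, W γ) = ⊤ := by
  classical
  set U : Submodule K V := ⨆ γ, W γ with hU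
  let Fx' : Γ → Submodule K V := fun γ => Fx γ ⊓ U
  have hFx' : Antitone Fx' := fun a b hab => inf_le_inf_right U (hFx hab)
  have hjump : ∀ γ, jump Fx γ ≤ jump Fx' γ := by
    intro γ
    set P : Submodule K V := ⨆ η ∈ Set.Ioi γ, Fx η with hP
    set P' : Submodule K V := ⨆ η ∈ Set.Ioi γ, Fx' η with hP'
    set A : Submodule K V := Fx γ ⊓ U with hA
    have hPle : P ≤ Fx γ := iSup_Ioi_le Fx hFx γ
    have hWA : W γ ≤ A := le_inf (by rw [hW γ]; exact le_sup_left) (le_iSup W γ)
    have hsup : Fx γ = A ⊔ P := by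
      apply le_antisymm
      · conv_lhs => rw [hW γ]
        exact sup_le (hWA.trans le_sup_left) le_sup_right
      · exact sup_le inf_le_left hPle
    have hP'le : P' ≤ A ⊓ P := by
      refine iSup₂_le fun η hη => ?_
      refine le_inf (le_inf ?_ inf_le_right) ?_
      · exact inf_le_left.trans (hFx (le_of_lt hη))
      · exact inf_le_left.trans (le_iSup₂_of_le η hη le_rfl)
    have e1 := Submodule.finrank_sup_add_finrank_inf_eq A P
    have e2 : finrank K ↥P' ≤ finrank K ↥(A ⊓ P) := Submodule.finrank_mono hP'le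
    have e3 : finrank K ↥(A ⊓ P) ≤ finrank K ↥A := Submodule.finrank_mono inf_le_left
    have e4 : finrank K ↥P ≤ finrank K ↥(Fx γ) := Submodule.finrank_mono hPle
    have e5 : finrank K ↥(Fx γ) = finrank K ↥(A ⊔ P) := by rw [← hsup]
    show finrank K ↥(Fx γ) - finrank K ↥P ≤ finrank K ↥A - finrank K ↥P'
    omega
  have hle : finrank K V ≤ finrank K ↥U := by
    by_cases hfin : (Function.support (jump Fx)).Finite
    · rw [h, finsum_eq_sum_of_support_subset _ (s := hfin.toFinset) (by simp)]
      obtain ⟨a, ha⟩ := exists_lt_finset hfin.toFinset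
      calc ∑ γ ∈ hfin.toFinset, jump Fx γ ≤ ∑ γ ∈ hfin.toFinset, jump Fx' γ :=
            Finset.sum_le_sum fun γ _ => hjump γ
        _ ≤ finrank K ↥(⨆ η ∈ Set.Ioi a, Fx' η) := sum_jump_le Fx' hFx' _ a ha
        _ ≤ finrank K ↥U := Submodule.finrank_mono (iSup₂_le fun η _ => inf_le_right)
    · rw [h, finsum_of_infinite_support hfin]
      exact Nat.zero_le _
  exact Submodule.eq_top_of_finrank_eq (le_antisymm (Submodule.finrank_le U) hle)

/-- Telescoping: for a filtration coming from finitely many nonzero pieces spanning `V`, the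
dimension formula holds. -/
lemma finsum_jump_eq (W : Γ → Submodule K V) (S₀ : Finset Γ) (hW : ∀ γ ∉ S₀, W γ = ⊥)
    (htop : (⨆ γ, W γ) = ⊤) :
    ∑ᶠ γ, jump (fun γ => ⨆ η ∈ Set.Ici γ, W η) γ = finrank K V := by
  classical
  set Fx : Γ → Submodule K V := fun γ => ⨆ η ∈ Set.Ici γ, W η with hFx
  have hplus : ∀ γ, (⨆ η ∈ Set.Ioi γ, Fx η) = ⨆ η ∈ Set.Ioi γ, W η := by
    intro γ
    apply le_antisymm
    · refine iSup₂_le fun η hη => iSup₂_le fun ζ hζ => ?_
      exact le_iSup₂ (f := fun η _ => W η) ζ (lt_of_lt_of_le hη hζ)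
    · refine iSup₂_le fun η hη => ?_
      refine le_trans ?_ (le_iSup₂ (f := fun η _ => Fx η) η hη)
      exact le_iSup₂ (f := fun ζ _ => W ζ) η (Set.mem_Ici.mpr le_rfl)
  have hzero : ∀ γ ∉ S₀, jump Fx γ = 0 := by
    intro γ hγ
    have : Fx γ ≤ ⨆ η ∈ Set.Ioi γ, Fx η := by
      rw [hplus]
      refine iSup₂_le fun η hη => ?_
      rcases eq_or_lt_of_le (Set.mem_Ici.mp hη) with rfl | hlt
      · rw [hW _ hγ]; exact bot_le
      · exact le_iSup₂ (f := fun η _ => W η) η hlt
    have := Submodule.finrank_mono this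
    unfold jump
    omega
  have hsupp : Function.support (jump Fx) ⊆ ↑S₀ := by
    intro γ hγ
    by_contra hn
    exact hγ (hzero γ hn)
  rw [finsum_eq_sum_of_support_subset _ hsupp]
  have key : ∀ T : Finset Γ, T ⊆ S₀ → (∀ s ∈ S₀, ∀ t ∈ T, t ≤ s → s ∈ T) →
      ∑ γ ∈ T, jump Fx γ = finrank K ↥(⨆ η ∈ T, W η) := by
    intro T
    induction T using Finset.induction_on_min with
    | empty =>
      intro _ _
      have : (⨆ η ∈ (∅ : Finset Γ), W η) = ⊥ := by simp
      rw [this, finrank_bot, Finset.sum_empty]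
    | insert a s ha ih =>
      intro hsub hup
      have haS : a ∉ s := fun h => lt_irrefl _ (ha a h)
      have hsub' : s ⊆ S₀ := fun x hx => hsub (Finset.mem_insert_of_mem hx)
      have hup' : ∀ x ∈ S₀, ∀ t ∈ s, t ≤ x → x ∈ s := by
        intro x hx t ht htx
        rcases Finset.mem_insert.mp (hup x hx t (Finset.mem_insert_of_mem ht) htx) with rfl | h
        · exact absurd (ha t ht) (not_lt.mpr htx)
        · exact h
      rw [Finset.sum_insert haS, ih hsub' hup']
      have hX : Fx a = ⨆ η ∈ insert a s, W η := by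
        apply le_antisymm
        · refine iSup₂_le fun η hη => ?_
          by_cases hηS : η ∈ S₀
          · exact le_iSup₂ (f := fun η _ => W η) η
              (hup η hηS a (Finset.mem_insert_self _ _) (Set.mem_Ici.mp hη))
          · rw [hW η hηS]; exact bot_le
        · refine iSup₂_le fun η hη => ?_
          rcases Finset.mem_insert.mp hη with rfl | hηs
          · exact le_iSup₂ (f := fun ζ _ => W ζ) η (Set.mem_Ici.mpr le_rfl)
          · exact le_iSup₂ (f := fun ζ _ => W ζ) η (Set.mem_Ici.mpr (le_of_lt (ha η hηs)))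
      have hY : (⨆ η ∈ Set.Ioi a, Fx η) = ⨆ η ∈ s, W η := by
        rw [hplus]
        apply le_antisymm
        · refine iSup₂_le fun η hη => ?_
          by_cases hηS : η ∈ S₀
          · have := hup η hηS a (Finset.mem_insert_self _ _) (le_of_lt (Set.mem_Ioi.mp hη))
            rcases Finset.mem_insert.mp this with rfl | h
            · exact absurd (Set.mem_Ioi.mp hη) (lt_irrefl _)
            · exact le_iSup₂ (f := fun η _ => W η) η h
          · rw [hW η hηS]; exact bot_le
        · exact iSup₂_le fun η hη => le_iSup₂ (f := fun ζ _ => W ζ) η (Set.mem_Ioi.mpr (ha η hη))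
      have hle : finrank K ↥(⨆ η ∈ s, W η) ≤ finrank K ↥(⨆ η ∈ insert a s, W η) :=
        Submodule.finrank_mono (iSup₂_le fun η hη =>
          le_iSup₂ (f := fun ζ _ => W ζ) η (Finset.mem_insert_of_mem hη))
      show finrank K ↥(Fx a) - finrank K ↥(⨆ η ∈ Set.Ioi a, Fx η) + _ = _
      rw [hX, hY]
      omega
  rw [key S₀ subset_rfl (fun s hs _ _ _ => hs)]
  have : (⨆ η ∈ S₀, W η) = ⊤ := by
    rw [← htop]
    apply le_antisymm
    · exact iSup₂_le fun η _ => le_iSup W η
    · refine iSup_le fun η => ?_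
      by_cases hη : η ∈ S₀
      · exact le_iSup₂ (f := fun ζ _ => W ζ) η hη
      · rw [hW η hη]; exact bot_le
  rw [this, finrank_top]

end VS

section BC

variable {R M : Type*} [CommRing R] [AddCommGroup M] [Module R M]

lemma baseChange_iSup (A : Type*) [CommRing A] [Algebra R A] {ι : Sort*}
    (p : ι → Submodule R M) : (⨆ i, p i).baseChange A = ⨆ i, (p i).baseChange A := by
  apply le_antisymm
  · rw [baseChange_eq_span, span_le]
    rintro _ ⟨m, hm, rfl⟩
    simp only [SetLike.mem_coe] at hm ⊢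
    refine Submodule.iSup_induction p
      (motive := fun m => (TensorProduct.mk R A M 1) m ∈ ⨆ i, (p i).baseChange A) hm ?_ ?_ ?_
    · intro i x hx
      exact (le_iSup (fun i => (p i).baseChange A) i) (tmul_mem_baseChange_of_mem 1 hx)
    · simp
    · intro x y hx hy
      rw [map_add]
      exact add_mem hx hy
  · exact iSup_le fun i => baseChange_mono A (le_iSup p i)

lemma baseChange_sup (A : Type*) [CommRing A] [Algebra R A]
    (p q : Submodule R M) : (p ⊔ q).baseChange A = p.baseChange A ⊔ q.baseChange A := by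
  rw [sup_eq_iSup, baseChange_iSup, sup_eq_iSup]
  congr 1
  funext b
  cases b <;> rfl

lemma baseChange_biSup (A : Type*) [CommRing A] [Algebra R A] {ι : Type*} (s : Set ι)
    (p : ι → Submodule R M) :
    (⨆ i ∈ s, p i).baseChange A = ⨆ i ∈ s, (p i).baseChange A := by
  rw [baseChange_iSup]
  congr 1
  funext i
  rw [baseChange_iSup]

/-- Nakayama: a submodule of a finite module which is everything on all fibres is everything. -/
lemma eq_top_of_forall_baseChange_eq_top [Module.Finite R M] (U : Submodule R M)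
    (h : ∀ p : PrimeSpectrum R, U.baseChange p.asIdeal.ResidueField = ⊤) : U = ⊤ := by
  have hsub : Subsingleton (M ⧸ U) := by
    rw [← Module.support_eq_empty_iff (R := R), Set.eq_empty_iff_forall_notMem]
    intro p hp
    rw [Module.mem_support_iff_nontrivial_residueField_tensorProduct] at hp
    have : Subsingleton (p.asIdeal.ResidueField ⊗[R] (M ⧸ U)) := by
      suffices H : ∀ z : p.asIdeal.ResidueField ⊗[R] (M ⧸ U), z = 0 from
        ⟨fun x y => by rw [H x, H y]⟩
      intro z
      have hsurj : Function.Surjective (U.mkQ.baseChange p.asIdeal.ResidueField) :=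
        LinearMap.lTensor_surjective _ U.mkQ_surjective
      obtain ⟨y, rfl⟩ := hsurj z
      have hy : y ∈ U.baseChange p.asIdeal.ResidueField := by rw [h p]; trivial
      obtain ⟨w, rfl⟩ := hy
      rw [← LinearMap.comp_apply, ← LinearMap.baseChange_comp]
      have : U.mkQ ∘ₗ U.subtype = 0 := by ext x; simp
      rw [this, LinearMap.baseChange_zero]
      rfl
    exact not_nontrivial _ hp
  exact Submodule.Quotient.subsingleton_iff.mp hsub

end BC

section Main

variable {Γ : Type*} [AddCommGroup Γ] [LinearOrder Γ] [IsOrderedAddMonoid Γ] [Nontrivial Γ]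
variable {R : Type*} [CommRing R] {M : Type*} [AddCommGroup M] [Module R M]

/-- (4) ⇒ (1). -/
theorem split_of_gr_projective [Module.Finite R M]
    (F : Γ → Submodule R M) (hF : Antitone F)
    (Fp : Γ → Submodule R M) (hFp : ∀ γ, Fp γ = ⨆ η ∈ Set.Ioi γ, F η)
    (hproj : ∀ γ, Module.Projective R (↥(F γ) ⧸ Submodule.comap (F γ).subtype (Fp γ)))
    (hdim : ∀ p : PrimeSpectrum R,
      finrank p.asIdeal.ResidueField (p.asIdeal.ResidueField ⊗[R] M) =
        ∑ᶠ γ, jump (fun γ => (F γ).baseChange p.asIdeal.ResidueField) γ) :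
    ∃ G : Γ → Submodule R M, DirectSum.IsInternal G ∧ ∀ γ, F γ = ⨆ η ∈ Set.Ici γ, G η := by
  classical
  have hFpF : ∀ γ, Fp γ ≤ F γ := fun γ => by
    rw [hFp]; exact iSup₂_le fun η hη => hF (le_of_lt hη)
  have hsec : ∀ γ, ∃ s : (↥(F γ) ⧸ Submodule.comap (F γ).subtype (Fp γ)) →ₗ[R] ↥(F γ),
      (Submodule.mkQ (Submodule.comap (F γ).subtype (Fp γ))) ∘ₗ s = LinearMap.id := fun γ => by
    haveI := hproj γ
    exact Module.projective_lifting_property _ _ (Submodule.mkQ_surjective _)
  choose s hs using hsec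
  let G : Γ → Submodule R M := fun γ => LinearMap.range ((F γ).subtype ∘ₗ s γ)
  have hGF : ∀ γ, G γ ≤ F γ := by
    rintro γ _ ⟨q, rfl⟩
    exact (s γ q).2
  have hsq : ∀ γ q, Submodule.Quotient.mk (p := Submodule.comap (F γ).subtype (Fp γ)) (s γ q) = q := by
    intro γ q
    have h2 := LinearMap.congr_fun (hs γ) q
    simpa using h2
  have hGFp : ∀ γ x, x ∈ G γ → x ∈ Fp γ → x = 0 := by
    rintro γ _ ⟨q, rfl⟩ hx
    have h1 : Submodule.Quotient.mk (p := Submodule.comap (F γ).subtype (Fp γ)) (s γ q) = 0 := by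
      rw [Submodule.Quotient.mk_eq_zero]; exact hx
    rw [hsq] at h1
    rw [h1]; simp
  have hFsup : ∀ γ, F γ ≤ G γ ⊔ Fp γ := by
    intro γ x hx
    set q := Submodule.Quotient.mk (p := Submodule.comap (F γ).subtype (Fp γ)) ⟨x, hx⟩ with hq
    have h3 : (⟨x, hx⟩ : F γ) - s γ q ∈ Submodule.comap (F γ).subtype (Fp γ) := by
      rw [← Submodule.Quotient.mk_eq_zero, Submodule.Quotient.mk_sub, hsq, ← hq, sub_self]
    have h4 : x - ((s γ q : F γ) : M) ∈ Fp γ := h3
    have : x = ((s γ q : F γ) : M) + (x - ((s γ q : F γ) : M)) := by abel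
    rw [this]
    exact Submodule.add_mem_sup ⟨q, rfl⟩ h4
  have hU : ∀ (S : Finset Γ) (v : Γ → M), (∀ i ∈ S, v i ∈ G i) → ∀ γ, ∑ i ∈ S, v i ∈ F γ →
      ∀ i ∈ S, i < γ → v i = 0 := by
    intro S
    induction S using Finset.induction_on_min with
    | empty => simp
    | insert a S ha ih =>
      intro v hv γ hsum i hi hiγ
      have haS : a ∉ S := fun h => lt_irrefl _ (ha a h)
      rw [Finset.sum_insert haS] at hsum
      by_cases haγ : a < γ
      · have hrest : ∑ i ∈ S, v i ∈ Fp a := by
          refine Submodule.sum_mem _ fun j hj => ?_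
          rw [hFp]
          exact (le_iSup₂ (f := fun η _ => F η) j (ha j hj))
            (hGF j (hv j (Finset.mem_insert_of_mem hj)))
        have htot : v a + ∑ i ∈ S, v i ∈ Fp a := by
          rw [hFp]; exact (le_iSup₂ (f := fun η _ => F η) γ haγ) hsum
        have hva : v a ∈ Fp a := by
          have := Submodule.sub_mem _ htot hrest
          simpa using this
        have hva0 : v a = 0 := hGFp a _ (hv a (Finset.mem_insert_self _ _)) hva
        rw [hva0, zero_add] at hsum
        rcases Finset.mem_insert.mp hi with rfl | hi'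
        · exact hva0
        · exact ih v (fun j hj => hv j (Finset.mem_insert_of_mem hj)) γ hsum i hi' hiγ
      · exfalso
        rcases Finset.mem_insert.mp hi with rfl | hi'
        · exact haγ hiγ
        · exact haγ (lt_trans (ha i hi') hiγ)
  have hind : iSupIndep G := by
    rw [iSupIndep_iff_finsetSum_eq_zero_imp_eq_zero]
    intro S v hv hsum i hi
    obtain ⟨γ, hγ⟩ := exists_gt_finset S
    exact hU S v hv γ (by rw [hsum]; exact zero_mem _) i hi (hγ i hi)
  have htop : (⨆ γ, G γ) = ⊤ := by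
    apply eq_top_of_forall_baseChange_eq_top
    intro p
    rw [baseChange_iSup]
    refine iSup_eq_top_of_finrank_eq_finsum (fun γ => (F γ).baseChange p.asIdeal.ResidueField)
      (fun a b hab => baseChange_mono _ (hF hab))
      (fun γ => (G γ).baseChange p.asIdeal.ResidueField) ?_ (hdim p)
    intro γ
    have hFeq : F γ = G γ ⊔ Fp γ := le_antisymm (hFsup γ) (sup_le (hGF γ) (hFpF γ))
    show (F γ).baseChange _ = (G γ).baseChange _ ⊔ ⨆ η ∈ Set.Ioi γ, (F η).baseChange _
    conv_lhs => rw [hFeq]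
    rw [baseChange_sup, hFp, baseChange_biSup]
  refine ⟨G, DirectSum.isInternal_submodule_of_iSupIndep_of_iSup_eq_top hind htop, fun γ =>
    le_antisymm ?_ (iSup₂_le fun η hη => (hGF η).trans (hF hη))⟩
  intro x hx
  have hx' : x ∈ ⨆ γ, G γ := by rw [htop]; trivial
  obtain ⟨f, hf, rfl⟩ := (Submodule.mem_iSup_iff_exists_finsupp _ _).mp hx'
  have h0 := hU f.support f (fun i _ => hf i) γ hx
  refine Submodule.sum_mem _ fun i hi => ?_
  by_cases hiγ : i < γ
  · rw [h0 i hi hiγ]; exact zero_mem _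
  · exact (le_iSup₂ (f := fun η _ => G η) i (not_lt.mp hiγ)) (hf i)

/-- (1) ⇒ (4). -/
theorem gr_projective_of_split [Module.Finite R M] [Module.Projective R M]
    (F : Γ → Submodule R M) (Fp : Γ → Submodule R M) (hFp : ∀ γ, Fp γ = ⨆ η ∈ Set.Ioi γ, F η)
    (G : Γ → Submodule R M) (hG : DirectSum.IsInternal G)
    (hFG : ∀ γ, F γ = ⨆ η ∈ Set.Ici γ, G η) :
    (∀ γ, Module.Finite R (↥(F γ) ⧸ Submodule.comap (F γ).subtype (Fp γ)) ∧
        Module.Projective R (↥(F γ) ⧸ Submodule.comap (F γ).subtype (Fp γ))) ∧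
      ∀ p : PrimeSpectrum R,
        finrank p.asIdeal.ResidueField (p.asIdeal.ResidueField ⊗[R] M) =
          ∑ᶠ γ, jump (fun γ => (F γ).baseChange p.asIdeal.ResidueField) γ := by
  classical
  have hFpG : ∀ γ, Fp γ = ⨆ η ∈ Set.Ioi γ, G η := by
    intro γ
    rw [hFp]
    apply le_antisymm
    · refine iSup₂_le fun η hη => ?_
      rw [hFG]
      exact iSup₂_le fun ζ hζ => le_iSup₂ (f := fun η _ => G η) ζ (lt_of_lt_of_le hη hζ)
    · refine iSup₂_le fun η hη => ?_
      refine le_trans ?_ (le_iSup₂ (f := fun η _ => F η) η hη)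
      rw [hFG]
      exact le_iSup₂ (f := fun ζ _ => G ζ) η (Set.mem_Ici.mpr le_rfl)
  have hind := hG.submodule_iSupIndep
  have htop := hG.submodule_iSup_eq_top
  have hGF : ∀ γ, G γ ≤ F γ := fun γ => by
    rw [hFG]; exact le_iSup₂ (f := fun ζ _ => G ζ) γ (Set.mem_Ici.mpr le_rfl)
  refine ⟨fun γ => ?_, fun p => ?_⟩
  · set C : Submodule R M := ⨆ η ≠ γ, G η with hC
    have hcompl : IsCompl (G γ) C := by
      refine ⟨hind γ, codisjoint_iff.mpr (eq_top_iff.mpr ?_)⟩
      rw [← htop]
      refine iSup_le fun η => ?_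
      by_cases hη : η = γ
      · subst hη; exact le_sup_left
      · exact le_trans (le_iSup₂ (f := fun η _ => G η) η hη) le_sup_right
    have hFpC : Fp γ ≤ C := by
      rw [hFpG]
      exact iSup₂_le fun η hη => le_iSup₂ (f := fun η _ => G η) η (ne_of_gt hη)
    have hFle : F γ ≤ G γ ⊔ Fp γ := by
      rw [hFG, hFpG]
      refine iSup₂_le fun η hη => ?_
      rcases eq_or_lt_of_le (Set.mem_Ici.mp hη) with rfl | hlt
      · exact le_sup_left
      · exact le_trans (le_iSup₂ (f := fun η _ => G η) η hlt) le_sup_right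
    let π := Submodule.projectionOnto (G γ) C hcompl
    let f : ↥(F γ) →ₗ[R] ↥(G γ) := π ∘ₗ (F γ).subtype
    have hsurj : Function.Surjective f := by
      intro g
      refine ⟨⟨g, hGF γ g.2⟩, ?_⟩
      exact Submodule.projectionOnto_apply_left hcompl g
    have hker : LinearMap.ker f = Submodule.comap (F γ).subtype (Fp γ) := by
      ext x
      rw [LinearMap.mem_ker, Submodule.mem_comap]
      show π x = 0 ↔ (x : M) ∈ Fp γ
      rw [Submodule.projectionOnto_apply_eq_zero_iff]
      constructor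
      · intro hxC
        obtain ⟨g, hg, y, hy, hxy⟩ := Submodule.mem_sup.mp (hFle x.2)
        have hgC : g ∈ C := by
          have : g = (x : M) - y := by rw [← hxy]; abel
          rw [this]
          exact Submodule.sub_mem _ hxC (hFpC hy)
        have hg0 : g = 0 := by
          have := (Submodule.disjoint_def.mp (hind γ)) g hg hgC
          exact this
        rw [← hxy, hg0, zero_add]
        exact hy
      · exact fun h => hFpC h
    let e : (↥(F γ) ⧸ Submodule.comap (F γ).subtype (Fp γ)) ≃ₗ[R] ↥(G γ) :=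
      (Submodule.quotEquivOfEq _ _ hker.symm).trans (f.quotKerEquivOfSurjective hsurj)
    haveI : Module.Finite R ↥(G γ) :=
      Module.Finite.of_surjective π (Submodule.projectionOnto_surjective hcompl)
    haveI : Module.Projective R ↥(G γ) :=
      Module.Projective.of_split (G γ).subtype π (Submodule.projectionOnto_comp_subtype hcompl)
    exact ⟨Module.Finite.equiv e.symm, Module.Projective.of_equiv e.symm⟩
  · obtain ⟨S₀, hS₀⟩ : ∃ S₀ : Finset Γ, ∀ γ ∉ S₀, G γ = ⊥ := by
      have hc : IsCompactElement (⊤ : Submodule R M) :=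
        (Submodule.fg_iff_compact ⊤).mp Module.Finite.fg_top
      obtain ⟨S₀, hS₀⟩ := CompleteLattice.IsCompactElement.exists_finset_of_le_iSup (Submodule R M) hc G (le_of_eq htop.symm)
      refine ⟨S₀, fun γ hγ => ?_⟩
      have h1 : G γ ≤ ⨆ η ≠ γ, G η :=
        le_top.trans (hS₀.trans (iSup₂_le fun η hη =>
          le_iSup₂ (f := fun η _ => G η) η (by rintro rfl; exact hγ hη)))
      exact (hind γ).eq_bot_of_le h1
    have hfun : (fun γ => (F γ).baseChange p.asIdeal.ResidueField) =
        fun γ => ⨆ η ∈ Set.Ici γ, (G η).baseChange p.asIdeal.ResidueField := by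
      funext γ
      rw [hFG, baseChange_biSup]
    rw [hfun]
    symm
    apply finsum_jump_eq (fun η => (G η).baseChange p.asIdeal.ResidueField) S₀
    · intro γ hγ
      show (G γ).baseChange _ = ⊥
      rw [hS₀ γ hγ, baseChange_bot]
    · rw [← baseChange_iSup, htop, baseChange_top]

end Main

end Groth.Agent.Lib.Helper84.FiltSplit
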