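import Mathlib

/-!
# Acyclic bounded above complexes of flat modules stay acyclic after tensoring (helper84)

Module-level statement, for a `ℤ`-indexed sequence of modules and maps.
-/

set_option autoImplicit false
universe u

open TensorProduct

namespace Groth.Agent.Lib.Helper84.FlatAcyclic

variable {R : Type u} [CommRing R]

/-- kernel of a surjection between flat modules is flat -/
lemma flat_ker {M2 M3 : Type u} [AddCommGroup M2] [AddCommGroup M3] [Module R M2] [Module R M3]
    (g : M2 →ₗ[R] M3) (hg : Function.Surjective g) [Module.Flat R M2] [Module.Flat R M3] :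
    Module.Flat R (LinearMap.ker g) := by
  rw [Module.Flat.iff_rTensor_preserves_injective_linearMap]
  intro A B _ _ _ _ i hi
  let f := (LinearMap.ker g).subtype
  have hf : Function.Injective f := Submodule.subtype_injective _
  have hfg : Function.Exact f g := LinearMap.exact_subtype_ker_map g
  have h1 : Function.Injective (f.lTensor A) :=
    LinearMap.lTensor_injective_of_exact_of_flat g hg f hf hfg A
  have h3 : Function.Injective (i.rTensor M2) :=
    Module.Flat.rTensor_preserves_injective_linearMap i hi
  have hcomm : (f.lTensor B) ∘ₗ (i.rTensor (LinearMap.ker g)) = (i.rTensor M2) ∘ₗ (f.lTensor A) := by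
    rw [LinearMap.lTensor_comp_rTensor, LinearMap.rTensor_comp_lTensor]
  have h4 : Function.Injective ((f.lTensor B) ∘ₗ (i.rTensor (LinearMap.ker g))) := by
    rw [hcomm]
    exact h3.comp h1
  exact Function.Injective.of_comp h4

section

variable (X : ℤ → Type u) [∀ i, AddCommGroup (X i)] [∀ i, Module R (X i)]
  (d : ∀ i, X i →ₗ[R] X (i + 1))
  (hex : ∀ i, Function.Exact (d i) (d (i + 1)))

/-- the map `X i → ker d_{i+1}` induced by `d i` -/
def toKer (hex : ∀ i, Function.Exact (d i) (d (i + 1))) (i : ℤ) :
    X i →ₗ[R] LinearMap.ker (d (i + 1)) :=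
  (d i).codRestrict _ (fun x => by
    rw [LinearMap.mem_ker]
    exact (hex i (d i x)).2 ⟨x, rfl⟩)

lemma toKer_surjective (i : ℤ) : Function.Surjective (toKer X d hex i) := by
  rintro ⟨y, hy⟩
  obtain ⟨x, hx⟩ := (hex i y).1 (LinearMap.mem_ker.1 hy)
  exact ⟨x, Subtype.ext hx⟩

lemma subtype_comp_toKer (i : ℤ) :
    (LinearMap.ker (d (i + 1))).subtype ∘ₗ toKer X d hex i = d i := rfl

lemma ker_toKer (i : ℤ) : LinearMap.ker (toKer X d hex i) = LinearMap.ker (d i) := by
  ext x
  simp only [LinearMap.mem_ker]
  constructor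
  · intro h
    exact congrArg Subtype.val h
  · intro h
    exact Subtype.ext h

lemma exact_subtype_toKer (i : ℤ) :
    Function.Exact (LinearMap.ker (d i)).subtype (toKer X d hex i) := by
  intro x
  constructor
  · intro h
    have : x ∈ LinearMap.ker (d i) := by
      rw [← ker_toKer X d hex i]
      exact h
    exact ⟨⟨x, this⟩, rfl⟩
  · rintro ⟨y, rfl⟩
    apply Subtype.ext
    exact LinearMap.mem_ker.1 y.2

variable (b : ℤ) (hb : ∀ i, b < i → Subsingleton (X i)) (hflat : ∀ i, Module.Flat R (X i))

include hex hb hflat in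
lemma flat_ker_d_aux (k : ℕ) : ∀ i : ℤ, b < i + k → Module.Flat R (LinearMap.ker (d i)) := by
  induction k with
  | zero =>
    intro i hi
    haveI := hb i (by simpa using hi)
    haveI : Subsingleton (LinearMap.ker (d i)) := inferInstance
    infer_instance
  | succ k ih =>
    intro i hi
    haveI : Module.Flat R (LinearMap.ker (d (i + 1))) := ih (i + 1) (by push_cast at hi; lia)
    haveI := hflat i
    have h := flat_ker (toKer X d hex i) (toKer_surjective X d hex i)
    rw [ker_toKer] at h
    exact h

include hex hb hflat in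
lemma flat_ker_d (i : ℤ) : Module.Flat R (LinearMap.ker (d i)) :=
  flat_ker_d_aux X d hex b hb hflat (b + 1 - i).toNat i (by
    have := Int.self_le_toNat (b + 1 - i)
    lia)

include hex hb hflat in
/-- the tensored sequence is exact -/
theorem exact_lTensor (N : Type u) [AddCommGroup N] [Module R N] (i : ℤ) :
    Function.Exact ((d i).lTensor N) ((d (i + 1)).lTensor N) := by
  have hZ := flat_ker_d X d hex b hb hflat
  -- notation
  let s₁ := (LinearMap.ker (d (i + 1))).subtype
  let s₂ := (LinearMap.ker (d (i + 1 + 1))).subtype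
  let g₀ := toKer X d hex i
  let g₁ := toKer X d hex (i + 1)
  let g₂ := toKer X d hex (i + 1 + 1)
  have e₀ : (d i).lTensor N = (s₁.lTensor N) ∘ₗ (g₀.lTensor N) := by
    rw [← LinearMap.lTensor_comp]
    rfl
  have e₁ : (d (i + 1)).lTensor N = (s₂.lTensor N) ∘ₗ (g₁.lTensor N) := by
    rw [← LinearMap.lTensor_comp]
    rfl
  have ha : Function.Surjective (g₀.lTensor N) :=
    LinearMap.lTensor_surjective N (toKer_surjective X d hex i)
  have hb' : Function.Exact (s₁.lTensor N) (g₁.lTensor N) :=
    lTensor_exact N (exact_subtype_toKer X d hex (i + 1)) (toKer_surjective X d hex (i + 1))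
  have hc : Function.Injective (s₂.lTensor N) := by
    haveI := hZ (i + 1 + 1 + 1)
    exact LinearMap.lTensor_injective_of_exact_of_flat g₂ (toKer_surjective X d hex (i + 1 + 1))
      s₂ (Submodule.subtype_injective _) (exact_subtype_toKer X d hex (i + 1 + 1)) N
  intro y
  rw [e₀, e₁]
  constructor
  · intro h
    have h1 : (g₁.lTensor N) y = 0 := hc (by simpa using h)
    obtain ⟨z, hz⟩ := (hb' y).1 h1
    obtain ⟨w, hw⟩ := ha z
    exact ⟨w, by simp [hw, hz]⟩
  · rintro ⟨w, rfl⟩
    have := (hb' ((s₁.lTensor N) ((g₀.lTensor N) w))).2 ⟨_, rfl⟩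
    simp only [LinearMap.comp_apply]
    rw [this, map_zero]

end

end Groth.Agent.Lib.Helper84.FlatAcyclic
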