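import Mathlib

/-!
# Flat base change of subquotients `Z ⧸ (B ⊓ Z)` (helper for S19275)
-/

set_option autoImplicit false
universe u v w w'

open TensorProduct

namespace Groth.Agent.Lib.Helper84.FlatQuot

section Exact

variable {K : Type u} [CommRing K] (R : Type w) [CommRing R] [Algebra K R] [Module.Flat K R]
variable {N N' N'' : Type v} [AddCommGroup N] [AddCommGroup N'] [AddCommGroup N'']
  [Module K N] [Module K N'] [Module K N'']

theorem baseChange_exact {f : N →ₗ[K] N'} {g : N' →ₗ[K] N''} (h : Function.Exact f g) :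
    Function.Exact (f.baseChange R) (g.baseChange R) := by
  have := Module.Flat.lTensor_exact R h
  intro y
  have h2 := this y
  simpa [LinearMap.baseChange_eq_ltensor] using h2

theorem baseChange_injective {f : N →ₗ[K] N'} (h : Function.Injective f) :
    Function.Injective (f.baseChange R) := by
  have := Module.Flat.lTensor_preserves_injective_linearMap (M := R) f h
  rw [LinearMap.baseChange_eq_ltensor]
  exact this

end Exact

section Main

variable {K : Type u} [CommRing K] {R : Type w} [CommRing R] [Algebra K R] [Module.Flat K R]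
variable {C : Type v} [AddCommGroup C] [Module K C]
variable {C' : Type w'} [AddCommGroup C'] [Module R C']

/-- kernel compatibility -/
theorem ker_eq_map
    {C₂ : Type v} [AddCommGroup C₂] [Module K C₂]
    {C₂' : Type w'} [AddCommGroup C₂'] [Module R C₂']
    (φ : R ⊗[K] C →ₗ[R] C') (hφ : Function.Surjective φ)
    (φ₂ : R ⊗[K] C₂ →ₗ[R] C₂') (hφ₂ : Function.Injective φ₂)
    (d : C →ₗ[K] C₂) (d' : C' →ₗ[R] C₂')
    (hd : ∀ x, φ₂ (d.baseChange R x) = d' (φ x)) :
    LinearMap.ker d' =
      Submodule.map φ (LinearMap.range ((LinearMap.ker d).subtype.baseChange R)) := by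
  have hex : Function.Exact ((LinearMap.ker d).subtype.baseChange R) (d.baseChange R) :=
    baseChange_exact R (LinearMap.exact_subtype_ker_map d)
  ext y
  constructor
  · intro hy
    obtain ⟨x, rfl⟩ := hφ y
    rw [LinearMap.mem_ker, ← hd] at hy
    have hx : d.baseChange R x = 0 := hφ₂ (by rw [hy, map_zero])
    exact ⟨x, (hex x).1 hx, rfl⟩
  · rintro ⟨x, hx, rfl⟩
    rw [LinearMap.mem_ker, ← hd]
    have : d.baseChange R x = 0 := (hex x).2 hx
    rw [this, map_zero]

/-- range compatibility -/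
theorem range_eq_map
    {C₀ : Type v} [AddCommGroup C₀] [Module K C₀]
    {C₀' : Type w'} [AddCommGroup C₀'] [Module R C₀']
    (φ : R ⊗[K] C →ₗ[R] C')
    (φ₀ : R ⊗[K] C₀ →ₗ[R] C₀') (hφ₀ : Function.Surjective φ₀)
    (d : C₀ →ₗ[K] C) (d' : C₀' →ₗ[R] C')
    (hd : ∀ x, φ (d.baseChange R x) = d' (φ₀ x)) :
    LinearMap.range d' =
      Submodule.map φ (LinearMap.range ((LinearMap.range d).subtype.baseChange R)) := by
  have hcomp : ∀ x, d.baseChange R x =
      (LinearMap.range d).subtype.baseChange R (d.rangeRestrict.baseChange R x) := by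
    intro x
    rw [← LinearMap.comp_apply, ← LinearMap.baseChange_comp]
    rfl
  have hsurj : Function.Surjective (d.rangeRestrict.baseChange R) :=
    LinearMap.baseChange_surjective R (LinearMap.surjective_rangeRestrict d)
  ext y
  constructor
  · rintro ⟨c, rfl⟩
    obtain ⟨x, rfl⟩ := hφ₀ c
    refine ⟨d.baseChange R x, ?_, hd x⟩
    rw [hcomp]
    exact ⟨_, rfl⟩
  · rintro ⟨_, ⟨w, rfl⟩, rfl⟩
    obtain ⟨x, rfl⟩ := hsurj w
    rw [← hcomp, hd]
    exact ⟨_, rfl⟩

theorem bot_eq_map (φ : R ⊗[K] C →ₗ[R] C') :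
    (⊥ : Submodule R C') =
      Submodule.map φ (LinearMap.range ((⊥ : Submodule K C).subtype.baseChange R)) := by
  have : LinearMap.range ((⊥ : Submodule K C).subtype.baseChange R) = ⊥ := by
    rw [eq_bot_iff]
    rintro _ ⟨w, rfl⟩
    have : w = 0 := Subsingleton.elim _ _
    rw [this, map_zero]
    exact Submodule.zero_mem _
  rw [this, Submodule.map_bot]

theorem exists_quot_equiv
    (φ : R ⊗[K] C →ₗ[R] C') (hφ : Function.Injective φ)
    (Z B : Submodule K C) (Z' B' : Submodule R C')
    (hZ : Z' = Submodule.map φ (LinearMap.range (Z.subtype.baseChange R)))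
    (hB : B' = Submodule.map φ (LinearMap.range (B.subtype.baseChange R))) :
    ∃ e : R ⊗[K] (Z ⧸ B.comap Z.subtype) ≃ₗ[R] (Z' ⧸ B'.comap Z'.subtype),
      ∀ (r : R) (z : Z) (hz : φ (r ⊗ₜ[K] (z : C)) ∈ Z'),
        e (r ⊗ₜ[K] (Submodule.mkQ _ z)) = Submodule.mkQ _ ⟨φ (r ⊗ₜ[K] (z : C)), hz⟩ := by
  classical
  -- ψ
  have hmem : ∀ x : R ⊗[K] Z, (φ ∘ₗ Z.subtype.baseChange R) x ∈ Z' := by
    intro x
    rw [hZ]
    exact ⟨_, ⟨x, rfl⟩, rfl⟩
  let ψ : R ⊗[K] Z →ₗ[R] Z' := LinearMap.codRestrict Z' (φ ∘ₗ Z.subtype.baseChange R) hmem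
  have hψ_inj : Function.Injective ψ := by
    intro a b hab
    have h1 : φ (Z.subtype.baseChange R a) = φ (Z.subtype.baseChange R b) :=
      congrArg Subtype.val hab
    exact baseChange_injective R Z.injective_subtype (hφ h1)
  have hψ_surj : Function.Surjective ψ := by
    rintro ⟨z', hz'⟩
    rw [hZ] at hz'
    obtain ⟨_, ⟨x, rfl⟩, hx⟩ := hz'
    exact ⟨x, Subtype.ext hx⟩
  let π : R ⊗[K] Z →ₗ[R] (Z' ⧸ B'.comap Z'.subtype) := (B'.comap Z'.subtype).mkQ ∘ₗ ψ
  have hπ : Function.Surjective π := (Submodule.mkQ_surjective _).comp hψ_surj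
  let ρ : R ⊗[K] Z →ₗ[R] R ⊗[K] (Z ⧸ B.comap Z.subtype) :=
    ((B.comap Z.subtype).mkQ).baseChange R
  have hρ : Function.Surjective ρ :=
    LinearMap.baseChange_surjective R (Submodule.mkQ_surjective _)
  -- kernels
  have hkρ : LinearMap.ker ρ = LinearMap.range ((B.comap Z.subtype).subtype.baseChange R) := by
    have hex : Function.Exact ((B.comap Z.subtype).subtype) ((B.comap Z.subtype).mkQ) :=
      LinearMap.exact_subtype_mkQ _
    have := lTensor_exact R hex (Submodule.mkQ_surjective _)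
    ext x
    rw [LinearMap.mem_ker]
    exact this x
  have hkπ : LinearMap.ker π = LinearMap.range ((B.comap Z.subtype).subtype.baseChange R) := by
    -- exactness of B∩Z → Z → C ⧸ B
    have hex0 : Function.Exact ((B.comap Z.subtype).subtype) (B.mkQ ∘ₗ Z.subtype) := by
      intro z
      constructor
      · intro hz
        have : (z : C) ∈ B := by
          simpa using hz
        exact ⟨⟨z, this⟩, rfl⟩
      · rintro ⟨w, rfl⟩
        have : ((w : Z) : C) ∈ B := w.2
        simpa using this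
    have hex := baseChange_exact R hex0
    have hzero : ∀ w : R ⊗[K] B, (B.mkQ).baseChange R (B.subtype.baseChange R w) = 0 := by
      intro w
      rw [← LinearMap.comp_apply, ← LinearMap.baseChange_comp]
      have : B.mkQ ∘ₗ B.subtype = 0 := by
        ext b
        simp
      rw [this, LinearMap.baseChange_zero, LinearMap.zero_apply]
    ext x
    constructor
    · intro hx
      rw [LinearMap.mem_ker] at hx
      have h1 : (ψ x : C') ∈ B' := by
        have := (Submodule.Quotient.mk_eq_zero _).1 hx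
        exact this
      rw [hB] at h1
      obtain ⟨_, ⟨w, rfl⟩, hw⟩ := h1
      have h2 : B.subtype.baseChange R w = Z.subtype.baseChange R x := hφ hw
      apply (hex x).1
      rw [LinearMap.baseChange_comp, LinearMap.comp_apply, ← h2, hzero]
    · rintro ⟨w, rfl⟩
      rw [LinearMap.mem_ker]
      apply (Submodule.Quotient.mk_eq_zero _).2
      change (ψ _ : C') ∈ B'
      rw [hB]
      -- factor through B
      let j : (B.comap Z.subtype) →ₗ[K] B :=
        LinearMap.codRestrict B (Z.subtype ∘ₗ (B.comap Z.subtype).subtype) (fun c => c.2)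
      refine ⟨_, ⟨j.baseChange R w, rfl⟩, ?_⟩
      change φ _ = φ _
      congr 1
      rw [← LinearMap.comp_apply, ← LinearMap.baseChange_comp, ← LinearMap.comp_apply,
        ← LinearMap.baseChange_comp]
      rfl
  let e : R ⊗[K] (Z ⧸ B.comap Z.subtype) ≃ₗ[R] (Z' ⧸ B'.comap Z'.subtype) :=
    (ρ.quotKerEquivOfSurjective hρ).symm ≪≫ₗ
      (Submodule.quotEquivOfEq _ _ (hkρ.trans hkπ.symm)) ≪≫ₗ
      (π.quotKerEquivOfSurjective hπ)
  refine ⟨e, fun r z hz => ?_⟩
  have h1 : (ρ.quotKerEquivOfSurjective hρ).symm (r ⊗ₜ[K] (Submodule.mkQ _ z)) =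
      Submodule.Quotient.mk (r ⊗ₜ[K] z) := by
    rw [LinearEquiv.symm_apply_eq, LinearMap.quotKerEquivOfSurjective_apply_mk]
    rfl
  simp only [e, LinearEquiv.trans_apply]
  rw [h1, Submodule.quotEquivOfEq_mk, LinearMap.quotKerEquivOfSurjective_apply_mk]
  rfl

end Main

end Groth.Agent.Lib.Helper84.FlatQuot
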