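import Mathlib
import Groth.Statements.S18675

/-!
# Coflasque resolutions of `G`-modules by permutation lattices (helper84)
-/

set_option autoImplicit false
set_option linter.unusedSectionVars false

namespace Groth.Agent.Lib.Helper84.GLatRes

open GLat

section Perm

variable {G : Type} [Group G] (X : Type) [MulAction G X]

/-- the permutation representation on `X → ℤ`. -/
def perm : Representation ℤ G (X → ℤ) where
  toFun g := LinearMap.funLeft ℤ ℤ (fun x => g⁻¹ • x)
  map_one' := by
    ext φ x
    simp [LinearMap.funLeft_apply]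
  map_mul' g h := by
    ext φ x
    simp [LinearMap.funLeft_apply, mul_smul]

variable {X}

@[simp] lemma perm_apply (g : G) (φ : X → ℤ) (x : X) : perm X g φ x = φ (g⁻¹ • x) := rfl

lemma perm_single [DecidableEq X] (g : G) (x : X) (n : ℤ) :
    perm X g (Pi.single x n) = Pi.single (g • x) n := by
  ext y
  rw [perm_apply, Pi.single_apply, Pi.single_apply]
  simp only [inv_smul_eq_iff]

lemma isPermutation_perm [Finite X] : IsPermutation (perm (G := G) X) := by
  classical
  refine ⟨X, Pi.basisFun ℤ X, fun g x => ⟨g • x, ?_⟩⟩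
  rw [Pi.basisFun_apply, Pi.basisFun_apply, perm_single]

/-- cocycles vanish on stabilizers (values at fixed points). -/
lemma cocycle_stab [Finite G] (H : Subgroup G) (f : H → (X → ℤ))
    (hf : ∀ a b : H, f (a * b) = f a + perm X (a : G) (f b))
    (k : H) (x : X) (hk : (k : G) • x = x) : f k x = 0 := by
  have h1 : f 1 = 0 := by
    have := hf 1 1
    simp only [mul_one, OneMemClass.coe_one, map_one] at this
    simpa using this
  have hkinv : (k : G)⁻¹ • x = x := by rw [inv_smul_eq_iff, hk]
  have hpow : ∀ n : ℕ, f (k ^ n) x = n * f k x := by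
    intro n
    induction n with
    | zero => simp [h1]
    | succ n ih =>
      rw [pow_succ', hf, Pi.add_apply, perm_apply, hkinv, ih]
      push_cast
      ring
  have hfin : k ^ orderOf k = 1 := pow_orderOf_eq_one k
  have hpos : 0 < orderOf k := orderOf_pos k
  have := hpow (orderOf k)
  rw [hfin, h1] at this
  simp only [Pi.zero_apply] at this
  have h2 : (orderOf k : ℤ) ≠ 0 := by exact_mod_cast hpos.ne'
  rcases mul_eq_zero.1 this.symm with h | h
  · exact absurd h h2
  · exact h

/-- `H¹(H, ℤ[X]) = 0` in cocycle form. -/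
theorem isCoflasque_perm [Finite G] [Finite X] : IsCoflasque (perm (G := G) X) := by
  classical
  intro H f hf
  -- representatives
  let rep : X → X := fun x => (Quotient.mk (MulAction.orbitRel H X) x).out
  have hrep : ∀ x, ∃ a : H, a • rep x = x := by
    intro x
    have : (MulAction.orbitRel H X).r (rep x) x := Quotient.exact (Quotient.out_eq _)
    rw [MulAction.orbitRel_apply] at this
    obtain ⟨a, ha⟩ := this
    exact ⟨a⁻¹, by rw [← ha, inv_smul_smul]⟩
  choose tr htr using hrep
  have hrep_smul : ∀ (a : H) (x : X), rep (a • x) = rep x := by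
    intro a x
    have : (Quotient.mk (MulAction.orbitRel H X) (a • x)) = Quotient.mk (MulAction.orbitRel H X) x := by
      apply Quotient.sound
      change (MulAction.orbitRel H X).r (a • x) x
      rw [MulAction.orbitRel_apply]
      exact ⟨a, rfl⟩
    simp only [rep, this]
  -- well-definedness
  have hW : ∀ (b b' : H) (x₀ y : X), b • x₀ = y → b' • x₀ = y → f b y = f b' y := by
    intro b b' x₀ y hb hb'
    have hk : ((b⁻¹ * b' : H) : G) • x₀ = x₀ := by
      change (b⁻¹ * b') • x₀ = x₀
      rw [mul_smul, hb', ← hb, inv_smul_smul]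
    have h0 := cocycle_stab H f hf (b⁻¹ * b') x₀ hk
    have h1 : b' = b * (b⁻¹ * b') := by group
    have h2 : (b : G)⁻¹ • y = x₀ := by
      rw [inv_smul_eq_iff]
      exact hb.symm
    have h3 : f b' y = f (b * (b⁻¹ * b')) y := by rw [← h1]
    rw [h3, hf, Pi.add_apply, perm_apply, h2, h0, add_zero]
  refine ⟨fun x => - f (tr x) x, fun a => ?_⟩
  ext y
  simp only [Pi.sub_apply, perm_apply]
  -- c := tr (a⁻¹ y), b := tr y
  have hy : rep ((a : G)⁻¹ • y) = rep y := hrep_smul a⁻¹ y
  have hc : tr ((a : G)⁻¹ • y) • rep y = (a : G)⁻¹ • y := by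
    have := htr ((a : G)⁻¹ • y)
    rw [hy] at this
    exact this
  have hac : (a * tr ((a : G)⁻¹ • y)) • rep y = y := by
    rw [mul_smul, hc]
    change (a : G) • (a : G)⁻¹ • y = y
    rw [smul_inv_smul]
  have := hW (tr y) (a * tr ((a : G)⁻¹ • y)) (rep y) y (htr y) hac
  rw [hf, Pi.add_apply, perm_apply] at this
  rw [this]
  ring

end Perm

section Ker

variable {G : Type} [Group G] {A P : Type} [AddCommGroup A] [AddCommGroup P]
  (ρ : Representation ℤ G A) (τ : Representation ℤ G P) (π : P →ₗ[ℤ] A)
  (hπ : IsEquivariant τ ρ π)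

/-- the representation on the kernel of an equivariant map. -/
def kerRep : Representation ℤ G (LinearMap.ker π) where
  toFun g := (τ g).restrict (p := LinearMap.ker π) (q := LinearMap.ker π) (fun x hx => by
    rw [LinearMap.mem_ker] at hx ⊢
    rw [hπ, hx, map_zero])
  map_one' := by
    ext x
    simp
  map_mul' g h := by
    ext x
    simp

@[simp] lemma kerRep_apply_coe (g : G) (x : LinearMap.ker π) :
    ((kerRep ρ τ π hπ g x : LinearMap.ker π) : P) = τ g x := rfl

lemma isEquivariant_subtype :
    IsEquivariant (kerRep ρ τ π hπ) τ (LinearMap.ker π).subtype := fun _ _ => rfl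

include hπ in
theorem isCoflasque_ker (hτ : IsCoflasque τ)
    (hsurj : ∀ (H : Subgroup G) (a : A), (∀ h : H, ρ (h : G) a = a) →
      ∃ p : P, (∀ h : H, τ (h : G) p = p) ∧ π p = a) :
    IsCoflasque (kerRep ρ τ π hπ) := by
  intro H f hf
  obtain ⟨p, hp⟩ := hτ H (fun a => ((f a : LinearMap.ker π) : P)) (fun a b => by
    have := congrArg (fun x : LinearMap.ker π => (x : P)) (hf a b)
    simpa using this)
  have hker : ∀ a : H, π ((f a : LinearMap.ker π) : P) = 0 := fun a => (f a).2
  have hinv : ∀ h : H, ρ (h : G) (π p) = π p := by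
    intro h
    rw [← hπ]
    have := hp h
    have h2 : τ (h : G) p = ((f h : LinearMap.ker π) : P) + p := by rw [this]; abel
    rw [h2, map_add, hker, zero_add]
  obtain ⟨p', hp'inv, hp'⟩ := hsurj H (π p) hinv
  refine ⟨⟨p - p', by rw [LinearMap.mem_ker, map_sub, hp', sub_self]⟩, fun a => ?_⟩
  apply Subtype.ext
  change ((f a : LinearMap.ker π) : P) = τ (a : G) (p - p') - (p - p')
  rw [map_sub, hp'inv a, hp a]
  abel

end Ker

section Cover

variable {G : Type} [Group G] [Finite G] {A : Type} [AddCommGroup A] [Module.Finite ℤ A]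
  (ρ : Representation ℤ G A)

/-- invariants of a subgroup. -/
def inv (H : Subgroup G) : Submodule ℤ A where
  carrier := {a | ∀ h : H, ρ (h : G) a = a}
  add_mem' ha hb h := by rw [map_add, ha h, hb h]
  zero_mem' h := map_zero _
  smul_mem' n a ha h := by rw [map_smul, ha h]

lemma inv_fg (H : Subgroup G) : (inv ρ H).FG := IsNoetherian.noetherian _

/-- generators of the invariants. -/
noncomputable def gens (H : Subgroup G) : Finset A := (inv_fg ρ H).choose

lemma span_gens (H : Subgroup G) : Submodule.span ℤ (gens ρ H : Set A) = inv ρ H :=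
  (inv_fg ρ H).choose_spec

/-- the `G`-stable finite set. -/
def S : Set A := {a | ∃ (g : G) (H : Subgroup G) (t : A), t ∈ gens ρ H ∧ a = ρ g t}

lemma finite_S : (S ρ).Finite := by
  have h1 : (⋃ H : Subgroup G, (gens ρ H : Set A)).Finite :=
    Set.finite_iUnion (fun H => Finset.finite_toSet _)
  have h2 : (Set.image2 (fun (g : G) (t : A) => ρ g t) Set.univ
      (⋃ H : Subgroup G, (gens ρ H : Set A))).Finite :=
    Set.Finite.image2 _ Set.finite_univ h1
  refine h2.subset ?_
  rintro a ⟨g, H, t, ht, rfl⟩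
  exact ⟨g, Set.mem_univ _, t, Set.mem_iUnion.2 ⟨H, ht⟩, rfl⟩

instance : Finite (S ρ) := (finite_S ρ).to_subtype

instance : MulAction G (S ρ) where
  smul g x := ⟨ρ g x.1, by
    obtain ⟨g', H, t, ht, hx⟩ := x.2
    exact ⟨g * g', H, t, ht, by rw [hx, map_mul]; rfl⟩⟩
  one_smul x := by
    apply Subtype.ext
    change ρ 1 x.1 = x.1
    simp
  mul_smul g h x := by
    apply Subtype.ext
    change ρ (g * h) x.1 = ρ g (ρ h x.1)
    simp

lemma smul_val (g : G) (x : S ρ) : ((g • x : S ρ) : A) = ρ g x.1 := rfl

/-- the cover. -/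
noncomputable def cov : (S ρ → ℤ) →ₗ[ℤ] A :=
  letI := Fintype.ofFinite (S ρ)
  Fintype.linearCombination ℤ (Subtype.val : S ρ → A)

lemma cov_single [DecidableEq (S ρ)] (x : S ρ) (n : ℤ) : cov ρ (Pi.single x n) = n • x.1 := by
  letI := Fintype.ofFinite (S ρ)
  unfold cov
  convert Fintype.linearCombination_apply_single ℤ (Subtype.val : S ρ → A) x n

lemma isEquivariant_cov : IsEquivariant (perm (S ρ)) ρ (cov ρ) := by
  classical
  intro g φ
  have h : (cov ρ).comp (perm (S ρ) g) = (ρ g).comp (cov ρ) := by
    apply LinearMap.pi_ext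
    intro x n
    simp only [LinearMap.comp_apply]
    rw [perm_single, cov_single, cov_single, smul_val, map_smul]
  exact congrArg (fun l => l φ) h

lemma cov_surj_inv (H : Subgroup G) (a : A) (ha : ∀ h : H, ρ (h : G) a = a) :
    ∃ p : S ρ → ℤ, (∀ h : H, perm (S ρ) (h : G) p = p) ∧ cov ρ p = a := by
  classical
  have ha' : a ∈ Submodule.span ℤ (gens ρ H : Set A) := by
    rw [span_gens]
    exact ha
  clear ha
  induction ha' using Submodule.span_induction with
  | mem t ht =>
    have htS : t ∈ S ρ := ⟨1, H, t, ht, by simp⟩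
    have htinv : ∀ h : H, ρ (h : G) t = t := by
      have : t ∈ inv ρ H := by
        rw [← span_gens]
        exact Submodule.subset_span ht
      exact this
    refine ⟨Pi.single ⟨t, htS⟩ 1, fun h => ?_, ?_⟩
    · rw [perm_single]
      congr 1
      apply Subtype.ext
      exact htinv h
    · rw [cov_single, one_smul]
  | zero => exact ⟨0, fun h => map_zero _, map_zero _⟩
  | add x y _ _ hx hy =>
    obtain ⟨p, hp, hpx⟩ := hx
    obtain ⟨q, hq, hqy⟩ := hy
    exact ⟨p + q, fun h => by rw [map_add, hp, hq], by rw [map_add, hpx, hqy]⟩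
  | smul n x _ hx =>
    obtain ⟨p, hp, hpx⟩ := hx
    exact ⟨n • p, fun h => by rw [map_smul, hp], by rw [map_smul, hpx]⟩

lemma cov_surjective : Function.Surjective (cov ρ) := by
  intro a
  obtain ⟨p, -, hp⟩ := cov_surj_inv ρ ⊥ a (fun h => by
    have : (h : G) = 1 := Subgroup.mem_bot.1 h.2
    rw [this, map_one]
    rfl)
  exact ⟨p, hp⟩

end Cover

end Groth.Agent.Lib.Helper84.GLatRes
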