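import Mathlib
import Groth.Agent.Lib.Helper84.GLatRes

/-!
# Flasque resolutions of `G`-lattices (helper84)
-/

set_option autoImplicit false
set_option linter.unusedSectionVars false

namespace Groth.Agent.Lib.Helper84.GLatRes

open GLat

section PermFlasque

variable {G : Type} [Group G] {X : Type} [MulAction G X]

/-- orbit representatives with transporters. -/
lemma exists_rep (H : Subgroup G) :
    ∃ (rep : X → X) (tr : X → H), (∀ x, tr x • rep x = x) ∧ (∀ (a : H) (x : X), rep (a • x) = rep x) ∧
      (∀ x, rep (rep x) = rep x) := by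
  classical
  let rep : X → X := fun x => (Quotient.mk (MulAction.orbitRel H X) x).out
  have hrep : ∀ x, ∃ a : H, a • rep x = x := by
    intro x
    have : (MulAction.orbitRel H X).r (rep x) x := Quotient.exact (Quotient.out_eq _)
    rw [MulAction.orbitRel_apply] at this
    obtain ⟨a, ha⟩ := this
    exact ⟨a⁻¹, by rw [← ha, inv_smul_smul]⟩
  choose tr htr using hrep
  have hrep_smul : ∀ (a : H) (x : X), rep (a • x) = rep x := by
    intro a x
    have : (Quotient.mk (MulAction.orbitRel H X) (a • x)) = Quotient.mk (MulAction.orbitRel H X) x := by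
      apply Quotient.sound
      change (MulAction.orbitRel H X).r (a • x) x
      rw [MulAction.orbitRel_apply]
      exact ⟨a, rfl⟩
    simp only [rep, this]
  refine ⟨rep, tr, htr, hrep_smul, fun x => ?_⟩
  have h1 : rep x = (tr x)⁻¹ • x := by
    rw [eq_inv_smul_iff]
    exact htr x
  conv_lhs => rw [h1]
  exact hrep_smul _ _

/-- the norm kills the augmentation elements. -/
lemma norm_perm_sub [Finite X] (H : Subgroup G) [Fintype H] (h : H) (ψ : X → ℤ) :
    ∑ a : H, perm X (a : G) (perm X (h : G) ψ - ψ) = 0 := by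
  simp only [map_sub, Finset.sum_sub_distrib]
  rw [sub_eq_zero]
  have : ∀ a : H, perm X (a : G) (perm X (h : G) ψ) = perm X ((a * h : H) : G) ψ := by
    intro a
    rw [Subgroup.coe_mul, map_mul]
    rfl
  simp only [this]
  exact Fintype.sum_equiv (Equiv.mulRight h) _ _ (fun a => rfl)

/-- `Ĥ⁻¹(H, ℤ[X]) = 0`. -/
theorem perm_norm_zero [Finite X] (H : Subgroup G) [Fintype H] (φ : X → ℤ)
    (hφ : ∑ a : H, perm X (a : G) φ = 0) :
    φ ∈ Submodule.span ℤ {x : X → ℤ | ∃ (h : H) (y : X → ℤ), x = perm X (h : G) y - y} := by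
  classical
  letI := Fintype.ofFinite X
  obtain ⟨rep, tr, htr, hrep_smul, hreprep⟩ := exists_rep (X := X) H
  set I := Submodule.span ℤ {x : X → ℤ | ∃ (h : H) (y : X → ℤ), x = perm X (h : G) y - y} with hI
  let ψ : X → ℤ := ∑ x, φ x • Pi.single (rep x) (1 : ℤ)
  have hφsum : φ = ∑ x, φ x • Pi.single x (1 : ℤ) := by
    ext z
    simp [Finset.sum_apply, Pi.single_apply]
  have hdiff : φ - ψ ∈ I := by
    have : φ - ψ = ∑ x, φ x • (Pi.single x (1 : ℤ) - Pi.single (rep x) (1 : ℤ)) := by
      conv_lhs => rw [hφsum]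
      simp only [ψ, smul_sub, Finset.sum_sub_distrib]
    rw [this]
    refine Submodule.sum_mem _ fun x _ => Submodule.smul_mem _ _ (Submodule.subset_span ?_)
    refine ⟨tr x, Pi.single (rep x) 1, ?_⟩
    rw [perm_single]
    congr 2
    exact (htr x).symm
  have hNI : ∀ χ ∈ I, ∑ a : H, perm X (a : G) χ = 0 := by
    intro χ hχ
    induction hχ using Submodule.span_induction with
    | mem x hx =>
      obtain ⟨h, y, rfl⟩ := hx
      exact norm_perm_sub H h y
    | zero => simp
    | add x y _ _ hx hy => simp only [map_add, Finset.sum_add_distrib, hx, hy, add_zero]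
    | smul n x _ hx =>
      simp only [map_smul]
      rw [← Finset.smul_sum, hx, smul_zero]
  have hNψ : ∑ a : H, perm X (a : G) ψ = 0 := by
    have h1 := hNI _ hdiff
    simp only [map_sub, Finset.sum_sub_distrib] at h1
    rw [hφ] at h1
    have := sub_eq_zero.1 h1
    exact this.symm
  -- ψ vanishes off representatives
  have hψ_off : ∀ z, rep z ≠ z → ψ z = 0 := by
    intro z hz
    simp only [ψ, Finset.sum_apply, Pi.smul_apply, Pi.single_apply, smul_eq_mul]
    refine Finset.sum_eq_zero fun x _ => ?_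
    rw [if_neg, mul_zero]
    intro hzx
    apply hz
    rw [hzx, hreprep]
  have hψ0 : ψ = 0 := by
    ext z
    by_cases hz : rep z = z
    · have h1 := congrFun hNψ z
      simp only [Finset.sum_apply, perm_apply, Pi.zero_apply] at h1
      have h2 : ∀ a : H, ψ ((a : G)⁻¹ • z) = if (a : G)⁻¹ • z = z then ψ z else 0 := by
        intro a
        split_ifs with ha
        · rw [ha]
        · apply hψ_off
          have : rep ((a : G)⁻¹ • z) = z := by
            have := hrep_smul a⁻¹ z
            rw [hz] at this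
            exact this
          rw [this]
          exact fun h => ha h.symm
      simp only [h2] at h1
      rw [Finset.sum_ite, Finset.sum_const_zero, add_zero, Finset.sum_const] at h1
      have hcard : (Finset.univ.filter (fun a : H => (a : G)⁻¹ • z = z)).card ≠ 0 := by
        apply Finset.card_ne_zero.2
        exact ⟨1, by simp⟩
      rcases smul_eq_zero.1 h1 with h | h
      · exact absurd h hcard
      · exact h
    · exact hψ_off z hz
  have : φ = φ - ψ := by rw [hψ0, sub_zero]
  rw [this]
  exact hdiff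

end PermFlasque

section Duality

variable {G : Type} [Group G] {A : Type} [AddCommGroup A] (ρ : Representation ℤ G A)

/-- the augmentation submodule. -/
def aug (H : Subgroup G) : Submodule ℤ A :=
  Submodule.span ℤ {x : A | ∃ (h : H) (y : A), x = ρ (h : G) y - y}

lemma norm_aug (H : Subgroup G) [Fintype H] (x : A) (hx : x ∈ aug ρ H) :
    ∑ a : H, ρ (a : G) x = 0 := by
  induction hx using Submodule.span_induction with
  | mem x hx =>
    obtain ⟨h, y, rfl⟩ := hx
    simp only [map_sub, Finset.sum_sub_distrib]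
    rw [sub_eq_zero]
    have : ∀ a : H, ρ (a : G) (ρ (h : G) y) = ρ ((a * h : H) : G) y := by
      intro a
      rw [Subgroup.coe_mul, map_mul]
      rfl
    simp only [this]
    exact Fintype.sum_equiv (Equiv.mulRight h) _ _ (fun a => rfl)
  | zero => simp
  | add x y _ _ hx hy => simp only [map_add, Finset.sum_add_distrib, hx, hy, add_zero]
  | smul n x _ hx =>
    simp only [map_smul]
    rw [← Finset.smul_sum, hx, smul_zero]

/-- the saturation of the augmentation submodule. -/
def sat (H : Subgroup G) : Submodule ℤ A where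
  carrier := {t | ∃ k : ℤ, k ≠ 0 ∧ k • t ∈ aug ρ H}
  add_mem' := by
    rintro t t' ⟨k, hk, hkt⟩ ⟨k', hk', hkt'⟩
    refine ⟨k * k', mul_ne_zero hk hk', ?_⟩
    rw [smul_add]
    refine Submodule.add_mem _ ?_ ?_
    · rw [mul_comm, mul_smul]
      exact Submodule.smul_mem _ _ hkt
    · rw [mul_smul]
      exact Submodule.smul_mem _ _ hkt'
  zero_mem' := ⟨1, one_ne_zero, by simp⟩
  smul_mem' n t := by
    rintro ⟨k, hk, hkt⟩
    exact ⟨k, hk, by rw [smul_comm]; exact Submodule.smul_mem _ _ hkt⟩

lemma aug_le_sat (H : Subgroup G) : aug ρ H ≤ sat ρ H :=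
  fun x hx => ⟨1, one_ne_zero, by simpa using hx⟩

instance (H : Subgroup G) : Module.IsTorsionFree ℤ (A ⧸ sat ρ H) :=
  .of_smul_eq_zero (by
    intro n m h
    by_cases hn : n = 0
    · exact Or.inl hn
    · right
      obtain ⟨t, rfl⟩ := Submodule.mkQ_surjective _ m
      rw [Submodule.mkQ_apply, ← Submodule.Quotient.mk_smul, Submodule.Quotient.mk_eq_zero] at h
      obtain ⟨k, hk, hkt⟩ := h
      rw [Submodule.mkQ_apply, Submodule.Quotient.mk_eq_zero]
      exact ⟨k * n, mul_ne_zero hk hn, by rw [mul_smul]; exact hkt⟩)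

variable [Module.Finite ℤ A] [Module.Free ℤ A]

/-- Tate duality in degree zero, elementary form. -/
theorem exists_norm_eq (H : Subgroup G) [Fintype H] (a : A) (ha : ∀ h : H, ρ (h : G) a = a)
    (hdiv : ∀ l : Module.Dual ℤ A, (∀ h : H, ρ.dual (h : G) l = l) →
      (Fintype.card H : ℤ) ∣ l a) :
    ∃ b : A, a = ∑ h : H, ρ (h : G) b := by
  classical
  let bs := Module.Free.chooseBasis ℤ (A ⧸ sat ρ H)
  let μ : Module.Free.ChooseBasisIndex ℤ (A ⧸ sat ρ H) → Module.Dual ℤ A :=
    fun j => (bs.coord j).comp (sat ρ H).mkQ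
  have hμ : ∀ j (h : H), ρ.dual (h : G) (μ j) = μ j := by
    intro j h
    ext y
    rw [Representation.dual_apply, Module.Dual.transpose_apply]
    change bs.coord j ((sat ρ H).mkQ (ρ (h : G)⁻¹ y)) = bs.coord j ((sat ρ H).mkQ y)
    congr 1
    rw [← sub_eq_zero, ← map_sub, Submodule.mkQ_apply, Submodule.Quotient.mk_eq_zero]
    apply aug_le_sat
    exact Submodule.subset_span ⟨h⁻¹, y, rfl⟩
  choose c hc using fun j => hdiv (μ j) (hμ j)
  obtain ⟨b', hb'⟩ := Submodule.mkQ_surjective (sat ρ H) (∑ j, c j • bs j)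
  have hcard : (Fintype.card H : ℤ) ≠ 0 := by
    have : 0 < Fintype.card H := Fintype.card_pos
    exact_mod_cast this.ne'
  have hmk : (sat ρ H).mkQ a = (Fintype.card H : ℤ) • (sat ρ H).mkQ b' := by
    rw [hb', ← bs.sum_repr ((sat ρ H).mkQ a), Finset.smul_sum]
    refine Finset.sum_congr rfl fun j _ => ?_
    have : bs.repr ((sat ρ H).mkQ a) j = (Fintype.card H : ℤ) * c j := hc j
    rw [this, mul_smul]
  have ht : a - (Fintype.card H : ℤ) • b' ∈ sat ρ H := by
    rw [← Submodule.Quotient.mk_eq_zero, Submodule.Quotient.mk_sub, Submodule.Quotient.mk_smul]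
    rw [sub_eq_zero]
    exact hmk
  obtain ⟨k, hk, hkt⟩ := ht
  have hNt : ∑ h : H, ρ (h : G) (a - (Fintype.card H : ℤ) • b') = 0 := by
    have h1 := norm_aug ρ H _ hkt
    simp only [map_smul] at h1
    rw [← Finset.smul_sum] at h1
    rcases smul_eq_zero.1 h1 with h | h
    · exact absurd h hk
    · exact h
  have hNa : ∑ h : H, ρ (h : G) a = (Fintype.card H : ℤ) • a := by
    simp only [ha, Finset.sum_const, Finset.card_univ]
    rw [natCast_zsmul]
  refine ⟨b', ?_⟩
  simp only [map_sub, map_smul, Finset.sum_sub_distrib] at hNt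
  rw [hNa, ← Finset.smul_sum, sub_eq_zero] at hNt
  exact (smul_right_injective A hcard) hNt

end Duality

section Quot

variable {G : Type} [Group G] {A P : Type} [AddCommGroup A] [AddCommGroup P]
  (ρ : Representation ℤ G A) (τ : Representation ℤ G P) (i : A →ₗ[ℤ] P)
  (hi : IsEquivariant ρ τ i)

/-- the representation on the cokernel of an equivariant map. -/
def quotRep : Representation ℤ G (P ⧸ LinearMap.range i) where
  toFun g := (LinearMap.range i).mapQ (LinearMap.range i) (τ g) (by
    rintro _ ⟨a, rfl⟩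
    exact ⟨ρ g a, hi g a⟩)
  map_one' := by
    apply Submodule.linearMap_qext
    ext x
    simp
  map_mul' g h := by
    apply Submodule.linearMap_qext
    ext x
    simp

@[simp] lemma quotRep_mk (g : G) (x : P) :
    quotRep ρ τ i hi g (Submodule.Quotient.mk x) = Submodule.Quotient.mk (τ g x) := rfl

lemma isEquivariant_mkQ : IsEquivariant τ (quotRep ρ τ i hi) (LinearMap.range i).mkQ :=
  fun _ _ => rfl

end Quot

section FlasqueRes

variable {G : Type} [Group G] [Finite G] {A : Type} [AddCommGroup A] [Module.Finite ℤ A]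
  (ρ : Representation ℤ G A)

/-- induction principle for invariants: they are generated by invariant elements of `S`. -/
lemma inv_induction (H : Subgroup G) {P : A → Prop}
    (hmem : ∀ x : S ρ, (∀ h : H, ρ (h : G) x.1 = x.1) → P x.1) (h0 : P 0)
    (hadd : ∀ a b, P a → P b → P (a + b)) (hsmul : ∀ (n : ℤ) a, P a → P (n • a))
    (a : A) (ha : ∀ h : H, ρ (h : G) a = a) : P a := by
  have ha' : a ∈ Submodule.span ℤ (gens ρ H : Set A) := by
    rw [span_gens]
    exact ha
  clear ha
  induction ha' using Submodule.span_induction with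
  | mem t ht =>
    have htS : t ∈ S ρ := ⟨1, H, t, ht, by simp⟩
    have htinv : ∀ h : H, ρ (h : G) t = t := by
      have : t ∈ inv ρ H := by
        rw [← span_gens]
        exact Submodule.subset_span ht
      exact this
    exact hmem ⟨t, htS⟩ htinv
  | zero => exact h0
  | add x y _ _ hx hy => exact hadd x y hx hy
  | smul n x _ hx => exact hsmul n x hx

lemma all_induction {P : A → Prop}
    (hmem : ∀ x : S ρ, P x.1) (h0 : P 0)
    (hadd : ∀ a b, P a → P b → P (a + b)) (hsmul : ∀ (n : ℤ) a, P a → P (n • a))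
    (a : A) : P a :=
  inv_induction ρ ⊥ (fun x _ => hmem x) h0 hadd hsmul a (fun h => by
    have : (h : G) = 1 := Subgroup.mem_bot.1 h.2
    rw [this, map_one]
    rfl)

end FlasqueRes

section FlasqueRes2

variable {G : Type} [Group G] [Finite G] {A : Type} [AddCommGroup A] [Module.Finite ℤ A]
  [Module.Free ℤ A] (ρ : Representation ℤ G A)

/-- the evaluation embedding `A → ℤ[X]`, `X ⊆ A^∨`. -/
def ev : A →ₗ[ℤ] (S ρ.dual → ℤ) where
  toFun a x := x.1 a
  map_add' a b := by
    ext x
    simp
  map_smul' n a := by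
    ext x
    simp

@[simp] lemma ev_apply (a : A) (x : S ρ.dual) : ev ρ a x = x.1 a := rfl

lemma isEquivariant_ev : IsEquivariant ρ (perm (S ρ.dual)) (ev ρ) := by
  intro g a
  ext x
  rw [perm_apply, ev_apply, ev_apply, smul_val, Representation.dual_apply,
    Module.Dual.transpose_apply]
  simp

lemma ev_injective : Function.Injective (ev ρ) := by
  rw [← LinearMap.ker_eq_bot, LinearMap.ker_eq_bot']
  intro a ha
  have h : ∀ l : Module.Dual ℤ A, l a = 0 := by
    intro l
    refine all_induction ρ.dual (P := fun l => l a = 0) (fun x => ?_) (by simp)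
      (fun l l' h h' => by simp [h, h']) (fun n l h => by simp [h]) l
    exact congrFun ha x
  exact (Module.forall_dual_apply_eq_zero_iff ℤ a).1 h

lemma ev_saturated (n : ℤ) (hn : n ≠ 0) (φ : S ρ.dual → ℤ) (a : A) (h : n • φ = ev ρ a) :
    ∃ a' : A, φ = ev ρ a' := by
  classical
  have hdiv : ∀ l : Module.Dual ℤ A, n ∣ l a := by
    intro l
    refine all_induction ρ.dual (P := fun l => n ∣ l a) (fun x => ?_) (by simp)
      (fun l l' h h' => by simpa using dvd_add h h') (fun k l h => by simpa using h.mul_left k) l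
    have := congrFun h x
    rw [ev_apply] at this
    exact ⟨φ x, by rw [← this]; simp⟩
  let bs := Module.Free.chooseBasis ℤ A
  choose c hc using fun j => hdiv (bs.coord j)
  refine ⟨∑ j, c j • bs j, ?_⟩
  have ha : a = n • ∑ j, c j • bs j := by
    rw [← bs.sum_repr a, Finset.smul_sum]
    refine Finset.sum_congr rfl fun j _ => ?_
    have : bs.repr a j = n * c j := hc j
    rw [this, mul_smul]
  rw [ha, map_smul] at h
  exact smul_right_injective _ hn h

/-- the flasque quotient. -/
abbrev FQ : Type := (S ρ.dual → ℤ) ⧸ LinearMap.range (ev ρ)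

instance : Module.IsTorsionFree ℤ (FQ ρ) :=
  .of_smul_eq_zero (by
    intro n m h
    by_cases hn : n = 0
    · exact Or.inl hn
    · right
      obtain ⟨φ, rfl⟩ := Submodule.mkQ_surjective _ m
      rw [Submodule.mkQ_apply, ← Submodule.Quotient.mk_smul, Submodule.Quotient.mk_eq_zero] at h
      obtain ⟨a, ha⟩ := h
      obtain ⟨a', rfl⟩ := ev_saturated ρ n hn φ a ha.symm
      rw [Submodule.mkQ_apply, Submodule.Quotient.mk_eq_zero]
      exact ⟨a', rfl⟩)

instance : Module.Free ℤ (FQ ρ) := inferInstance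

/-- the representation on the flasque quotient. -/
def repFQ : Representation ℤ G (FQ ρ) :=
  quotRep ρ (perm (S ρ.dual)) (ev ρ) (isEquivariant_ev ρ)

theorem isFlasque_repFQ : IsFlasque (repFQ ρ) := by
  classical
  intro H m hm
  letI : Fintype H := Fintype.ofFinite H
  rw [finsum_eq_sum_of_fintype] at hm
  obtain ⟨φ, rfl⟩ := Submodule.mkQ_surjective _ m
  have h1 : ∑ h : H, repFQ ρ (h : G) ((LinearMap.range (ev ρ)).mkQ φ) =
      (LinearMap.range (ev ρ)).mkQ (∑ h : H, perm (S ρ.dual) (h : G) φ) := by
    rw [map_sum]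
    rfl
  rw [h1, Submodule.mkQ_apply, Submodule.Quotient.mk_eq_zero] at hm
  obtain ⟨a, ha⟩ := hm
  have hainv : ∀ h : H, ρ (h : G) a = a := by
    intro h
    apply ev_injective ρ
    rw [isEquivariant_ev ρ (h : G) a, ha, map_sum]
    have : ∀ a' : H, perm (S ρ.dual) (h : G) (perm (S ρ.dual) (a' : G) φ) =
        perm (S ρ.dual) ((h * a' : H) : G) φ := by
      intro a'
      rw [Subgroup.coe_mul, map_mul]
      rfl
    simp only [this]
    exact Fintype.sum_equiv (Equiv.mulLeft h) _ _ (fun a => rfl)
  have hdiv : ∀ l : Module.Dual ℤ A, (∀ h : H, ρ.dual (h : G) l = l) →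
      (Fintype.card H : ℤ) ∣ l a := by
    intro l hl
    refine inv_induction ρ.dual H (P := fun l => (Fintype.card H : ℤ) ∣ l a) ?_ (by simp)
      (fun l l' h h' => by simpa using dvd_add h h') (fun k l h => by simpa using h.mul_left k) l hl
    intro x hx
    have hx' : ∀ h : H, (h : G)⁻¹ • x = x := by
      intro h
      apply Subtype.ext
      rw [smul_val]
      exact hx h⁻¹
    have := congrFun ha x
    rw [ev_apply, Finset.sum_apply] at this
    simp only [perm_apply, hx', Finset.sum_const, Finset.card_univ] at this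
    exact ⟨φ x, by rw [this]; simp⟩
  obtain ⟨b, hb⟩ := exists_norm_eq ρ H a hainv hdiv
  have h2 : ∑ h : H, perm (S ρ.dual) (h : G) (φ - ev ρ b) = 0 := by
    simp only [map_sub, Finset.sum_sub_distrib]
    rw [← ha, hb, map_sum, sub_eq_zero]
    exact Finset.sum_congr rfl fun h _ => isEquivariant_ev ρ (h : G) b
  have h3 := perm_norm_zero H (φ - ev ρ b) h2
  have h4 : (LinearMap.range (ev ρ)).mkQ φ = (LinearMap.range (ev ρ)).mkQ (φ - ev ρ b) := by
    rw [map_sub]
    have : (LinearMap.range (ev ρ)).mkQ (ev ρ b) = 0 := by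
      rw [Submodule.mkQ_apply, Submodule.Quotient.mk_eq_zero]
      exact ⟨b, rfl⟩
    rw [this, sub_zero]
  rw [h4]
  have h5 := Submodule.apply_mem_span_image_of_mem_span (LinearMap.range (ev ρ)).mkQ h3
  refine Submodule.span_mono ?_ h5
  rintro _ ⟨x, ⟨h, y, rfl⟩, rfl⟩
  exact ⟨h, (LinearMap.range (ev ρ)).mkQ y, by rw [map_sub]; rfl⟩

end FlasqueRes2

end Groth.Agent.Lib.Helper84.GLatRes
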