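import Mathlib
import Groth.Agent.Lib.Helper84.GLatFlasque

/-!
# Pullback / pushout constructions for `G`-lattice resolutions (helper84)
-/

set_option autoImplicit false
set_option linter.unusedSectionVars false

namespace Groth.Agent.Lib.Helper84.GLatRes

open GLat

section Pullback

variable {G : Type} [Group G] {A P₀ P₂ F : Type} [AddCommGroup A] [AddCommGroup P₀]
  [AddCommGroup P₂] [AddCommGroup F]
  (ρ : Representation ℤ G A)
  (τ₀ : Representation ℤ G P₀) (τ₂ : Representation ℤ G P₂) (φ : Representation ℤ G F)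
  (π₀ : P₀ →ₗ[ℤ] F) (π₂ : P₂ →ₗ[ℤ] F)
  (h₀ : IsEquivariant τ₀ φ π₀) (h₂ : IsEquivariant τ₂ φ π₂)

/-- the pullback module. -/
def pb : Submodule ℤ (P₀ × P₂) :=
  LinearMap.ker (π₀.comp (LinearMap.fst ℤ P₀ P₂) - π₂.comp (LinearMap.snd ℤ P₀ P₂))

lemma mem_pb (x : P₀ × P₂) : x ∈ pb π₀ π₂ ↔ π₀ x.1 = π₂ x.2 := by
  simp [pb, sub_eq_zero]

/-- the representation on the pullback. -/
def pbRep : Representation ℤ G (pb π₀ π₂) where
  toFun g := ((τ₀ g).prodMap (τ₂ g)).restrict (p := pb π₀ π₂) (q := pb π₀ π₂) (fun x hx => by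
    rw [mem_pb] at hx ⊢
    simp only [LinearMap.prodMap_apply]
    rw [h₀ g x.1, h₂ g x.2, hx])
  map_one' := by
    ext x <;> simp
  map_mul' g h := by
    ext x <;> simp

@[simp] lemma pbRep_fst (g : G) (x : pb π₀ π₂) :
    ((pbRep τ₀ τ₂ φ π₀ π₂ h₀ h₂ g x : pb π₀ π₂) : P₀ × P₂).1 = τ₀ g (x : P₀ × P₂).1 := rfl

@[simp] lemma pbRep_snd (g : G) (x : pb π₀ π₂) :
    ((pbRep τ₀ τ₂ φ π₀ π₂ h₀ h₂ g x : pb π₀ π₂) : P₀ × P₂).2 = τ₂ g (x : P₀ × P₂).2 := rfl

/-- second projection. -/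
def pbSnd : pb π₀ π₂ →ₗ[ℤ] P₂ := (LinearMap.snd ℤ P₀ P₂).comp (pb π₀ π₂).subtype

lemma isEquivariant_pbSnd : IsEquivariant (pbRep τ₀ τ₂ φ π₀ π₂ h₀ h₂) τ₂ (pbSnd π₀ π₂) :=
  fun _ _ => rfl

lemma pbSnd_surjective (hπ₀ : Function.Surjective π₀) : Function.Surjective (pbSnd π₀ π₂) := by
  intro p₂
  obtain ⟨p₀, hp₀⟩ := hπ₀ (π₂ p₂)
  exact ⟨⟨(p₀, p₂), (mem_pb π₀ π₂ _).2 hp₀⟩, rfl⟩

variable (i : A →ₗ[ℤ] P₀) (hi : IsEquivariant ρ τ₀ i) (hex : LinearMap.range i = LinearMap.ker π₀)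

include hex in
lemma comp_eq_zero (a : A) : π₀ (i a) = 0 := by
  have : i a ∈ LinearMap.ker π₀ := by
    rw [← hex]
    exact ⟨a, rfl⟩
  exact this

/-- the inclusion of the kernel. -/
def pbInl : A →ₗ[ℤ] pb π₀ π₂ :=
  LinearMap.codRestrict (pb π₀ π₂) ((LinearMap.inl ℤ P₀ P₂).comp i) (fun a => by
    rw [mem_pb]
    simp [comp_eq_zero π₀ i hex a])

include hi in
lemma isEquivariant_pbInl :
    IsEquivariant ρ (pbRep τ₀ τ₂ φ π₀ π₂ h₀ h₂) (pbInl π₀ π₂ i hex) := by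
  intro g a
  apply Subtype.ext
  apply Prod.ext
  · exact hi g a
  · change (0 : P₂) = τ₂ g 0
    rw [map_zero]

lemma pbInl_injective (hinj : Function.Injective i) : Function.Injective (pbInl π₀ π₂ i hex) := by
  intro a b hab
  apply hinj
  have := congrArg (fun x : pb π₀ π₂ => (x : P₀ × P₂).1) hab
  exact this

lemma range_pbInl : LinearMap.range (pbInl π₀ π₂ i hex) = LinearMap.ker (pbSnd π₀ π₂) := by
  ext x
  constructor
  · rintro ⟨a, rfl⟩
    rfl
  · intro hx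
    have hx2 : (x : P₀ × P₂).2 = 0 := hx
    have hx1 : (x : P₀ × P₂).1 ∈ LinearMap.ker π₀ := by
      have := (mem_pb π₀ π₂ _).1 x.2
      rw [LinearMap.mem_ker, this, hx2, map_zero]
    rw [← hex] at hx1
    obtain ⟨a, ha⟩ := hx1
    refine ⟨a, ?_⟩
    apply Subtype.ext
    apply Prod.ext
    · exact ha
    · exact hx2.symm

include h₀ h₂ in
theorem isCoflasque_pb (hτ₀ : IsCoflasque τ₀) (hτ₂ : IsCoflasque τ₂)
    (hsurj : ∀ (H : Subgroup G) (δ : F), (∀ h : H, φ (h : G) δ = δ) →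
      ∃ p' : P₂, (∀ h : H, τ₂ (h : G) p' = p') ∧ π₂ p' = δ) :
    IsCoflasque (pbRep τ₀ τ₂ φ π₀ π₂ h₀ h₂) := by
  intro H f hf
  obtain ⟨p₀, hp₀⟩ := hτ₀ H (fun a => ((f a : pb π₀ π₂) : P₀ × P₂).1) (fun a b => by
    have := congrArg (fun x : pb π₀ π₂ => (x : P₀ × P₂).1) (hf a b)
    simpa using this)
  obtain ⟨p₂, hp₂⟩ := hτ₂ H (fun a => ((f a : pb π₀ π₂) : P₀ × P₂).2) (fun a b => by
    have := congrArg (fun x : pb π₀ π₂ => (x : P₀ × P₂).2) (hf a b)
    simpa using this)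
  have hmem : ∀ a : H, π₀ ((f a : pb π₀ π₂) : P₀ × P₂).1 = π₂ ((f a : pb π₀ π₂) : P₀ × P₂).2 :=
    fun a => (mem_pb π₀ π₂ _).1 (f a).2
  have hδ : ∀ h : H, φ (h : G) (π₀ p₀ - π₂ p₂) = π₀ p₀ - π₂ p₂ := by
    intro h
    rw [map_sub, ← h₀, ← h₂]
    have e0 : τ₀ (h : G) p₀ = ((f h : pb π₀ π₂) : P₀ × P₂).1 + p₀ := by rw [hp₀ h]; abel
    have e2 : τ₂ (h : G) p₂ = ((f h : pb π₀ π₂) : P₀ × P₂).2 + p₂ := by rw [hp₂ h]; abel
    rw [e0, e2, map_add, map_add, hmem h]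
    abel
  obtain ⟨p', hp'inv, hp'⟩ := hsurj H _ hδ
  refine ⟨⟨(p₀, p₂ + p'), by rw [mem_pb]; simp only; rw [map_add, hp']; abel⟩, fun a => ?_⟩
  apply Subtype.ext
  apply Prod.ext
  · exact hp₀ a
  · change ((f a : pb π₀ π₂) : P₀ × P₂).2 = τ₂ (a : G) (p₂ + p') - (p₂ + p')
    rw [map_add, hp'inv a, hp₂ a]
    abel

end Pullback

section FlasqueExt

variable {G : Type} [Group G] [Finite G]

lemma isFlasque_perm {X : Type} [MulAction G X] [Finite X] : IsFlasque (perm (G := G) X) := by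
  intro H m hm
  letI : Fintype H := Fintype.ofFinite H
  rw [finsum_eq_sum_of_fintype] at hm
  exact perm_norm_zero H m hm

variable {K E P : Type} [AddCommGroup K] [AddCommGroup E] [AddCommGroup P]
  (κ : Representation ℤ G K) (ε : Representation ℤ G E) (π' : Representation ℤ G P)
  (j : K →ₗ[ℤ] E) (p : E →ₗ[ℤ] P) (hje : IsEquivariant κ ε j) (hpe : IsEquivariant ε π' p)
  (hj : Function.Injective j) (hex : LinearMap.range j = LinearMap.ker p)
  (hp : Function.Surjective p)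

include hje hpe hj hex hp in
/-- extensions of flasque modules are flasque. -/
theorem isFlasque_ext (hK : IsFlasque κ) (hP : IsFlasque π') : IsFlasque ε := by
  intro H m hm
  letI : Fintype H := Fintype.ofFinite H
  rw [finsum_eq_sum_of_fintype] at hm
  have h1 : ∑ᶠ h : H, π' (h : G) (p m) = 0 := by
    rw [finsum_eq_sum_of_fintype]
    simp only [← hpe _ _]
    rw [← map_sum, hm, map_zero]
  have h2 := hP H (p m) h1
  have lift : ∀ z ∈ aug π' H, ∃ e ∈ aug ε H, p e = z := by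
    intro z hz
    induction hz using Submodule.span_induction with
    | mem x hx =>
      obtain ⟨h, y, rfl⟩ := hx
      obtain ⟨y', rfl⟩ := hp y
      exact ⟨ε (h : G) y' - y', Submodule.subset_span ⟨h, y', rfl⟩, by rw [map_sub, hpe]⟩
    | zero => exact ⟨0, Submodule.zero_mem _, map_zero _⟩
    | add x y _ _ hx hy =>
      obtain ⟨e, he, rfl⟩ := hx
      obtain ⟨e', he', rfl⟩ := hy
      exact ⟨e + e', Submodule.add_mem _ he he', map_add _ _ _⟩
    | smul n x _ hx =>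
      obtain ⟨e, he, rfl⟩ := hx
      exact ⟨n • e, Submodule.smul_mem _ _ he, map_smul _ _ _⟩
  obtain ⟨e, he, hpe'⟩ := lift _ h2
  have h3 : m - e ∈ LinearMap.range j := by
    rw [hex, LinearMap.mem_ker, map_sub, hpe', sub_self]
  obtain ⟨k, hk⟩ := h3
  have h4 : ∑ h : H, ε (h : G) (m - e) = 0 := by
    simp only [map_sub, Finset.sum_sub_distrib]
    rw [hm, norm_aug ε H e he, sub_zero]
  have h5 : ∑ h : H, κ (h : G) k = 0 := by
    apply hj
    rw [map_sum, map_zero]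
    simp only [hje _ _, hk]
    exact h4
  have h6 := hK H k (by rw [finsum_eq_sum_of_fintype]; exact h5)
  have h7 : j k ∈ aug ε H := by
    have := Submodule.apply_mem_span_image_of_mem_span j h6
    refine Submodule.span_mono ?_ this
    rintro _ ⟨x, ⟨h, y, rfl⟩, rfl⟩
    exact ⟨h, j y, by rw [map_sub, hje]⟩
  have : m = e + j k := by rw [hk]; abel
  rw [this]
  exact Submodule.add_mem _ he h7

end FlasqueExt

section Pushout

variable {G : Type} [Group G] {Q P₁ P₀ A : Type} [AddCommGroup Q] [AddCommGroup P₁]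
  [AddCommGroup P₀] [AddCommGroup A]
  (κ : Representation ℤ G Q) (τ₁ : Representation ℤ G P₁) (τ₀ : Representation ℤ G P₀)
  (ρ : Representation ℤ G A)
  (j : Q →ₗ[ℤ] P₁) (i : Q →ₗ[ℤ] P₀) (π₁ : P₁ →ₗ[ℤ] A)
  (hj : IsEquivariant κ τ₁ j) (hi : IsEquivariant κ τ₀ i) (hπ₁ : IsEquivariant τ₁ ρ π₁)

/-- product representation. -/
def prodRep : Representation ℤ G (P₁ × P₀) where
  toFun g := (τ₁ g).prodMap (τ₀ g)
  map_one' := by
    ext x <;> simp
  map_mul' g h := by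
    ext x <;> simp

@[simp] lemma prodRep_apply (g : G) (x : P₁ × P₀) :
    prodRep τ₁ τ₀ g x = (τ₁ g x.1, τ₀ g x.2) := rfl

/-- the antidiagonal map. -/
def dmap : Q →ₗ[ℤ] P₁ × P₀ := j.prod (-i)

@[simp] lemma dmap_apply (q : Q) : dmap j i q = (j q, - i q) := rfl

include hj hi in
lemma isEquivariant_dmap : IsEquivariant κ (prodRep τ₁ τ₀) (dmap j i) := by
  intro g q
  rw [dmap_apply, prodRep_apply, dmap_apply, hj, hi]
  simp

/-- the pushout. -/
abbrev PO : Type := (P₁ × P₀) ⧸ LinearMap.range (dmap j i)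

/-- the representation on the pushout. -/
def repPO : Representation ℤ G (PO j i) :=
  quotRep κ (prodRep τ₁ τ₀) (dmap j i) (isEquivariant_dmap κ τ₁ τ₀ j i hj hi)

/-- inclusion of `P₀`. -/
def inc₀ : P₀ →ₗ[ℤ] PO j i := (LinearMap.range (dmap j i)).mkQ.comp (LinearMap.inr ℤ P₁ P₀)

/-- inclusion of `P₁`. -/
def inc₁ : P₁ →ₗ[ℤ] PO j i := (LinearMap.range (dmap j i)).mkQ.comp (LinearMap.inl ℤ P₁ P₀)

lemma isEquivariant_inc₀ : IsEquivariant τ₀ (repPO κ τ₁ τ₀ j i hj hi) (inc₀ j i) := by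
  intro g x
  change Submodule.Quotient.mk ((0 : P₁), τ₀ g x) =
    Submodule.Quotient.mk (prodRep τ₁ τ₀ g ((0 : P₁), x))
  rw [prodRep_apply]
  simp

lemma isEquivariant_inc₁ : IsEquivariant τ₁ (repPO κ τ₁ τ₀ j i hj hi) (inc₁ j i) := by
  intro g x
  change Submodule.Quotient.mk (τ₁ g x, (0 : P₀)) =
    Submodule.Quotient.mk (prodRep τ₁ τ₀ g (x, (0 : P₀)))
  rw [prodRep_apply]
  simp

lemma inc₀_injective (hjinj : Function.Injective j) : Function.Injective (inc₀ j i) := by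
  rw [← LinearMap.ker_eq_bot, LinearMap.ker_eq_bot']
  intro x hx
  change Submodule.Quotient.mk ((0 : P₁), x) = (0 : PO j i) at hx
  rw [Submodule.Quotient.mk_eq_zero] at hx
  obtain ⟨q, hq⟩ := hx
  rw [dmap_apply, Prod.mk.injEq] at hq
  have hq0 : q = 0 := hjinj (by rw [hq.1, map_zero])
  rw [← hq.2, hq0, map_zero, neg_zero]

lemma inc₁_injective (hiinj : Function.Injective i) : Function.Injective (inc₁ j i) := by
  rw [← LinearMap.ker_eq_bot, LinearMap.ker_eq_bot']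
  intro x hx
  change Submodule.Quotient.mk (x, (0 : P₀)) = (0 : PO j i) at hx
  rw [Submodule.Quotient.mk_eq_zero] at hx
  obtain ⟨q, hq⟩ := hx
  rw [dmap_apply, Prod.mk.injEq] at hq
  have hq0 : q = 0 := hiinj (by rw [map_zero, ← neg_eq_zero]; exact hq.2)
  rw [← hq.1, hq0, map_zero]

variable (hex : LinearMap.range j = LinearMap.ker π₁)

include hex in
lemma pi_j (q : Q) : π₁ (j q) = 0 := by
  have : j q ∈ LinearMap.ker π₁ := by
    rw [← hex]
    exact ⟨q, rfl⟩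
  exact this

/-- the map to `A`. -/
def toA : PO j i →ₗ[ℤ] A :=
  (LinearMap.range (dmap j i)).liftQ (π₁.comp (LinearMap.fst ℤ P₁ P₀)) (by
    rintro _ ⟨q, rfl⟩
    rw [LinearMap.mem_ker, LinearMap.comp_apply, dmap_apply]
    exact pi_j j π₁ hex q)

@[simp] lemma toA_mk (x : P₁ × P₀) : toA j i π₁ hex (Submodule.Quotient.mk x) = π₁ x.1 := rfl

include hπ₁ in
lemma isEquivariant_toA : IsEquivariant (repPO κ τ₁ τ₀ j i hj hi) ρ (toA j i π₁ hex) := by
  intro g m
  obtain ⟨x, rfl⟩ := Submodule.mkQ_surjective _ m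
  change toA j i π₁ hex (Submodule.Quotient.mk (prodRep τ₁ τ₀ g x)) =
    ρ g (toA j i π₁ hex (Submodule.Quotient.mk x))
  rw [toA_mk, toA_mk, prodRep_apply, hπ₁]

lemma toA_surjective (hsurj : Function.Surjective π₁) : Function.Surjective (toA j i π₁ hex) := by
  intro a
  obtain ⟨p, rfl⟩ := hsurj a
  exact ⟨Submodule.Quotient.mk (p, 0), rfl⟩

lemma range_inc₀ : LinearMap.range (inc₀ j i) = LinearMap.ker (toA j i π₁ hex) := by
  ext m
  constructor
  · rintro ⟨x, rfl⟩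
    change π₁ 0 = 0
    exact map_zero _
  · intro hm
    obtain ⟨x, rfl⟩ := Submodule.mkQ_surjective _ m
    rw [LinearMap.mem_ker, Submodule.mkQ_apply, toA_mk] at hm
    have : x.1 ∈ LinearMap.range j := by rw [hex]; exact hm
    obtain ⟨q, hq⟩ := this
    refine ⟨x.2 + i q, ?_⟩
    change Submodule.Quotient.mk ((0 : P₁), x.2 + i q) = Submodule.Quotient.mk x
    rw [Submodule.Quotient.eq]
    refine ⟨-q, ?_⟩
    rw [map_neg, dmap_apply]
    apply Prod.ext
    · simp [hq]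
    · simp

/-- the map to `P₀ / Q`. -/
def toF : PO j i →ₗ[ℤ] P₀ ⧸ LinearMap.range i :=
  (LinearMap.range (dmap j i)).liftQ ((LinearMap.range i).mkQ.comp (LinearMap.snd ℤ P₁ P₀)) (by
    rintro _ ⟨q, rfl⟩
    rw [LinearMap.mem_ker, LinearMap.comp_apply, dmap_apply]
    change (LinearMap.range i).mkQ (- i q) = 0
    rw [Submodule.mkQ_apply, Submodule.Quotient.mk_eq_zero]
    exact ⟨-q, map_neg _ _⟩)

@[simp] lemma toF_mk (x : P₁ × P₀) :
    toF j i (Submodule.Quotient.mk x) = Submodule.Quotient.mk x.2 := rfl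

lemma isEquivariant_toF :
    IsEquivariant (repPO κ τ₁ τ₀ j i hj hi) (quotRep κ τ₀ i hi) (toF j i) := by
  intro g m
  obtain ⟨x, rfl⟩ := Submodule.mkQ_surjective _ m
  rfl

lemma toF_surjective : Function.Surjective (toF j i) := by
  intro f
  obtain ⟨p, rfl⟩ := Submodule.mkQ_surjective _ f
  exact ⟨Submodule.Quotient.mk (0, p), rfl⟩

lemma range_inc₁ : LinearMap.range (inc₁ j i) = LinearMap.ker (toF j i) := by
  ext m
  constructor
  · rintro ⟨x, rfl⟩
    change Submodule.Quotient.mk (0 : P₀) = (0 : P₀ ⧸ LinearMap.range i)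
    exact Submodule.Quotient.mk_zero _
  · intro hm
    obtain ⟨x, rfl⟩ := Submodule.mkQ_surjective _ m
    rw [LinearMap.mem_ker, Submodule.mkQ_apply, toF_mk, Submodule.Quotient.mk_eq_zero] at hm
    obtain ⟨q, hq⟩ := hm
    refine ⟨x.1 + j q, ?_⟩
    change Submodule.Quotient.mk (x.1 + j q, (0 : P₀)) = Submodule.Quotient.mk x
    rw [Submodule.Quotient.eq]
    refine ⟨q, ?_⟩
    rw [dmap_apply]
    apply Prod.ext
    · simp
    · simp [hq]

lemma torsionFree_PO [Module.IsTorsionFree ℤ P₁] (hiinj : Function.Injective i)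
    (hsat : ∀ (n : ℤ), n ≠ 0 → ∀ (φ : P₀) (q : Q), n • φ = i q → ∃ q' : Q, φ = i q') :
    Module.IsTorsionFree ℤ (PO j i) :=
  .of_smul_eq_zero (by
    intro n m h
    by_cases hn : n = 0
    · exact Or.inl hn
    · right
      obtain ⟨x, rfl⟩ := Submodule.mkQ_surjective _ m
      rw [Submodule.mkQ_apply, ← Submodule.Quotient.mk_smul, Submodule.Quotient.mk_eq_zero] at h
      obtain ⟨q, hq⟩ := h
      rw [dmap_apply, Prod.ext_iff] at hq
      simp only [Prod.smul_fst, Prod.smul_snd] at hq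
      obtain ⟨q', hq'⟩ := hsat n hn x.2 (-q) (by rw [map_neg]; exact hq.2.symm)
      have hqq : q = - (n • q') := by
        apply hiinj
        rw [map_neg, map_smul, ← hq', ← hq.2, neg_neg]
      have h1 : x.1 = - j q' := by
        apply smul_right_injective P₁ hn
        change n • x.1 = n • (- j q')
        rw [← hq.1, hqq, map_neg, map_smul, smul_neg]
      rw [Submodule.mkQ_apply, Submodule.Quotient.mk_eq_zero]
      refine ⟨-q', ?_⟩
      rw [dmap_apply]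
      apply Prod.ext
      · simp [h1]
      · simp [hq'])

end Pushout

end Groth.Agent.Lib.Helper84.GLatRes
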