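import Mathlib
import Groth.Agent.Lib.Helper84.GLatExt

/-!
# Coflasque lattices in the language of `Rep` (helper84)
-/

set_option autoImplicit false
set_option linter.unusedSectionVars false

open CategoryTheory GLat

namespace Groth.Agent.Lib.Helper84.GLatRes

section Bridge

variable {Γ : Type} [Group Γ]

/-- coflasque, in `Rep` terms. -/
def CF (Λ : Rep ℤ Γ) : Prop :=
  ∀ (Γ' : Subgroup Γ) (f : Γ' → Λ.V), (∀ a b : Γ', f (a * b) = f a + Λ.ρ (a : Γ) (f b)) →
    ∃ m : Λ.V, ∀ a : Γ', f a = Λ.ρ (a : Γ) m - m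

lemma cf_of_H1 (Λ : Rep ℤ Γ)
    (h : ∀ Γ' : Subgroup Γ, Limits.IsZero (groupCohomology (Rep.res Γ'.subtype Λ) 1)) :
    CF Λ := by
  intro Γ' f hf
  have hmem : f ∈ groupCohomology.cocycles₁ (Rep.res Γ'.subtype Λ) := by
    rw [groupCohomology.mem_cocycles₁_iff]
    intro a b
    rw [hf a b, add_comm]
    rfl
  have h0 : groupCohomology.H1π (Rep.res Γ'.subtype Λ) ⟨f, hmem⟩ = 0 := by
    have := (h Γ').eq_of_tgt (groupCohomology.H1π (Rep.res Γ'.subtype Λ)) 0
    rw [this]
    rfl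
  rw [groupCohomology.H1π_eq_zero_iff] at h0
  obtain ⟨m, hm⟩ := h0
  refine ⟨m, fun a => ?_⟩
  have := congrFun hm a
  exact this.symm

lemma H1_of_cf (Λ : Rep ℤ Γ) (h : CF Λ) (Γ' : Subgroup Γ) :
    Limits.IsZero (groupCohomology (Rep.res Γ'.subtype Λ) 1) := by
  have : Subsingleton (groupCohomology (Rep.res Γ'.subtype Λ) 1) := by
    refine ⟨fun x y => ?_⟩
    have key : ∀ z : groupCohomology.H1 (Rep.res Γ'.subtype Λ), z = 0 := by
      intro z
      induction z using groupCohomology.H1_induction_on with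
      | h c =>
        rw [groupCohomology.H1π_eq_zero_iff]
        have hc := (groupCohomology.mem_cocycles₁_iff (A := Rep.res Γ'.subtype Λ) c).1 c.2
        obtain ⟨m, hm⟩ := h Γ' c (fun a b => by
          have := hc a b
          rw [add_comm] at this
          exact this)
        refine ⟨m, ?_⟩
        funext a
        exact (hm a).symm
    rw [key x, key y]
  exact ModuleCat.isZero_of_subsingleton _

lemma cf_of_iso {Λ Λ' : Rep ℤ Γ} (e : Λ ≅ Λ') (h : CF Λ) : CF Λ' := by
  intro Γ' f hf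
  obtain ⟨m, hm⟩ := h Γ' (fun a => e.inv.hom (f a)) (fun a b => by
    rw [hf a b, map_add, Rep.hom_comm_apply])
  refine ⟨e.hom.hom m, fun a => ?_⟩
  have := congrArg e.hom.hom (hm a)
  rw [Rep.hom_inv_apply, map_sub, Rep.hom_comm_apply] at this
  exact this

end Bridge

section PermIso

variable {Γ : Type} [Group Γ] (X : Type) [MulAction Γ X] [Finite X]

/-- the linear equivalence `(X → ℤ) ≃ ℤ[X]`. -/
noncomputable def permLinEquiv : (X → ℤ) ≃ₗ[ℤ] MonoidAlgebra ℤ X :=
  (Finsupp.linearEquivFunOnFinite ℤ ℤ X).symm ≪≫ₗ (MonoidAlgebra.coeffLinearEquiv ℤ).symm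

lemma permLinEquiv_single [DecidableEq X] (x : X) (n : ℤ) :
    permLinEquiv X (Pi.single x n) = MonoidAlgebra.single x n := by
  unfold permLinEquiv
  rw [LinearEquiv.trans_apply, Finsupp.linearEquivFunOnFinite_symm_single]
  rfl

/-- `perm X` is the permutation representation. -/
noncomputable def permEquiv : (perm (G := Γ) X).Equiv (Representation.ofMulAction ℤ Γ X) :=
  .mk (permLinEquiv X) (fun g => by
    classical
    apply LinearMap.pi_ext
    intro x n
    simp only [LinearMap.comp_apply, LinearEquiv.coe_coe]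
    rw [perm_single, permLinEquiv_single, permLinEquiv_single,
      Representation.ofMulAction_single])

/-- the isomorphism in `Rep`. -/
noncomputable def permIso : Rep.of (perm (G := Γ) X) ≅ Rep.ofMulAction ℤ Γ X :=
  Rep.mkIso (permEquiv X)

end PermIso

section Split

attribute [-instance] AddCommGroup.toIntModule

variable {Γ : Type} [Group Γ] [Finite Γ] (X : Type) [MulAction Γ X] [Finite X]

lemma pi_ext_one [DecidableEq X] {M : Type} [AddCommGroup M] [Module ℤ M]
    (f g : (X → ℤ) →ₗ[ℤ] M)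
    (h : ∀ x, f (Pi.single x 1) = g (Pi.single x 1)) : f = g := by
  apply LinearMap.pi_ext'
  intro x
  apply LinearMap.ext_ring
  simpa using h x

theorem splitting_of_cf (E : ShortComplex (Rep ℤ Γ)) (hE : E.ShortExact) (hcf : CF E.X₁)
    (e₃ : E.X₃ ≅ Rep.of (perm (G := Γ) X)) : Nonempty E.Splitting := by
  classical
  letI := Fintype.ofFinite X
  have hf_inj : Function.Injective E.f.hom := (Rep.mono_iff_injective _).1 hE.mono_f
  have hg_surj : Function.Surjective E.g.hom := (Rep.epi_iff_surjective _).1 hE.epi_g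
  have hex : LinearMap.range E.f.hom.toLinearMap = LinearMap.ker E.g.hom.toLinearMap :=
    (hE.exact.map (forget₂ (Rep ℤ Γ) (ModuleCat ℤ))).moduleCat_range_eq_ker
  have hgf : ∀ u : E.X₁.V, E.g.hom (E.f.hom u) = 0 := by
    intro u
    have : E.f.hom.toLinearMap u ∈ LinearMap.ker E.g.hom.toLinearMap := by
      rw [← hex]
      exact ⟨u, rfl⟩
    exact this
  let δ : X → E.X₃.V := fun x => e₃.inv.hom (Pi.single x (1 : ℤ))
  have hδ : ∀ (γ : Γ) (x : X), E.X₃.ρ γ (δ x) = δ (γ • x) := by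
    intro γ x
    have := Rep.hom_comm_apply e₃.inv γ (Pi.single x (1 : ℤ))
    rw [← this]
    change e₃.inv.hom (perm X γ (Pi.single x 1)) = _
    rw [perm_single]
  -- fixed lifts
  have hlift : ∀ x₀ : X, ∃ w : E.X₂.V, E.g.hom w = δ x₀ ∧
      ∀ k : Γ, k • x₀ = x₀ → E.X₂.ρ k w = w := by
    intro x₀
    obtain ⟨e, he⟩ := hg_surj (δ x₀)
    have hker : ∀ k : MulAction.stabilizer Γ x₀, ∃ u : E.X₁.V,
        E.f.hom u = E.X₂.ρ (k : Γ) e - e := by
      intro k
      have : E.X₂.ρ (k : Γ) e - e ∈ LinearMap.ker E.g.hom.toLinearMap := by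
        rw [LinearMap.mem_ker]
        change E.g.hom (E.X₂.ρ (k : Γ) e - e) = 0
        rw [map_sub, Rep.hom_comm_apply, he, hδ, k.2, sub_self]
      rw [← hex] at this
      exact this
    choose c hc using hker
    have hcoc : ∀ a b : MulAction.stabilizer Γ x₀, c (a * b) = c a + E.X₁.ρ (a : Γ) (c b) := by
      intro a b
      apply hf_inj
      rw [map_add, Rep.hom_comm_apply, hc, hc, hc, Subgroup.coe_mul, map_mul]
      simp only [Module.End.mul_apply, map_sub]
      abel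
    obtain ⟨m, hm⟩ := hcf _ c hcoc
    refine ⟨e - E.f.hom m, ?_, ?_⟩
    · rw [map_sub, hgf, sub_zero, he]
    · intro k hk
      have h1 := hc ⟨k, hk⟩
      have h2 := hm ⟨k, hk⟩
      simp only at h1 h2
      rw [map_sub, ← Rep.hom_comm_apply]
      have h3 : E.X₂.ρ k e = e + E.f.hom (c ⟨k, hk⟩) := by rw [h1]; abel
      rw [h3, h2, map_sub]
      abel
  choose w hw_g hw_fix using hlift
  obtain ⟨rep, tr, htr, hrep_smul, _⟩ := exists_rep (X := X) (⊤ : Subgroup Γ)
  let v : X → E.X₂.V := fun x => E.X₂.ρ (tr x : Γ) (w (rep x))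
  have hv_g : ∀ x, E.g.hom (v x) = δ x := by
    intro x
    change E.g.hom (E.X₂.ρ (tr x : Γ) (w (rep x))) = δ x
    rw [Rep.hom_comm_apply, hw_g, hδ]
    congr 1
    exact htr x
  have hv_eq : ∀ (γ : Γ) (x : X), E.X₂.ρ γ (v x) = v (γ • x) := by
    intro γ x
    change E.X₂.ρ γ (E.X₂.ρ (tr x : Γ) (w (rep x))) =
      E.X₂.ρ (tr (γ • x) : Γ) (w (rep (γ • x)))
    have hr : rep (γ • x) = rep x := hrep_smul ⟨γ, Subgroup.mem_top γ⟩ x
    rw [hr]
    have hk : ((tr (γ • x) : Γ)⁻¹ * γ * (tr x : Γ)) • rep x = rep x := by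
      rw [mul_smul, mul_smul]
      have h1 : (tr x : Γ) • rep x = x := htr x
      have h2 : (tr (γ • x) : Γ) • rep x = γ • x := by
        have := htr (γ • x)
        rw [hr] at this
        exact this
      rw [h1, inv_smul_eq_iff, h2]
    have := hw_fix (rep x) _ hk
    have h3 : E.X₂.ρ (tr (γ • x) : Γ) (E.X₂.ρ ((tr (γ • x) : Γ)⁻¹ * γ * (tr x : Γ)) (w (rep x))) =
        E.X₂.ρ γ (E.X₂.ρ (tr x : Γ) (w (rep x))) := by
      rw [← Module.End.mul_apply, ← map_mul, ← Module.End.mul_apply, ← map_mul]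
      congr 2
      group
    rw [← h3, this]
  -- the section
  let sl : (X → ℤ) →ₗ[ℤ] E.X₂.V := Fintype.linearCombination ℤ v
  have hsl : ∀ (x : X), sl (Pi.single x 1) = v x := fun x => by
    change Fintype.linearCombination ℤ v (Pi.single x 1) = v x
    rw [Fintype.linearCombination_apply_single]
    exact @one_smul ℤ _ _ E.X₂.hV2.toMulAction _
  let si : (perm (G := Γ) X).IntertwiningMap E.X₂.ρ :=
    LinearMap.intertwiningMap_of_isIntertwiningMap _ _ sl (by
      intro γ φ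
      have h : sl.comp (perm X γ) = (E.X₂.ρ γ).comp sl := by
        apply pi_ext_one
        intro x
        simp only [LinearMap.comp_apply]
        rw [perm_single, hsl, hsl, hv_eq]
      exact congrArg (fun l => l φ) h)
  let s : Rep.of (perm (G := Γ) X) ⟶ E.X₂ := Rep.ofHom (σ := E.X₂.ρ) si
  have hs : s ≫ E.g = e₃.inv := by
    apply Rep.hom_ext
    apply Representation.IntertwiningMap.ext
    apply pi_ext_one
    intro x
    change E.g.hom (sl (Pi.single x 1)) = e₃.inv.hom (Pi.single x 1)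
    rw [hsl, hv_g]
  exact ⟨ShortComplex.Splitting.ofExactOfSection E hE.exact (e₃.hom ≫ s)
    (by rw [Category.assoc, hs, Iso.hom_inv_id]) hE.mono_f⟩

end Split

section MkSC

attribute [-instance] AddCommGroup.toIntModule

variable {Γ : Type} [Group Γ] {A Q P : Type} [AddCommGroup A] [AddCommGroup Q] [AddCommGroup P]
  [Module ℤ A] [Module ℤ Q] [Module ℤ P]
  (ρ : Representation ℤ Γ A) (κ : Representation ℤ Γ Q) (τ : Representation ℤ Γ P)
  (i : A →ₗ[ℤ] Q) (p : Q →ₗ[ℤ] P)
  (hi : ∀ (g : Γ) (a : A), i (ρ g a) = κ g (i a)) (hp : ∀ (g : Γ) (q : Q), p (κ g q) = τ g (p q))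
  (hex : LinearMap.range i = LinearMap.ker p)

/-- the short complex in `Rep` attached to equivariant maps. -/
noncomputable def mkSC : ShortComplex (Rep ℤ Γ) :=
  ShortComplex.mk (X₁ := Rep.of ρ) (X₂ := Rep.of κ) (X₃ := Rep.of τ)
    (Rep.ofHom (LinearMap.intertwiningMap_of_isIntertwiningMap ρ κ i hi))
    (Rep.ofHom (LinearMap.intertwiningMap_of_isIntertwiningMap κ τ p hp)) (by
      apply Rep.hom_ext
      apply Representation.IntertwiningMap.ext
      apply LinearMap.ext
      intro a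
      have : i a ∈ LinearMap.ker p := by
        rw [← hex]
        exact ⟨a, rfl⟩
      exact this)

lemma mkSC_shortExact (hinj : Function.Injective i) (hsurj : Function.Surjective p) :
    (mkSC ρ κ τ i p hi hp hex).ShortExact := by
  have hexact : (mkSC ρ κ τ i p hi hp hex).Exact := by
    rw [← ShortComplex.exact_map_iff_of_faithful _ (forget₂ (Rep ℤ Γ) (ModuleCat ℤ)),
      ShortComplex.moduleCat_exact_iff_range_eq_ker]
    exact hex
  have hmono : Mono (mkSC ρ κ τ i p hi hp hex).f := (Rep.mono_iff_injective _).2 hinj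
  have hepi : Epi (mkSC ρ κ τ i p hi hp hex).g := (Rep.epi_iff_surjective _).2 hsurj
  exact ShortComplex.ShortExact.mk' hexact hmono hepi

end MkSC

section Converse

variable {Γ : Type} [Group Γ] [Finite Γ]

lemma isCoflasque_of_retract {A Q : Type} [AddCommGroup A] [AddCommGroup Q]
    (ρ : Representation ℤ Γ A) (κ : Representation ℤ Γ Q) (i : A →ₗ[ℤ] Q) (r : Q →ₗ[ℤ] A)
    (hi : IsEquivariant ρ κ i) (hr : IsEquivariant κ ρ r) (hri : ∀ a, r (i a) = a)
    (hκ : IsCoflasque κ) : IsCoflasque ρ := by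
  intro H f hf
  obtain ⟨q, hq⟩ := hκ H (fun a => i (f a)) (fun a b => by rw [hf a b, map_add, hi])
  refine ⟨r q, fun a => ?_⟩
  have := congrArg r (hq a)
  rw [hri, map_sub, hr] at this
  exact this

theorem isCoflasque_of_split {A : Type} [AddCommGroup A] [Module.Finite ℤ A] [Module.Free ℤ A]
    (ρ : Representation ℤ Γ A)
    (h : ∀ (X : Type) [MulAction Γ X] [Finite X] (E : ShortComplex (Rep ℤ Γ)),
        E.ShortExact → Nonempty (E.X₁ ≅ Rep.of ρ) → Nonempty (E.X₃ ≅ Rep.ofMulAction ℤ Γ X) →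
          Nonempty E.Splitting) : IsCoflasque ρ := by
  -- the coflasque resolution `0 → A → Q → P → 0`
  let π₀ := (LinearMap.range (ev ρ)).mkQ
  let π₂ := cov (repFQ ρ)
  have h₀ : IsEquivariant (perm (S ρ.dual)) (repFQ ρ) π₀ :=
    isEquivariant_mkQ ρ (perm (S ρ.dual)) (ev ρ) (isEquivariant_ev ρ)
  have h₂ : IsEquivariant (perm (S (repFQ ρ))) (repFQ ρ) π₂ := isEquivariant_cov (repFQ ρ)
  have hex : LinearMap.range (ev ρ) = LinearMap.ker π₀ := (Submodule.ker_mkQ _).symm
  let κ := pbRep (perm (S ρ.dual)) (perm (S (repFQ ρ))) (repFQ ρ) π₀ π₂ h₀ h₂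
  let i := pbInl π₀ π₂ (ev ρ) hex
  let p := pbSnd π₀ π₂
  have hi : IsEquivariant ρ κ i :=
    isEquivariant_pbInl ρ _ _ _ _ _ h₀ h₂ (ev ρ) (isEquivariant_ev ρ) hex
  have hp : IsEquivariant κ (perm (S (repFQ ρ))) p := isEquivariant_pbSnd _ _ _ _ _ h₀ h₂
  have hκ : IsCoflasque κ :=
    isCoflasque_pb _ _ _ _ _ h₀ h₂ isCoflasque_perm isCoflasque_perm (cov_surj_inv (repFQ ρ))
  let E : ShortComplex (Rep ℤ Γ) := mkSC ρ κ (perm (G := Γ) (S (repFQ ρ))) i p hi hp
    (range_pbInl π₀ π₂ (ev ρ) hex)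
  have hE : E.ShortExact := mkSC_shortExact ρ κ _ i p hi hp _
    (pbInl_injective π₀ π₂ (ev ρ) hex (ev_injective ρ))
    (pbSnd_surjective π₀ π₂ (Submodule.mkQ_surjective _))
  obtain ⟨σ⟩ := h (S (repFQ ρ)) E hE ⟨Iso.refl _⟩ ⟨permIso _⟩
  refine isCoflasque_of_retract ρ κ i σ.r.hom.toLinearMap hi ?_ ?_ hκ
  · intro g q
    exact Rep.hom_comm_apply σ.r g q
  · intro a
    have := congrArg (fun t : E.X₁ ⟶ E.X₁ => t.hom a) σ.f_r
    exact this

theorem cf_of_split (Λ : Rep ℤ Γ) (hfree : Module.Free ℤ Λ.V) (hfin : Module.Finite ℤ Λ.V)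
    (h : ∀ (X : Type) [MulAction Γ X] [Finite X] (E : ShortComplex (Rep ℤ Γ)),
        E.ShortExact → Nonempty (E.X₁ ≅ Λ) → Nonempty (E.X₃ ≅ Rep.ofMulAction ℤ Γ X) →
          Nonempty E.Splitting) : CF Λ := by
  rcases Λ with ⟨V, ρ⟩
  rename_i hV1 hV2
  have hmod : hV2 = AddCommGroup.toIntModule V := Subsingleton.elim _ _
  subst hmod
  exact isCoflasque_of_split ρ h

end Converse

end Groth.Agent.Lib.Helper84.GLatRes
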