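import Mathlib
import Groth.Agent.Lib.Helper19.Grp.GLnPoints
import Groth.Agent.Lib.Lead.GaTorsor

/-!
# Points of `GL_n` over `Spec B` as matrices over `B` (helper84, for lead's S20007, task M2)

The analogue of `fnm`/`ptm` (Lib/Lead/GmTorsor) for `FrB.GLn n S`:

* `matOf n c` : the matrix over `Γ(T, ⊤)` of a `T`-point `c` of `FrB.GLn n S`; `dOf n c` its inverse
  determinant; `gpt_matOf` : `c = gpt n (matOf n c) (dOf n c) _` (every point is a matrix point);
  `matOf_gpt`.
* `fnM R j n c` : the matrix over `B` of a point `c : ov R j B ⟶ FrB.GLn n S`; `fnM_mul`, `fnM_one`,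
  `fnM_comp`, `fnM_injective`, `exists_pt`.
-/

set_option autoImplicit false
universe u
open CategoryTheory CategoryTheory.Limits MonoidalCategory CartesianMonoidalCategory MonObj
  AlgebraicGeometry
open scoped TensorProduct

namespace Groth.Agent.Lib.Helper84.GLnOv

open Groth.Agent.Lib.Lead.GaTorsor Groth.Agent.Lib.Helper19.GLnPoints

section Z

variable (n : ℕ)

/-- the ring hom out of the coordinate ring attached to a point of `GL_{n,ℤ}` -/
noncomputable def zhom {T' : Over (Spec (CommRingCat.of (ULift.{u} ℤ)))} (c : T' ⟶ FrB.GLZ n) :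
    CoordGrp.GLn n (ULift.{u} ℤ) →+* Γ(T'.left, ⊤) :=
  ((Scheme.ΓSpecIso (CommRingCat.of (CoordGrp.GLn n (ULift.{u} ℤ)))).inv ≫ c.left.appTop).hom

theorem toSpecΓ_SpecMap_inv_appTop {X : Scheme.{u}} (A : CommRingCat.{u}) (f : X ⟶ Spec A) :
    X.toSpecΓ ≫ Spec.map ((Scheme.ΓSpecIso A).inv ≫ f.appTop) = f := by
  rw [Spec.map_comp, ← Category.assoc, ← Scheme.toSpecΓ_naturality, Category.assoc,
    toSpecΓ_SpecMap_ΓSpecIso_inv, Category.comp_id]

theorem zpt_zhom {T' : Over (Spec (CommRingCat.of (ULift.{u} ℤ)))} (c : T' ⟶ FrB.GLZ n) :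
    zpt n (zhom n c) = c := by
  apply Over.OverMorphism.ext
  rw [zpt_left]
  exact toSpecΓ_SpecMap_inv_appTop (CommRingCat.of (CoordGrp.GLn n (ULift.{u} ℤ))) c.left

theorem zhom_zpt {T' : Over (Spec (CommRingCat.of (ULift.{u} ℤ)))}
    (φ : CoordGrp.GLn n (ULift.{u} ℤ) →+* Γ(T'.left, ⊤)) : zhom n (zpt n φ) = φ :=
  zpt_injective n _ _ (zpt_zhom n (zpt n φ))

end Z

section General

variable {S : Scheme.{u}} (n : ℕ)

/-- the point of `GL_{n,ℤ}` adjoint to a point of `GL_{n,S}` -/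
noncomputable def adj {T : Over S} (c : T ⟶ FrB.GLn n S) :
    (Over.map (IsTerminal.from specULiftZIsTerminal S)).obj T ⟶ FrB.GLZ n :=
  ((Over.mapPullbackAdj (IsTerminal.from specULiftZIsTerminal S)).homEquiv T (FrB.GLZ n)).symm c

/-- the matrix of a point of `GL_{n,S}` -/
noncomputable def matOf {T : Over S} (c : T ⟶ FrB.GLn n S) : Matrix (Fin n) (Fin n) Γ(T.left, ⊤) :=
  fun i k => zhom n (adj n c) (CoordGrp.GLn.X i k)

/-- the inverse determinant of a point of `GL_{n,S}` -/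
noncomputable def dOf {T : Over S} (c : T ⟶ FrB.GLn n S) : Γ(T.left, ⊤) :=
  zhom n (adj n c) CoordGrp.GLn.Dinv

theorem map_det_eq {R : Type u} [CommRing R] (φ : CoordGrp.GLn n (ULift.{u} ℤ) →+* R) :
    φ (CoordGrp.GLn.det) = (Matrix.of fun i k => φ (CoordGrp.GLn.X i k)).det := by
  have h1 : (CoordGrp.GLn.det : CoordGrp.GLn n (ULift.{u} ℤ)) =
      (Matrix.of fun i k => (CoordGrp.GLn.X i k : CoordGrp.GLn n (ULift.{u} ℤ))).det := by
    change (CoordGrp.GLn.mk n (ULift.{u} ℤ)) (CoordGrp.GLb.genMat n (ULift.{u} ℤ)).det = _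
    rw [AlgHom.map_det]
    rfl
  rw [h1, RingHom.map_det]
  rfl

theorem det_matOf_mul_dOf {T : Over S} (c : T ⟶ FrB.GLn n S) : (matOf n c).det * dOf n c = 1 := by
  have h := map_det_eq n (zhom n (adj n c))
  have h2 : (Matrix.of fun i k => zhom n (adj n c) (CoordGrp.GLn.X i k)) = matOf n c := rfl
  rw [h2] at h
  unfold dOf
  rw [← h, ← map_mul, CoordGrp.GLn.det_mul_Dinv, map_one]

theorem zhom_adj_eq {T : Over S} (c : T ⟶ FrB.GLn n S) :
    zhom n (adj n c) = mhom n (matOf n c) (dOf n c) (det_matOf_mul_dOf n c) := by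
  apply ringHom_ext_GLn
  · intro i k
    rw [mhom_X]
    rfl
  · rw [mhom_Dinv]
    rfl

/-- every point of `GL_{n,S}` is a matrix point -/
theorem gpt_matOf {T : Over S} (c : T ⟶ FrB.GLn n S) :
    gpt n (matOf n c) (dOf n c) (det_matOf_mul_dOf n c) = c := by
  unfold gpt
  rw [← zhom_adj_eq, zpt_zhom]
  exact ((Over.mapPullbackAdj (IsTerminal.from specULiftZIsTerminal S)).homEquiv T
    (FrB.GLZ n)).apply_symm_apply c

theorem matOf_gpt {T : Over S} (M : Matrix (Fin n) (Fin n) Γ(T.left, ⊤)) (d : Γ(T.left, ⊤))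
    (h : M.det * d = 1) : matOf n (gpt n M d h) = M := by
  have h1 : adj n (gpt n M d h) =
      zpt n (T' := (Over.map (IsTerminal.from specULiftZIsTerminal S)).obj T) (mhom n M d h) :=
    ((Over.mapPullbackAdj (IsTerminal.from specULiftZIsTerminal S)).homEquiv T
      (FrB.GLZ n)).symm_apply_apply _
  ext i k
  change zhom n (adj n (gpt n M d h)) (CoordGrp.GLn.X i k) = M i k
  rw [h1, zhom_zpt, mhom_X]

theorem matOf_injective {T : Over S} {c c' : T ⟶ FrB.GLn n S} (h : matOf n c = matOf n c') :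
    c = c' := by
  rw [← gpt_matOf n c, ← gpt_matOf n c']
  exact gpt_congr n _ _ h

theorem matOf_mul {T : Over S} (c c' : T ⟶ FrB.GLn n S) :
    matOf n (c * c') = matOf n c * matOf n c' := by
  conv_lhs => rw [← gpt_matOf n c, ← gpt_matOf n c', gpt_mul, matOf_gpt]

theorem matOf_one {T : Over S} : matOf n (1 : T ⟶ FrB.GLn n S) = 1 := by
  have h2 : (1 : Matrix (Fin n) (Fin n) Γ(T.left, ⊤)).det * 1 = 1 := by
    rw [Matrix.det_one, _root_.mul_one]
  rw [← gpt_one n (T := T) 1 h2, matOf_gpt]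

theorem matOf_comp {T T₂ : Over S} (g : T₂ ⟶ T) (c : T ⟶ FrB.GLn n S) :
    matOf n (g ≫ c) = g.left.appTop.hom.mapMatrix (matOf n c) := by
  conv_lhs => rw [← gpt_matOf n c, comp_gpt, matOf_gpt]

end General

section Ov

variable {S : Scheme.{u}} (R : CommRingCat.{u}) (j : Spec R ⟶ S) (n : ℕ)
variable {B C : Type u} [CommRing B] [CommRing C] [Algebra R B] [Algebra R C]

/-- global functions on `Spec B` (as the underlying scheme of `ov R j B`) to `B` -/
noncomputable def gamB : Γ((ov R j B).left, ⊤) →+* B :=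
  (Scheme.ΓSpecIso (CommRingCat.of B)).hom.hom

/-- `B` to global functions on `Spec B` (as the underlying scheme of `ov R j B`) -/
noncomputable def gamBinv : B →+* Γ((ov R j B).left, ⊤) :=
  (Scheme.ΓSpecIso (CommRingCat.of B)).inv.hom

theorem gamB_gamBinv (b : B) : gamB R j (gamBinv R j b) = b :=
  congr($((Scheme.ΓSpecIso (CommRingCat.of B)).inv_hom_id) b)

theorem gamBinv_gamB (y : Γ((ov R j B).left, ⊤)) : gamBinv R j (gamB R j y) = y :=
  congr($((Scheme.ΓSpecIso (CommRingCat.of B)).hom_inv_id) y)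

theorem gamB_appTop (φ : B →ₐ[R] C) (y : Γ((ov R j B).left, ⊤)) :
    gamB R j ((ovMap R j φ).left.appTop.hom y) = φ (gamB R j y) :=
  congr($(Scheme.ΓSpecIso_naturality (CommRingCat.ofHom φ.toRingHom)) y)

/-- The matrix over `B` attached to a `Spec B`-point of `GL_n`. -/
noncomputable def fnM (c : ov R j B ⟶ FrB.GLn n S) : Matrix (Fin n) (Fin n) B :=
  (gamB R j).mapMatrix (matOf n c)

theorem fnM_mul (c c' : ov R j B ⟶ FrB.GLn n S) :
    fnM R j n (c * c') = fnM R j n c * fnM R j n c' := by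
  unfold fnM
  rw [matOf_mul, map_mul]

theorem fnM_one : fnM R j n (1 : ov R j B ⟶ FrB.GLn n S) = 1 := by
  unfold fnM
  rw [matOf_one, map_one]

theorem fnM_comp (φ : B →ₐ[R] C) (c : ov R j B ⟶ FrB.GLn n S) :
    fnM R j n (ovMap R j φ ≫ c) = φ.toRingHom.mapMatrix (fnM R j n c) := by
  unfold fnM
  rw [matOf_comp]
  ext i k
  exact gamB_appTop R j φ (matOf n c i k)

theorem fnM_injective {c c' : ov R j B ⟶ FrB.GLn n S} (h : fnM R j n c = fnM R j n c') :
    c = c' := by
  apply matOf_injective n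
  unfold fnM at h
  ext i k
  have h1 : gamB R j (matOf n c i k) = gamB R j (matOf n c' i k) := congrFun (congrFun h i) k
  have h2 := congrArg (gamBinv R j) h1
  rwa [gamBinv_gamB, gamBinv_gamB] at h2

theorem exists_pt (h h' : Matrix (Fin n) (Fin n) B) (hh : h * h' = 1) :
    ∃ c : ov R j B ⟶ FrB.GLn n S, fnM R j n c = h := by
  have hdet : ((gamBinv R j).mapMatrix h).det * gamBinv R j h'.det = 1 := by
    rw [← RingHom.map_det, ← map_mul, ← Matrix.det_mul, hh, Matrix.det_one, map_one]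
  refine ⟨gpt n ((gamBinv R j).mapMatrix h) (gamBinv R j h'.det) hdet, ?_⟩
  unfold fnM
  rw [matOf_gpt]
  ext i k
  exact gamB_gamBinv R j (h i k)

end Ov

end Groth.Agent.Lib.Helper84.GLnOv
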