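import Mathlib.RingTheory.MvPolynomial.Homogeneous
import Mathlib.RingTheory.Ideal.Quotient.Operations
import Mathlib.RingTheory.Finiteness.Defs
import Mathlib.LinearAlgebra.Basis.Defs
import Mathlib.Algebra.DirectSum.Decomposition
import Mathlib.RingTheory.Nakayama
import Mathlib.RingTheory.Polynomial.Basic
import Mathlib.LinearAlgebra.TensorProduct.RightExactness
import Mathlib.RingTheory.GradedAlgebra.Basic
import Mathlib.RingTheory.Noetherian.Basic
import Mathlib.RingTheory.PrincipalIdealDomain

/-!
# Graded freeness from injectivity of `M ⊗ S₊ → M` (helper library for S14423)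
-/

set_option autoImplicit false
universe u v

namespace Groth.Agent.Lib.Helper84.GrFree

open DirectSum MvPolynomial TensorProduct

variable {k : Type u} [Field k] {σ : Type v} [Finite σ]
variable {M : Type u} [AddCommGroup M] [Module (MvPolynomial σ k) M]
variable (ℳ : ℕ → AddSubgroup M) [SetLike.GradedSMul (homogeneousSubmodule σ k) ℳ]
  [DirectSum.Decomposition ℳ]

/-- the irrelevant ideal -/
noncomputable def irr (k : Type u) [Field k] (σ : Type v) : Ideal (MvPolynomial σ k) :=
  RingHom.ker (constantCoeff : MvPolynomial σ k →+* k)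

omit [Finite σ] in
lemma mem_irr (r : MvPolynomial σ k) : r ∈ irr k σ ↔ constantCoeff r = 0 := Iff.rfl

omit [Finite σ] in
/-- component of `r • x` for homogeneous `x`. -/
theorem comp_smul_of_mem {x : M} {e : ℕ} (hx : x ∈ ℳ e) (r : MvPolynomial σ k) (d : ℕ) :
    (decompose ℳ (r • x) d : M) =
      if e ≤ d then homogeneousComponent (d - e) r • x else 0 := by
  classical
  have hr := MvPolynomial.sum_homogeneousComponent r
  conv_lhs => rw [← hr, Finset.sum_smul]
  rw [decompose_sum, DFinsupp.finsetSum_apply, AddSubmonoidClass.coe_finsetSum]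
  have hterm : ∀ a : ℕ, (decompose ℳ (homogeneousComponent a r • x) d : M) =
      if a + e = d then homogeneousComponent a r • x else 0 := by
    intro a
    have hmem : homogeneousComponent a r • x ∈ ℳ (a + e) :=
      SetLike.GradedSMul.smul_mem (A := homogeneousSubmodule σ k) (B := ℳ) (i := a) (j := e)
        (homogeneousComponent_mem a r) hx
    by_cases h : a + e = d
    · subst h
      rw [decompose_of_mem_same ℳ hmem, if_pos rfl]
    · rw [decompose_of_mem_ne ℳ hmem h, if_neg h]
  simp only [hterm]
  by_cases hed : e ≤ d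
  · rw [if_pos hed]
    have : ∀ a : ℕ, (a + e = d) ↔ (d - e = a) := by intro a; omega
    simp only [this]
    rw [Finset.sum_ite_eq]
    split_ifs with hmem
    · rfl
    · rw [Finset.mem_range, not_lt] at hmem
      rw [homogeneousComponent_eq_zero _ _ (by omega), zero_smul]
  · rw [if_neg hed]
    apply Finset.sum_eq_zero
    intro a _
    rw [if_neg (by omega)]

omit [Finite σ] [SetLike.GradedSMul (homogeneousSubmodule σ k) ℳ] in
theorem exists_homogeneous_gens [Module.Finite (MvPolynomial σ k) M] :
    ∃ (n : ℕ) (g : Fin n → M), (∀ i, SetLike.IsHomogeneousElem ℳ (g i)) ∧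
      Submodule.span (MvPolynomial σ k) (Set.range g) = ⊤ := by
  classical
  obtain ⟨s, hs⟩ := (Module.Finite.fg_top : (⊤ : Submodule (MvPolynomial σ k) M).FG)
  let T : Finset M := s.biUnion fun x => (decompose ℳ x).support.image fun j => (decompose ℳ x j : M)
  have hT : ∀ y ∈ T, SetLike.IsHomogeneousElem ℳ y := by
    intro y hy
    simp only [T, Finset.mem_biUnion, Finset.mem_image] at hy
    obtain ⟨x, _, j, _, rfl⟩ := hy
    exact ⟨j, (decompose ℳ x j).2⟩
  have hspan : Submodule.span (MvPolynomial σ k) (T : Set M) = ⊤ := by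
    rw [eq_top_iff, ← hs, Submodule.span_le]
    intro x hx
    rw [← DirectSum.sum_support_decompose ℳ x]
    apply Submodule.sum_mem
    intro j hj
    apply Submodule.subset_span
    simp only [T, Finset.coe_biUnion, Finset.coe_image, Set.mem_iUnion, Set.mem_image]
    exact ⟨x, hx, j, hj, rfl⟩
  refine ⟨T.card, fun i => (T.equivFin.symm i : M), fun i => hT _ (T.equivFin.symm i).2, ?_⟩
  rw [← hspan]
  congr 1
  ext y
  constructor
  · rintro ⟨i, rfl⟩
    exact (T.equivFin.symm i).2
  · intro hy
    exact ⟨T.equivFin ⟨y, hy⟩, by simp⟩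

omit [Finite σ] in
/-- in a minimal homogeneous generating family every relation has coefficients in the
irrelevant ideal -/
theorem coeff_mem_irr (n : ℕ) (g : Fin n → M) (deg : Fin n → ℕ) (hg : ∀ i, g i ∈ ℳ (deg i))
    (hspan : Submodule.span (MvPolynomial σ k) (Set.range g) = ⊤)
    (hmin : ∀ m < n, ¬ ∃ g' : Fin m → M, (∀ i, SetLike.IsHomogeneousElem ℳ (g' i)) ∧
      Submodule.span (MvPolynomial σ k) (Set.range g') = ⊤)
    (c : Fin n → MvPolynomial σ k) (hc : ∑ i, c i • g i = 0) (i0 : Fin n) : c i0 ∈ irr k σ := by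
  classical
  by_contra hne
  rw [mem_irr] at hne
  cases n with
  | zero => exact i0.elim0
  | succ n' =>
    set d := deg i0 with hd
    let r : Fin (n' + 1) → MvPolynomial σ k := fun i =>
      if deg i ≤ d then homogeneousComponent (d - deg i) (c i) else 0
    have hrel : ∑ i, r i • g i = 0 := by
      have h := congrArg (fun x => (decompose ℳ x d : M)) hc
      simp only at h
      rw [decompose_sum, DFinsupp.finsetSum_apply, AddSubmonoidClass.coe_finsetSum,
        decompose_zero] at h
      have h' : ∑ i, (decompose ℳ (c i • g i) d : M) = 0 := h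
      rw [← h']
      apply Finset.sum_congr rfl
      intro i _
      rw [comp_smul_of_mem ℳ (hg i)]
      simp only [r]
      split_ifs
      · rfl
      · rw [zero_smul]
    have hr0 : r i0 = C (constantCoeff (c i0)) := by
      have : r i0 = homogeneousComponent (d - deg i0) (c i0) := if_pos (le_of_eq hd.symm)
      rw [this, hd, Nat.sub_self, homogeneousComponent_zero, constantCoeff_eq]
    set a := constantCoeff (c i0) with ha
    rw [Fin.sum_univ_succAbove _ i0, hr0] at hrel
    have hgi0 : g i0 ∈ Submodule.span (MvPolynomial σ k) (Set.range (g ∘ i0.succAbove)) := by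
      have h1 : (C a : MvPolynomial σ k) • g i0 = -∑ j, r (i0.succAbove j) • g (i0.succAbove j) :=
        eq_neg_of_add_eq_zero_left hrel
      have h2 : g i0 = (C a⁻¹ : MvPolynomial σ k) • ((C a : MvPolynomial σ k) • g i0) := by
        rw [smul_smul, ← C_mul, inv_mul_cancel₀ hne, C_1, one_smul]
      rw [h2, h1]
      apply Submodule.smul_mem
      apply Submodule.neg_mem
      apply Submodule.sum_mem
      intro j _
      apply Submodule.smul_mem
      exact Submodule.subset_span ⟨j, rfl⟩
    apply hmin n' (Nat.lt_succ_self n')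
    refine ⟨g ∘ i0.succAbove, fun j => ⟨deg (i0.succAbove j), hg _⟩, ?_⟩
    rw [eq_top_iff, ← hspan, Submodule.span_le]
    rintro _ ⟨i, rfl⟩
    by_cases hi : i = i0
    · rw [hi]; exact hgi0
    · obtain ⟨j, rfl⟩ := Fin.exists_succAbove_eq hi
      exact Submodule.subset_span ⟨j, rfl⟩

section Key

variable {R : Type*} [CommRing R] (I : Ideal R) {N : Type*} [AddCommGroup N] [Module R N]

/-- If `N ⊗ I → N ⊗ R` is injective then relations with coefficients in `I` lie in `I • K`. -/
theorem mem_smul_ker_of_injective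
    (hinj : Function.Injective ((Submodule.subtype I).lTensor N))
    (n : ℕ) (g : Fin n → N) (hspan : Submodule.span R (Set.range g) = ⊤)
    (u : Fin n → R) (hu : ∀ i, u i ∈ I) (hrel : ∑ i, u i • g i = 0) :
    u ∈ I • LinearMap.ker (Fintype.linearCombination R g) := by
  classical
  set φ : (Fin n → R) →ₗ[R] N := Fintype.linearCombination R g with hφ
  have hφapp : ∀ c : Fin n → R, φ c = ∑ i, c i • g i := fun c =>
    Fintype.linearCombination_apply R g c
  have hsurj : Function.Surjective φ := by
    rw [← LinearMap.range_eq_top, hφ, Fintype.range_linearCombination, hspan]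
  set K := LinearMap.ker φ with hK
  have hex : Function.Exact K.subtype φ := by
    intro x
    constructor
    · intro hx
      exact ⟨⟨x, hx⟩, rfl⟩
    · rintro ⟨y, rfl⟩
      exact y.2
  have hexT := rTensor_exact I hex hsurj
  let z' : (Fin n → R) ⊗[R] I := ∑ i, (Pi.single i (1 : R) : Fin n → R) ⊗ₜ[R] (⟨u i, hu i⟩ : I)
  have hz0 : (φ.rTensor I) z' = 0 := by
    apply hinj
    rw [map_zero]
    simp only [z', map_sum, LinearMap.rTensor_tmul, LinearMap.lTensor_tmul, Submodule.subtype_apply]
    have : ∀ i, φ (Pi.single i (1 : R)) ⊗ₜ[R] (u i : R) = (u i • g i) ⊗ₜ[R] (1 : R) := by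
      intro i
      rw [hφapp]
      have : ∑ j, (Pi.single i (1 : R) : Fin n → R) j • g j = g i := by
        rw [Finset.sum_eq_single i]
        · simp
        · intro j _ hj
          rw [Pi.single_eq_of_ne hj, zero_smul]
        · intro h; exact absurd (Finset.mem_univ i) h
      rw [this, TensorProduct.smul_tmul, smul_eq_mul, mul_one]
    simp only [this]
    rw [← TensorProduct.sum_tmul, hrel, TensorProduct.zero_tmul]
  obtain ⟨w, hw⟩ := (hexT z').1 hz0
  let μ : (Fin n → R) ⊗[R] I →ₗ[R] (Fin n → R) :=
    (TensorProduct.rid R (Fin n → R)).toLinearMap ∘ₗ (Submodule.subtype I).lTensor (Fin n → R)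
  have hμ : ∀ (f : Fin n → R) (t : I), μ (f ⊗ₜ[R] t) = (t : R) • f := by
    intro f t
    simp [μ]
  have hμz : μ z' = u := by
    simp only [z', map_sum, hμ]
    ext j
    rw [Finset.sum_apply, Finset.sum_eq_single j]
    · simp
    · intro i _ hi
      simp [Pi.single_eq_of_ne' hi]
    · intro h; exact absurd (Finset.mem_univ j) h
  have hμw : ∀ w : K ⊗[R] I, μ ((K.subtype.rTensor I) w) ∈ I • K := by
    intro w
    induction w using TensorProduct.induction_on with
    | zero => simp
    | tmul x t =>
      rw [LinearMap.rTensor_tmul, hμ]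
      exact Submodule.smul_mem_smul t.2 x.2
    | add x y hx hy =>
      rw [map_add, map_add]
      exact Submodule.add_mem _ hx hy
  rw [← hμz, ← hw]
  exact hμw w

end Key

/-- main theorem: graded freeness. -/
theorem exists_homogeneous_basis [Module.Finite (MvPolynomial σ k) M]
    (hinj : Function.Injective ((Submodule.subtype (irr k σ)).lTensor M)) :
    ∃ (ι : Type u) (b : Module.Basis ι (MvPolynomial σ k) M),
      ∀ i, SetLike.IsHomogeneousElem ℳ (b i) := by
  classical
  have hex := exists_homogeneous_gens (σ := σ) (k := k) ℳ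
  obtain ⟨n, ⟨g, hg, hspan⟩, hmin⟩ : ∃ n, (∃ g : Fin n → M,
      (∀ i, SetLike.IsHomogeneousElem ℳ (g i)) ∧
        Submodule.span (MvPolynomial σ k) (Set.range g) = ⊤) ∧
      ∀ m < n, ¬ ∃ g' : Fin m → M, (∀ i, SetLike.IsHomogeneousElem ℳ (g' i)) ∧
        Submodule.span (MvPolynomial σ k) (Set.range g') = ⊤ :=
    ⟨Nat.find hex, Nat.find_spec hex, fun m hm => Nat.find_min hex hm⟩
  choose deg hdeg using hg
  set φ : (Fin n → MvPolynomial σ k) →ₗ[MvPolynomial σ k] M :=
    Fintype.linearCombination (MvPolynomial σ k) g with hφ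
  have hφapp : ∀ c : Fin n → MvPolynomial σ k, φ c = ∑ i, c i • g i := fun c =>
    Fintype.linearCombination_apply _ g c
  set K := LinearMap.ker φ with hK
  have hKfg : K.FG := IsNoetherian.noetherian K
  have hKle : K ≤ irr k σ • K := by
    intro x hx
    have hxrel : ∑ i, x i • g i = 0 := by
      rw [← hφapp]; exact hx
    exact mem_smul_ker_of_injective (irr k σ) hinj n g hspan x
      (fun i => coeff_mem_irr ℳ n g deg hdeg hspan hmin x hxrel i) hxrel
  obtain ⟨r, hr1, hr0⟩ :=
    Submodule.exists_sub_one_mem_and_smul_eq_zero_of_fg_of_le_smul (irr k σ) K hKfg hKle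
  have hrne : r ≠ 0 := by
    rintro rfl
    rw [mem_irr, map_sub, map_zero, map_one, zero_sub, neg_eq_zero] at hr1
    exact one_ne_zero hr1
  have hli : LinearIndependent (MvPolynomial σ k) g := by
    rw [Fintype.linearIndependent_iff]
    intro c hc i
    have hcK : c ∈ K := by
      rw [hK, LinearMap.mem_ker, hφapp]; exact hc
    have h1 := congrFun (hr0 c hcK) i
    simp only [Pi.smul_apply, smul_eq_mul, Pi.zero_apply] at h1
    exact (mul_eq_zero.mp h1).resolve_left hrne
  let b : Module.Basis (Fin n) (MvPolynomial σ k) M := Module.Basis.mk hli (by rw [hspan])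
  refine ⟨ULift.{u} (Fin n), b.reindex Equiv.ulift.symm, ?_⟩
  intro i
  rw [Module.Basis.reindex_apply, Module.Basis.mk_apply]
  exact ⟨deg _, hdeg _⟩

end Groth.Agent.Lib.Helper84.GrFree
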