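import Mathlib

/-!
# Finite graded module with prescribed degree-zero localization (helper84, for S12095)
-/

set_option autoImplicit false

namespace Groth.Agent.Lib.Helper84.GrMod

open HomogeneousLocalization Polynomial

universe u

section Theta

variable {R R' : Type u} [CommRing R] [CommRing R']
  {B : Type u} [CommRing B] [Algebra R B] (𝒜 : ℕ → Submodule R B) [GradedAlgebra 𝒜]
  {f : B} (hf : f ∈ 𝒜 1) (e : Away 𝒜 f ≃+* R')

/-- `s ↦ s / f^j` for `s` of degree `j`. -/
noncomputable def frac (j : ℕ) (s : 𝒜 j) : Away 𝒜 f :=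
  Away.mk 𝒜 hf j s.1 (by rw [smul_eq_mul, mul_one]; exact s.2)

lemma val_frac (j : ℕ) (s : 𝒜 j) :
    (frac 𝒜 hf j s).val = Localization.mk s.1 (⟨f ^ j, ⟨j, rfl⟩⟩ : Submonoid.powers f) := rfl

lemma frac_add (j : ℕ) (s t : 𝒜 j) : frac 𝒜 hf j (s + t) = frac 𝒜 hf j s + frac 𝒜 hf j t := by
  apply HomogeneousLocalization.val_injective
  rw [HomogeneousLocalization.val_add, val_frac, val_frac, val_frac, Localization.add_mk_self]
  rfl

lemma frac_zero (j : ℕ) : frac 𝒜 hf j 0 = 0 := by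
  apply HomogeneousLocalization.val_injective
  rw [HomogeneousLocalization.val_zero, val_frac]
  exact Localization.mk_zero _

lemma frac_one : frac 𝒜 hf 0 (1 : 𝒜 0) = 1 := by
  apply HomogeneousLocalization.val_injective
  rw [HomogeneousLocalization.val_one, val_frac]
  simp only [pow_zero]
  exact Localization.mk_one

lemma frac_mul (i j : ℕ) (s : 𝒜 i) (t : 𝒜 j) :
    frac 𝒜 hf (i + j) (⟨s.1 * t.1, SetLike.mul_mem_graded s.2 t.2⟩ : 𝒜 (i + j)) =
      frac 𝒜 hf i s * frac 𝒜 hf j t := by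
  apply HomogeneousLocalization.val_injective
  rw [HomogeneousLocalization.val_mul, val_frac, val_frac, val_frac, Localization.mk_mul]
  congr 1
  ext
  simp [pow_add]

lemma frac_self : frac 𝒜 hf 1 ⟨f, hf⟩ = 1 := by
  apply HomogeneousLocalization.val_injective
  rw [HomogeneousLocalization.val_one, val_frac]
  simp only [pow_one]
  exact Localization.mk_self (⟨f, 1, by simp⟩ : Submonoid.powers f)

/-- `θ_j : 𝒜 j →+ R'`. -/
noncomputable def theta (j : ℕ) : 𝒜 j →+ R' where
  toFun s := e (frac 𝒜 hf j s)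
  map_zero' := by rw [frac_zero, map_zero]
  map_add' s t := by rw [frac_add, map_add]

lemma theta_apply (j : ℕ) (s : 𝒜 j) : theta 𝒜 hf e j s = e (frac 𝒜 hf j s) := rfl

/-- the graded ring hom `B → R'[X]`, `s ↦ ∑ e(s_j/f^j) X^j`. -/
noncomputable def rho : B →+* R'[X] :=
  (DirectSum.toSemiring (fun j => ((monomial j : R' →ₗ[R'] R'[X]).toAddMonoidHom).comp
      (theta 𝒜 hf e j))
    (by
      show monomial 0 (e (frac 𝒜 hf 0 (1 : 𝒜 0))) = 1
      rw [frac_one, map_one]; rfl)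
    (by
      intro i j ai aj
      show monomial (i + j) (e (frac 𝒜 hf (i + j)
          (⟨ai.1 * aj.1, SetLike.mul_mem_graded ai.2 aj.2⟩ : 𝒜 (i + j)))) =
        monomial i (e (frac 𝒜 hf i ai)) * monomial j (e (frac 𝒜 hf j aj))
      rw [frac_mul, map_mul, monomial_mul_monomial])).comp
    (DirectSum.decomposeRingEquiv 𝒜).toRingHom

lemma rho_of_mem (j : ℕ) (s : B) (hs : s ∈ 𝒜 j) :
    rho 𝒜 hf e s = monomial j (theta 𝒜 hf e j ⟨s, hs⟩) := by
  rw [rho, RingHom.comp_apply]
  have : (DirectSum.decomposeRingEquiv 𝒜).toRingHom s =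
      DirectSum.of (fun i => 𝒜 i) j ⟨s, hs⟩ := DirectSum.decompose_of_mem 𝒜 hs
  rw [this, DirectSum.toSemiring_of]
  rfl

lemma rho_f : rho 𝒜 hf e f = X := by
  rw [rho_of_mem 𝒜 hf e 1 f hf, theta_apply, frac_self, map_one]
  rfl

lemma rho_algebraMap [Algebra R R']
    (he : ∀ r : R, (e.symm (algebraMap R R' r)).val =
      algebraMap B (Localization.Away f) (algebraMap R B r)) (r : R) :
    rho 𝒜 hf e (algebraMap R B r) = C (algebraMap R R' r) := by
  rw [rho_of_mem 𝒜 hf e 0 _ (SetLike.algebraMap_mem_graded 𝒜 r), theta_apply]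
  have : frac 𝒜 hf 0 ⟨algebraMap R B r, SetLike.algebraMap_mem_graded 𝒜 r⟩ =
      e.symm (algebraMap R R' r) := by
    apply HomogeneousLocalization.val_injective
    rw [he, val_frac, ← Localization.mk_one_eq_algebraMap]
    congr 1
    ext
    simp
  rw [this, RingEquiv.apply_symm_apply]
  rfl

end Theta

section PMod

variable {R R' : Type u} [CommRing R] [CommRing R'] [Algebra R R']
  {B : Type u} [CommRing B] [Algebra R B] (𝒜 : ℕ → Submodule R B) [GradedAlgebra 𝒜]
  {f : B} (hf : f ∈ 𝒜 1) (e : Away 𝒜 f ≃+* R')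
  (he : ∀ r : R, (e.symm (algebraMap R R' r)).val =
      algebraMap B (Localization.Away f) (algebraMap R B r))
  (M : Type u) [AddCommGroup M] [Module R' M] [Module R M] [IsScalarTower R R' M]

/-- `M[t]` with `B` acting through `rho`. -/
@[nolint unusedArguments]
def PM (_he : ∀ r : R, (e.symm (algebraMap R R' r)).val =
      algebraMap B (Localization.Away f) (algebraMap R B r)) : Type u :=
  let _ := hf
  PolynomialModule R' M

noncomputable instance : AddCommGroup (PM 𝒜 hf e M he) :=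
  inferInstanceAs (AddCommGroup (PolynomialModule R' M))

noncomputable instance : Module R'[X] (PM 𝒜 hf e M he) :=
  inferInstanceAs (Module R'[X] (PolynomialModule R' M))

noncomputable instance : Module R (PM 𝒜 hf e M he) :=
  inferInstanceAs (Module R (PolynomialModule R' M))

noncomputable instance : Module B (PM 𝒜 hf e M he) :=
  Module.compHom (PolynomialModule R' M) (rho 𝒜 hf e)

lemma smul_def' (s : B) (p : PM 𝒜 hf e M he) :
    s • p = (rho 𝒜 hf e s • (p : PolynomialModule R' M) : PolynomialModule R' M) := rfl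

/-- single as an element of `PM`. -/
noncomputable def sg (k : ℕ) (m : M) : PM 𝒜 hf e M he := PolynomialModule.single R' k m

lemma smul_sg (j : ℕ) (s : B) (hs : s ∈ 𝒜 j) (k : ℕ) (m : M) :
    s • sg 𝒜 hf e he M k m = sg 𝒜 hf e he M (j + k) (theta 𝒜 hf e j ⟨s, hs⟩ • m) := by
  rw [smul_def', rho_of_mem 𝒜 hf e j s hs]
  exact PolynomialModule.monomial_smul_single _ _ _ _

omit [IsScalarTower R R' M] in
lemma C_smul_pm (r : R) (q : PolynomialModule R' M) [IsScalarTower R R' M] :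
    (C (algebraMap R R' r) : R'[X]) • q = r • q := by
  rw [← algebraMap_smul R' r q, ← algebraMap_smul R'[X] (algebraMap R R' r) q]
  rfl

instance : IsScalarTower R B (PM 𝒜 hf e M he) := by
  refine ⟨fun r s p => ?_⟩
  rw [Algebra.smul_def, mul_smul, smul_def' 𝒜 hf e he M (algebraMap R B r),
    rho_algebraMap 𝒜 hf e he]
  exact C_smul_pm M r _

lemma coeff_sg (k : ℕ) (m : M) (i : ℕ) :
    PolynomialModule.coeff (R := R') (sg 𝒜 hf e he M k m) i = if k = i then m else 0 := by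
  show (PolynomialModule.single R' k m).coeff i = _
  rw [PolynomialModule.coeff_single, Finsupp.single_apply]

lemma sg_zero (k : ℕ) : sg 𝒜 hf e he M k 0 = 0 := PolynomialModule.single_zero k

lemma sg_add (k : ℕ) (m m' : M) :
    sg 𝒜 hf e he M k (m + m') = sg 𝒜 hf e he M k m + sg 𝒜 hf e he M k m' :=
  PolynomialModule.single_add k m m'

lemma sg_smul (k : ℕ) (r : R) (m : M) :
    sg 𝒜 hf e he M k (r • m) = r • sg 𝒜 hf e he M k m := by
  show PolynomialModule.single R' k (r • m) = r • PolynomialModule.single R' k m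
  rw [← algebraMap_smul R' r m, PolynomialModule.single_smul, algebraMap_smul]

lemma coeff_smul_of_mem (j : ℕ) (s : B) (hs : s ∈ 𝒜 j) (p : PM 𝒜 hf e M he) (k : ℕ) :
    PolynomialModule.coeff (R := R') (s • p) k =
      if j ≤ k then theta 𝒜 hf e j ⟨s, hs⟩ • PolynomialModule.coeff (R := R') p (k - j) else 0 := by
  rw [smul_def', rho_of_mem 𝒜 hf e j s hs]
  exact PolynomialModule.monomial_smul_apply _ _ _ _

lemma coeff_add' (p q : PM 𝒜 hf e M he) (k : ℕ) :
    PolynomialModule.coeff (R := R') (p + q) k =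
      PolynomialModule.coeff (R := R') p k + PolynomialModule.coeff (R := R') q k := rfl

/-- the graded submodule generated by `G` in degree zero. -/
noncomputable def Nsub (G : Set M) : Submodule B (PM 𝒜 hf e M he) :=
  Submodule.span B (sg 𝒜 hf e he M 0 '' G)

lemma comp_mem (G : Set M) (p : PM 𝒜 hf e M he) (hp : p ∈ Nsub 𝒜 hf e he M G) (k : ℕ) :
    sg 𝒜 hf e he M k (PolynomialModule.coeff (R := R') p k) ∈ Nsub 𝒜 hf e he M G := by
  induction hp using Submodule.span_induction generalizing k with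
  | mem x hx =>
    obtain ⟨g, hg, rfl⟩ := hx
    rw [coeff_sg]
    split_ifs with h
    · subst h; exact Submodule.subset_span ⟨g, hg, rfl⟩
    · rw [sg_zero]; exact zero_mem _
  | zero =>
    have : PolynomialModule.coeff (R := R') (0 : PM 𝒜 hf e M he) k = 0 := rfl
    rw [this, sg_zero]; exact zero_mem _
  | add x y _ _ hx hy =>
    rw [coeff_add', sg_add]; exact add_mem (hx k) (hy k)
  | smul s x _ hx =>
    induction s using DirectSum.Decomposition.inductionOn 𝒜 generalizing k with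
    | zero =>
      rw [zero_smul]
      have : PolynomialModule.coeff (R := R') (0 : PM 𝒜 hf e M he) k = 0 := rfl
      rw [this, sg_zero]; exact zero_mem _
    | homogeneous s =>
      rename_i j
      rw [coeff_smul_of_mem 𝒜 hf e he M j s.1 s.2]
      split_ifs with h
      · have := smul_sg 𝒜 hf e he M j s.1 s.2 (k - j) (PolynomialModule.coeff (R := R') x (k - j))
        rw [Nat.add_sub_cancel' h] at this
        rw [← this]
        exact Submodule.smul_mem _ _ (hx _)
      · rw [sg_zero]; exact zero_mem _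
    | add s t hs ht =>
      rw [add_smul, coeff_add', sg_add]; exact add_mem (hs k) (ht k)

lemma shift_mem (G : Set M) (k : ℕ) (m : M) (h : sg 𝒜 hf e he M k m ∈ Nsub 𝒜 hf e he M G) :
    sg 𝒜 hf e he M (k + 1) m ∈ Nsub 𝒜 hf e he M G := by
  have := smul_sg 𝒜 hf e he M 1 f hf k m
  rw [theta_apply, frac_self, map_one, one_smul, add_comm] at this
  rw [← this]
  exact Submodule.smul_mem _ _ h

lemma shift_mem' (G : Set M) (k j : ℕ) (m : M)
    (h : sg 𝒜 hf e he M k m ∈ Nsub 𝒜 hf e he M G) :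
    sg 𝒜 hf e he M (k + j) m ∈ Nsub 𝒜 hf e he M G := by
  induction j with
  | zero => exact h
  | succ j ih => exact shift_mem 𝒜 hf e he M G (k + j) m ih

lemma exists_mem (G : Set M) (hG : Submodule.span R' G = ⊤) (m : M) :
    ∃ k, sg 𝒜 hf e he M k m ∈ Nsub 𝒜 hf e he M G := by
  have hm : m ∈ Submodule.span R' G := by rw [hG]; trivial
  induction hm using Submodule.span_induction with
  | mem x hx => exact ⟨0, Submodule.subset_span ⟨x, hx, rfl⟩⟩
  | zero => exact ⟨0, by rw [sg_zero]; exact zero_mem _⟩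
  | add x y _ _ hx hy =>
    obtain ⟨k, hk⟩ := hx
    obtain ⟨k', hk'⟩ := hy
    refine ⟨k + k', ?_⟩
    rw [sg_add]
    refine add_mem (shift_mem' 𝒜 hf e he M G k k' x hk) ?_
    rw [add_comm]
    exact shift_mem' 𝒜 hf e he M G k' k y hk'
  | smul r x _ hx =>
    obtain ⟨k, hk⟩ := hx
    obtain ⟨j, s, hs, hsr⟩ := Away.mk_surjective 𝒜 hf (e.symm r)
    have hs' : s ∈ 𝒜 j := by rwa [smul_eq_mul, mul_one] at hs
    refine ⟨j + k, ?_⟩
    have := smul_sg 𝒜 hf e he M j s hs' k x
    have h2 : theta 𝒜 hf e j ⟨s, hs'⟩ = r := by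
      rw [theta_apply]
      show e (Away.mk 𝒜 hf j s _) = r
      rw [hsr, RingEquiv.apply_symm_apply]
    rw [h2] at this
    rw [← this]
    exact Submodule.smul_mem _ _ hk

lemma coeff_smul' (r : R) (p : PM 𝒜 hf e M he) (k : ℕ) :
    PolynomialModule.coeff (R := R') (r • p) k = r • PolynomialModule.coeff (R := R') p k := rfl

lemma eq_sum_sg (p : PM 𝒜 hf e M he) :
    p = ∑ k ∈ (PolynomialModule.coeff (R := R') p).support,
      sg 𝒜 hf e he M k (PolynomialModule.coeff (R := R') p k) := by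
  apply PolynomialModule.coeff_injective
  show PolynomialModule.coeff (R := R') p = PolynomialModule.coeff (R := R')
    (∑ k ∈ (PolynomialModule.coeff (R := R') p).support,
      PolynomialModule.single R' k (PolynomialModule.coeff (R := R') p k))
  rw [PolynomialModule.coeff_sum]
  simp only [PolynomialModule.coeff_single]
  exact (Finsupp.sum_single (PolynomialModule.coeff (R := R') p)).symm

variable (G : Set M)

/-- degree `k` piece of `Nsub`. -/
def grade (k : ℕ) : Submodule R ↥(Nsub 𝒜 hf e he M G) where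
  carrier := {n | ∃ m, n.1 = sg 𝒜 hf e he M k m}
  zero_mem' := ⟨0, (sg_zero 𝒜 hf e he M k).symm⟩
  add_mem' := by
    rintro a b ⟨m, hm⟩ ⟨m', hm'⟩
    exact ⟨m + m', by rw [Submodule.coe_add, hm, hm', sg_add]⟩
  smul_mem' := by
    rintro r a ⟨m, hm⟩
    exact ⟨r • m, by rw [Submodule.coe_smul_of_tower, hm, sg_smul]⟩

lemma mem_grade (k : ℕ) (n : ↥(Nsub 𝒜 hf e he M G)) :
    n ∈ grade 𝒜 hf e he M G k ↔ ∃ m, n.1 = sg 𝒜 hf e he M k m := Iff.rfl

/-- projection to degree `k`, into the ambient module. -/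
noncomputable def proj (k : ℕ) : ↥(Nsub 𝒜 hf e he M G) →ₗ[R] PM 𝒜 hf e M he where
  toFun n := sg 𝒜 hf e he M k (PolynomialModule.coeff (R := R') n.1 k)
  map_add' a b := by rw [Submodule.coe_add, coeff_add', sg_add]
  map_smul' r a := by
    rw [Submodule.coe_smul_of_tower, coeff_smul', sg_smul]; rfl

lemma proj_of_mem (k j : ℕ) (n : ↥(Nsub 𝒜 hf e he M G)) (hn : n ∈ grade 𝒜 hf e he M G j) :
    proj 𝒜 hf e he M G k n = if j = k then n.1 else 0 := by
  obtain ⟨m, hm⟩ := hn
  show sg 𝒜 hf e he M k (PolynomialModule.coeff (R := R') n.1 k) = _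
  rw [hm, coeff_sg]
  split_ifs with h
  · rw [h]
  · rw [sg_zero]

lemma iSupIndep_grade : iSupIndep (grade 𝒜 hf e he M G) := by
  intro k
  rw [Submodule.disjoint_def]
  intro x hx hx'
  have h1 : (⨆ j, ⨆ (_ : j ≠ k), grade 𝒜 hf e he M G j) ≤
      LinearMap.ker (proj 𝒜 hf e he M G k) := by
    refine iSup₂_le fun j hj y hy => ?_
    rw [LinearMap.mem_ker, proj_of_mem 𝒜 hf e he M G k j y hy, if_neg hj]
  have h2 := h1 hx'
  rw [LinearMap.mem_ker, proj_of_mem 𝒜 hf e he M G k k x hx, if_pos rfl] at h2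
  exact Subtype.ext h2

lemma iSup_grade : iSup (grade 𝒜 hf e he M G) = ⊤ := by
  rw [eq_top_iff]
  rintro ⟨p, hp⟩ -
  have h := eq_sum_sg 𝒜 hf e he M p
  have : (⟨p, hp⟩ : ↥(Nsub 𝒜 hf e he M G)) =
      ∑ k ∈ (PolynomialModule.coeff (R := R') p).support,
        (⟨sg 𝒜 hf e he M k (PolynomialModule.coeff (R := R') p k),
          comp_mem 𝒜 hf e he M G p hp k⟩ : ↥(Nsub 𝒜 hf e he M G)) := by
    apply Subtype.ext
    rw [Submodule.coe_sum]
    exact h
  rw [this]
  refine Submodule.sum_mem _ fun k _ => ?_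
  exact Submodule.mem_iSup_of_mem k ⟨_, rfl⟩

/-- the decomposition. -/
noncomputable def decomposition : DirectSum.Decomposition (grade 𝒜 hf e he M G) :=
  (DirectSum.isInternal_submodule_of_iSupIndep_of_iSup_eq_top
    (iSupIndep_grade 𝒜 hf e he M G) (iSup_grade 𝒜 hf e he M G)).chooseDecomposition

lemma gradedSMul : SetLike.GradedSMul 𝒜 (grade 𝒜 hf e he M G) where
  smul_mem := by
    rintro i j s n hs ⟨m, hm⟩
    refine ⟨theta 𝒜 hf e i ⟨s, hs⟩ • m, ?_⟩
    rw [Submodule.coe_smul, hm, smul_sg 𝒜 hf e he M i s hs]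
    rfl

lemma finite_N (hG : G.Finite) : Module.Finite B ↥(Nsub 𝒜 hf e he M G) :=
  Module.Finite.span_of_finite B (hG.image _)

/-- `B → R'`, `s ↦ ∑ e(s_j/f^j)`. -/
noncomputable def rho1 : B →+* R' := (Polynomial.evalRingHom (1 : R')).comp (rho 𝒜 hf e)

lemma rho1_apply (s : B) : rho1 𝒜 hf e s = (rho 𝒜 hf e s).eval 1 := rfl

lemma rho1_of_mem (j : ℕ) (s : B) (hs : s ∈ 𝒜 j) :
    rho1 𝒜 hf e s = theta 𝒜 hf e j ⟨s, hs⟩ := by
  rw [rho1_apply, rho_of_mem 𝒜 hf e j s hs, eval_monomial, one_pow, mul_one]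

lemma rho1_f : rho1 𝒜 hf e f = 1 := by
  rw [rho1_apply, rho_f, eval_X]

lemma rho1_powers (x : Submonoid.powers f) : rho1 𝒜 hf e x.1 = 1 := by
  obtain ⟨k, hk⟩ := x.2
  rw [← hk, map_pow, rho1_f, one_pow]

/-- `M` with `B` acting through `rho1`. -/
@[nolint unusedArguments]
def MB (_he : ∀ r : R, (e.symm (algebraMap R R' r)).val =
      algebraMap B (Localization.Away f) (algebraMap R B r)) : Type u :=
  let _ := hf
  M

noncomputable instance : AddCommGroup (MB 𝒜 hf e M he) := inferInstanceAs (AddCommGroup M)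
noncomputable instance : Module R' (MB 𝒜 hf e M he) := inferInstanceAs (Module R' M)
noncomputable instance : Module R (MB 𝒜 hf e M he) := inferInstanceAs (Module R M)
noncomputable instance : Module B (MB 𝒜 hf e M he) := Module.compHom M (rho1 𝒜 hf e)

lemma smul_MB (s : B) (m : MB 𝒜 hf e M he) : s • m = (rho1 𝒜 hf e s • (m : M) : M) := rfl

instance : IsScalarTower R B (MB 𝒜 hf e M he) := by
  refine ⟨fun r s m => ?_⟩
  rw [Algebra.smul_def, mul_smul, smul_MB 𝒜 hf e he M (algebraMap R B r), rho1_apply,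
    rho_algebraMap 𝒜 hf e he, eval_C]
  exact algebraMap_smul (M := M) R' r _

/-- evaluation at `t = 1`. -/
noncomputable def gmap : ↥(Nsub 𝒜 hf e he M G) →ₗ[B] MB 𝒜 hf e M he where
  toFun n := (PolynomialModule.eval (1 : R') (n.1 : PolynomialModule R' M) : M)
  map_add' a b := by
    rw [Submodule.coe_add]
    exact map_add (PolynomialModule.eval (1 : R') (M := M)) _ _
  map_smul' s a := by
    exact PolynomialModule.eval_smul (rho 𝒜 hf e s) (a.1 : PolynomialModule R' M) (1 : R')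

lemma gmap_sg (k : ℕ) (m : M) (h : sg 𝒜 hf e he M k m ∈ Nsub 𝒜 hf e he M G) :
    gmap 𝒜 hf e he M G ⟨_, h⟩ = m := by
  show (PolynomialModule.eval (1 : R') (PolynomialModule.single R' k m) : M) = m
  rw [PolynomialModule.eval_single, one_pow, one_smul]

lemma isUnit_powers (x : Submonoid.powers f) :
    IsUnit (algebraMap B (Module.End B (MB 𝒜 hf e M he)) x) := by
  have : algebraMap B (Module.End B (MB 𝒜 hf e M he)) x = 1 := by
    ext m
    rw [Module.algebraMap_end_apply, smul_MB, rho1_powers, one_smul]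
    rfl
  rw [this]; exact isUnit_one

/-- evaluation on the localization. -/
noncomputable def evL : LocalizedModule (Submonoid.powers f) ↥(Nsub 𝒜 hf e he M G) →ₗ[B]
    MB 𝒜 hf e M he :=
  LocalizedModule.lift (Submonoid.powers f) (gmap 𝒜 hf e he M G) (isUnit_powers 𝒜 hf e he M)

lemma evL_mk (n : ↥(Nsub 𝒜 hf e he M G)) (x : Submonoid.powers f) :
    evL 𝒜 hf e he M G (LocalizedModule.mk n x) = gmap 𝒜 hf e he M G n := by
  rw [evL, LocalizedModule.lift_mk, Module.End.algebraMap_isUnit_inv_apply_eq_iff,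
    smul_MB, rho1_powers, one_smul]

lemma pow_smul_mem_grade (j k : ℕ) (n : ↥(Nsub 𝒜 hf e he M G))
    (hn : n ∈ grade 𝒜 hf e he M G k) : f ^ j • n ∈ grade 𝒜 hf e he M G (j + k) := by
  have h1 : f ^ j ∈ 𝒜 j := by
    have := SetLike.pow_mem_graded j hf
    rwa [smul_eq_mul, mul_one] at this
  exact (gradedSMul 𝒜 hf e he M G).smul_mem h1 hn

lemma smul_injective_L (k : ℕ) :
    Function.Injective (fun x : LocalizedModule (Submonoid.powers f) ↥(Nsub 𝒜 hf e he M G) =>
      f ^ k • x) := by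
  have := ((Module.End.isUnit_iff _).mp (IsLocalizedModule.map_units
    (LocalizedModule.mkLinearMap (Submonoid.powers f) ↥(Nsub 𝒜 hf e he M G))
    (⟨f ^ k, k, rfl⟩ : Submonoid.powers f))).1
  exact this

/-- degree-zero part of the localization. -/
def Nf : Submodule R (LocalizedModule (Submonoid.powers f) ↥(Nsub 𝒜 hf e he M G)) where
  carrier := {x | ∃ k : ℕ, ∃ n ∈ grade 𝒜 hf e he M G k, f ^ k • x = LocalizedModule.mk n 1}
  zero_mem' := ⟨0, 0, zero_mem _, by rw [smul_zero, LocalizedModule.zero_mk]⟩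
  add_mem' := by
    rintro x y ⟨k, n, hn, hx⟩ ⟨k', n', hn', hy⟩
    refine ⟨k' + k, f ^ k' • n + f ^ k • n', add_mem (pow_smul_mem_grade 𝒜 hf e he M G k' k n hn)
      (by rw [add_comm k' k]; exact pow_smul_mem_grade 𝒜 hf e he M G k k' n' hn'), ?_⟩
    rw [smul_add, pow_add, mul_smul, hx, mul_comm, mul_smul, hy,
      ← LocalizedModule.mkLinearMap_apply, ← LocalizedModule.mkLinearMap_apply,
      ← LocalizedModule.mkLinearMap_apply, map_add, map_smul, map_smul]
  smul_mem' := by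
    rintro r x ⟨k, n, hn, hx⟩
    refine ⟨k, r • n, Submodule.smul_mem _ _ hn, ?_⟩
    rw [smul_comm, hx, LocalizedModule.smul'_mk]

lemma mem_Nf (x : LocalizedModule (Submonoid.powers f) ↥(Nsub 𝒜 hf e he M G)) :
    x ∈ Nf 𝒜 hf e he M G ↔
      ∃ k : ℕ, ∃ n ∈ grade 𝒜 hf e he M G k, f ^ k • x = LocalizedModule.mk n 1 := Iff.rfl

lemma evL_injOn (x : LocalizedModule (Submonoid.powers f) ↥(Nsub 𝒜 hf e he M G))
    (hx : x ∈ Nf 𝒜 hf e he M G) (h0 : evL 𝒜 hf e he M G x = 0) : x = 0 := by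
  obtain ⟨k, n, ⟨m, hm⟩, hk⟩ := hx
  have h1 : evL 𝒜 hf e he M G (f ^ k • x) = 0 := by rw [map_smul, h0, smul_zero]
  rw [hk, evL_mk] at h1
  have h2 : n = ⟨sg 𝒜 hf e he M k m, hm ▸ n.2⟩ := Subtype.ext hm
  rw [h2, gmap_sg] at h1
  have h1' : m = (0 : M) := h1
  have h3 : n = 0 := by
    apply Subtype.ext
    rw [hm, h1', sg_zero]; rfl
  rw [h3, LocalizedModule.zero_mk] at hk
  apply smul_injective_L 𝒜 hf e he M G k
  show f ^ k • x = f ^ k • 0
  rw [hk, smul_zero]

lemma evL_surjOn (hG : Submodule.span R' G = ⊤) (m : M) :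
    ∃ x ∈ Nf 𝒜 hf e he M G, evL 𝒜 hf e he M G x = m := by
  obtain ⟨k, hk⟩ := exists_mem 𝒜 hf e he M G hG m
  refine ⟨LocalizedModule.mk ⟨_, hk⟩ (⟨f ^ k, k, rfl⟩ : Submonoid.powers f),
    ⟨k, ⟨_, hk⟩, ⟨m, rfl⟩, ?_⟩, ?_⟩
  · rw [LocalizedModule.smul'_mk]
    exact LocalizedModule.mk_cancel (⟨f ^ k, k, rfl⟩ : Submonoid.powers f) _
  · rw [evL_mk, gmap_sg]

/-- the identification of the degree-zero localization with `M`. -/
noncomputable def eEquiv (hG : Submodule.span R' G = ⊤) : ↥(Nf 𝒜 hf e he M G) ≃ₗ[R] M :=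
  (LinearEquiv.ofBijective
    (((evL 𝒜 hf e he M G).restrictScalars R).domRestrict (Nf 𝒜 hf e he M G))
    ⟨by
      refine (injective_iff_map_eq_zero _).2 ?_
      intro x hx
      exact Subtype.ext (evL_injOn 𝒜 hf e he M G x.1 x.2 hx),
     by
      intro m
      obtain ⟨x, hx, hm⟩ := evL_surjOn 𝒜 hf e he M G hG m
      exact ⟨⟨x, hx⟩, hm⟩⟩ : ↥(Nf 𝒜 hf e he M G) ≃ₗ[R] MB 𝒜 hf e M he)

lemma eEquiv_apply (hG : Submodule.span R' G = ⊤) (x : ↥(Nf 𝒜 hf e he M G)) :
    eEquiv 𝒜 hf e he M G hG x = evL 𝒜 hf e he M G x.1 := rfl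

lemma eEquiv_compat (hG : Submodule.span R' G = ⊤) (a : Away 𝒜 f)
    (x y : ↥(Nf 𝒜 hf e he M G))
    (h : a.val • (x : LocalizedModule (Submonoid.powers f) ↥(Nsub 𝒜 hf e he M G)) = y) :
    eEquiv 𝒜 hf e he M G hG y = e a • eEquiv 𝒜 hf e he M G hG x := by
  rw [eEquiv_apply, eEquiv_apply, ← h]
  obtain ⟨j, s, hs, rfl⟩ := Away.mk_surjective 𝒜 hf a
  have hs' : s ∈ 𝒜 j := by rwa [smul_eq_mul, mul_one] at hs
  generalize (x : LocalizedModule (Submonoid.powers f) ↥(Nsub 𝒜 hf e he M G)) = z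
  induction z using LocalizedModule.induction_on with
  | h n t =>
    rw [Away.val_mk, LocalizedModule.mk_smul_mk, evL_mk, evL_mk, map_smul, smul_MB,
      rho1_of_mem 𝒜 hf e j s hs']
    rfl

end PMod

end Groth.Agent.Lib.Helper84.GrMod
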