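import Mathlib
import Groth.Prelude.Def_Hoch
import Groth.Prelude.Def_CoactBr2

/-!
# Base change of Hochschild cochains of a comodule (helper library for S19275)
-/

set_option autoImplicit false
universe u v w

open TensorProduct

namespace Groth.Agent.Lib.Helper84.HochBC

section Tail

variable (k : Type u) [CommRing k] (A : Type v) [Ring A] [Bialgebra k A]
variable {M N : Type v} [AddCommGroup M] [Module k M] [AddCommGroup N] [Module k N]

theorem tail_natural (g : M →ₗ[k] N) :
    ((g.rTensor A).rTensor A) ∘ₗ Hoch.tail k A M = Hoch.tail k A N ∘ₗ (g.rTensor A) := by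
  apply TensorProduct.ext'
  intro m a
  simp only [LinearMap.comp_apply, Hoch.tail_tmul, LinearMap.rTensor_tmul]
  generalize (Coalgebra.comul (R := k) a - a ⊗ₜ[k] 1 - 1 ⊗ₜ[k] a) = z
  induction z using TensorProduct.induction_on with
  | zero => simp
  | add x y hx hy => simp only [TensorProduct.tmul_add, map_add, hx, hy]
  | tmul b c => simp

end Tail

section Distrib

variable (K : Type u) [CommRing K] (R : Type w) [CommRing R] [Algebra K R]
variable (A : Type v) [AddCommGroup A] [Module K A]

/-- `R ⊗ (M ⊗ A) ≃ (R ⊗ M) ⊗_R (R ⊗ A)` -/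
noncomputable abbrev D (M : Type v) [AddCommGroup M] [Module K M] :
    R ⊗[K] (M ⊗[K] A) ≃ₗ[R] (R ⊗[K] M) ⊗[R] (R ⊗[K] A) :=
  TensorProduct.AlgebraTensorModule.distribBaseChange K R M A

variable {M M' : Type v} [AddCommGroup M] [Module K M] [AddCommGroup M'] [Module K M']

/-- naturality of `D` -/
theorem D_natural (f : M →ₗ[K] M') (x : R ⊗[K] (M ⊗[K] A)) :
    D K R A M' ((f.rTensor A).baseChange R x) =
      ((f.baseChange R).rTensor (R ⊗[K] A)) (D K R A M x) := by
  induction x using TensorProduct.induction_on with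
  | zero => simp
  | add x y hx hy => simp only [map_add, hx, hy]
  | tmul r y =>
    induction y using TensorProduct.induction_on with
    | zero => simp
    | add x y hx hy => simp only [TensorProduct.tmul_add, map_add, hx, hy]
    | tmul m a => simp

end Distrib

section TB

variable (K : Type u) [CommRing K] (R : Type w) [CommRing R] [Algebra K R]
variable (A : Type v) [CommRing A] [Bialgebra K A]
variable (M : Type v) [AddCommGroup M] [Module K M]

theorem TB_aux (r : R) (m : M) (z : A ⊗[K] A) :
    (TensorProduct.assoc R (R ⊗[K] M) (R ⊗[K] A) (R ⊗[K] A)).symm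
        ((r ⊗ₜ[K] m) ⊗ₜ[R]
          (AlgebraTensorModule.tensorTensorTensorComm K R K R R R A A
            (((1 : R) ⊗ₜ[R] (1 : R)) ⊗ₜ[K] z))) =
      ((D K R A M).toLinearMap.rTensor (R ⊗[K] A))
        (D K R A (M ⊗[K] A) (r ⊗ₜ[K] ((TensorProduct.assoc K M A A).symm (m ⊗ₜ[K] z)))) := by
  induction z using TensorProduct.induction_on with
  | zero => simp
  | add x y hx hy => simp only [TensorProduct.tmul_add, map_add, hx, hy]
  | tmul a1 a2 => simp

theorem redComul_bc (a : A) :
    Hoch.redComul R (R ⊗[K] A) ((1 : R) ⊗ₜ[K] a) =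
      AlgebraTensorModule.tensorTensorTensorComm K R K R R R A A
        (((1 : R) ⊗ₜ[R] (1 : R)) ⊗ₜ[K] (Hoch.redComul K A a)) := by
  rw [Hoch.redComul_apply, Hoch.redComul_apply, TensorProduct.comul_tmul,
    CoactBr.comul_self_apply]
  simp only [TensorProduct.tmul_sub, map_sub]
  congr 1

theorem TB (x : R ⊗[K] (M ⊗[K] A)) :
    Hoch.tail R (R ⊗[K] A) (R ⊗[K] M) (D K R A M x) =
      ((D K R A M).toLinearMap.rTensor (R ⊗[K] A))
        (D K R A (M ⊗[K] A) ((Hoch.tail K A M).baseChange R x)) := by
  induction x using TensorProduct.induction_on with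
  | zero => simp
  | add x y hx hy => simp only [map_add, hx, hy]
  | tmul r y =>
    induction y using TensorProduct.induction_on with
    | zero => simp
    | add x y hx hy => simp only [TensorProduct.tmul_add, map_add, hx, hy]
    | tmul m a =>
      rw [LinearMap.baseChange_tmul]
      have h1 : D K R A M (r ⊗ₜ[K] (m ⊗ₜ[K] a)) = (r ⊗ₜ[K] m) ⊗ₜ[R] ((1 : R) ⊗ₜ[K] a) := by
        simp
      rw [h1, Hoch.tail, LinearMap.comp_apply, LinearMap.lTensor_tmul, redComul_bc]
      rw [Hoch.tail, LinearMap.comp_apply, LinearMap.lTensor_tmul]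
      exact TB_aux K R A M r m _

end TB

section Main

variable (K : Type u) [Field K] (A : Type v) [CommRing A] [Bialgebra K A]
    (V : Type v) [AddCommGroup V] [Module K V] [HopfRep.Comod K A V]
    (R : Type w) [CommRing R] [Algebra K R]

attribute [local instance] CoactBr.Comod.baseChange

variable (φ : ∀ n : ℕ, R ⊗[K] (Hoch.cochain K A V n) →ₗ[R]
      (Hoch.cochain R (R ⊗[K] A) (R ⊗[K] V) n))
    (hφ0 : ∀ x : R ⊗[K] V, φ 0 x = x)
    (hφs : ∀ (n : ℕ) (r : R) (c : Hoch.cochain K A V n) (a : A),
      φ (n + 1) (r ⊗ₜ[K] (c ⊗ₜ[K] a)) = (φ n (r ⊗ₜ[K] c)) ⊗ₜ[R] ((1 : R) ⊗ₜ[K] a))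

include hφs in
theorem φ_succ (n : ℕ) (x : R ⊗[K] ((Hoch.cochain K A V n : Type v) ⊗[K] A)) :
    φ (n + 1) x = ((φ n).rTensor (R ⊗[K] A)) (D K R A (Hoch.cochain K A V n) x) := by
  induction x using TensorProduct.induction_on with
  | zero => simp
  | add x y hx hy => simp only [map_add, hx, hy]
  | tmul r y =>
    induction y using TensorProduct.induction_on with
    | zero => simp
    | add x y hx hy => simp only [TensorProduct.tmul_add, map_add, hx, hy]
    | tmul c a =>
      rw [hφs]
      simp

include hφ0 hφs in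
theorem φ_bijective (n : ℕ) : Function.Bijective (φ n) := by
  induction n with
  | zero =>
    refine ⟨fun a b h => ?_, fun y => ⟨y, hφ0 y⟩⟩
    have ha := hφ0 a
    have hb := hφ0 b
    rw [← ha, ← hb]
    exact h
  | succ n ih =>
    have h1 : ⇑(φ (n + 1)) = ⇑((LinearEquiv.ofBijective (φ n) ih).rTensor (R ⊗[K] A)) ∘
        ⇑(D K R A (Hoch.cochain K A V n)) := by
      funext x
      rw [φ_succ K A V R φ hφs n x]
      rfl
    rw [h1]
    exact (LinearEquiv.bijective _).comp (LinearEquiv.bijective _)

theorem coact_bc (x : R ⊗[K] V) :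
    HopfRep.Comod.coact (k := R) (A := R ⊗[K] A) (V := R ⊗[K] V) x =
      D K R A V ((HopfRep.Comod.coact (k := K) (A := A) (V := V)).baseChange R x) := by
  induction x using TensorProduct.induction_on with
  | zero => simp
  | add x y hx hy => simp only [map_add, hx, hy]
  | tmul r v =>
    rw [LinearMap.baseChange_tmul]
    change (CoactBr.Comod.baseChange K R A V).coact (r ⊗ₜ[K] v) = _
    rw [CoactBr.baseChange_coact_tmul]
    generalize HopfRep.Comod.coact (k := K) (A := A) v = t
    induction t using TensorProduct.induction_on with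
    | zero => simp
    | add x y hx hy => simp only [TensorProduct.tmul_add, map_add, hx, hy]
    | tmul b a =>
      simp only [AlgebraTensorModule.tensorTensorTensorComm_tmul,
        AlgebraTensorModule.distribBaseChange_tmul]
      have e : r ⊗ₜ[K] a = r • ((1 : R) ⊗ₜ[K] a) := by
        rw [TensorProduct.smul_tmul', smul_eq_mul, mul_one]
      rw [e, TensorProduct.tmul_smul, TensorProduct.smul_tmul', TensorProduct.smul_tmul',
        smul_eq_mul, mul_one]

include hφ0 hφs in
theorem d_compat (n : ℕ) (x : R ⊗[K] (Hoch.cochain K A V n)) :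
    φ (n + 1) ((Hoch.d K A V n).baseChange R x) =
      Hoch.d R (R ⊗[K] A) (R ⊗[K] V) n (φ n x) := by
  induction n with
  | zero =>
    rw [φ_succ K A V R φ hφs 0]
    have h0 : φ 0 = LinearMap.id := LinearMap.ext hφ0
    rw [h0, LinearMap.rTensor_id, LinearMap.id_apply, LinearMap.id_apply, Hoch.d_zero_apply,
      Hoch.d_zero, LinearMap.baseChange_sub, LinearMap.sub_apply, map_sub, ← coact_bc]
    congr 1
    induction x using TensorProduct.induction_on with
    | zero => simp
    | add x y hx hy => simp only [map_add, hx, hy, TensorProduct.add_tmul]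
    | tmul r v =>
      simp [Algebra.TensorProduct.one_def]
  | succ n ih =>
    have ih' : φ (n + 1) ∘ₗ (Hoch.d K A V n).baseChange R =
        Hoch.d R (R ⊗[K] A) (R ⊗[K] V) n ∘ₗ φ n := LinearMap.ext ih
    rw [Hoch.d_succ, Hoch.d_succ, LinearMap.baseChange_add, LinearMap.add_apply, map_add,
      LinearMap.add_apply]
    congr 1
    · -- first term
      rw [φ_succ K A V R φ hφs (n + 1), φ_succ K A V R φ hφs n x]
      rw [D_natural K R A (Hoch.d K A V n) x]
      rw [← LinearMap.comp_apply, ← LinearMap.rTensor_comp, ih', LinearMap.rTensor_comp,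
        LinearMap.comp_apply]
    · -- second term
      rw [LinearMap.baseChange_smul, LinearMap.smul_apply,
        ← algebraMap_smul R ((-1 : K) ^ (n + 1)), map_smul, LinearMap.smul_apply]
      have hs : algebraMap K R ((-1 : K) ^ (n + 1)) = (-1 : R) ^ (n + 1) := by simp
      rw [hs]
      congr 1
      rw [φ_succ K A V R φ hφs (n + 1), φ_succ K A V R φ hφs n x]
      have h1 := LinearMap.congr_fun
        (tail_natural R (R ⊗[K] A) (φ n)) (D K R A (Hoch.cochain K A V n) x)
      simp only [LinearMap.comp_apply] at h1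
      rw [← h1, TB K R A (Hoch.cochain K A V n) x]
      rw [← LinearMap.comp_apply, ← LinearMap.rTensor_comp]
      congr 1
      apply congrArg (fun f => LinearMap.rTensor (R ⊗[K] A) f)
      apply LinearMap.ext
      intro y
      rw [LinearMap.comp_apply]
      exact φ_succ K A V R φ hφs n y

end Main

end Groth.Agent.Lib.Helper84.HochBC
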