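import Mathlib

/-!
# Descent of bialgebra isomorphisms along a finite equalizer system of algebras over a field
(helper for S15411)
-/

set_option autoImplicit false
universe u

open scoped TensorProduct

namespace Groth.Agent.Lib.Helper84.HopfDescent

section Coord

variable {K : Type u} [Field K] {L E : Type u} [CommRing L] [Algebra K L] [CommRing E] [Algebra K E]
  {Y : Type u} [AddCommGroup Y] [Module K Y] {J : Type*} (𝔟 : Module.Basis J K Y)

theorem repr_rTensor (ρ : L →ₐ[K] E) (z : L ⊗[K] Y) (j : J) :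
    (Algebra.TensorProduct.basis E 𝔟).repr (ρ.toLinearMap.rTensor Y z) j =
      ρ ((Algebra.TensorProduct.basis L 𝔟).repr z j) := by
  induction z using TensorProduct.induction_on with
  | zero => simp
  | add x y hx hy => simp only [map_add, Finsupp.add_apply, hx, hy]
  | tmul c a =>
    rw [LinearMap.rTensor_tmul, Algebra.TensorProduct.basis_repr_tmul,
      Algebra.TensorProduct.basis_repr_tmul]
    simp

theorem repr_one_tmul (a : Y) (j : J) :
    (Algebra.TensorProduct.basis L 𝔟).repr ((1 : L) ⊗ₜ[K] a) j = algebraMap K L (𝔟.repr a j) := by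
  rw [Algebra.TensorProduct.basis_repr_tmul]
  simp

end Coord

section Core

variable {K : Type u} [Field K] {ιv ιe : Type u} [Finite ιv] [Finite ιe]
    {Kv : ιv → Type u} [∀ i, CommRing (Kv i)] [∀ i, Algebra K (Kv i)]
    {Ke : ιe → Type u} [∀ k, CommRing (Ke k)] [∀ k, Algebra K (Ke k)]
    {l r : ιe → ιv} (ρl : ∀ k, Kv (l k) →ₐ[K] Ke k) (ρr : ∀ k, Kv (r k) →ₐ[K] Ke k)
    (hlim : ∀ x : (∀ i, Kv i), (∀ k, ρl k (x (l k)) = ρr k (x (r k))) →
      ∃! a : K, ∀ i, algebraMap K (Kv i) a = x i)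

include hlim in
theorem exists_nontrivial : ∃ i₀ : ιv, Nontrivial (Kv i₀) := by
  by_contra hcon
  push_neg at hcon
  have hsub : ∀ i, Subsingleton (Kv i) := fun i => hcon i
  obtain ⟨a, _, ha⟩ := hlim (fun _ => 0) (fun k => by simp)
  have h0 := ha 0 (fun i => (hsub i).elim _ _)
  have h1 := ha 1 (fun i => (hsub i).elim _ _)
  exact zero_ne_one (h0.trans h1.symm)

theorem one_tmul_injective (L : Type u) [CommRing L] [Algebra K L] [Nontrivial L]
    (Y : Type u) [AddCommGroup Y] [Module K Y] :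
    Function.Injective (fun a : Y => (1 : L) ⊗ₜ[K] a) := by
  have : FaithfulSMul K L := (faithfulSMul_iff_algebraMap_injective K L).2 (algebraMap K L).injective
  exact Module.Flat.tensorProduct_mk_injective K Y L

include hlim in
/-- descent of elements -/
theorem exists_descent (Y : Type u) [AddCommGroup Y] [Module K Y] (y : ∀ i, Kv i ⊗[K] Y)
    (hy : ∀ k, (ρl k).toLinearMap.rTensor Y (y (l k)) = (ρr k).toLinearMap.rTensor Y (y (r k))) :
    ∃ a : Y, ∀ i, y i = (1 : Kv i) ⊗ₜ[K] a := by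
  classical
  obtain ⟨i₀, hi₀⟩ := exists_nontrivial ρl ρr hlim
  let 𝔟 := Module.Free.chooseBasis K Y
  have hcompat : ∀ j, ∀ k, ρl k ((Algebra.TensorProduct.basis (Kv (l k)) 𝔟).repr (y (l k)) j) =
      ρr k ((Algebra.TensorProduct.basis (Kv (r k)) 𝔟).repr (y (r k)) j) := by
    intro j k
    rw [← repr_rTensor, ← repr_rTensor, hy k]
  choose c hc _ using fun j => hlim (fun i => (Algebra.TensorProduct.basis (Kv i) 𝔟).repr (y i) j)
    (hcompat j)
  let S := ((Algebra.TensorProduct.basis (Kv i₀) 𝔟).repr (y i₀)).support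
  have hcS : ∀ j, j ∉ S → c j = 0 := by
    intro j hj
    have h1 : (Algebra.TensorProduct.basis (Kv i₀) 𝔟).repr (y i₀) j = 0 :=
      Finsupp.notMem_support_iff.1 hj
    have h2 : algebraMap K (Kv i₀) (c j) =
        (Algebra.TensorProduct.basis (Kv i₀) 𝔟).repr (y i₀) j := hc j i₀
    rw [h1] at h2
    exact (map_eq_zero_iff _ (algebraMap K (Kv i₀)).injective).1 h2
  refine ⟨∑ j ∈ S, c j • 𝔟 j, fun i => ?_⟩
  apply (Algebra.TensorProduct.basis (Kv i) 𝔟).ext_elem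
  intro j
  rw [repr_one_tmul]
  have h3 : 𝔟.repr (∑ j ∈ S, c j • 𝔟 j) j = c j := by
    rw [map_sum, Finsupp.finsetSum_apply]
    simp only [map_smul, Module.Basis.repr_self, Finsupp.smul_single, smul_eq_mul, mul_one,
      Finsupp.single_apply]
    rw [Finset.sum_ite_eq' S j]
    split_ifs with h
    · rfl
    · exact (hcS j h).symm
  rw [h3]
  exact (hc j i).symm

end Core

section BC

variable {K : Type u} [Field K] {L E : Type u} [CommRing L] [Algebra K L] [CommRing E] [Algebra K E]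
  {X Y Z : Type u} [AddCommGroup X] [Module K X] [AddCommGroup Y] [Module K Y]
  [AddCommGroup Z] [Module K Z]

theorem rTensor_smul (ρ : L →ₐ[K] E) (c : L) (z : L ⊗[K] Y) :
    ρ.toLinearMap.rTensor Y (c • z) = ρ c • ρ.toLinearMap.rTensor Y z := by
  induction z using TensorProduct.induction_on with
  | zero => simp
  | add x y hx hy => simp only [smul_add, map_add, hx, hy]
  | tmul a y =>
    rw [TensorProduct.smul_tmul', LinearMap.rTensor_tmul, LinearMap.rTensor_tmul,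
      TensorProduct.smul_tmul']
    simp

/-- semilinear base change of a linear map along `ρ` -/
noncomputable def bc (ρ : L →ₐ[K] E) (f : L ⊗[K] X →ₗ[L] L ⊗[K] Y) : E ⊗[K] X →ₗ[E] E ⊗[K] Y :=
  LinearMap.liftBaseChange E
    ((ρ.toLinearMap.rTensor Y) ∘ₗ (f.restrictScalars K) ∘ₗ (TensorProduct.mk K L X 1))

theorem bc_one_tmul (ρ : L →ₐ[K] E) (f : L ⊗[K] X →ₗ[L] L ⊗[K] Y) (x : X) :
    bc ρ f ((1 : E) ⊗ₜ[K] x) = ρ.toLinearMap.rTensor Y (f ((1 : L) ⊗ₜ[K] x)) := by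
  rw [bc, LinearMap.liftBaseChange_tmul, one_smul]
  rfl

theorem bc_rTensor (ρ : L →ₐ[K] E) (f : L ⊗[K] X →ₗ[L] L ⊗[K] Y) (y : L ⊗[K] X) :
    bc ρ f (ρ.toLinearMap.rTensor X y) = ρ.toLinearMap.rTensor Y (f y) := by
  induction y using TensorProduct.induction_on with
  | zero => simp
  | add x y hx hy => simp only [map_add, hx, hy]
  | tmul c x =>
    rw [LinearMap.rTensor_tmul, bc, LinearMap.liftBaseChange_tmul]
    have : c ⊗ₜ[K] x = c • ((1 : L) ⊗ₜ[K] x) := by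
      rw [TensorProduct.smul_tmul', smul_eq_mul, mul_one]
    rw [this, map_smul, rTensor_smul]
    rfl

theorem bc_ext (ρ : L →ₐ[K] E) {f g : E ⊗[K] X →ₗ[E] E ⊗[K] Y}
    (h : ∀ x : X, f ((1 : E) ⊗ₜ[K] x) = g ((1 : E) ⊗ₜ[K] x)) : f = g := by
  apply TensorProduct.AlgebraTensorModule.curry_injective
  ext x
  exact h x

theorem bc_comp (ρ : L →ₐ[K] E) (f : L ⊗[K] X →ₗ[L] L ⊗[K] Y) (g : L ⊗[K] Y →ₗ[L] L ⊗[K] Z) :
    bc ρ (g ∘ₗ f) = bc ρ g ∘ₗ bc ρ f := by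
  apply bc_ext ρ
  intro x
  rw [LinearMap.comp_apply, bc_one_tmul, bc_one_tmul, bc_rTensor, LinearMap.comp_apply]

theorem bc_id (ρ : L →ₐ[K] E) : bc ρ (LinearMap.id : L ⊗[K] X →ₗ[L] L ⊗[K] X) = LinearMap.id := by
  apply bc_ext ρ
  intro x
  rw [bc_one_tmul, LinearMap.id_apply, LinearMap.id_apply, LinearMap.rTensor_tmul]
  simp

end BC

section Iota

variable {K : Type u} [Field K] (L : Type u) [CommRing L] [Algebra K L]
  (A : Type u) [CommRing A] [Bialgebra K A]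

/-- `a ⊗ a' ↦ (1 ⊗ a) ⊗ (1 ⊗ a')` -/
noncomputable def ι₂ : A ⊗[K] A →ₗ[K] (L ⊗[K] A) ⊗[L] (L ⊗[K] A) :=
  ((TensorProduct.AlgebraTensorModule.distribBaseChange K L A A).toLinearMap.restrictScalars K) ∘ₗ
    (TensorProduct.mk K L (A ⊗[K] A) 1)

theorem ι₂_tmul (a a' : A) :
    ι₂ L A (a ⊗ₜ[K] a') = ((1 : L) ⊗ₜ[K] a) ⊗ₜ[L] ((1 : L) ⊗ₜ[K] a') := rfl

theorem ι₂_injective [Nontrivial L] : Function.Injective (ι₂ (K := K) L A) := by
  have h1 := one_tmul_injective (K := K) L (A ⊗[K] A)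
  intro x y hxy
  apply h1
  exact (TensorProduct.AlgebraTensorModule.distribBaseChange K L A A).injective hxy

theorem comul_one_tmul (a : A) :
    Coalgebra.comul (R := L) ((1 : L) ⊗ₜ[K] a) = ι₂ L A (Coalgebra.comul (R := K) a) := by
  rw [TensorProduct.comul_tmul, CommSemiring.comul_apply]
  generalize Coalgebra.comul (R := K) a = w
  induction w using TensorProduct.induction_on with
  | zero => simp
  | add x y hx hy => simp only [TensorProduct.tmul_add, map_add, hx, hy]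
  | tmul a1 a2 =>
    rw [TensorProduct.AlgebraTensorModule.tensorTensorTensorComm_tmul, ι₂_tmul]

theorem counit_one_tmul (a : A) :
    Coalgebra.counit (R := L) ((1 : L) ⊗ₜ[K] a) = algebraMap K L (Coalgebra.counit (R := K) a) := by
  rw [TensorProduct.counit_tmul, CommSemiring.counit_apply, Algebra.algebraMap_eq_smul_one]

variable {L A} {B : Type u} [CommRing B] [Bialgebra K B]

theorem map_ι₂ (g : L ⊗[K] B →ₗ[L] L ⊗[K] A) (v : B →ₗ[K] A)
    (hg : ∀ b, g ((1 : L) ⊗ₜ[K] b) = (1 : L) ⊗ₜ[K] v b) (w : B ⊗[K] B) :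
    TensorProduct.map g g (ι₂ L B w) = ι₂ L A (TensorProduct.map v v w) := by
  induction w using TensorProduct.induction_on with
  | zero => simp
  | add x y hx hy => simp only [map_add, hx, hy]
  | tmul b b' =>
    rw [ι₂_tmul, TensorProduct.map_tmul, hg, hg, TensorProduct.map_tmul, ι₂_tmul]

end Iota

section Bialg

variable {K : Type u} [Field K] {ιv ιe : Type u} [Finite ιv] [Finite ιe]
    {Kv : ιv → Type u} [∀ i, CommRing (Kv i)] [∀ i, Algebra K (Kv i)]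
    {Ke : ιe → Type u} [∀ k, CommRing (Ke k)] [∀ k, Algebra K (Ke k)]
    {l r : ιe → ιv} (ρl : ∀ k, Kv (l k) →ₐ[K] Ke k) (ρr : ∀ k, Kv (r k) →ₐ[K] Ke k)
    (hlim : ∀ x : (∀ i, Kv i), (∀ k, ρl k (x (l k)) = ρr k (x (r k))) →
      ∃! a : K, ∀ i, algebraMap K (Kv i) a = x i)
    {A B : Type u} [CommRing A] [CommRing B] [Bialgebra K A] [Bialgebra K B]

include hlim in
theorem exists_bialgHom (u : ∀ i, (Kv i ⊗[K] B) →ₐc[Kv i] (Kv i ⊗[K] A))
    (hu : ∀ k b, (ρl k).toLinearMap.rTensor A (u (l k) (1 ⊗ₜ[K] b)) =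
      (ρr k).toLinearMap.rTensor A (u (r k) (1 ⊗ₜ[K] b))) :
    ∃ v : B →ₐc[K] A, ∀ i b, u i ((1 : Kv i) ⊗ₜ[K] b) = (1 : Kv i) ⊗ₜ[K] v b := by
  obtain ⟨i₀, hi₀⟩ := exists_nontrivial ρl ρr hlim
  have hinjA := one_tmul_injective (K := K) (Kv i₀) A
  choose v₀ hv₀ using fun b => exists_descent ρl ρr hlim A (fun i => u i (1 ⊗ₜ[K] b))
    (fun k => hu k b)
  have hKsmul : ∀ (c : K) (z : Kv i₀ ⊗[K] B), u i₀ (c • z) = c • u i₀ z := by
    intro c z
    rw [← algebraMap_smul (Kv i₀) c z, map_smul, algebraMap_smul]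
  let vAlg : B →ₐ[K] A :=
    { toFun := v₀
      map_one' := hinjA (show (1 : Kv i₀) ⊗ₜ[K] v₀ 1 = 1 ⊗ₜ[K] (1 : A) by
        rw [← hv₀ 1 i₀, ← Algebra.TensorProduct.one_def, map_one, Algebra.TensorProduct.one_def])
      map_mul' := fun b b' => hinjA (show (1 : Kv i₀) ⊗ₜ[K] v₀ (b * b') = 1 ⊗ₜ[K] (v₀ b * v₀ b') by
        rw [← hv₀ (b * b') i₀]
        have e1 : (1 : Kv i₀) ⊗ₜ[K] (b * b') = ((1 : Kv i₀) ⊗ₜ[K] b) * ((1 : Kv i₀) ⊗ₜ[K] b') := by
          rw [Algebra.TensorProduct.tmul_mul_tmul, mul_one]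
        have e2 : (1 : Kv i₀) ⊗ₜ[K] (v₀ b * v₀ b') =
            ((1 : Kv i₀) ⊗ₜ[K] v₀ b) * ((1 : Kv i₀) ⊗ₜ[K] v₀ b') := by
          rw [Algebra.TensorProduct.tmul_mul_tmul, mul_one]
        rw [e1, e2, map_mul]
        exact congrArg₂ (· * ·) (hv₀ b i₀) (hv₀ b' i₀))
      map_zero' := hinjA (show (1 : Kv i₀) ⊗ₜ[K] v₀ 0 = 1 ⊗ₜ[K] (0 : A) by
        rw [← hv₀ 0 i₀, TensorProduct.tmul_zero, map_zero, TensorProduct.tmul_zero])
      map_add' := fun b b' => hinjA (show (1 : Kv i₀) ⊗ₜ[K] v₀ (b + b') = 1 ⊗ₜ[K] (v₀ b + v₀ b') by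
        rw [← hv₀ (b + b') i₀, TensorProduct.tmul_add, map_add, TensorProduct.tmul_add]
        exact congrArg₂ (· + ·) (hv₀ b i₀) (hv₀ b' i₀))
      commutes' := fun c => hinjA (show (1 : Kv i₀) ⊗ₜ[K] v₀ (algebraMap K B c) =
          1 ⊗ₜ[K] (algebraMap K A c) by
        rw [← hv₀ _ i₀, Algebra.algebraMap_eq_smul_one, Algebra.algebraMap_eq_smul_one,
          TensorProduct.tmul_smul, TensorProduct.tmul_smul, hKsmul,
          ← Algebra.TensorProduct.one_def, map_one, Algebra.TensorProduct.one_def]) }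
  have hvAlg : ∀ b, vAlg b = v₀ b := fun _ => rfl
  have hcounit : (Bialgebra.counitAlgHom K A).comp vAlg = Bialgebra.counitAlgHom K B := by
    apply AlgHom.ext
    intro b
    apply (algebraMap K (Kv i₀)).injective
    rw [AlgHom.comp_apply, Bialgebra.counitAlgHom_apply, Bialgebra.counitAlgHom_apply,
      ← counit_one_tmul, ← counit_one_tmul, hvAlg, ← hv₀ b i₀,
      CoalgHomClass.counit_comp_apply]
  have hcomul : (Algebra.TensorProduct.map vAlg vAlg).comp (Bialgebra.comulAlgHom K B) =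
      (Bialgebra.comulAlgHom K A).comp vAlg := by
    apply AlgHom.ext
    intro b
    apply ι₂_injective (K := K) (Kv i₀) A
    rw [AlgHom.comp_apply, AlgHom.comp_apply, Bialgebra.comulAlgHom_apply,
      Bialgebra.comulAlgHom_apply, ← comul_one_tmul, hvAlg, ← hv₀ b i₀]
    have h1 := CoalgHomClass.map_comp_comul_apply (u i₀) ((1 : Kv i₀) ⊗ₜ[K] b)
    rw [← h1, comul_one_tmul]
    refine (map_ι₂ (L := Kv i₀) _ vAlg.toLinearMap ?_ (Coalgebra.comul (R := K) b)).symm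
    intro b'
    exact hv₀ b' i₀
  exact ⟨BialgHom.ofAlgHom vAlg hcounit hcomul, fun i b => hv₀ b i⟩

include hlim in
theorem main (u : ∀ i, (Kv i ⊗[K] B) ≃ₐc[Kv i] (Kv i ⊗[K] A))
    (hu : ∀ (k : ιe) (b : B),
      Algebra.TensorProduct.map (ρl k) (AlgHom.id K A) (u (l k) (1 ⊗ₜ[K] b)) =
        Algebra.TensorProduct.map (ρr k) (AlgHom.id K A) (u (r k) (1 ⊗ₜ[K] b))) :
    ∃! v : B ≃ₐc[K] A, ∀ (i : ιv) (b : B), u i (1 ⊗ₜ[K] b) = 1 ⊗ₜ[K] v b := by
  obtain ⟨i₀, hi₀⟩ := exists_nontrivial ρl ρr hlim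
  have hinjA := one_tmul_injective (K := K) (Kv i₀) A
  have hinjB := one_tmul_injective (K := K) (Kv i₀) B
  have hu' : ∀ k b, (ρl k).toLinearMap.rTensor A (u (l k) (1 ⊗ₜ[K] b)) =
      (ρr k).toLinearMap.rTensor A (u (r k) (1 ⊗ₜ[K] b)) := fun k b => hu k b
  -- compatibility for the inverses
  have hu_symm : ∀ k a, (ρl k).toLinearMap.rTensor B ((u (l k)).symm (1 ⊗ₜ[K] a)) =
      (ρr k).toLinearMap.rTensor B ((u (r k)).symm (1 ⊗ₜ[K] a)) := by
    intro k a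
    let ul : Kv (l k) ⊗[K] B →ₗ[Kv (l k)] Kv (l k) ⊗[K] A := (u (l k)).toAlgEquiv.toLinearMap
    let ur : Kv (r k) ⊗[K] B →ₗ[Kv (r k)] Kv (r k) ⊗[K] A := (u (r k)).toAlgEquiv.toLinearMap
    let wl : Kv (l k) ⊗[K] A →ₗ[Kv (l k)] Kv (l k) ⊗[K] B := (u (l k)).symm.toAlgEquiv.toLinearMap
    let wr : Kv (r k) ⊗[K] A →ₗ[Kv (r k)] Kv (r k) ⊗[K] B := (u (r k)).symm.toAlgEquiv.toLinearMap
    have hU : bc (ρl k) ul = bc (ρr k) ur := by
      apply bc_ext (ρl k)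
      intro b
      rw [bc_one_tmul, bc_one_tmul]
      exact hu' k b
    have h1 : bc (ρl k) wl ∘ₗ bc (ρl k) ul = LinearMap.id := by
      rw [← bc_comp, ← bc_id (ρl k)]
      congr 1
      apply LinearMap.ext
      intro z
      exact (u (l k)).symm_apply_apply z
    have h2 : bc (ρr k) ur ∘ₗ bc (ρr k) wr = LinearMap.id := by
      rw [← bc_comp, ← bc_id (ρr k)]
      congr 1
      apply LinearMap.ext
      intro z
      exact (u (r k)).apply_symm_apply z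
    have h3 : bc (ρl k) wl = bc (ρr k) wr := by
      calc bc (ρl k) wl = bc (ρl k) wl ∘ₗ (bc (ρr k) ur ∘ₗ bc (ρr k) wr) := by
            rw [h2, LinearMap.comp_id]
        _ = (bc (ρl k) wl ∘ₗ bc (ρl k) ul) ∘ₗ bc (ρr k) wr := by
            rw [← hU, LinearMap.comp_assoc]
        _ = bc (ρr k) wr := by rw [h1, LinearMap.id_comp]
    have h4 := LinearMap.congr_fun h3 ((1 : Ke k) ⊗ₜ[K] a)
    rw [bc_one_tmul, bc_one_tmul] at h4
    exact h4
  obtain ⟨v₀, hv₀⟩ := exists_bialgHom ρl ρr hlim (A := A) (B := B) (fun i => (u i).toBialgHom) (fun k b => hu' k b)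
  obtain ⟨v₁, hv₁⟩ := exists_bialgHom ρl ρr hlim (A := B) (B := A) (fun i => (u i).symm.toBialgHom) (fun k a => hu_symm k a)
  have hv₀' : ∀ i b, u i ((1 : Kv i) ⊗ₜ[K] b) = (1 : Kv i) ⊗ₜ[K] v₀ b := hv₀
  have hv₁' : ∀ i a, (u i).symm ((1 : Kv i) ⊗ₜ[K] a) = (1 : Kv i) ⊗ₜ[K] v₁ a := hv₁
  have h10 : ∀ b, v₁ (v₀ b) = b := by
    intro b
    apply hinjB
    show (1 : Kv i₀) ⊗ₜ[K] v₁ (v₀ b) = 1 ⊗ₜ[K] b
    rw [← hv₁' i₀, ← hv₀' i₀, BialgEquiv.symm_apply_apply]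
  have h01 : ∀ a, v₀ (v₁ a) = a := by
    intro a
    apply hinjA
    show (1 : Kv i₀) ⊗ₜ[K] v₀ (v₁ a) = 1 ⊗ₜ[K] a
    rw [← hv₀' i₀, ← hv₁' i₀, BialgEquiv.apply_symm_apply]
  refine ⟨BialgEquiv.ofBialgHom v₀ v₁ (BialgHom.ext h01) (BialgHom.ext h10), ?_, ?_⟩
  · intro i b
    exact hv₀' i b
  · intro v' hv'
    apply BialgEquiv.ext
    intro b
    apply hinjA
    show (1 : Kv i₀) ⊗ₜ[K] v' b = 1 ⊗ₜ[K] (BialgEquiv.ofBialgHom v₀ v₁ _ _) b
    rw [← hv' i₀ b]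
    exact hv₀' i₀ b

end Bialg

end Groth.Agent.Lib.Helper84.HopfDescent
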