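import Groth.Prelude.Def_KZero
import Groth.Agent.Lib.Helper84.DRingPerf
import Groth.Agent.Lib.Helper84.TensCx
import Groth.Agent.Lib.Helper43.PCHomology

/-!
# Euler characteristics of strictly perfect complexes in `K₀(R)` (helper84)
-/

set_option autoImplicit false
universe u

open CategoryTheory CategoryTheory.Limits CategoryTheory.Pretriangulated DerivedCategory
open DRing
open scoped ZeroObject

attribute [local instance] HasDerivedCategory.standard

namespace Groth.Agent.Lib.Helper84.K0Euler

variable (R : Type u) [CommRing R]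

/-- finite projective modules -/
abbrev FP : ObjectProperty (ModuleCat.{u} R) :=
  fun M : ModuleCat.{u} R => Module.Finite R M ∧ Module.Projective R M

variable {R}

/-- the class of a module in `K₀(R)` -/
noncomputable abbrev cl (M : ModuleCat.{u} R) : KZero.K0sub (FP R) := KZero.clSub (FP R) M

lemma cl_of_shortExact (S : ShortComplex (ModuleCat.{u} R)) (hS : S.ShortExact)
    (h₁ : FP R S.X₁) (h₂ : FP R S.X₂) (h₃ : FP R S.X₃) : cl S.X₂ = cl S.X₁ + cl S.X₃ := by
  unfold cl KZero.clSub
  rw [dif_pos h₁, dif_pos h₂, dif_pos h₃, ← sub_eq_zero, ← sub_sub, ← QuotientAddGroup.mk_sub,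
    ← QuotientAddGroup.mk_sub, QuotientAddGroup.eq_zero_iff]
  exact AddSubgroup.subset_closure ⟨S, h₁, h₂, h₃, hS, rfl⟩

lemma fp_of_isZero {M : ModuleCat.{u} R} (h : IsZero M) : FP R M := by
  haveI : Subsingleton M := ModuleCat.subsingleton_of_isZero h
  exact ⟨inferInstance, inferInstance⟩

lemma cl_of_isZero {M : ModuleCat.{u} R} (h : IsZero M) : cl M = 0 := by
  have hS : (ShortComplex.mk (0 : M ⟶ M) (0 : M ⟶ M) (by simp)).ShortExact :=
    { exact := ShortComplex.exact_of_isZero_X₂ _ h
      mono_f := ⟨fun _ _ _ => h.eq_of_tgt _ _⟩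
      epi_g := ⟨fun _ _ _ => h.eq_of_src _ _⟩ }
  have h' : cl M = cl M + cl M :=
    cl_of_shortExact _ hS (fp_of_isZero h) (fp_of_isZero h) (fp_of_isZero h)
  simpa using h'

lemma cl_of_iso {M N : ModuleCat.{u} R} (e : M ≅ N) (hM : FP R M) : cl M = cl N := by
  have hN : FP R N := DRingPerf.finiteProjective_of_iso e hM
  have hz : IsZero (0 : ModuleCat.{u} R) := isZero_zero _
  have hS : (ShortComplex.mk e.hom (0 : N ⟶ (0 : ModuleCat.{u} R)) (by simp)).ShortExact :=
    { exact := (ShortComplex.exact_iff_epi _ (by simp)).2 (by dsimp; infer_instance)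
      mono_f := by dsimp; infer_instance
      epi_g := ⟨fun _ _ _ => hz.eq_of_src _ _⟩ }
  have h : cl N = cl M + cl (0 : ModuleCat.{u} R) :=
    cl_of_shortExact _ hS hM hN (fp_of_isZero hz)
  rw [h, cl_of_isZero hz, add_zero]

lemma cl_biprod (M N : ModuleCat.{u} R) (hM : FP R M) (hN : FP R N) :
    cl (M ⊞ N) = cl M + cl N := by
  have hS : (ShortComplex.mk (biprod.inl : M ⟶ M ⊞ N) (biprod.snd : M ⊞ N ⟶ N)
      (by simp)).ShortExact :=
    (ShortComplex.Splitting.ofHasBinaryBiproduct M N).shortExact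
  exact cl_of_shortExact _ hS hM (DRingPerf.finiteProjective_biprod _ _ hM hN) hN

/-- the Euler characteristic of a complex on the interval `[a, b]` -/
noncomputable def chi (E : Cx R) (a b : ℤ) : KZero.K0sub (FP R) :=
  (Finset.Icc a b).sum (fun i => (i.negOnePow : ℤ) • cl (E.X i))

lemma chi_eq_of_vanishes (E : Cx R) (a b a' b' : ℤ) (h : VanishesOutside E a b) (ha : a' ≤ a)
    (hb : b ≤ b') : chi E a' b' = chi E a b := by
  unfold chi
  symm
  apply Finset.sum_subset (Finset.Icc_subset_Icc ha hb)
  intro i _ hi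
  rw [Finset.mem_Icc, not_and_or, not_le, not_le] at hi
  rw [cl_of_isZero (h i hi), smul_zero]

lemma cl_mappingCone {E F : Cx R} (f : E ⟶ F) (hE : TermwiseFiniteProjective E)
    (hF : TermwiseFiniteProjective F) (i : ℤ) :
    cl ((CochainComplex.mappingCone f).X i) = cl (E.X (i + 1)) + cl (F.X i) := by
  rw [cl_of_iso (ConeRep.mappingConeXIso f i)
    (DRingPerf.termwiseFiniteProjective_mappingCone f hE hF i),
    cl_biprod _ _ (hE (i + 1)) (hF i)]

/-- Euler characteristic of a mapping cone -/
theorem chi_cone {E F : Cx R} (f : E ⟶ F) (a b : ℤ) (hE : VanishesOutside E a b)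
    (hF : VanishesOutside F a b) (hEp : TermwiseFiniteProjective E)
    (hFp : TermwiseFiniteProjective F) :
    chi (CochainComplex.mappingCone f) (a - 1) b = chi F a b - chi E a b := by
  have h1 : chi (CochainComplex.mappingCone f) (a - 1) b =
      (Finset.Icc (a - 1) b).sum (fun i => (i.negOnePow : ℤ) • cl (E.X (i + 1))) +
        chi F (a - 1) b := by
    unfold chi
    rw [← Finset.sum_add_distrib]
    apply Finset.sum_congr rfl
    intro i _
    rw [cl_mappingCone f hEp hFp, smul_add]
  have h2 : chi E a (b + 1) =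
      (Finset.Icc (a - 1) b).sum (fun i => ((i + 1).negOnePow : ℤ) • cl (E.X (i + 1))) := by
    unfold chi
    have : Finset.Icc a (b + 1) = (Finset.Icc (a - 1) b).image (· + 1) := by
      rw [Finset.image_add_right_Icc]
      congr 1
      ring
    rw [this, Finset.sum_image (fun x _ y _ h => by simpa using h)]
  have h3 : (Finset.Icc (a - 1) b).sum (fun i => (i.negOnePow : ℤ) • cl (E.X (i + 1))) =
      - chi E a (b + 1) := by
    rw [h2, ← Finset.sum_neg_distrib]
    apply Finset.sum_congr rfl
    intro i _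
    rw [Int.negOnePow_succ, Units.val_neg, neg_smul, neg_neg]
  rw [h1, h3, chi_eq_of_vanishes E a b a (b + 1) hE le_rfl (by lia),
    chi_eq_of_vanishes F a b (a - 1) b hF (by lia) le_rfl]
  abel

lemma sum_Icc_telescope {G : Type*} [AddCommGroup G] (g : ℤ → G) (a : ℤ) (n : ℕ) :
    (Finset.Icc a (a + n - 1)).sum (fun i => g i - g (i + 1)) = g a - g (a + n) := by
  induction n with
  | zero =>
    rw [Finset.Icc_eq_empty (by simp)]
    simp
  | succ n ih =>
    have h : Finset.Icc a (a + (n + 1 : ℕ) - 1) = insert (a + n) (Finset.Icc a (a + n - 1)) := by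
      have := Finset.insert_Icc_right_eq_Icc_add_one (a := a) (b := a + n - 1) (by lia)
      rw [show a + (n : ℤ) - 1 + 1 = a + n by ring] at this
      rw [this]
      congr 1
      push_cast
      ring
    rw [h, Finset.sum_insert (by simp), ih]
    push_cast
    rw [← add_assoc]
    abel

section acyclic

variable (C : Cx R) (a b : ℤ) (hC : VanishesOutside C a b) (hp : TermwiseFiniteProjective C)
  (hex : ∀ i : ℤ, C.ExactAt i)

/-- the kernel of the differential out of degree `i` -/
noncomputable abbrev kerD (i : ℤ) : ModuleCat.{u} R :=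
  ModuleCat.of R (LinearMap.ker (C.d i (i + 1)).hom)

include hC hp hex in
lemma fp_kerD (i : ℤ) : FP R (kerD C i) := by
  have := Groth.Agent.Lib.Helper43.PCHomology.ker_d_projective_finite C b i
    (fun j hj => hC j (Or.inr hj)) (fun j => (hp j).2) (fun j => (hp j).1) (fun j _ => hex j)
    (b + 1 - i).toNat i (i + 1) le_rfl (by lia) rfl
  exact ⟨this.2, this.1⟩

include hC hp hex in
lemma cl_eq_kerD_add (i : ℤ) : cl (C.X i) = cl (kerD C i) + cl (kerD C (i + 1)) := by
  let g : C.X i →ₗ[R] LinearMap.ker (C.d (i + 1) (i + 1 + 1)).hom :=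
    LinearMap.codRestrict _ (C.d i (i + 1)).hom (fun x => by
      rw [LinearMap.mem_ker, ← ModuleCat.comp_apply, C.d_comp_d]
      rfl)
  let S : ShortComplex (ModuleCat.{u} R) :=
    ModuleCat.shortComplexOfCompEqZero (LinearMap.ker (C.d i (i + 1)).hom).subtype g (by
      ext x
      exact x.2)
  have hS : S.ShortExact := by
    refine ModuleCat.shortComplex_shortExact S ?_ (Submodule.subtype_injective _) ?_
    · intro x
      constructor
      · intro hx
        have : (C.d i (i + 1)).hom x = 0 := congrArg Subtype.val hx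
        exact ⟨⟨x, this⟩, rfl⟩
      · rintro ⟨y, rfl⟩
        apply Subtype.ext
        exact y.2
    · intro y
      obtain ⟨x, hx⟩ := ((TensCx.exactAt_iff_function_exact C i).1 (hex (i + 1)) y.1).1 y.2
      exact ⟨x, Subtype.ext hx⟩
  exact cl_of_shortExact S hS (fp_kerD C a b hC hp hex i) (hp i) (fp_kerD C a b hC hp hex (i + 1))

include hC hp hex in
/-- the Euler characteristic of an acyclic strictly perfect complex vanishes -/
theorem chi_acyclic : chi C a b = 0 := by
  by_cases hab : b < a
  · unfold chi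
    rw [Finset.Icc_eq_empty (by lia)]
    simp
  · rw [not_lt] at hab
    let g : ℤ → KZero.K0sub (FP R) := fun i => (i.negOnePow : ℤ) • cl (kerD C i)
    have h1 : chi C a b = (Finset.Icc a b).sum (fun i => g i - g (i + 1)) := by
      unfold chi
      apply Finset.sum_congr rfl
      intro i _
      change _ = (i.negOnePow : ℤ) • cl (kerD C i) - ((i + 1).negOnePow : ℤ) • cl (kerD C (i + 1))
      rw [cl_eq_kerD_add C a b hC hp hex i, smul_add, Int.negOnePow_succ, Units.val_neg, neg_smul,
        sub_neg_eq_add]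
    obtain ⟨n, hn⟩ : ∃ n : ℕ, b = a + n - 1 := ⟨(b + 1 - a).toNat, by lia⟩
    rw [h1, hn, sum_Icc_telescope]
    have hz1 : cl (kerD C a) = 0 := by
      apply cl_of_isZero
      obtain ⟨j, rfl⟩ : ∃ j, a = j + 1 := ⟨a - 1, by ring⟩
      have hsub : Subsingleton (C.X j) := ModuleCat.subsingleton_of_isZero (hC j (Or.inl (by lia)))
      have : Subsingleton (LinearMap.ker (C.d (j + 1) (j + 1 + 1)).hom) := by
        refine ⟨fun x y => Subtype.ext ?_⟩
        obtain ⟨x', hx'⟩ := ((TensCx.exactAt_iff_function_exact C j).1 (hex (j + 1)) x.1).1 x.2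
        obtain ⟨y', hy'⟩ := ((TensCx.exactAt_iff_function_exact C j).1 (hex (j + 1)) y.1).1 y.2
        rw [← hx', ← hy', Subsingleton.elim x' y']
      exact ModuleCat.isZero_of_subsingleton _
    have hz2 : cl (kerD C (a + n)) = 0 := by
      apply cl_of_isZero
      have hsub : Subsingleton (C.X (a + n)) :=
        ModuleCat.subsingleton_of_isZero (hC _ (Or.inr (by lia)))
      have : Subsingleton (LinearMap.ker (C.d (a + n) (a + n + 1)).hom) := inferInstance
      exact ModuleCat.isZero_of_subsingleton _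
    change (a.negOnePow : ℤ) • cl (kerD C a) - ((a + n).negOnePow : ℤ) • cl (kerD C (a + n)) = 0
    rw [hz1, hz2, smul_zero, smul_zero, sub_zero]

end acyclic

lemma vanishesOutside_mono {E : Cx R} {a b a' b' : ℤ} (h : VanishesOutside E a b) (ha : a' ≤ a)
    (hb : b ≤ b') : VanishesOutside E a' b' := by
  intro i hi
  apply h
  rcases hi with hi | hi
  · exact Or.inl (by lia)
  · exact Or.inr (by lia)

/-- the Euler characteristic only depends on the class in `D(R)` -/
theorem chi_eq_of_iso (E E' : Cx R) (a b a' b' : ℤ) (hE : VanishesOutside E a b)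
    (hE' : VanishesOutside E' a' b') (hp : TermwiseFiniteProjective E)
    (hp' : TermwiseFiniteProjective E') (e : toD E ≅ toD E') : chi E a b = chi E' a' b' := by
  set m := min a a' with hm
  set M := max b b' with hM
  have hEm : VanishesOutside E m M := vanishesOutside_mono hE (min_le_left _ _) (le_max_left _ _)
  have hEm' : VanishesOutside E' m M :=
    vanishesOutside_mono hE' (min_le_right _ _) (le_max_right _ _)
  haveI : E.IsKProjective := DRingPerf.isKProjective_of_finiteProjective E a b hE hp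
  obtain ⟨f, hf⟩ := KProj.exists_Q_map_eq E E' e.hom
  have hT := DerivedCategory.mappingCone_triangle_distinguished f
  have hiso : IsIso (Q.map f) := by rw [hf]; infer_instance
  have hz : IsZero (Q.obj (CochainComplex.mappingCone f)) :=
    (Triangle.isZero₃_iff_isIso₁ _ hT).2 hiso
  have hex : ∀ i : ℤ, (CochainComplex.mappingCone f).ExactAt i := fun i =>
    Groth.Agent.Lib.Helper43.PCHomology.exactAt_of_isZero _ i
      (Functor.map_isZero (homologyFunctor (ModuleCat.{u} R) i) hz)
  have hv : VanishesOutside (CochainComplex.mappingCone f) (m - 1) M := by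
    have := DRingPerf.vanishesOutside_mappingCone f m M m M hEm hEm'
    rwa [min_eq_left (by lia : m - 1 ≤ m), max_self] at this
  have h0 := chi_acyclic _ (m - 1) M hv
    (DRingPerf.termwiseFiniteProjective_mappingCone f hp hp') hex
  rw [chi_cone f m M hEm hEm' hp hp', sub_eq_zero] at h0
  rw [← chi_eq_of_vanishes E a b m M hE (min_le_left _ _) (le_max_left _ _),
    ← chi_eq_of_vanishes E' a' b' m M hE' (min_le_right _ _) (le_max_right _ _), h0]

/-- additivity of the Euler characteristic in distinguished triangles -/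
theorem chi_add_of_triangle (T : Triangle (Dual.D R)) (hT : T ∈ distTriang _)
    (E₁ E₂ E₃ : Cx R) (a₁ b₁ a₂ b₂ a₃ b₃ : ℤ)
    (h₁ : VanishesOutside E₁ a₁ b₁) (h₂ : VanishesOutside E₂ a₂ b₂)
    (h₃ : VanishesOutside E₃ a₃ b₃) (p₁ : TermwiseFiniteProjective E₁)
    (p₂ : TermwiseFiniteProjective E₂) (p₃ : TermwiseFiniteProjective E₃)
    (e₁ : toD E₁ ≅ T.obj₁) (e₂ : toD E₂ ≅ T.obj₂) (e₃ : toD E₃ ≅ T.obj₃) :
    chi E₂ a₂ b₂ = chi E₁ a₁ b₁ + chi E₃ a₃ b₃ := by
  set m := min a₁ a₂ with hm
  set M := max b₁ b₂ with hM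
  have hEm₁ : VanishesOutside E₁ m M :=
    vanishesOutside_mono h₁ (min_le_left _ _) (le_max_left _ _)
  have hEm₂ : VanishesOutside E₂ m M :=
    vanishesOutside_mono h₂ (min_le_right _ _) (le_max_right _ _)
  haveI : E₁.IsKProjective := DRingPerf.isKProjective_of_finiteProjective E₁ a₁ b₁ h₁ p₁
  obtain ⟨f, ⟨e⟩⟩ := ConeRep.exists_cone_iso E₁ E₂ T hT e₁ e₂
  have hv : VanishesOutside (CochainComplex.mappingCone f) (m - 1) M := by
    have := DRingPerf.vanishesOutside_mappingCone f m M m M hEm₁ hEm₂
    rwa [min_eq_left (by lia : m - 1 ≤ m), max_self] at this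
  have h3 : chi E₃ a₃ b₃ = chi (CochainComplex.mappingCone f) (m - 1) M :=
    chi_eq_of_iso E₃ _ a₃ b₃ (m - 1) M h₃ hv p₃
      (DRingPerf.termwiseFiniteProjective_mappingCone f p₁ p₂) (e₃ ≪≫ e.symm)
  rw [h3, chi_cone f m M hEm₁ hEm₂ p₁ p₂,
    ← chi_eq_of_vanishes E₁ a₁ b₁ m M h₁ (min_le_left _ _) (le_max_left _ _),
    ← chi_eq_of_vanishes E₂ a₂ b₂ m M h₂ (min_le_right _ _) (le_max_right _ _)]
  abel

end Groth.Agent.Lib.Helper84.K0Euler
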