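import Groth.Agent.Lib.Helper84.TensSingle
import Groth.Agent.Lib.Helper84.ARKoszul
import Groth.Agent.Lib.Helper84.KProj
import Groth.Agent.Lib.Helper15.LDerivedTri
import Groth.Agent.Lib.Helper43.FreeRes
import Groth.Agent.Lib.Helper25.LTenCompute
import Groth.Prelude.Def_DTen

/-!
# `I^n M ⟶ M` factors through `I ⊗^L M ⟶ M` in `D(A)` (helper84)
-/

set_option autoImplicit false
universe u
open CategoryTheory CategoryTheory.Limits MonoidalCategory DerivedCategory Pretriangulated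

attribute [local instance] HasDerivedCategory.standard

namespace Groth.Agent.Lib.Helper84.LTenIdeal

open Groth.Agent.Lib.Helper84.TensSingle Groth.Agent.Lib.Helper15.LDerived

variable (A : Type u) [CommRing A]

section Compare

variable [DTen.HasLTen A]

/-- naturality of the counit in the first variable -/
lemma ε_square {K K' : DRing.Cx A} (f : K ⟶ K') (E : DRing.Cx A) :
    (DTen.LTen₂ A).map (Prod.mkHom (Q.map f) (𝟙 (Q.obj E))) ≫ (DTen.ε A).app (K', E) =
      (DTen.ε A).app (K, E) ≫ Q.map (f ▷ E) := by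
  have e := (DTen.ε A).naturality (Prod.mkHom f (𝟙 E))
  dsimp at e
  simpa using e

variable (M : ModuleCat.{u} A)

lemma key {K K' : DRing.Cx A} (f : K ⟶ K') [IsIso ((DTen.ε A).app (K, S.obj M))] :
    ltMap A M K ≫ Q.map (σ M K) ≫ inv ((DTen.ε A).app (K, S.obj M)) ≫
        (DTen.LTen₂ A).map (Prod.mkHom (Q.map f) (𝟙 (Q.obj (S.obj M)))) ≫
          (DTen.ε A).app (K', S.obj M) =
      (DRing.LTensor A M).map (Q.map f) ≫ ltMap A M K' ≫ Q.map (σ M K') := by
  rw [ε_square, IsIso.inv_hom_id_assoc, ← Functor.map_comp, ← σ_naturality, Functor.map_comp,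
    ← Category.assoc, ← ltMap_naturality, Category.assoc]

end Compare

section KProj

lemma isKProjective_of_termwiseFree (P : DRing.Cx A) (b : ℤ) (hb : DRing.VanishesAbove P b)
    (hP : Groth.Agent.Lib.Helper43.FreeRes.TermwiseFree P) : CochainComplex.IsKProjective P :=
  Groth.Agent.Lib.Helper84.KProj.isKProjective_of_vanishesAbove P b hb
    (fun i => by
      have := Groth.Agent.Lib.Helper43.FreeRes.projective_of_termwiseFree hP i
      exact ModuleCat.projective_of_categoryTheory_projective (P.X i))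

lemma isKProjective_single : CochainComplex.IsKProjective (S.obj (ModuleCat.of A A) : DRing.Cx A) := by
  have h := Groth.Agent.Lib.Helper43.KoszulPerf.koszul_termwiseFiniteFree ([] : List A)
  have h2 := Groth.Agent.Lib.Helper43.KoszulPerf.koszul_vanishesOutside ([] : List A)
  exact isKProjective_of_termwiseFree A (Koszul.koszul A []) 0 (fun i hi => h2 i (Or.inr hi))
    (Groth.Agent.Lib.Helper43.FreeRes.termwiseFree_of_finiteFree h)

lemma isKProjective_koszul (l : List A) : CochainComplex.IsKProjective (Koszul.koszul A l) := by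
  have h := Groth.Agent.Lib.Helper43.KoszulPerf.koszul_termwiseFiniteFree l
  have h2 := Groth.Agent.Lib.Helper43.KoszulPerf.koszul_vanishesOutside l
  exact isKProjective_of_termwiseFree A (Koszul.koszul A l) 0 (fun i hi => h2 i (Or.inr hi))
    (Groth.Agent.Lib.Helper43.FreeRes.termwiseFree_of_finiteFree h)

end KProj

lemma exists_ofList_eq [IsNoetherianRing A] (I : Ideal A) : ∃ l : List A, Ideal.ofList l = I := by
  obtain ⟨s, hs⟩ := (isNoetherianRing_iff_ideal_fg A).1 inferInstance I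
  refine ⟨s.toList, ?_⟩
  rw [← hs]
  unfold Ideal.ofList
  congr 1
  ext x
  simp

lemma isZero_homology_single_pos (N : ModuleCat.{u} A) (i : ℤ) (hi : 0 < i) :
    IsZero ((DerivedCategory.homologyFunctor (ModuleCat.{u} A) i).obj
      (Q.obj (S.obj N : DRing.Cx A))) := by
  refine IsZero.of_iso ?_ ((DerivedCategory.homologyFunctorFactors (ModuleCat.{u} A) i).app (S.obj N))
  exact HomologicalComplex.isZero_single_obj_homology _ _ _ _ (by omega)

theorem main [IsNoetherianRing A] [DTen.HasLTen A] (I : Ideal A) (M₀ : Type u) [AddCommGroup M₀]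
    [Module A M₀] [Module.Finite A M₀] :
    ∃ (n : ℕ) (_ : 0 < n)
      (g : Q.obj (S.obj (ModuleCat.of A ↥(I ^ n • (⊤ : Submodule A M₀)))) ⟶
            (DTen.LTen₂ A).obj (Q.obj (S.obj (ModuleCat.of A ↥I)), Q.obj (S.obj (ModuleCat.of A M₀)))),
      g ≫ (DTen.LTen₂ A).map (Prod.mkHom (Q.map (S.map (ModuleCat.ofHom I.subtype))) (𝟙 _)) ≫
          (DTen.unitL A).app (Q.obj (S.obj (ModuleCat.of A M₀))) =
        Q.map (S.map (ModuleCat.ofHom (I ^ n • (⊤ : Submodule A M₀)).subtype)) := by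
  obtain ⟨l, rfl⟩ := exists_ofList_eq A I
  set I := Ideal.ofList l with hI
  let M : ModuleCat.{u} A := ModuleCat.of A M₀
  let T := DRing.LTensor A M
  let N : ModuleCat.{u} A := ModuleCat.of A (A ⧸ I)
  let π : ModuleCat.of A A ⟶ N := ModuleCat.ofHom I.mkQ
  let ι : ModuleCat.of A ↥I ⟶ ModuleCat.of A A := ModuleCat.ofHom I.subtype
  -- the triangle
  let SC : ShortComplex (ModuleCat.{u} A) := ShortComplex.mk ι π (by
    ext x
    exact (Submodule.Quotient.mk_eq_zero I).2 x.2)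
  have hSC : SC.ShortExact := ModuleCat.shortComplex_shortExact SC
    (LinearMap.exact_subtype_mkQ I) (Submodule.subtype_injective I) (Submodule.mkQ_surjective I)
  have hSC' := hSC.map_of_exact (HomologicalComplex.single (ModuleCat.{u} A) (ComplexShape.up ℤ) 0)
  have hT₀ := DerivedCategory.triangleOfSES_distinguished hSC'
  obtain ⟨δ, hδ⟩ := Groth.Agent.Lib.Helper15.LDerivedTri.exists_distTriang_LTensor A M _ hT₀
  -- Koszul
  have hkill : ∀ f ∈ l, ∀ x : N, f • x = 0 := by
    intro f hf x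
    obtain ⟨a, rfl⟩ := Submodule.Quotient.mk_surjective I x
    rw [← Submodule.Quotient.mk_smul]
    exact (Submodule.Quotient.mk_eq_zero I).2
      (I.mul_mem_right a (Ideal.subset_span hf))
  let u := KoszulUV.u l
  let v := KoszulUV.v N π l hkill
  have huv : u ≫ v = S.map π := KoszulUV.u_v N π l hkill
  let ρ : (S.obj M : DRing.Cx A) ⟶ (tensF M).obj (Koszul.koszul A l) := e₀' M ≫ (tensF M).map u
  obtain ⟨n, hn, h0⟩ := ARKoszul.exists_Q_incl_comp_eq_zero l M₀ ρ
  refine ⟨n, hn, ?_⟩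
  set inc : (S.obj (ModuleCat.of A ↥(I ^ n • (⊤ : Submodule A M₀))) : DRing.Cx A) ⟶ S.obj M :=
    S.map (ModuleCat.ofHom (I ^ n • (⊤ : Submodule A M₀)).subtype) with hinc
  haveI hSA : CochainComplex.IsKProjective (S.obj (ModuleCat.of A A) : DRing.Cx A) :=
    isKProjective_single A
  haveI hKos : CochainComplex.IsKProjective (Koszul.koszul A l) := isKProjective_koszul A l
  -- the map `j'`
  let j' : Q.obj (S.obj (ModuleCat.of A ↥(I ^ n • (⊤ : Submodule A M₀)))) ⟶
      T.obj (Q.obj (S.obj (ModuleCat.of A A))) :=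
    Q.map inc ≫ Q.map (e₀' M) ≫ inv (ltMap A M (S.obj (ModuleCat.of A A)))
  have hj'u : j' ≫ T.map (Q.map u) = 0 := by
    rw [← cancel_mono (ltMap A M (Koszul.koszul A l)), zero_comp]
    dsimp only [j']
    simp only [Category.assoc]
    rw [ltMap_naturality, IsIso.inv_hom_id_assoc, ← Functor.map_comp, ← Functor.map_comp]
    exact h0
  have hj' : j' ≫ T.map (Q.map (S.map π)) = 0 := by
    rw [← huv, Functor.map_comp, Functor.map_comp, ← Category.assoc, hj'u, zero_comp]
  obtain ⟨g''₀, hg''₀⟩ := Triangle.coyoneda_exact₂ _ hδ j' hj'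
  let g'' : Q.obj (S.obj (ModuleCat.of A ↥(I ^ n • (⊤ : Submodule A M₀)))) ⟶
      T.obj (Q.obj (S.obj (ModuleCat.of A ↥I))) := g''₀
  have hg'' : j' = g'' ≫ T.map (Q.map (S.map ι)) := hg''₀
  -- a free resolution of `I`
  obtain ⟨F, α, hFb, hFf, hα⟩ := Groth.Agent.Lib.Helper43.FreeRes.exists_free_resolution
    (S.obj (ModuleCat.of A ↥I) : DRing.Cx A) 0 (fun i hi => isZero_homology_single_pos A _ i hi)
  haveI := hα
  haveI hFp : CochainComplex.IsKProjective F := isKProjective_of_termwiseFree A F 0 hFb hFf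
  have hFfl : Groth.Agent.Lib.Helper25.KFlat.IsKFlat F :=
    Groth.Agent.Lib.Helper25.KFlat.isKFlat_of_boundedAbove_of_flat F 0 hFb (fun q => by
      have := hFf q
      infer_instance)
  haveI hε : IsIso ((DTen.ε A).app (F, (S.obj M : DRing.Cx A))) :=
    Groth.Agent.Lib.Helper25.LTenCompute.isIso_ε_app F (S.obj M) (Or.inl hFfl)
  let c : T.obj (Q.obj (S.obj (ModuleCat.of A ↥I))) ⟶
      (DTen.LTen₂ A).obj (Q.obj (S.obj (ModuleCat.of A ↥I)), Q.obj (S.obj M)) :=
    inv (T.map (Q.map α)) ≫ ltMap A M F ≫ Q.map (σ M F) ≫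
      inv ((DTen.ε A).app (F, (S.obj M : DRing.Cx A))) ≫
        (DTen.LTen₂ A).map (Prod.mkHom (Q.map α) (𝟙 (Q.obj (S.obj M))))
  refine ⟨g'' ≫ c, ?_⟩
  have hc : c ≫ (DTen.LTen₂ A).map (Prod.mkHom (Q.map (S.map ι)) (𝟙 (Q.obj (S.obj M)))) ≫
      (DTen.unitL A).app (Q.obj (S.obj M)) =
      T.map (Q.map (S.map ι)) ≫ ltMap A M (S.obj (ModuleCat.of A A)) ≫
        Q.map (σ M (S.obj (ModuleCat.of A A)) ≫ (λ_ (S.obj M : DRing.Cx A)).hom) := by
    have hk := key A M (α ≫ S.map ι)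
    have hcomp : (DTen.LTen₂ A).map (Prod.mkHom (Q.map α) (𝟙 (Q.obj (S.obj M)))) ≫
        (DTen.LTen₂ A).map (Prod.mkHom (Q.map (S.map ι)) (𝟙 (Q.obj (S.obj M)))) =
        (DTen.LTen₂ A).map (Prod.mkHom (Q.map (α ≫ S.map ι)) (𝟙 (Q.obj (S.obj M)))) := by
      rw [← Functor.map_comp, Functor.map_comp Q]
      congr 1
    have hTα : inv (T.map (Q.map α)) ≫ T.map (Q.map (α ≫ S.map ι)) = T.map (Q.map (S.map ι)) := by
      rw [Functor.map_comp, Functor.map_comp, IsIso.inv_hom_id_assoc]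
    calc c ≫ (DTen.LTen₂ A).map (Prod.mkHom (Q.map (S.map ι)) (𝟙 (Q.obj (S.obj M)))) ≫
          (DTen.unitL A).app (Q.obj (S.obj M))
        = inv (T.map (Q.map α)) ≫ (ltMap A M F ≫ Q.map (σ M F) ≫
            inv ((DTen.ε A).app (F, (S.obj M : DRing.Cx A))) ≫
            (DTen.LTen₂ A).map (Prod.mkHom (Q.map (α ≫ S.map ι)) (𝟙 (Q.obj (S.obj M)))) ≫
            (DTen.ε A).app ((S.obj (ModuleCat.of A A) : DRing.Cx A), (S.obj M : DRing.Cx A))) ≫
            Q.map (λ_ (S.obj M : DRing.Cx A)).hom := by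
          rw [DTen.unitL_app, ← hcomp]
          dsimp only [c]
          simp only [Category.assoc]
          rfl
      _ = inv (T.map (Q.map α)) ≫ (T.map (Q.map (α ≫ S.map ι)) ≫
            ltMap A M (S.obj (ModuleCat.of A A)) ≫ Q.map (σ M (S.obj (ModuleCat.of A A)))) ≫
            Q.map (λ_ (S.obj M : DRing.Cx A)).hom := by rw [hk]
      _ = T.map (Q.map (S.map ι)) ≫ ltMap A M (S.obj (ModuleCat.of A A)) ≫
            Q.map (σ M (S.obj (ModuleCat.of A A)) ≫ (λ_ (S.obj M : DRing.Cx A)).hom) := by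
          rw [← hTα, Functor.map_comp Q (σ M _)]
          simp only [Category.assoc]
  have hfin : j' ≫ ltMap A M (S.obj (ModuleCat.of A A)) ≫
      Q.map (σ M (S.obj (ModuleCat.of A A)) ≫ (λ_ (S.obj M : DRing.Cx A)).hom) = Q.map inc := by
    dsimp only [j']
    simp only [Category.assoc]
    rw [IsIso.inv_hom_id_assoc, ← Functor.map_comp, ← Functor.map_comp]
    have := e₀'_σ_leftUnitor M
    erw [this]
    rw [Category.comp_id]
  calc (g'' ≫ c) ≫ (DTen.LTen₂ A).map (Prod.mkHom (Q.map (S.map ι)) (𝟙 (Q.obj (S.obj M)))) ≫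
        (DTen.unitL A).app (Q.obj (S.obj M))
      = g'' ≫ (c ≫ (DTen.LTen₂ A).map (Prod.mkHom (Q.map (S.map ι)) (𝟙 (Q.obj (S.obj M)))) ≫
        (DTen.unitL A).app (Q.obj (S.obj M))) := by simp only [Category.assoc]
    _ = g'' ≫ (T.map (Q.map (S.map ι)) ≫ ltMap A M (S.obj (ModuleCat.of A A)) ≫
        Q.map (σ M (S.obj (ModuleCat.of A A)) ≫ (λ_ (S.obj M : DRing.Cx A)).hom)) := by rw [hc]
    _ = (g'' ≫ T.map (Q.map (S.map ι))) ≫ ltMap A M (S.obj (ModuleCat.of A A)) ≫
        Q.map (σ M (S.obj (ModuleCat.of A A)) ≫ (λ_ (S.obj M : DRing.Cx A)).hom) := by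
          simp only [Category.assoc]
    _ = Q.map inc := by rw [← hg'', hfin]

end Groth.Agent.Lib.Helper84.LTenIdeal
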