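import Mathlib

/-!
# Lifting ladders of maps between left exact sequences of resolutions (helper84)
-/

set_option autoImplicit false
universe v u

open CategoryTheory CategoryTheory.Limits
open scoped ZeroObject

namespace Groth.Agent.Lib.Helper84.LadderLift

variable {V : Type u} [Category.{v} V] [Abelian V]

/-- extension lemma: a pair of maps into an injective object, compatible on the "intersection",
extends to the whole object -/
lemma exists_extension {X Y Z E : V} [Injective E] (x : X ⟶ Z) (y : Y ⟶ Z) (φ : X ⟶ E)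
    (ψ : Y ⟶ E)
    (h : ∀ {W : V} (a : W ⟶ X) (b : W ⟶ Y), a ≫ x = b ≫ y → a ≫ φ = b ≫ ψ) :
    ∃ θ : Z ⟶ E, x ≫ θ = φ ∧ y ≫ θ = ψ := by
  let s : X ⊞ Y ⟶ Z := biprod.desc x y
  let t : X ⊞ Y ⟶ E := biprod.desc φ ψ
  have hk : kernel.ι s ≫ t = 0 := by
    have h1 : kernel.ι s ≫ s = 0 := kernel.condition s
    have h2 : (kernel.ι s ≫ biprod.fst) ≫ x = (-(kernel.ι s ≫ biprod.snd)) ≫ y := by
      have : kernel.ι s ≫ (biprod.fst ≫ x + biprod.snd ≫ y) = 0 := by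
        rw [← biprod.desc_eq]; exact h1
      rw [Preadditive.comp_add, ← Category.assoc, ← Category.assoc] at this
      rw [Preadditive.neg_comp]
      exact eq_neg_of_add_eq_zero_left this
    have h3 := h _ _ h2
    have : kernel.ι s ≫ (biprod.fst ≫ φ + biprod.snd ≫ ψ) = 0 := by
      rw [Preadditive.comp_add, ← Category.assoc, ← Category.assoc, h3, Preadditive.neg_comp]
      exact neg_add_cancel _
    rw [← biprod.desc_eq] at this
    exact this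
  let t' : Abelian.coimage s ⟶ E := cokernel.desc (kernel.ι s) t hk
  let θ : Z ⟶ E := Injective.factorThru t' (Abelian.factorThruCoimage s)
  have hθ : s ≫ θ = t := by
    have h1 : Abelian.factorThruCoimage s ≫ θ = t' := Injective.comp_factorThru _ _
    have h2 : Abelian.coimage.π s ≫ Abelian.factorThruCoimage s = s := Abelian.coimage.fac s
    rw [← h2, Category.assoc, h1]
    exact cokernel.π_desc _ _ _
  refine ⟨θ, ?_, ?_⟩
  · have := congrArg (fun u => biprod.inl ≫ u) hθ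
    simpa [s, t] using this
  · have := congrArg (fun u => biprod.inr ≫ u) hθ
    simpa [s, t] using this

lemma exists_refinement_of_exactAt (K : CochainComplex V ℕ) (n : ℕ) (hK : K.ExactAt (n + 1))
    {W : V} (b : W ⟶ K.X (n + 1)) (hb : b ≫ K.d (n + 1) (n + 2) = 0) :
    ∃ (W' : V) (π : W' ⟶ W) (_ : Epi π) (c : W' ⟶ K.X n), π ≫ b = c ≫ K.d n (n + 1) := by
  have h := (K.exactAt_iff' n (n + 1) (n + 2) (by simp) (by simp)).1 hK
  exact h.exact_up_to_refinements b hb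

/-- `u` maps cycles to cycles -/
def CycleCond (K J : CochainComplex V ℕ) (n : ℕ) (u : K.X n ⟶ J.X n) : Prop :=
  ∀ {W : V} (b : W ⟶ K.X n), b ≫ K.d n (n + 1) = 0 → b ≫ u ≫ J.d n (n + 1) = 0

lemma cycleCond_succ (K J : CochainComplex V ℕ) (n : ℕ) (hK : K.ExactAt (n + 1))
    (u : K.X n ⟶ J.X n) (v : K.X (n + 1) ⟶ J.X (n + 1))
    (huv : K.d n (n + 1) ≫ v = u ≫ J.d n (n + 1)) : CycleCond K J (n + 1) v := by
  intro W b hb
  obtain ⟨W', π, _, c, hc⟩ := exists_refinement_of_exactAt K n hK b hb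
  rw [← cancel_epi π, comp_zero, ← Category.assoc, hc, Category.assoc, ← Category.assoc _ v,
    huv, Category.assoc, J.d_comp_d, comp_zero, comp_zero]

/-- the single-complex step -/
lemma exists_step (K J : CochainComplex V ℕ) (n : ℕ) [Injective (J.X (n + 1))]
    (u : K.X n ⟶ J.X n) (hu : CycleCond K J n u) :
    ∃ v : K.X (n + 1) ⟶ J.X (n + 1), K.d n (n + 1) ≫ v = u ≫ J.d n (n + 1) := by
  obtain ⟨θ, -, h2⟩ := exists_extension (0 : (0 : V) ⟶ K.X (n + 1)) (K.d n (n + 1))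
    (0 : (0 : V) ⟶ J.X (n + 1)) (u ≫ J.d n (n + 1)) (by
      intro W a b hab
      rw [comp_zero] at hab ⊢
      exact (hu b hab.symm).symm)
  exact ⟨θ, h2⟩

/-- generalized single step: extend `u' : P' ⟶ E'` along `δ' : P' ⟶ X'` -/
lemma genStep_a {P' X' E' : V} [Injective E'] (δ' : P' ⟶ X') (u' : P' ⟶ E')
    (cond : ∀ {W : V} (z : W ⟶ P'), z ≫ δ' = 0 → z ≫ u' = 0) :
    ∃ v' : X' ⟶ E', δ' ≫ v' = u' := by
  obtain ⟨θ, -, h2⟩ := exists_extension (0 : (0 : V) ⟶ X') δ' (0 : (0 : V) ⟶ E') u' (by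
      intro W a b hab
      rw [comp_zero] at hab ⊢
      exact (cond b hab.symm).symm)
  exact ⟨θ, h2⟩

/-- generalized relative step for the middle complex -/
lemma genStep_b {P' P X' X Xn' Xn E' E : V} [Injective E]
    (δ' : P' ⟶ X') (δ : P ⟶ X) (jP : P' ⟶ P) (jX : X' ⟶ X) (jE : E' ⟶ E)
    (dX' : X' ⟶ Xn') (dX : X ⟶ Xn) (jXn : Xn' ⟶ Xn) [Mono jXn]
    (h1 : δ' ≫ jX = jP ≫ δ) (h2 : jX ≫ dX = dX' ≫ jXn) (h3 : δ ≫ dX = 0)
    (ex' : ∀ {W : V} (a : W ⟶ X'), a ≫ dX' = 0 →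
      ∃ (W' : V) (π : W' ⟶ W) (_ : Epi π) (c : W' ⟶ P'), π ≫ a = c ≫ δ')
    (u' : P' ⟶ E') (u : P ⟶ E) (v' : X' ⟶ E') (hv' : δ' ≫ v' = u')
    (hu : jP ≫ u = u' ≫ jE)
    (cond : ∀ {W : V} (z : W ⟶ P), z ≫ δ = 0 → z ≫ u = 0) :
    ∃ v : X ⟶ E, jX ≫ v = v' ≫ jE ∧ δ ≫ v = u := by
  apply exists_extension
  intro W a b hab
  have ha : a ≫ dX' = 0 := by
    rw [← cancel_mono jXn, zero_comp, Category.assoc, ← h2, ← Category.assoc, hab,
      Category.assoc, h3, comp_zero]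
  obtain ⟨W', π, _, c, hc⟩ := ex' a ha
  have hz : (π ≫ b - c ≫ jP) ≫ δ = 0 := by
    rw [Preadditive.sub_comp, Category.assoc, ← hab, ← Category.assoc, hc, Category.assoc,
      Category.assoc, h1, sub_self]
  have h4 := cond _ hz
  rw [Preadditive.sub_comp, sub_eq_zero, Category.assoc, Category.assoc, hu, ← hv',
    Category.assoc, ← Category.assoc c, ← hc, Category.assoc] at h4
  rw [← cancel_epi π]
  exact h4.symm

/-- generalized relative step for the third complex -/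
lemma genStep_c {P P'' X' X X'' Xn' Xn Xn'' Xnn' Xnn E' E E'' : V} [Injective E'']
    (δ : P ⟶ X) (δ'' : P'' ⟶ X'') (πP : P ⟶ P'') (jX : X' ⟶ X) (πX : X ⟶ X'')
    (dX' : X' ⟶ Xn') (dX : X ⟶ Xn) (dX'' : X'' ⟶ Xn'') (jXn : Xn' ⟶ Xn) (πXn : Xn ⟶ Xn'')
    (dXn' : Xn' ⟶ Xnn') (dXn : Xn ⟶ Xnn) (jXnn : Xnn' ⟶ Xnn) [Mono jXnn]
    (jE : E' ⟶ E) (πE : E ⟶ E'')
    (r1 : δ ≫ πX = πP ≫ δ'') (r2 : jX ≫ πX = 0) (r3 : jX ≫ dX = dX' ≫ jXn)
    (r4 : πX ≫ dX'' = dX ≫ πXn) (r5 : jXn ≫ dXn = dXn' ≫ jXnn) (r6 : dX ≫ dXn = 0)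
    (r7 : δ'' ≫ dX'' = 0) (r8 : jE ≫ πE = 0)
    (ex1 : ∀ {W : V} (w : W ⟶ Xn), w ≫ πXn = 0 →
      ∃ (W' : V) (π : W' ⟶ W) (_ : Epi π) (e : W' ⟶ Xn'), π ≫ w = e ≫ jXn)
    (ex2 : ∀ {W : V} (e : W ⟶ Xn'), e ≫ dXn' = 0 →
      ∃ (W' : V) (π : W' ⟶ W) (_ : Epi π) (e' : W' ⟶ X'), π ≫ e = e' ≫ dX')
    (ex3 : ∀ {W : V} (a : W ⟶ X), a ≫ dX = 0 →
      ∃ (W' : V) (π : W' ⟶ W) (_ : Epi π) (c : W' ⟶ P), π ≫ a = c ≫ δ)
    (v' : X' ⟶ E') (v : X ⟶ E) (hv : jX ≫ v = v' ≫ jE)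
    (u : P ⟶ E) (hu : δ ≫ v = u) (u'' : P'' ⟶ E'') (hu'' : πP ≫ u'' = u ≫ πE)
    (cond : ∀ {W : V} (z : W ⟶ P''), z ≫ δ'' = 0 → z ≫ u'' = 0) :
    ∃ v'' : X'' ⟶ E'', πX ≫ v'' = v ≫ πE ∧ δ'' ≫ v'' = u'' := by
  apply exists_extension
  intro W a b hab
  -- step 1
  have s1 : (a ≫ dX) ≫ πXn = 0 := by
    rw [Category.assoc, ← r4, ← Category.assoc, hab, Category.assoc, r7, comp_zero]
  obtain ⟨W₁, π₁, _, e, he⟩ := ex1 _ s1
  have s3 : e ≫ dXn' = 0 := by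
    rw [← cancel_mono jXnn, zero_comp, Category.assoc, ← r5, ← Category.assoc, ← he,
      Category.assoc, Category.assoc, r6, comp_zero, comp_zero]
  obtain ⟨W₂, π₂, _, e', he'⟩ := ex2 e s3
  have s5 : (π₂ ≫ π₁ ≫ a - e' ≫ jX) ≫ dX = 0 := by
    rw [Preadditive.sub_comp, Category.assoc, Category.assoc, Category.assoc, he, r3,
      ← Category.assoc e', ← he', Category.assoc, sub_self]
  obtain ⟨W₃, π₃, _, c, hc⟩ := ex3 _ s5
  -- `π₃ π₂ π₁ a = c δ + π₃ e' jX`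
  have s6 : π₃ ≫ π₂ ≫ π₁ ≫ a = c ≫ δ + π₃ ≫ e' ≫ jX := by
    rw [← hc, Preadditive.comp_sub, sub_add_cancel]
  have s7 : (π₃ ≫ π₂ ≫ π₁ ≫ b - c ≫ πP) ≫ δ'' = 0 := by
    rw [Preadditive.sub_comp, Category.assoc, Category.assoc, Category.assoc, ← hab,
      Category.assoc, ← r1]
    have : π₃ ≫ π₂ ≫ π₁ ≫ a ≫ πX = (π₃ ≫ π₂ ≫ π₁ ≫ a) ≫ πX := by simp
    rw [this, s6, Preadditive.add_comp, Category.assoc, Category.assoc, Category.assoc, r2,
      comp_zero, comp_zero, add_zero, sub_self]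
  have s8 := cond _ s7
  rw [Preadditive.sub_comp, sub_eq_zero, Category.assoc, Category.assoc, Category.assoc,
    Category.assoc, hu'', ← hu] at s8
  have s9 : (π₃ ≫ π₂ ≫ π₁ ≫ a) ≫ v ≫ πE = c ≫ δ ≫ v ≫ πE := by
    rw [s6, Preadditive.add_comp, Category.assoc, Category.assoc, Category.assoc,
      ← Category.assoc jX, hv, Category.assoc, r8, comp_zero, comp_zero, comp_zero, add_zero]
  rw [← cancel_epi π₁, ← cancel_epi π₂, ← cancel_epi π₃]
  have e1 : π₃ ≫ π₂ ≫ π₁ ≫ a ≫ v ≫ πE = (π₃ ≫ π₂ ≫ π₁ ≫ a) ≫ v ≫ πE := by simp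
  rw [e1, s9, s8]
  simp

section Ladder

variable (C' C C'' I' I I'' : CochainComplex V ℕ)
  (jC : C' ⟶ C) (πC : C ⟶ C'') (jI : I' ⟶ I) (πI : I ⟶ I'')

/-- compatible maps in degree `n` -/
structure Lvl (n : ℕ) where
  /-- first map -/
  f' : C'.X n ⟶ I'.X n
  /-- second map -/
  f : C.X n ⟶ I.X n
  /-- third map -/
  f'' : C''.X n ⟶ I''.X n
  hj : jC.f n ≫ f = f' ≫ jI.f n
  hπ : πC.f n ≫ f'' = f ≫ πI.f n
  z' : CycleCond C' I' n f'
  z : CycleCond C I n f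
  z'' : CycleCond C'' I'' n f''

variable {C' C C'' I' I I'' jC πC jI πI}

lemma exists_lvl_succ
    (mC : ∀ n, Mono (jC.f n)) (wC : ∀ n, jC.f n ≫ πC.f n = 0)
    (exC : ∀ n, (ShortComplex.mk (jC.f n) (πC.f n) (wC n)).Exact)
    (wI : ∀ n, jI.f n ≫ πI.f n = 0)
    (hC' : ∀ n, 0 < n → C'.ExactAt n) (hC : ∀ n, 0 < n → C.ExactAt n)
    (hC'' : ∀ n, 0 < n → C''.ExactAt n)
    (injI' : ∀ n, Injective (I'.X n)) (injI : ∀ n, Injective (I.X n))
    (injI'' : ∀ n, Injective (I''.X n))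
    (n : ℕ) (x : Lvl C' C C'' I' I I'' jC πC jI πI n) :
    ∃ y : Lvl C' C C'' I' I I'' jC πC jI πI (n + 1),
      C'.d n (n + 1) ≫ y.f' = x.f' ≫ I'.d n (n + 1) ∧
      C.d n (n + 1) ≫ y.f = x.f ≫ I.d n (n + 1) ∧
      C''.d n (n + 1) ≫ y.f'' = x.f'' ≫ I''.d n (n + 1) := by
  haveI := injI' (n + 1)
  haveI := injI (n + 1)
  haveI := injI'' (n + 1)
  haveI := mC (n + 2)
  haveI := mC (n + 3)
  obtain ⟨v', hv'⟩ := genStep_a (C'.d n (n + 1)) (x.f' ≫ I'.d n (n + 1)) (fun z hz => x.z' z hz)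
  obtain ⟨v, hv1, hv2⟩ := genStep_b (C'.d n (n + 1)) (C.d n (n + 1)) (jC.f n) (jC.f (n + 1))
    (jI.f (n + 1)) (C'.d (n + 1) (n + 2)) (C.d (n + 1) (n + 2)) (jC.f (n + 2))
    (jC.comm n (n + 1)).symm (jC.comm (n + 1) (n + 2)) (C.d_comp_d _ _ _)
    (fun a ha => exists_refinement_of_exactAt C' n (hC' (n + 1) (by lia)) a ha)
    (x.f' ≫ I'.d n (n + 1)) (x.f ≫ I.d n (n + 1)) v' hv'
    (by rw [← Category.assoc, x.hj, Category.assoc, Category.assoc, jI.comm])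
    (fun z hz => x.z z hz)
  obtain ⟨v'', hv''1, hv''2⟩ := genStep_c (C.d n (n + 1)) (C''.d n (n + 1)) (πC.f n)
    (jC.f (n + 1)) (πC.f (n + 1)) (C'.d (n + 1) (n + 2)) (C.d (n + 1) (n + 2))
    (C''.d (n + 1) (n + 2)) (jC.f (n + 2)) (πC.f (n + 2)) (C'.d (n + 2) (n + 3))
    (C.d (n + 2) (n + 3)) (jC.f (n + 3)) (jI.f (n + 1)) (πI.f (n + 1))
    (πC.comm n (n + 1)).symm (wC (n + 1)) (jC.comm (n + 1) (n + 2)) (πC.comm (n + 1) (n + 2))
    (jC.comm (n + 2) (n + 3)) (C.d_comp_d _ _ _) (C''.d_comp_d _ _ _) (wI (n + 1))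
    (fun w hw => (exC (n + 2)).exact_up_to_refinements w hw)
    (fun e he => exists_refinement_of_exactAt C' (n + 1) (hC' (n + 2) (by lia)) e he)
    (fun a ha => exists_refinement_of_exactAt C n (hC (n + 1) (by lia)) a ha)
    v' v hv1 (x.f ≫ I.d n (n + 1)) hv2 (x.f'' ≫ I''.d n (n + 1))
    (by rw [← Category.assoc, x.hπ, Category.assoc, Category.assoc, πI.comm])
    (fun z hz => x.z'' z hz)
  exact ⟨⟨v', v, v'', hv1, hv''1,
    cycleCond_succ C' I' n (hC' (n + 1) (by lia)) x.f' v' hv',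
    cycleCond_succ C I n (hC (n + 1) (by lia)) x.f v hv2,
    cycleCond_succ C'' I'' n (hC'' (n + 1) (by lia)) x.f'' v'' hv''2⟩, hv', hv2, hv''2⟩

lemma cycleCond_zero (K J : CochainComplex V ℕ) (u : K.X 0 ⟶ J.X 0) (γ : K.cycles 0 ⟶ J.cycles 0)
    (h : K.iCycles 0 ≫ u = γ ≫ J.iCycles 0) : CycleCond K J 0 u := by
  intro W b hb
  have : b = K.liftCycles b 1 (by simp) hb ≫ K.iCycles 0 := by simp
  rw [this, Category.assoc, ← Category.assoc (K.iCycles 0), h, Category.assoc,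
    J.iCycles_d, comp_zero, comp_zero]

lemma exists_lvl_zero
    (mC : ∀ n, Mono (jC.f n)) (wC : ∀ n, jC.f n ≫ πC.f n = 0)
    (exC : ∀ n, (ShortComplex.mk (jC.f n) (πC.f n) (wC n)).Exact)
    (wI : ∀ n, jI.f n ≫ πI.f n = 0)
    (hC' : ∀ n, 0 < n → C'.ExactAt n)
    (injI' : ∀ n, Injective (I'.X n)) (injI : ∀ n, Injective (I.X n))
    (injI'' : ∀ n, Injective (I''.X n))
    (γ' : C'.cycles 0 ⟶ I'.cycles 0) (γ : C.cycles 0 ⟶ I.cycles 0)
    (γ'' : C''.cycles 0 ⟶ I''.cycles 0)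
    (hγ1 : HomologicalComplex.cyclesMap jC 0 ≫ γ = γ' ≫ HomologicalComplex.cyclesMap jI 0)
    (hγ2 : HomologicalComplex.cyclesMap πC 0 ≫ γ'' = γ ≫ HomologicalComplex.cyclesMap πI 0) :
    ∃ x : Lvl C' C C'' I' I I'' jC πC jI πI 0,
      C'.iCycles 0 ≫ x.f' = γ' ≫ I'.iCycles 0 ∧
      C.iCycles 0 ≫ x.f = γ ≫ I.iCycles 0 ∧
      C''.iCycles 0 ≫ x.f'' = γ'' ≫ I''.iCycles 0 := by
  haveI := injI' 0
  haveI := injI 0
  haveI := injI'' 0
  haveI := mC 1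
  haveI := mC 2
  have cond0 : ∀ (K : CochainComplex V ℕ) {E : V} (u : K.cycles 0 ⟶ E) {W : V}
      (z : W ⟶ K.cycles 0), z ≫ K.iCycles 0 = 0 → z ≫ u = 0 := by
    intro K E u W z hz
    have : z = 0 := by rw [← cancel_mono (K.iCycles 0), hz, zero_comp]
    rw [this, zero_comp]
  have lift0 : ∀ (K : CochainComplex V ℕ) {W : V} (a : W ⟶ K.X 0), a ≫ K.d 0 1 = 0 →
      ∃ (W' : V) (π : W' ⟶ W) (_ : Epi π) (c : W' ⟶ K.cycles 0), π ≫ a = c ≫ K.iCycles 0 := by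
    intro K W a ha
    exact ⟨W, 𝟙 W, inferInstance, K.liftCycles a 1 (by simp) ha, by simp⟩
  obtain ⟨v', hv'⟩ := genStep_a (C'.iCycles 0) (γ' ≫ I'.iCycles 0) (cond0 C' _)
  obtain ⟨v, hv1, hv2⟩ := genStep_b (C'.iCycles 0) (C.iCycles 0)
    (HomologicalComplex.cyclesMap jC 0) (jC.f 0)
    (jI.f 0) (C'.d 0 1) (C.d 0 1) (jC.f 1)
    (HomologicalComplex.cyclesMap_i jC 0).symm (jC.comm 0 1) (C.iCycles_d 0 1)
    (lift0 C')
    (γ' ≫ I'.iCycles 0) (γ ≫ I.iCycles 0) v' hv'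
    (by rw [← Category.assoc, hγ1, Category.assoc, Category.assoc,
      HomologicalComplex.cyclesMap_i])
    (cond0 C _)
  obtain ⟨v'', hv''1, hv''2⟩ := genStep_c (C.iCycles 0) (C''.iCycles 0)
    (HomologicalComplex.cyclesMap πC 0)
    (jC.f 0) (πC.f 0) (C'.d 0 1) (C.d 0 1)
    (C''.d 0 1) (jC.f 1) (πC.f 1) (C'.d 1 2)
    (C.d 1 2) (jC.f 2) (jI.f 0) (πI.f 0)
    (HomologicalComplex.cyclesMap_i πC 0).symm (wC 0) (jC.comm 0 1) (πC.comm 0 1)
    (jC.comm 1 2) (C.d_comp_d _ _ _) (C''.iCycles_d 0 1) (wI 0)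
    (fun w hw => (exC 1).exact_up_to_refinements w hw)
    (fun e he => exists_refinement_of_exactAt C' 0 (hC' 1 (by lia)) e he)
    (lift0 C)
    v' v hv1 (γ ≫ I.iCycles 0) hv2 (γ'' ≫ I''.iCycles 0)
    (by rw [← Category.assoc, hγ2, Category.assoc, Category.assoc,
      HomologicalComplex.cyclesMap_i])
    (cond0 C'' _)
  exact ⟨⟨v', v, v'', hv1, hv''1, cycleCond_zero C' I' v' γ' hv', cycleCond_zero C I v γ hv2,
    cycleCond_zero C'' I'' v'' γ'' hv''2⟩, hv', hv2, hv''2⟩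

/-- `H⁰(φ) = g` as soon as `φ⁰` restricts to the conjugate of `g` on cycles -/
lemma homologyMap_eq_of_cycles (K J : CochainComplex V ℕ) (φ : K ⟶ J)
    (g : K.homology 0 ⟶ J.homology 0)
    (h : K.iCycles 0 ≫ φ.f 0 =
      (K.isoHomologyπ₀.hom ≫ g ≫ J.isoHomologyπ₀.inv) ≫ J.iCycles 0) :
    HomologicalComplex.homologyMap φ 0 = g := by
  have h1 : HomologicalComplex.cyclesMap φ 0 = K.isoHomologyπ₀.hom ≫ g ≫ J.isoHomologyπ₀.inv := by
    rw [← cancel_mono (J.iCycles 0), HomologicalComplex.cyclesMap_i, h]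
  have h2 := CochainComplex.isoHomologyπ₀_inv_naturality φ
  rw [h1] at h2
  have h3 : HomologicalComplex.homologyMap φ 0 ≫ J.isoHomologyπ₀.inv =
      g ≫ J.isoHomologyπ₀.inv := by
    rw [h2, Iso.inv_hom_id_assoc]
  exact (cancel_mono J.isoHomologyπ₀.inv).1 h3

theorem main
    (mC : ∀ n, Mono (jC.f n)) (wC : ∀ n, jC.f n ≫ πC.f n = 0)
    (exC : ∀ n, (ShortComplex.mk (jC.f n) (πC.f n) (wC n)).Exact)
    (wI : ∀ n, jI.f n ≫ πI.f n = 0)
    (hC' : ∀ n, 0 < n → C'.ExactAt n) (hC : ∀ n, 0 < n → C.ExactAt n)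
    (hC'' : ∀ n, 0 < n → C''.ExactAt n)
    (injI' : ∀ n, Injective (I'.X n)) (injI : ∀ n, Injective (I.X n))
    (injI'' : ∀ n, Injective (I''.X n))
    (g' : C'.homology 0 ⟶ I'.homology 0) (g : C.homology 0 ⟶ I.homology 0)
    (g'' : C''.homology 0 ⟶ I''.homology 0)
    (hg1 : HomologicalComplex.homologyMap jC 0 ≫ g = g' ≫ HomologicalComplex.homologyMap jI 0)
    (hg2 : HomologicalComplex.homologyMap πC 0 ≫ g'' = g ≫ HomologicalComplex.homologyMap πI 0) :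
    ∃ (f' : C' ⟶ I') (f : C ⟶ I) (f'' : C'' ⟶ I''),
      jC ≫ f = f' ≫ jI ∧ πC ≫ f'' = f ≫ πI ∧
      HomologicalComplex.homologyMap f' 0 = g' ∧ HomologicalComplex.homologyMap f 0 = g ∧
      HomologicalComplex.homologyMap f'' 0 = g'' := by
  -- the maps on cycles
  let γ' : C'.cycles 0 ⟶ I'.cycles 0 := C'.isoHomologyπ₀.hom ≫ g' ≫ I'.isoHomologyπ₀.inv
  let γ : C.cycles 0 ⟶ I.cycles 0 := C.isoHomologyπ₀.hom ≫ g ≫ I.isoHomologyπ₀.inv
  let γ'' : C''.cycles 0 ⟶ I''.cycles 0 := C''.isoHomologyπ₀.hom ≫ g'' ≫ I''.isoHomologyπ₀.inv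
  have hγ1 : HomologicalComplex.cyclesMap jC 0 ≫ γ = γ' ≫ HomologicalComplex.cyclesMap jI 0 := by
    change HomologicalComplex.cyclesMap jC 0 ≫ C.homologyπ 0 ≫ g ≫ I.isoHomologyπ₀.inv =
      (C'.homologyπ 0 ≫ g' ≫ I'.isoHomologyπ₀.inv) ≫ HomologicalComplex.cyclesMap jI 0
    rw [← Category.assoc, ← HomologicalComplex.homologyπ_naturality, Category.assoc,
      ← Category.assoc _ g, hg1, Category.assoc, Category.assoc, Category.assoc,
      CochainComplex.isoHomologyπ₀_inv_naturality]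
  have hγ2 : HomologicalComplex.cyclesMap πC 0 ≫ γ'' = γ ≫ HomologicalComplex.cyclesMap πI 0 := by
    change HomologicalComplex.cyclesMap πC 0 ≫ C''.homologyπ 0 ≫ g'' ≫ I''.isoHomologyπ₀.inv =
      (C.homologyπ 0 ≫ g ≫ I.isoHomologyπ₀.inv) ≫ HomologicalComplex.cyclesMap πI 0
    rw [← Category.assoc, ← HomologicalComplex.homologyπ_naturality, Category.assoc,
      ← Category.assoc _ g'', hg2, Category.assoc, Category.assoc, Category.assoc,
      CochainComplex.isoHomologyπ₀_inv_naturality]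
  obtain ⟨x0, h0', h0, h0''⟩ :=
    exists_lvl_zero mC wC exC wI hC' injI' injI injI'' γ' γ γ'' hγ1 hγ2
  have hstep := exists_lvl_succ mC wC exC wI hC' hC hC'' injI' injI injI''
  -- the sequence of levels
  let s : ∀ n : ℕ, Lvl C' C C'' I' I I'' jC πC jI πI n :=
    fun n => Nat.rec x0 (fun n x => (hstep n x).choose) n
  have hs : ∀ n : ℕ, C'.d n (n + 1) ≫ (s (n + 1)).f' = (s n).f' ≫ I'.d n (n + 1) ∧
      C.d n (n + 1) ≫ (s (n + 1)).f = (s n).f ≫ I.d n (n + 1) ∧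
      C''.d n (n + 1) ≫ (s (n + 1)).f'' = (s n).f'' ≫ I''.d n (n + 1) :=
    fun n => (hstep n (s n)).choose_spec
  let F' : C' ⟶ I' :=
    { f := fun n => (s n).f'
      comm' := by
        intro i j hij
        have : i + 1 = j := hij
        subst this
        exact ((hs i).1).symm }
  let F : C ⟶ I :=
    { f := fun n => (s n).f
      comm' := by
        intro i j hij
        have : i + 1 = j := hij
        subst this
        exact ((hs i).2.1).symm }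
  let F'' : C'' ⟶ I'' :=
    { f := fun n => (s n).f''
      comm' := by
        intro i j hij
        have : i + 1 = j := hij
        subst this
        exact ((hs i).2.2).symm }
  refine ⟨F', F, F'', ?_, ?_, ?_, ?_, ?_⟩
  · apply HomologicalComplex.hom_ext
    intro n
    exact (s n).hj
  · apply HomologicalComplex.hom_ext
    intro n
    exact (s n).hπ
  · exact homologyMap_eq_of_cycles C' I' F' g' h0'
  · exact homologyMap_eq_of_cycles C I F g h0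
  · exact homologyMap_eq_of_cycles C'' I'' F'' g'' h0''

end Ladder

end Groth.Agent.Lib.Helper84.LadderLift
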