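import Mathlib
import Groth.Prelude.Def_DeRham

/-!
# de Rham cohomology of Laurent polynomials (helper for S19633)
-/

set_option autoImplicit false
universe u

open LaurentPolynomial exteriorPower

namespace Groth.Agent.Lib.Helper84.LaurentDR

variable (k : Type u) [CommRing k]

/-- formal derivative on Laurent polynomials -/
noncomputable def der : k[T;T⁻¹] →ₗ[k] k[T;T⁻¹] :=
  (AddMonoidAlgebra.basis ℤ k).constr k (fun n : ℤ => (n : k) • (T (n - 1) : k[T;T⁻¹]))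

theorem der_T (n : ℤ) : der k (T n) = (n : k) • (T (n - 1) : k[T;T⁻¹]) := by
  have h : (T n : k[T;T⁻¹]) = AddMonoidAlgebra.basis ℤ k n := rfl
  rw [h, der, Module.Basis.constr_basis]

theorem der_leibniz (a b : k[T;T⁻¹]) : der k (a * b) = a • der k b + b • der k a := by
  have key : (LinearMap.mul k k[T;T⁻¹]).compr₂ (der k) =
      (LinearMap.mul k k[T;T⁻¹]).compl₂ (der k) +
        ((LinearMap.mul k k[T;T⁻¹]).compl₂ (der k)).flip := by
    refine (AddMonoidAlgebra.basis ℤ k).ext (fun m => ?_)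
    refine (AddMonoidAlgebra.basis ℤ k).ext (fun n => ?_)
    have hm : AddMonoidAlgebra.basis ℤ k m = (T m : k[T;T⁻¹]) := rfl
    have hn : AddMonoidAlgebra.basis ℤ k n = (T n : k[T;T⁻¹]) := rfl
    rw [hm, hn]
    simp only [LinearMap.compr₂_apply, LinearMap.mul_apply', LinearMap.add_apply,
      LinearMap.compl₂_apply, LinearMap.flip_apply]
    rw [← T_add, der_T, der_T, der_T, mul_smul_comm, mul_smul_comm, ← T_add, ← T_add]
    have e1 : m + (n - 1) = m + n - 1 := by ring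
    have e2 : n + (m - 1) = m + n - 1 := by ring
    rw [e1, e2, ← add_smul]
    congr 1
    push_cast
    ring
  have := LinearMap.congr_fun (LinearMap.congr_fun key a) b
  simpa [smul_eq_mul] using this

/-- the derivation d/dT -/
noncomputable def derD : Derivation k k[T;T⁻¹] k[T;T⁻¹] :=
  Derivation.mk' (der k) (der_leibniz k)

@[simp] theorem derD_apply (f : k[T;T⁻¹]) : derD k f = der k f := rfl

/-- `Ω → A`, `dT ↦ 1` -/
noncomputable def Φ : Ω[k[T;T⁻¹]⁄k] →ₗ[k[T;T⁻¹]] k[T;T⁻¹] :=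
  (derD k).liftKaehlerDifferential

theorem Φ_D (f : k[T;T⁻¹]) : Φ k (KaehlerDifferential.D k k[T;T⁻¹] f) = der k f := by
  rw [Φ, Derivation.liftKaehlerDifferential_comp_D]
  rfl

local notation "δ" => KaehlerDifferential.D k k[T;T⁻¹]

theorem D_T (n : ℤ) : δ (T n) = ((n : k) • (T (n - 1) : k[T;T⁻¹])) • δ (T 1) := by
  have hneg : δ (T (-1)) = (-(T (-2) : k[T;T⁻¹])) • δ (T 1) := by
    have h1 : (T (-1) : k[T;T⁻¹]) * T 1 = 1 := by rw [← T_add]; simp
    rw [Derivation.leibniz_of_mul_eq_one _ h1, T_pow]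
    norm_num
  induction n using Int.induction_on with
  | zero => simp
  | succ n ih =>
    rw [T_add, Derivation.leibniz, ih, smul_smul]
    have : ((n : ℤ) + 1 - 1 : ℤ) = n := by ring
    rw [this, ← add_smul]
    congr 1
    rw [mul_smul_comm, ← T_add]
    have e : (1 : ℤ) + ((n : ℤ) - 1) = n := by ring
    rw [e]
    push_cast
    rw [add_smul, one_smul, add_comm]
  | pred n ih =>
    have e0 : (-(n : ℤ) - 1 : ℤ) = -(n : ℤ) + (-1) := by ring
    rw [e0, T_add, Derivation.leibniz, ih, hneg, smul_smul, smul_smul, ← add_smul]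
    congr 1
    rw [mul_neg, ← T_add, mul_smul_comm, ← T_add]
    have e1 : (-(n : ℤ) + -2 : ℤ) = -(n : ℤ) + -1 - 1 := by ring
    have e2 : (-1 + (-(n : ℤ) - 1) : ℤ) = -(n : ℤ) + -1 - 1 := by ring
    rw [e1, e2]
    push_cast
    rw [add_smul (-(n : k)) (-1 : k), neg_one_smul, add_comm]

theorem D_eq (f : k[T;T⁻¹]) : δ f = der k f • δ (T 1) := by
  induction f using LaurentPolynomial.induction_on' with
  | add p q hp hq => rw [map_add, map_add, hp, hq, add_smul]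
  | C_mul_T n a =>
    rw [← smul_eq_C_mul, Derivation.map_smul, LinearMap.map_smul, D_T, der_T]
    simp only [smul_assoc]

theorem span_dT : Submodule.span k[T;T⁻¹] {δ (T 1)} = ⊤ := by
  rw [eq_top_iff, ← KaehlerDifferential.span_range_derivation k k[T;T⁻¹], Submodule.span_le]
  rintro _ ⟨f, rfl⟩
  rw [D_eq k f]
  exact Submodule.smul_mem (Submodule.span k[T;T⁻¹] {δ (T 1)}) _
    (Submodule.mem_span_singleton_self _)

theorem extPow_eq_zero (p : ℕ) (x : ⋀[k[T;T⁻¹]]^(p + 2) (Ω[k[T;T⁻¹]⁄k])) : x = 0 := by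
  have h := ιMulti_span_of_span (R := k[T;T⁻¹]) (n := p + 2) (M := Ω[k[T;T⁻¹]⁄k]) (span_dT k)
  have hx : x ∈ (⊤ : Submodule k[T;T⁻¹] (⋀[k[T;T⁻¹]]^(p + 2) (Ω[k[T;T⁻¹]⁄k]))) :=
    Submodule.mem_top
  rw [← h] at hx
  have hle : Submodule.span k[T;T⁻¹]
      (ιMulti k[T;T⁻¹] (p + 2) '' {a | Set.range a ⊆ {δ (T 1)}}) ≤ ⊥ := by
    rw [Submodule.span_le]
    rintro _ ⟨a, ha, rfl⟩
    have h0 : a 0 = δ (T 1) := ha ⟨0, rfl⟩
    have h1 : a 1 = δ (T 1) := ha ⟨1, rfl⟩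
    have : ιMulti k[T;T⁻¹] (p + 2) a = 0 :=
      AlternatingMap.map_eq_zero_of_eq _ a (h0.trans h1.symm) (by simp)
    rw [this]
    exact Submodule.zero_mem _
  exact (Submodule.mem_bot _).1 (hle hx)

section Main

variable (K : Type u) [Field K] [CharZero K]


variable (d : ∀ p : ℕ, ↥(⋀[K[T;T⁻¹]]^p (Ω[K[T;T⁻¹]⁄K])) →ₗ[K] ↥(⋀[K[T;T⁻¹]]^(p + 1) (Ω[K[T;T⁻¹]⁄K])))
  (hd : DeRham.IsDiff (KaehlerDifferential.D K K[T;T⁻¹]) d)

/-- residue functional -/
noncomputable def res : ↥(⋀[K[T;T⁻¹]]^1 (Ω[K[T;T⁻¹]⁄K])) →ₗ[K] K :=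
  ((AddMonoidAlgebra.basis ℤ K).coord (-1)) ∘ₗ ((Φ K).restrictScalars K) ∘ₗ
    ((oneEquiv K[T;T⁻¹] (Ω[K[T;T⁻¹]⁄K])).toLinearMap.restrictScalars K)

theorem res_apply (ω : ↥(⋀[K[T;T⁻¹]]^1 (Ω[K[T;T⁻¹]⁄K]))) :
    res K ω = (AddMonoidAlgebra.basis ℤ K).coord (-1) (Φ K (oneEquiv K[T;T⁻¹] (Ω[K[T;T⁻¹]⁄K]) ω)) := rfl

theorem coord_der (f : K[T;T⁻¹]) : (AddMonoidAlgebra.basis ℤ K).coord (-1) (der K f) = 0 := by
  have key : ((AddMonoidAlgebra.basis ℤ K).coord (-1)) ∘ₗ der K = 0 := by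
    refine (AddMonoidAlgebra.basis ℤ K).ext (fun n => ?_)
    have hn : AddMonoidAlgebra.basis ℤ K n = (T n : K[T;T⁻¹]) := rfl
    have hn' : (T (n - 1) : K[T;T⁻¹]) = AddMonoidAlgebra.basis ℤ K (n - 1) := rfl
    rw [hn, LinearMap.comp_apply, der_T, map_smul, hn', Module.Basis.coord_apply,
      Module.Basis.repr_self, Finsupp.single_apply, LinearMap.zero_apply]
    by_cases h : n - 1 = -1
    · have : n = 0 := by omega
      subst this
      simp
    · rw [if_neg h, smul_zero]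
  exact LinearMap.congr_fun key f

include hd in
theorem E_d0 (x : ↥(⋀[K[T;T⁻¹]]^0 (Ω[K[T;T⁻¹]⁄K]))) :
    oneEquiv K[T;T⁻¹] (Ω[K[T;T⁻¹]⁄K]) (d 0 x) = (KaehlerDifferential.D K K[T;T⁻¹]) (zeroEquiv K[T;T⁻¹] (Ω[K[T;T⁻¹]⁄K]) x) := by
  have hx : x = DeRham.gen (KaehlerDifferential.D K K[T;T⁻¹]) 0 (zeroEquiv K[T;T⁻¹] (Ω[K[T;T⁻¹]⁄K]) x) (fun _ => 0) := by
    apply (zeroEquiv K[T;T⁻¹] (Ω[K[T;T⁻¹]⁄K])).injective
    rw [DeRham.gen, map_smul, zeroEquiv_ιMulti, smul_eq_mul, mul_one]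
  conv_lhs => rw [hx]
  rw [hd.1 0, oneEquiv_ιMulti, Fin.cons_zero]

include hd in
theorem res_d0 (x : ↥(⋀[K[T;T⁻¹]]^0 (Ω[K[T;T⁻¹]⁄K]))) : res K (d 0 x) = 0 := by
  rw [res_apply, E_d0 K d hd, Φ_D, coord_der]

theorem gen_eq :
    DeRham.gen (KaehlerDifferential.D K K[T;T⁻¹]) 1 (T (-1)) (fun _ => T 1) =
      (oneEquiv K[T;T⁻¹] (Ω[K[T;T⁻¹]⁄K])).symm ((T (-1) : K[T;T⁻¹]) • (KaehlerDifferential.D K K[T;T⁻¹]) (T 1)) := by
  rw [map_smul, oneEquiv_symm_apply]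
  rfl

theorem res_gen : res K (DeRham.gen (KaehlerDifferential.D K K[T;T⁻¹]) 1 (T (-1)) (fun _ => T 1)) = 1 := by
  rw [res_apply, gen_eq, LinearEquiv.apply_symm_apply, map_smul, Φ_D, der_T]
  have h0 : ((1 : ℤ) - 1) = 0 := by norm_num
  rw [h0, T_zero, smul_eq_mul, Int.cast_one, one_smul, mul_one]
  have hn : (T (-1) : K[T;T⁻¹]) = AddMonoidAlgebra.basis ℤ K (-1) := rfl
  rw [hn, Module.Basis.coord_apply, Module.Basis.repr_self, Finsupp.single_apply, if_pos rfl]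

include hd in
theorem mem_sup (g : K[T;T⁻¹]) :
    (oneEquiv K[T;T⁻¹] (Ω[K[T;T⁻¹]⁄K])).symm (g • (KaehlerDifferential.D K K[T;T⁻¹]) (T 1)) ∈
      LinearMap.range (d 0) ⊔ Submodule.span K {DeRham.gen (KaehlerDifferential.D K K[T;T⁻¹]) 1 (T (-1)) (fun _ => T 1)} := by
  induction g using LaurentPolynomial.induction_on' with
  | add p q hp hq =>
    rw [add_smul, map_add]
    exact Submodule.add_mem _ hp hq
  | C_mul_T n a =>
    by_cases hn : n = -1
    · subst hn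
      apply Submodule.mem_sup_right
      have : (oneEquiv K[T;T⁻¹] (Ω[K[T;T⁻¹]⁄K])).symm ((C a * T (-1) : K[T;T⁻¹]) • (KaehlerDifferential.D K K[T;T⁻¹]) (T 1)) =
          a • DeRham.gen (KaehlerDifferential.D K K[T;T⁻¹]) 1 (T (-1)) (fun _ => T 1) := by
        rw [gen_eq, mul_smul, map_smul, C_eq_algebraMap, algebraMap_smul]
      rw [this]
      exact Submodule.smul_mem _ _ (Submodule.mem_span_singleton_self _)
    · apply Submodule.mem_sup_left
      have hn1 : ((n + 1 : ℤ) : K) ≠ 0 := by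
        have : n + 1 ≠ 0 := by omega
        exact_mod_cast this
      refine ⟨(zeroEquiv K[T;T⁻¹] (Ω[K[T;T⁻¹]⁄K])).symm ((a / ((n + 1 : ℤ) : K)) • (T (n + 1) : K[T;T⁻¹])), ?_⟩
      apply (oneEquiv K[T;T⁻¹] (Ω[K[T;T⁻¹]⁄K])).injective
      rw [E_d0 K d hd, LinearEquiv.apply_symm_apply, LinearEquiv.apply_symm_apply, D_eq,
        map_smul, der_T]
      congr 1
      have e : n + 1 - 1 = n := by ring
      rw [e, smul_smul, div_mul_cancel₀ _ hn1, smul_eq_C_mul]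

include hd in
theorem main :
    DeRham.cocycles d 1 = ⊤ ∧
    IsCompl (DeRham.coboundaries d 1)
      (Submodule.span K {DeRham.gen (KaehlerDifferential.D K K[T;T⁻¹]) 1 (T (-1)) (fun _ => T 1)}) ∧
    DeRham.gen (KaehlerDifferential.D K K[T;T⁻¹]) 1 (T (-1)) (fun _ => T 1) ∉ DeRham.coboundaries d 1 ∧
    ∀ i : ℕ, DeRham.cocycles d (i + 2) ≤ DeRham.coboundaries d (i + 2) := by
  have hcb : DeRham.coboundaries d 1 = LinearMap.range (d 0) := rfl
  refine ⟨?_, ?_, ?_, ?_⟩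
  · rw [eq_top_iff]
    intro x _
    rw [DeRham.cocycles, LinearMap.mem_ker]
    exact extPow_eq_zero K 0 _
  · rw [hcb]
    constructor
    · rw [Submodule.disjoint_def]
      rintro x ⟨y, rfl⟩ hx
      obtain ⟨c, hc⟩ := Submodule.mem_span_singleton.1 hx
      have h1 : res K (d 0 y) = c := by
        rw [← hc, map_smul, res_gen, smul_eq_mul, mul_one]
      rw [res_d0 K d hd] at h1
      rw [← hc, ← h1, zero_smul]
    · rw [codisjoint_iff, eq_top_iff]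
      intro ω _
      have hω : oneEquiv K[T;T⁻¹] (Ω[K[T;T⁻¹]⁄K]) ω ∈ Submodule.span K[T;T⁻¹] {(KaehlerDifferential.D K K[T;T⁻¹]) (T 1)} := by
        rw [span_dT]
        exact Submodule.mem_top
      obtain ⟨g, hg⟩ := Submodule.mem_span_singleton.1 hω
      have := mem_sup K d hd g
      rw [hg, LinearEquiv.symm_apply_apply] at this
      exact this
  · rw [hcb]
    rintro ⟨y, hy⟩
    have h1 := res_d0 K d hd y
    rw [hy, res_gen] at h1
    exact one_ne_zero h1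
  · intro i x _
    rw [extPow_eq_zero K i x]
    exact Submodule.zero_mem _

end Main

end Groth.Agent.Lib.Helper84.LaurentDR
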