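import Mathlib

/-!
# Spreading out a basis from the localization at a prime (helper84)

`A` a commutative ring, `P` a finite projective module, `𝔫` a prime ideal.
* `exists_fib_basis`: from any set `H` additively generating `P` one can pick finitely many
  elements whose images form a basis of the fibre `κ(𝔫) ⊗ P_𝔫`;
* `exists_spread_of_fib_basis`: such elements form a basis of `P` "up to an element `a ∉ 𝔫`".
-/

open TensorProduct

namespace Groth.Agent.Lib.Helper84.LocBasis

variable {A : Type*} [CommRing A] {P : Type*} [AddCommGroup P] [Module A P]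
  (𝔫 : Ideal A) [𝔫.IsPrime]

/-- the image of `q` in the fibre at `𝔫` -/
noncomputable def fib (q : P) :
    IsLocalRing.ResidueField (Localization.AtPrime 𝔫) ⊗[Localization.AtPrime 𝔫]
      LocalizedModule 𝔫.primeCompl P :=
  (1 : IsLocalRing.ResidueField (Localization.AtPrime 𝔫)) ⊗ₜ[Localization.AtPrime 𝔫]
    (LocalizedModule.mkLinearMap 𝔫.primeCompl P q)

theorem fib_zero : fib 𝔫 (0 : P) = 0 := by
  unfold fib
  rw [map_zero, tmul_zero]

theorem fib_add (x y : P) : fib 𝔫 (x + y) = fib 𝔫 x + fib 𝔫 y := by
  unfold fib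
  rw [map_add, tmul_add]

theorem span_fib_eq_top (H : Set P) (hH : ∀ q : P, q ∈ AddSubmonoid.closure H) :
    Submodule.span (IsLocalRing.ResidueField (Localization.AtPrime 𝔫)) (fib 𝔫 '' H) = ⊤ := by
  rw [eq_top_iff]
  intro x hxtop
  clear hxtop
  have hfib : ∀ q : P, fib 𝔫 q ∈
      Submodule.span (IsLocalRing.ResidueField (Localization.AtPrime 𝔫)) (fib 𝔫 '' H) := by
    intro q
    induction hH q using AddSubmonoid.closure_induction with
    | mem x hx => exact Submodule.subset_span ⟨x, hx, rfl⟩
    | zero => rw [fib_zero]; exact zero_mem _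
    | add x y _ _ hx hy => rw [fib_add]; exact add_mem hx hy
  induction x using TensorProduct.induction_on with
  | zero => exact zero_mem _
  | add x y hx hy => exact add_mem hx hy
  | tmul c y =>
    induction y using LocalizedModule.induction_on with
    | h q s =>
      have h1 : LocalizedModule.mk q s =
          (Localization.mk 1 s : Localization.AtPrime 𝔫) • LocalizedModule.mk q 1 := by
        rw [LocalizedModule.mk_smul_mk, one_smul, mul_one]
      have h2 : c ⊗ₜ[Localization.AtPrime 𝔫] (LocalizedModule.mk q s) =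
          ((Localization.mk 1 s : Localization.AtPrime 𝔫) • c) • fib 𝔫 q := by
        rw [h1, tmul_smul, smul_tmul']
        unfold fib
        rw [smul_tmul', smul_eq_mul, mul_one]
        rfl
      rw [h2]
      exact Submodule.smul_mem _ _ (hfib q)

/-- choose a basis of the fibre from `H` -/
theorem exists_fib_basis [Module.Finite A P] (H : Set P)
    (hH : ∀ q : P, q ∈ AddSubmonoid.closure H) :
    ∃ (m : ℕ) (f : Fin m → P), (∀ i, f i ∈ H) ∧
      LinearIndependent (IsLocalRing.ResidueField (Localization.AtPrime 𝔫))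
        (fun i => fib 𝔫 (f i)) ∧
      Submodule.span (IsLocalRing.ResidueField (Localization.AtPrime 𝔫))
        (Set.range (fun i => fib 𝔫 (f i))) = ⊤ := by
  classical
  obtain ⟨b, hbT, hspan, hli⟩ := exists_linearIndependent
    (IsLocalRing.ResidueField (Localization.AtPrime 𝔫)) (fib 𝔫 '' H)
  rw [span_fib_eq_top 𝔫 H hH] at hspan
  have hfin : b.Finite := LinearIndependent.setFinite hli
  letI : Fintype b := hfin.fintype
  let e := Fintype.equivFin b
  have hch : ∀ x : b, ∃ q : P, q ∈ H ∧ fib 𝔫 q = x.1 := fun x => hbT x.2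
  choose g hgH hg using hch
  refine ⟨Fintype.card b, fun i => g (e.symm i), fun i => hgH _, ?_, ?_⟩
  · have : (fun i => fib 𝔫 (g (e.symm i))) = (Subtype.val : b → _) ∘ e.symm := by
      funext i
      exact hg _
    rw [this]
    exact hli.comp _ e.symm.injective
  · have : Set.range (fun i => fib 𝔫 (g (e.symm i))) = b := by
      ext x
      constructor
      · rintro ⟨i, rfl⟩
        show fib 𝔫 (g (e.symm i)) ∈ b
        rw [hg]
        exact (e.symm i).2
      · intro hx
        refine ⟨e ⟨x, hx⟩, ?_⟩
        show fib 𝔫 (g (e.symm (e ⟨x, hx⟩))) = x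
        rw [Equiv.symm_apply_apply, hg]
    rw [this, hspan]

/-- localised basis from fibre basis -/
theorem loc_basis_of_fib_basis [Module.Finite A P] [Module.Projective A P] {m : ℕ}
    (f : Fin m → P)
    (hli : LinearIndependent (IsLocalRing.ResidueField (Localization.AtPrime 𝔫))
      (fun i => fib 𝔫 (f i)))
    (hsp : Submodule.span (IsLocalRing.ResidueField (Localization.AtPrime 𝔫))
      (Set.range (fun i => fib 𝔫 (f i))) = ⊤) :
    LinearIndependent (Localization.AtPrime 𝔫)
        (fun i => LocalizedModule.mkLinearMap 𝔫.primeCompl P (f i)) ∧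
      Submodule.span (Localization.AtPrime 𝔫)
        (Set.range (fun i => LocalizedModule.mkLinearMap 𝔫.primeCompl P (f i))) = ⊤ := by
  set v : Fin m → LocalizedModule 𝔫.primeCompl P :=
    fun i => LocalizedModule.mkLinearMap 𝔫.primeCompl P (f i) with hv
  have hcomp : (fun i => fib 𝔫 (f i)) =
      (TensorProduct.mk (Localization.AtPrime 𝔫)
        (IsLocalRing.ResidueField (Localization.AtPrime 𝔫))
        (LocalizedModule 𝔫.primeCompl P) 1) ∘ v := by
    funext i
    rfl
  refine ⟨Module.IsLocalRing.linearIndependent_of_flat v (hcomp ▸ hli), ?_⟩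
  let b : Module.Basis (Fin m) (IsLocalRing.ResidueField (Localization.AtPrime 𝔫))
      (IsLocalRing.ResidueField (Localization.AtPrime 𝔫) ⊗[Localization.AtPrime 𝔫]
        LocalizedModule 𝔫.primeCompl P) := Module.Basis.mk hli (by rw [hsp])
  refine IsLocalRing.span_eq_top_of_tmul_eq_basis v b (fun i => ?_)
  rw [Module.Basis.mk_apply]
  rfl

/-- spreading out -/
theorem exists_spread [Module.Finite A P] [Module.Projective A P] {m : ℕ} (f : Fin m → P)
    (hli : LinearIndependent (Localization.AtPrime 𝔫)
        (fun i => LocalizedModule.mkLinearMap 𝔫.primeCompl P (f i)))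
    (hsp : Submodule.span (Localization.AtPrime 𝔫)
        (Set.range (fun i => LocalizedModule.mkLinearMap 𝔫.primeCompl P (f i))) = ⊤) :
    ∃ a : A, a ∉ 𝔫 ∧ (∀ q : P, ∃ c : Fin m → A, a • q = ∑ i, c i • f i) ∧
      (∀ c : Fin m → A, ∑ i, c i • f i = 0 → ∀ i, a * c i = 0) := by
  classical
  set S := 𝔫.primeCompl with hS
  set ι := LocalizedModule.mkLinearMap S P with hι
  set I : Submodule A P := Submodule.span A (Set.range f) with hI
  -- Step 1: every element is in `I` up to an element of `S`
  have h1 : ∀ q : P, ∃ s : S, (s : A) • q ∈ I := by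
    intro q
    have hloc : I.localized' (Localization.AtPrime 𝔫) S ι = ⊤ := by
      rw [hI, Submodule.localized'_span, ← Set.range_comp]
      exact hsp
    have hq : ι q ∈ I.localized' (Localization.AtPrime 𝔫) S ι := by rw [hloc]; trivial
    obtain ⟨x, hx, s, hxs⟩ := hq
    rw [IsLocalizedModule.mk'_eq_iff] at hxs
    have : ι x = ι ((s : A) • q) := by
      rw [hxs, map_smul]
      rfl
    obtain ⟨u, hu⟩ := IsLocalizedModule.exists_of_eq (S := S) (f := ι) this
    refine ⟨u * s, ?_⟩
    have : ((u * s : S) : A) • q = (u : A) • x := by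
      rw [Submonoid.coe_mul, mul_smul]
      exact hu.symm
    rw [this]
    exact I.smul_mem _ hx
  -- Step 2: uniform element
  obtain ⟨k, g, hg⟩ := Module.Finite.exists_fin (R := A) (M := P)
  choose sg hsg using fun j => h1 (g j)
  set a₁ : A := ∏ j, (sg j : A) with ha₁
  have ha₁S : a₁ ∈ S := by
    rw [ha₁]
    exact Submonoid.prod_mem _ (fun j _ => (sg j).2)
  have ha₁g : ∀ j, a₁ • g j ∈ I := by
    intro j
    have : a₁ = (∏ l ∈ Finset.univ.erase j, (sg l : A)) * (sg j : A) := by
      rw [ha₁, Finset.prod_erase_mul _ _ (Finset.mem_univ j)]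
    rw [this, mul_smul]
    exact I.smul_mem _ (hsg j)
  have ha₁P : ∀ q : P, a₁ • q ∈ I := by
    intro q
    have hq : q ∈ Submodule.span A (Set.range g) := by rw [hg]; trivial
    induction hq using Submodule.span_induction with
    | mem x hx =>
      obtain ⟨j, rfl⟩ := hx
      exact ha₁g j
    | zero => rw [smul_zero]; exact zero_mem _
    | add x y _ _ hx hy => rw [smul_add]; exact add_mem hx hy
    | smul r x _ hx => rw [smul_comm]; exact I.smul_mem _ hx
  -- Step 3: kernel elements are killed by elements of `S`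
  have h3 : ∀ c : Fin m → A, ∑ i, c i • f i = 0 → ∃ u : S, ∀ i, (u : A) * c i = 0 := by
    intro c hc
    have h0 : ∑ i, (algebraMap A (Localization.AtPrime 𝔫) (c i)) • ι (f i) = 0 := by
      have := congrArg ι hc
      rw [map_sum, map_zero] at this
      rw [← this]
      refine Finset.sum_congr rfl (fun i _ => ?_)
      rw [map_smul, algebraMap_smul]
    have h0' := Fintype.linearIndependent_iff.1 hli _ h0
    have : ∀ i, ∃ u : S, (u : A) * c i = 0 := fun i =>
      (IsLocalization.map_eq_zero_iff S (Localization.AtPrime 𝔫) (c i)).1 (h0' i)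
    choose u hu using this
    refine ⟨∏ i, u i, fun i => ?_⟩
    have : ((∏ l, u l : S) : A) = (∏ l ∈ Finset.univ.erase i, (u l : A)) * (u i : A) := by
      rw [Submonoid.coe_finsetProd, Finset.prod_erase_mul _ _ (Finset.mem_univ i)]
    rw [this, mul_assoc, hu i, mul_zero]
  -- Step 4: an approximate section
  set Φ : (Fin m → A) →ₗ[A] P := Fintype.linearCombination A f with hΦ
  have hΦapp : ∀ c : Fin m → A, Φ c = ∑ i, c i • f i := fun c =>
    Fintype.linearCombination_apply A f c
  set π : (Fin k → A) →ₗ[A] P := Fintype.linearCombination A g with hπ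
  have hπsurj : Function.Surjective π := by
    rw [← LinearMap.range_eq_top, hπ, Fintype.range_linearCombination, hg]
  obtain ⟨σ, hσ⟩ := Module.projective_lifting_property π LinearMap.id hπsurj
  have hσ' : ∀ q, π (σ q) = q := fun q => LinearMap.congr_fun hσ q
  have hb : ∀ j, ∃ b : Fin m → A, Φ b = a₁ • g j := by
    intro j
    have := ha₁g j
    rw [hI, Submodule.mem_span_range_iff_exists_fun] at this
    obtain ⟨b, hb⟩ := this
    exact ⟨b, by rw [hΦapp, hb]⟩
  choose b hb using hb
  set β : (Fin k → A) →ₗ[A] (Fin m → A) := Fintype.linearCombination A b with hβ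
  have hΦβ : ∀ c, Φ (β c) = a₁ • π c := by
    intro c
    have e1 : β c = ∑ j, c j • b j := Fintype.linearCombination_apply A b c
    have e2 : π c = ∑ j, c j • g j := Fintype.linearCombination_apply A g c
    rw [e1, e2, map_sum, Finset.smul_sum]
    refine Finset.sum_congr rfl (fun j _ => ?_)
    rw [map_smul, hb, smul_comm]
  set s : P →ₗ[A] (Fin m → A) := β ∘ₗ σ with hs
  have hΦs : ∀ q, Φ (s q) = a₁ • q := by
    intro q
    rw [hs, LinearMap.comp_apply, hΦβ, hσ']
  -- the elements `w i`
  set w : Fin m → (Fin m → A) := fun i => s (f i) - a₁ • Pi.single i 1 with hw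
  have hΦsingle : ∀ i, Φ (Pi.single i 1) = f i := by
    intro i
    rw [hΦapp]
    rw [Finset.sum_eq_single i]
    · rw [Pi.single_eq_same, one_smul]
    · intro j _ hj
      rw [Pi.single_eq_of_ne hj, zero_smul]
    · intro h
      exact absurd (Finset.mem_univ i) h
  have hΦw : ∀ i, Φ (w i) = 0 := by
    intro i
    rw [hw]
    simp only [map_sub, map_smul, hΦs, hΦsingle, sub_self]
  choose u hu using fun i => h3 (w i) (by rw [← hΦapp]; exact hΦw i)
  set a₂ : A := ∏ i, (u i : A) with ha₂
  have ha₂S : a₂ ∈ S := by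
    rw [ha₂]
    exact Submonoid.prod_mem _ (fun j _ => (u j).2)
  have ha₂w : ∀ i l, a₂ * w i l = 0 := by
    intro i l
    have : a₂ = (∏ j ∈ Finset.univ.erase i, (u j : A)) * (u i : A) := by
      rw [ha₂, Finset.prod_erase_mul _ _ (Finset.mem_univ i)]
    rw [this, mul_assoc, hu i l, mul_zero]
  refine ⟨a₂ * a₁, ?_, ?_, ?_⟩
  · exact fun h => (Submonoid.mul_mem _ ha₂S ha₁S) h
  · intro q
    have := I.smul_mem a₂ (ha₁P q)
    rw [hI, Submodule.mem_span_range_iff_exists_fun] at this
    obtain ⟨c, hc⟩ := this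
    exact ⟨c, by rw [mul_smul, hc]⟩
  · intro c hc l
    have hΦc : Φ c = 0 := by rw [hΦapp, hc]
    have hsum : c = ∑ i, c i • (Pi.single i 1 : Fin m → A) := by
      funext j
      rw [Finset.sum_apply]
      simp [Pi.single_apply]
    have h0 : s (Φ c) = ∑ i, c i • w i + a₁ • c := by
      rw [hΦapp, map_sum]
      simp only [map_smul, hw, smul_sub, Finset.sum_sub_distrib]
      have : ∑ i, c i • a₁ • (Pi.single i 1 : Fin m → A) = a₁ • c := by
        conv_rhs => rw [hsum, Finset.smul_sum]
        refine Finset.sum_congr rfl (fun i _ => ?_)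
        rw [smul_comm]
      rw [this]
      abel
    rw [hΦc, map_zero] at h0
    have h0l := congrFun h0 l
    simp only [Pi.zero_apply, Pi.add_apply, Finset.sum_apply, Pi.smul_apply, smul_eq_mul] at h0l
    have : a₂ * (a₁ * c l) = -(∑ i, c i * (a₂ * w i l)) := by
      have : a₁ * c l = -(∑ i, c i * w i l) := by linear_combination -h0l
      rw [this, mul_neg, Finset.mul_sum]
      congr 1
      refine Finset.sum_congr rfl (fun i _ => ?_)
      ring
    rw [mul_assoc, this]
    simp [ha₂w]

/-- spreading out from a fibre basis -/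
theorem exists_spread_of_fib_basis [Module.Finite A P] [Module.Projective A P] {m : ℕ}
    (f : Fin m → P)
    (hli : LinearIndependent (IsLocalRing.ResidueField (Localization.AtPrime 𝔫))
      (fun i => fib 𝔫 (f i)))
    (hsp : Submodule.span (IsLocalRing.ResidueField (Localization.AtPrime 𝔫))
      (Set.range (fun i => fib 𝔫 (f i))) = ⊤) :
    ∃ a : A, a ∉ 𝔫 ∧ (∀ q : P, ∃ c : Fin m → A, a • q = ∑ i, c i • f i) ∧
      (∀ c : Fin m → A, ∑ i, c i • f i = 0 → ∀ i, a * c i = 0) := by
  obtain ⟨h1, h2⟩ := loc_basis_of_fib_basis 𝔫 f hli hsp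
  exact exists_spread 𝔫 f h1 h2

end Groth.Agent.Lib.Helper84.LocBasis
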