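import Mathlib

/-!
# `Hom_A(B, E)` for a finite algebra `B` over a Noetherian local ring `A` (helper84)

Library for S11184.
-/

universe u

namespace Groth.Agent.Lib.Helper84.MatlisFin

open IsLocalRing

section API

variable {A B : Type u} [CommRing A] [CommRing B] [Algebra A B]
variable {E : Type u} [AddCommGroup E] [Module A E]

/-- The coextension `Hom_A(B, E)` as a `B`-module. -/
abbrev HH (A B E : Type u) [CommRing A] [CommRing B] [Algebra A B] [AddCommGroup E] [Module A E] :
    Type u :=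
  ((ModuleCat.coextendScalars (algebraMap A B)).obj (ModuleCat.of A E))

theorem ev_smul (b : B) (g : HH A B E) (x : B) : (b • g) x = g (x * b) := rfl

theorem ev_add (g g' : HH A B E) (x : B) : (g + g') x = g x + g' x := rfl

theorem ev_zero (x : B) : (0 : HH A B E) x = 0 := rfl

theorem ev_neg (g : HH A B E) (x : B) : (-g) x = -(g x) := rfl

theorem ev_map_add (g : HH A B E) (x y : B) : g (x + y) = g x + g y :=
  map_add (ModuleCat.CoextendScalars.equiv (algebraMap A B) (ModuleCat.of A E) g) x y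

theorem ev_map_zero (g : HH A B E) : g (0 : B) = 0 :=
  map_zero (ModuleCat.CoextendScalars.equiv (algebraMap A B) (ModuleCat.of A E) g)

theorem ev_map_smul (g : HH A B E) (a : A) (x : B) : g (algebraMap A B a * x) = a • g x := by
  have := (ModuleCat.CoextendScalars.equiv (algebraMap A B) (ModuleCat.of A E) g).map_smul a x
  exact this

theorem ev_ext {g g' : HH A B E} (h : ∀ x : B, g x = g' x) : g = g' := by
  apply ModuleCat.CoextendScalars.ext
  exact LinearMap.ext h

/-- An element of `HH` as an `A`-linear map. -/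
noncomputable def toLin (g : HH A B E) : B →ₗ[A] E where
  toFun x := g x
  map_add' := ev_map_add g
  map_smul' a x := by
    simp only [RingHom.id_apply]
    rw [Algebra.smul_def, ev_map_smul]

@[simp] theorem toLin_apply (g : HH A B E) (x : B) : toLin g x = g x := rfl

/-- An `A`-linear map as an element of `HH`. -/
noncomputable def ofLin (φ : B →ₗ[A] E) : HH A B E :=
  (ModuleCat.CoextendScalars.equiv (algebraMap A B) (ModuleCat.of A E)).symm
    { toFun := fun x => φ x
      map_add' := fun x y => map_add φ x y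
      map_smul' := fun a (x : B) => by
        simp only [RingHom.id_apply]
        rw [ModuleCat.restrictScalars.smul_def (M := ModuleCat.of _ B)]
        change φ (algebraMap A B a * x) = a • φ x
        rw [← Algebra.smul_def, map_smul] }

@[simp] theorem ofLin_apply (φ : B →ₗ[A] E) (x : B) : (ofLin φ : HH A B E) x = φ x := rfl

end API

section Ess

variable {A : Type u} [CommRing A] [IsLocalRing A]
variable {E : Type u} [AddCommGroup E] [Module A E]
variable (f : ResidueField A →ₗ[A] E)

theorem maximalIdeal_smul_residueField (m : A) (hm : m ∈ maximalIdeal A) (c : ResidueField A) :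
    m • c = 0 := by
  rw [Algebra.smul_def, IsLocalRing.ResidueField.algebraMap_eq,
    (IsLocalRing.residue_eq_zero_iff m).mpr hm, zero_mul]

theorem mem_range_of_maximalIdeal_smul_eq_zero
    (hess : ∀ N : Submodule A E, N ≠ ⊥ → N ⊓ LinearMap.range f ≠ ⊥)
    (x : E) (hx : ∀ a ∈ maximalIdeal A, a • x = 0) : x ∈ LinearMap.range f := by
  by_cases hx0 : x = 0
  · subst hx0; exact zero_mem _
  have hN : Submodule.span A {x} ≠ ⊥ := by
    rw [Ne, Submodule.span_singleton_eq_bot]; exact hx0
  obtain ⟨y, hy, hy0⟩ := Submodule.exists_mem_ne_zero_of_ne_bot (hess _ hN)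
  obtain ⟨hy1, hy2⟩ := Submodule.mem_inf.mp hy
  obtain ⟨a, rfl⟩ := Submodule.mem_span_singleton.mp hy1
  have ha : IsUnit a := by
    by_contra h
    exact hy0 (hx a ((IsLocalRing.mem_maximalIdeal a).mpr h))
  obtain ⟨u, rfl⟩ := ha
  have : x = (↑u⁻¹ : A) • ((u : A) • x) := by rw [smul_smul]; simp
  rw [this]; exact Submodule.smul_mem _ _ hy2

theorem isAssociatedPrime_eq_maximalIdeal [IsNoetherianRing A]
    (hess : ∀ N : Submodule A E, N ≠ ⊥ → N ⊓ LinearMap.range f ≠ ⊥)
    (p : Ideal A) (hp : IsAssociatedPrime p E) : p = maximalIdeal A := by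
  obtain ⟨hpp, y, hy⟩ := (isAssociatedPrime_iff).mp hp
  have hmem : ∀ a : A, a ∈ p ↔ a • y = 0 := by
    intro a; rw [hy, Submodule.mem_colon_singleton, Submodule.mem_bot]
  have hy0 : y ≠ 0 := by
    rintro rfl
    apply hpp.ne_top
    rw [Ideal.eq_top_iff_one, hmem]; simp
  have hN : Submodule.span A {y} ≠ ⊥ := by
    rw [Ne, Submodule.span_singleton_eq_bot]; exact hy0
  obtain ⟨z, hz, hz0⟩ := Submodule.exists_mem_ne_zero_of_ne_bot (hess _ hN)
  obtain ⟨hz1, hz2⟩ := Submodule.mem_inf.mp hz
  obtain ⟨a, rfl⟩ := Submodule.mem_span_singleton.mp hz1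
  obtain ⟨c, hc⟩ := hz2
  refine le_antisymm (IsLocalRing.le_maximalIdeal hpp.ne_top) fun m hm => ?_
  have h1 : m • (a • y) = 0 := by
    rw [← hc, ← map_smul, maximalIdeal_smul_residueField m hm, map_zero]
  have h2 : m * a ∈ p := by rw [hmem, mul_smul]; exact h1
  have h3 : a ∉ p := by rw [hmem]; exact hz0
  exact (hpp.mem_or_mem h2).resolve_right h3

theorem exists_pow_le_annihilator [IsNoetherianRing A]
    (hess : ∀ N : Submodule A E, N ≠ ⊥ → N ⊓ LinearMap.range f ≠ ⊥)
    (M : Submodule A E) (hM : M.FG) :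
    ∃ n : ℕ, maximalIdeal A ^ n ≤ Module.annihilator A M := by
  haveI : Module.Finite A M := Module.Finite.of_fg hM
  apply Ideal.exists_pow_le_of_le_radical_of_fg _ (IsNoetherian.noetherian _)
  rw [← Ideal.sInf_minimalPrimes]
  refine le_sInf fun p hp => ?_
  have h1 : p ∈ associatedPrimes A M :=
    Module.associatedPrimes.minimalPrimes_annihilator_subset_associatedPrimes A M hp
  have h2 : IsAssociatedPrime p E :=
    IsAssociatedPrime.map_of_injective M.subtype h1 M.injective_subtype
  rw [isAssociatedPrime_eq_maximalIdeal f hess p h2]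

end Ess

section PowTors

variable {B : Type u} [CommRing B] (M : Type u) [AddCommGroup M] [Module B M]

/-- The `n`-power torsion submodule. -/
def powTors (n : Ideal B) : Submodule B M where
  carrier := {g | ∃ k : ℕ, ∀ b ∈ n ^ k, b • g = 0}
  add_mem' := by
    rintro g g' ⟨k, hk⟩ ⟨k', hk'⟩
    refine ⟨max k k', fun b hb => ?_⟩
    rw [smul_add, hk b (Ideal.pow_le_pow_right (le_max_left _ _) hb),
      hk' b (Ideal.pow_le_pow_right (le_max_right _ _) hb), add_zero]
  zero_mem' := ⟨0, fun b _ => smul_zero b⟩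
  smul_mem' := by
    rintro c g ⟨k, hk⟩
    exact ⟨k, fun b hb => by rw [smul_comm, hk b hb, smul_zero]⟩

variable {M}

theorem mem_powTors {n : Ideal B} {g : M} :
    g ∈ powTors M n ↔ ∃ k : ℕ, ∀ b ∈ n ^ k, b • g = 0 := Iff.rfl

theorem iSupIndep_powTors :
    iSupIndep (fun n : MaximalSpectrum B => powTors M n.asIdeal) := by
  intro i
  rw [Submodule.disjoint_def]
  intro x hxi hx
  have key : ∃ I : Ideal B, i.asIdeal ⊔ I = ⊤ ∧ ∀ b ∈ I, b • x = 0 := by
    refine Submodule.iSup_induction (fun j : MaximalSpectrum B => ⨆ (_ : j ≠ i), powTors M j.asIdeal)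
      (motive := fun x => ∃ I : Ideal B, i.asIdeal ⊔ I = ⊤ ∧ ∀ b ∈ I, b • x = 0) hx ?_ ?_ ?_
    · intro j y hy
      by_cases hji : j = i
      · have : y = 0 := by
          have h0 : (⨆ (_ : j ≠ i), powTors M j.asIdeal) = ⊥ := by
            rw [iSup_eq_bot]; intro h; exact absurd hji h
          rw [h0] at hy; exact (Submodule.mem_bot B).mp hy
        exact ⟨⊤, by simp, fun b _ => by rw [this, smul_zero]⟩
      · rw [iSup_pos hji] at hy
        obtain ⟨k, hk⟩ := hy
        refine ⟨j.asIdeal ^ k, Ideal.sup_pow_eq_top ?_, hk⟩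
        refine i.isMaximal.coprime_of_ne j.isMaximal ?_
        intro h; exact hji (MaximalSpectrum.ext h.symm)
    · exact ⟨⊤, by simp, fun b _ => smul_zero b⟩
    · rintro y z ⟨I, hI, hIy⟩ ⟨I', hI', hIz⟩
      refine ⟨I * I', ?_, fun b hb => ?_⟩
      · rw [Ideal.sup_mul_eq_of_coprime_left hI, hI']
      · rw [smul_add, hIy b (Ideal.mul_le_left hb), hIz b (Ideal.mul_le_right hb), add_zero]
  obtain ⟨I, hI, hIx⟩ := key
  obtain ⟨k, hk⟩ := hxi
  have h1 : (1 : B) ∈ I ⊔ i.asIdeal ^ k := by
    rw [Ideal.sup_pow_eq_top (by rwa [sup_comm])]; trivial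
  obtain ⟨u, hu, v, hv, huv⟩ := Submodule.mem_sup.mp h1
  rw [← one_smul B x, ← huv, add_smul, hIx u hu, hk v hv, add_zero]

theorem mem_iSup_powTors [IsNoetherianRing B] (x : M) (I : Ideal B) (hI : ∀ b ∈ I, b • x = 0)
    (hmax : ∀ p ∈ I.minimalPrimes, p.IsMaximal) :
    x ∈ ⨆ n : MaximalSpectrum B, powTors M n.asIdeal := by
  classical
  have hfin : I.minimalPrimes.Finite := Ideal.finite_minimalPrimes_of_isNoetherianRing B I
  obtain ⟨k, hk⟩ := I.exists_radical_pow_le_of_fg (IsNoetherian.noetherian _)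
  have hcop : (hfin.toFinset : Set (Ideal B)).Pairwise (fun q q' => q ^ k ⊔ q' ^ k = ⊤) := by
    intro q hq q' hq' hne
    have hq := hmax q (hfin.mem_toFinset.mp hq)
    have hq' := hmax q' (hfin.mem_toFinset.mp hq')
    exact Ideal.pow_sup_pow_eq_top (hq.coprime_of_ne hq' hne)
  have hcop' : (hfin.toFinset : Set (Ideal B)).Pairwise
      (Function.onFun IsCoprime (fun q : Ideal B => q ^ k)) := by
    intro q hq q' hq' hne
    exact Ideal.isCoprime_iff_sup_eq.mpr (hcop hq hq' hne)
  have hle : (⨅ q ∈ hfin.toFinset, q ^ k) ≤ I := by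
    rw [← Ideal.prod_eq_iInf_of_pairwise_isCoprime hcop', Finset.prod_pow]
    refine le_trans (Ideal.pow_right_mono ?_ k) hk
    rw [← Ideal.sInf_minimalPrimes]
    refine le_sInf fun q hq => ?_
    exact le_trans Ideal.prod_le_inf (Finset.inf_le (hfin.mem_toFinset.mpr hq))
  have hx : x ∈ Submodule.torsionBySet B M ((⨅ q ∈ hfin.toFinset, q ^ k : Ideal B) : Set B) := by
    rw [Submodule.mem_torsionBySet_iff]; rintro ⟨b, hb⟩; exact hI b (hle hb)
  rw [← Submodule.iSup_torsionBySet_ideal_eq_torsionBySet_iInf hcop] at hx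
  suffices h : (⨆ q ∈ hfin.toFinset, Submodule.torsionBySet B M ((q ^ k : Ideal B) : Set B)) ≤
      ⨆ n : MaximalSpectrum B, powTors M n.asIdeal from h hx
  refine iSup₂_le fun q hq => ?_
  have hqm := hmax q (hfin.mem_toFinset.mp hq)
  refine le_trans ?_ (le_iSup _ (⟨q, hqm⟩ : MaximalSpectrum B))
  intro y hy
  exact ⟨k, fun b hb => (Submodule.mem_torsionBySet_iff _ _).mp hy ⟨b, hb⟩⟩

end PowTors

section Fin

variable {A B : Type u} [CommRing A] [IsLocalRing A] [CommRing B] [Algebra A B]
  [Module.Finite A B]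
variable {E : Type u} [AddCommGroup E] [Module A E] (f : ResidueField A →ₗ[A] E)

theorem liesOver_of_isMaximal (n : Ideal B) [n.IsMaximal] : n.LiesOver (maximalIdeal A) := by
  constructor
  haveI : Algebra.IsIntegral A B := Algebra.IsIntegral.of_finite A B
  exact (IsLocalRing.eq_maximalIdeal
    (Ideal.isMaximal_comap_of_isIntegral_of_isMaximal (R := A) n)).symm

theorem algebraMap_mem_of_isMaximal (n : Ideal B) [n.IsMaximal] (a : A)
    (ha : a ∈ maximalIdeal A) : algebraMap A B a ∈ n := by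
  haveI := liesOver_of_isMaximal (A := A) n
  exact (Ideal.mem_of_liesOver n (maximalIdeal A) a).mp ha

variable [IsNoetherianRing A]

theorem exists_pow_smul_eq_zero
    (hess : ∀ N : Submodule A E, N ≠ ⊥ → N ⊓ LinearMap.range f ≠ ⊥) (g : HH A B E) :
    ∃ N : ℕ, ∀ a ∈ maximalIdeal A ^ N, ∀ x : B, a • g x = 0 := by
  have hfg : (LinearMap.range (toLin g)).FG := by
    rw [LinearMap.range_eq_map]; exact (Module.Finite.fg_top).map _
  obtain ⟨N, hN⟩ := exists_pow_le_annihilator f hess _ hfg
  refine ⟨N, fun a ha x => ?_⟩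
  have := Module.mem_annihilator.mp (hN ha) ⟨toLin g x, ⟨x, rfl⟩⟩
  exact congrArg Subtype.val this

theorem iSup_powTors_eq_top
    (hess : ∀ N : Submodule A E, N ≠ ⊥ → N ⊓ LinearMap.range f ≠ ⊥) :
    ⨆ n : MaximalSpectrum B, powTors (HH A B E) n.asIdeal = ⊤ := by
  haveI : IsNoetherianRing B := IsNoetherianRing.of_finite A B
  haveI : Algebra.IsIntegral A B := Algebra.IsIntegral.of_finite A B
  refine eq_top_iff.mpr fun g _ => ?_
  obtain ⟨N, hN⟩ := exists_pow_smul_eq_zero f hess g
  refine mem_iSup_powTors g (Ideal.map (algebraMap A B) (maximalIdeal A ^ N)) ?_ ?_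
  · have : Ideal.map (algebraMap A B) (maximalIdeal A ^ N) ≤ Ideal.torsionOf B _ g := by
      rw [Ideal.map_le_iff_le_comap]
      intro a ha
      rw [Ideal.mem_comap, Ideal.mem_torsionOf_iff]
      apply ev_ext
      intro x
      rw [ev_smul, mul_comm, ev_map_smul, hN a ha x, ev_zero]
    intro b hb
    exact (Ideal.mem_torsionOf_iff _ _).mp (this hb)
  · intro p hp
    haveI := hp.1.1
    have h1 : maximalIdeal A ^ N ≤ Ideal.comap (algebraMap A B) p :=
      Ideal.map_le_iff_le_comap.mp hp.1.2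
    have h2 : maximalIdeal A ≤ Ideal.comap (algebraMap A B) p := Ideal.IsPrime.le_of_pow_le h1
    have h3 : (Ideal.comap (algebraMap A B) p).IsMaximal := by
      rw [← (maximalIdeal.isMaximal A).eq_of_le (Ideal.IsPrime.ne_top inferInstance) h2]
      exact maximalIdeal.isMaximal A
    exact Ideal.isMaximal_of_isIntegral_of_isMaximal_comap p h3

end Fin

section Inj

open CategoryTheory

theorem injective_HH {A B : Type u} [CommRing A] [CommRing B] [Algebra A B] {E : Type u}
    [AddCommGroup E] [Module A E] [Module.Injective A E] : Module.Injective B (HH A B E) := by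
  haveI : CategoryTheory.Injective (ModuleCat.of A E) :=
    Module.injective_object_of_injective_module A E
  haveI : CategoryTheory.Injective
      ((ModuleCat.coextendScalars (algebraMap A B)).obj (ModuleCat.of A E)) :=
    Injective.injective_of_adjoint (ModuleCat.restrictCoextendScalarsAdj (algebraMap A B)) _
  exact Module.injective_module_of_injective_object B (HH A B E)

theorem injective_of_retract {R : Type u} [Ring R] {M N : Type u} [AddCommGroup M] [Module R M]
    [AddCommGroup N] [Module R N] [Module.Injective R M] (s : N →ₗ[R] M) (r : M →ₗ[R] N)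
    (h : ∀ x, r (s x) = x) : Module.Injective R N where
  out X Y _ _ _ _ i hi g := by
    obtain ⟨h', hh'⟩ := Module.Injective.out i hi (s ∘ₗ g)
    exact ⟨r ∘ₗ h', fun x => by simp [hh' x, h]⟩

theorem injective_of_iSupIndep {R : Type u} [Ring R] {M : Type u} [AddCommGroup M] [Module R M]
    [Module.Injective R M] {ι : Type*} (J : ι → Submodule R M) (hind : iSupIndep J)
    (htop : iSup J = ⊤) (i : ι) : Module.Injective R (J i) := by
  have hc : IsCompl (J i) (⨆ (j) (_ : j ≠ i), J j) :=
    ⟨hind i, by rw [codisjoint_iff, ← iSup_split_single, htop]⟩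
  exact injective_of_retract (J i).subtype (Submodule.projectionOnto _ _ hc)
    (fun x => Submodule.projectionOnto_apply_left hc x)

end Inj

section Dual

theorem exists_mul_of_functional {κ L : Type*} [Field κ] [Field L] [Algebra κ L]
    [FiniteDimensional κ L] (ψ : L →ₗ[κ] κ) (hψ : ψ ≠ 0) (z : L →ₗ[κ] κ) :
    ∃ c : L, ∀ x, z x = ψ (x * c) := by
  let Φ : L →ₗ[κ] Module.Dual κ L := (LinearMap.compRight κ ψ) ∘ₗ (LinearMap.mul κ L)
  have hΦ : ∀ c x, Φ c x = ψ (c * x) := fun c x => rfl
  have hinj : Function.Injective Φ := by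
    rw [← LinearMap.ker_eq_bot, LinearMap.ker_eq_bot']
    intro c hc
    by_contra hc0
    apply hψ
    ext y
    have := LinearMap.congr_fun hc (c⁻¹ * y)
    rw [hΦ, ← mul_assoc, mul_inv_cancel₀ hc0, one_mul] at this
    simpa using this
  have hsurj : Function.Surjective Φ :=
    (LinearMap.injective_iff_surjective_of_finrank_eq_finrank
      (Subspace.dual_finrank_eq).symm).mp hinj
  obtain ⟨c, hc⟩ := hsurj z
  exact ⟨c, fun x => by rw [← hc, hΦ, mul_comm]⟩

variable {A B : Type u} [CommRing A] [IsLocalRing A] [CommRing B] [Algebra A B]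
  [Module.Finite A B]

theorem exists_mul_of_socle (n : Ideal B) [n.IsMaximal]
    (ψ z : B →ₗ[A] (A ⧸ maximalIdeal A))
    (hψn : ∀ c ∈ n, ψ c = 0) (hzn : ∀ c ∈ n, z c = 0) (hψ : ψ ≠ 0) :
    ∃ c : B, ∀ x, z x = ψ (x * c) := by
  haveI := liesOver_of_isMaximal (A := A) n
  letI : Field (A ⧸ maximalIdeal A) := Ideal.Quotient.field _
  letI : Field (B ⧸ n) := Ideal.Quotient.field n
  have hsurj : Function.Surjective (algebraMap A (A ⧸ maximalIdeal A)) :=
    Ideal.Quotient.mk_surjective
  let desc : (φ : B →ₗ[A] (A ⧸ maximalIdeal A)) → (∀ c ∈ n, φ c = 0) →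
      ((B ⧸ n) →ₗ[A ⧸ maximalIdeal A] (A ⧸ maximalIdeal A)) := fun φ h =>
    LinearMap.extendScalarsOfSurjective hsurj
      (((n.restrictScalars A).liftQ φ (fun c hc => h c hc)) ∘ₗ
        (Submodule.Quotient.restrictScalarsEquiv A n).symm.toLinearMap)
  have hdesc : ∀ φ h x, desc φ h (Ideal.Quotient.mk n x) = φ x := fun φ h x => rfl
  have hne : desc ψ hψn ≠ 0 := by
    intro h0
    apply hψ
    ext x
    rw [← hdesc ψ hψn x, h0]; rfl
  obtain ⟨c, hc⟩ := exists_mul_of_functional (desc ψ hψn) hne (desc z hzn)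
  obtain ⟨c', rfl⟩ := Ideal.Quotient.mk_surjective c
  refine ⟨c', fun x => ?_⟩
  have := hc (Ideal.Quotient.mk n x)
  rw [hdesc, ← map_mul, hdesc] at this
  exact this

end Dual

section Hull

variable {A B : Type u} [CommRing A] [IsLocalRing A] [CommRing B] [Algebra A B]
  [Module.Finite A B]
variable {E : Type u} [AddCommGroup E] [Module A E] (f : ResidueField A →ₗ[A] E)

theorem exists_functional (n : Ideal B) [n.IsMaximal] :
    ∃ ψ : B →ₗ[A] (A ⧸ maximalIdeal A), (∀ c ∈ n, ψ c = 0) ∧ ψ 1 = 1 := by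
  haveI := liesOver_of_isMaximal (A := A) n
  letI : Field (A ⧸ maximalIdeal A) := Ideal.Quotient.field _
  letI : Field (B ⧸ n) := Ideal.Quotient.field n
  obtain ⟨ρ, hρ⟩ := LinearMap.exists_leftInverse_of_injective
    (Algebra.linearMap (A ⧸ maximalIdeal A) (B ⧸ n))
    (LinearMap.ker_eq_bot.mpr (algebraMap (A ⧸ maximalIdeal A) (B ⧸ n)).injective)
  refine ⟨(ρ.restrictScalars A) ∘ₗ (Ideal.Quotient.mkₐ A n).toLinearMap, fun c hc => ?_, ?_⟩
  · simp [Ideal.Quotient.eq_zero_iff_mem.mpr hc]
  · have := LinearMap.congr_fun hρ 1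
    simpa using this

theorem exists_hull (hinj : Function.Injective f)
    (hess : ∀ N : Submodule A E, N ≠ ⊥ → N ⊓ LinearMap.range f ≠ ⊥) (n : MaximalSpectrum B) :
    ∃ g : (B ⧸ n.asIdeal) →ₗ[B] powTors (HH A B E) n.asIdeal,
      Function.Injective g ∧
      ∀ N : Submodule B (powTors (HH A B E) n.asIdeal), N ≠ ⊥ → N ⊓ LinearMap.range g ≠ ⊥ := by
  haveI := n.isMaximal
  obtain ⟨ψ', hψ'n, hψ'1⟩ := exists_functional (A := A) n.asIdeal
  -- the generator
  let ψ₀ : B →ₗ[A] E := f.comp (show B →ₗ[A] ResidueField A from ψ')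
  have hψ₀ : ∀ x, ψ₀ x = f (ψ' x) := fun x => rfl
  let ψ : HH A B E := ofLin ψ₀
  have hψx : ∀ x, ψ x = f (ψ' x) := fun x => rfl
  have hψn : ∀ b ∈ n.asIdeal, b • ψ = 0 := by
    intro b hb
    apply ev_ext
    intro x
    rw [ev_smul, hψx, hψ'n _ (Ideal.mul_mem_left _ x hb), ev_zero]
    exact map_zero f
  have hψJ : ψ ∈ powTors (HH A B E) n.asIdeal :=
    ⟨1, fun b hb => hψn b (by rwa [pow_one] at hb)⟩
  have hψ1 : ψ (1 : B) ≠ 0 := by
    rw [hψx, hψ'1]
    intro h
    have h1 : (1 : ResidueField A) = 0 := hinj (by rw [map_zero]; exact h)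
    exact one_ne_zero h1
  let t : B →ₗ[B] powTors (HH A B E) n.asIdeal := LinearMap.toSpanSingleton B _ ⟨ψ, hψJ⟩
  have ht : ∀ c, ((t c : powTors (HH A B E) n.asIdeal) : HH A B E) = c • ψ := fun c => rfl
  have hle : n.asIdeal ≤ LinearMap.ker t := by
    intro c hc
    rw [LinearMap.mem_ker]
    apply Subtype.ext
    rw [ht, hψn c hc]; rfl
  have hker : LinearMap.ker t ≤ n.asIdeal := by
    have hne : LinearMap.ker t ≠ ⊤ := by
      intro h
      have h1 : (1 : B) ∈ LinearMap.ker t := by rw [h]; trivial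
      rw [LinearMap.mem_ker] at h1
      have h2 := congrArg Subtype.val h1
      rw [ht, one_smul] at h2
      apply hψ1
      rw [h2]; rfl
    exact (n.isMaximal.eq_of_le hne hle).ge
  refine ⟨n.asIdeal.liftQ t hle, ?_, ?_⟩
  · rw [← LinearMap.ker_eq_bot]
    exact Submodule.ker_liftQ_eq_bot _ _ _ hker
  · intro N hN
    obtain ⟨y, hyN, hy0⟩ := Submodule.exists_mem_ne_zero_of_ne_bot hN
    have hyex : ∃ k : ℕ, ∀ b ∈ n.asIdeal ^ k, b • y = 0 := by
      obtain ⟨k, hk⟩ := y.2
      exact ⟨k, fun b hb => Subtype.ext (hk b hb)⟩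
    classical
    have hk0 : Nat.find hyex ≠ 0 := by
      intro h0
      have := Nat.find_spec hyex
      rw [h0, pow_zero, Ideal.one_eq_top] at this
      exact hy0 (by simpa using this 1 Submodule.mem_top)
    obtain ⟨k', hk'⟩ := Nat.exists_eq_succ_of_ne_zero hk0
    have hmin : ¬ ∀ b ∈ n.asIdeal ^ k', b • y = 0 :=
      Nat.find_min hyex (by rw [hk']; exact Nat.lt_succ_self k')
    push Not at hmin
    obtain ⟨b, hb, hby⟩ := hmin
    set z := b • y with hz
    have hzN : z ∈ N := N.smul_mem b hyN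
    have hzn : ∀ c ∈ n.asIdeal, c • z = 0 := by
      intro c hc
      rw [hz, smul_smul]
      apply Nat.find_spec hyex
      rw [hk', pow_succ']
      exact Ideal.mul_mem_mul hc hb
    -- z as a map into the socle of E
    have hznH : ∀ c ∈ n.asIdeal, c • (z : HH A B E) = 0 := fun c hc =>
      congrArg Subtype.val (hzn c hc)
    have hzr : ∀ x : B, toLin (z : HH A B E) x ∈ LinearMap.range f := by
      intro x
      apply mem_range_of_maximalIdeal_smul_eq_zero f hess
      intro a ha
      rw [toLin_apply, ← ev_map_smul, mul_comm, ← ev_smul,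
        hznH _ (algebraMap_mem_of_isMaximal n.asIdeal a ha), ev_zero]
    let z' : B →ₗ[A] ResidueField A :=
      (LinearEquiv.ofInjective f hinj).symm.toLinearMap ∘ₗ
        (toLin (z : HH A B E)).codRestrict (LinearMap.range f) hzr
    have hz' : ∀ x, f (z' x) = (z : HH A B E) x := by
      intro x
      have : (LinearEquiv.ofInjective f hinj) (z' x) =
          (toLin (z : HH A B E)).codRestrict (LinearMap.range f) hzr x :=
        LinearEquiv.apply_symm_apply _ _
      have h2 := congrArg Subtype.val this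
      rw [LinearEquiv.ofInjective_apply] at h2
      exact h2
    have hz'n : ∀ c ∈ n.asIdeal, z' c = 0 := by
      intro c hc
      apply hinj
      rw [hz', map_zero, ← one_mul c, ← ev_smul, hznH c hc, ev_zero]
    have hψ'0 : ψ' ≠ 0 := by
      intro h
      rw [h] at hψ'1
      simp at hψ'1
    obtain ⟨c, hc⟩ := exists_mul_of_socle n.asIdeal ψ' (show B →ₗ[A] (A ⧸ maximalIdeal A) from z')
      hψ'n hz'n hψ'0
    have hzc : (z : HH A B E) = c • ψ := by
      apply ev_ext
      intro x
      rw [← hz', ev_smul, hψx]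
      exact congrArg f (hc x)
    have hzrange : z ∈ LinearMap.range (n.asIdeal.liftQ t hle) := by
      refine ⟨Submodule.Quotient.mk c, ?_⟩
      rw [Submodule.liftQ_apply]
      apply Subtype.ext
      rw [ht, hzc]
    intro hbot
    have : z ∈ (⊥ : Submodule B (powTors (HH A B E) n.asIdeal)) := by
      rw [← hbot]; exact ⟨hzN, hzrange⟩
    exact hby ((Submodule.mem_bot B).mp this)

end Hull

end Groth.Agent.Lib.Helper84.MatlisFin
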