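import Groth.Agent.Lib.Helper84.NilTorAmp

/-!
# Boundedness above descends along nilpotent thickenings (helper84)
-/

set_option autoImplicit false
universe u

open CategoryTheory CategoryTheory.Limits CategoryTheory.Pretriangulated DerivedCategory
open DRing MonoidalCategory

attribute [local instance] HasDerivedCategory.standard

namespace Groth.Agent.Lib.Helper84.NilBdd

open TensCx FlatAmp NilTorAmp Groth.Agent.Lib.Helper15 Groth.Agent.Lib.Helper25.KFlat

variable {R' R : Type u} [CommRing R'] [CommRing R] (φ : R' →+* R)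

/-- vanishing of `H^i(N ⊗ P)` for the degrees `i` satisfying `p` -/
def TorVanP (P : Cx R') (p : ℤ → Prop) (N : ModuleCat.{u} R') : Prop :=
  ∀ i : ℤ, p i → ((tens N).obj P).ExactAt i

lemma torVanP_of_iso {P : Cx R'} {p : ℤ → Prop} {N₁ N₂ : ModuleCat.{u} R'} (e : N₁ ≅ N₂)
    (h : TorVanP P p N₁) : TorVanP P p N₂ := by
  intro i hi
  have e' : (tens N₁).obj P ≅ (tens N₂).obj P :=
    HomologicalComplex.Hom.isoOfComponents (fun j => whiskerRightIso e (P.X j)) (by
      intro j k _
      exact (whisker_exchange e.hom (P.d j k)).symm)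
  exact (_root_.exactAt_iff_of_quasiIsoAt e'.hom i).1 (h i hi)

lemma torVanP_of_isZero {P : Cx R'} {p : ℤ → Prop} {N : ModuleCat.{u} R'} (hN : IsZero N) :
    TorVanP P p N := by
  intro i _
  refine ShortComplex.exact_of_isZero_X₂ _ ?_
  change IsZero (N ⊗ P.X i)
  exact Functor.map_isZero (tensorRight (P.X i)) hN

/-- two out of three in the module variable, for a termwise flat complex -/
lemma torVanP_of_shortExact {P : Cx R'} (hP : TermwiseFlat P) {p : ℤ → Prop}
    (S : ShortComplex (ModuleCat.{u} R')) (hS : S.ShortExact) (h₁ : TorVanP P p S.X₁)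
    (h₃ : TorVanP P p S.X₃) : TorVanP P p S.X₂ := by
  intro i hi
  let T : ShortComplex (Cx R') := ShortComplex.mk (tensMap S.f P) (tensMap S.g P) (by
    apply HomologicalComplex.hom_ext
    intro j
    have : (S.f ▷ P.X j) ≫ (S.g ▷ P.X j) = 0 := by
      rw [← comp_whiskerRight, S.zero]
      simp
    exact this)
  have hT : T.ShortExact := by
    apply HomologicalComplex.shortExact_of_degreewise_shortExact
    intro j
    haveI := hP j
    have hinj : Function.Injective S.f.hom := (ModuleCat.mono_iff_injective _).1 hS.mono_f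
    have hsurj : Function.Surjective S.g.hom := (ModuleCat.epi_iff_surjective _).1 hS.epi_g
    have hex : Function.Exact S.f.hom S.g.hom :=
      (ShortComplex.ShortExact.moduleCat_exact_iff_function_exact S).1 hS.exact
    exact ModuleCat.shortComplex_shortExact _
      (show Function.Exact (S.f.hom.rTensor (P.X j)) (S.g.hom.rTensor (P.X j)) from
        rTensor_exact (P.X j) hex hsurj)
      (Module.Flat.rTensor_preserves_injective_linearMap S.f.hom hinj)
      (LinearMap.rTensor_surjective (P.X j) hsurj)
  exact hT.exactAt_X₂ i (h₁ i hi) (h₃ i hi)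

/-- dévissage along the `ker φ`-adic filtration -/
lemma torVanP_of_pow_smul_eq_bot (hφ : Function.Surjective φ) {P : Cx R'} (hP : TermwiseFlat P)
    {p : ℤ → Prop}
    (base : ∀ N : ModuleCat.{u} R, TorVanP P p ((ModuleCat.restrictScalars φ).obj N)) :
    ∀ (k : ℕ) (N' : ModuleCat.{u} R'),
      (RingHom.ker φ) ^ k • (⊤ : Submodule R' N') = ⊥ → TorVanP P p N' := by
  intro k
  induction k with
  | zero =>
    intro N' h
    apply torVanP_of_isZero
    rw [pow_zero, Ideal.one_eq_top, Submodule.top_smul] at h
    haveI : Subsingleton N' := by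
      rw [← Submodule.subsingleton_iff R', ← subsingleton_iff_bot_eq_top]
      exact h.symm
    exact ModuleCat.isZero_of_subsingleton _
  | succ k ih =>
    intro N' h
    let I := RingHom.ker φ
    let M₁ : Submodule R' N' := I • (⊤ : Submodule R' N')
    let S : ShortComplex (ModuleCat.{u} R') :=
      ModuleCat.shortComplexOfCompEqZero M₁.subtype M₁.mkQ (by ext x; simp)
    have hS : S.ShortExact :=
      ModuleCat.shortComplex_shortExact S (LinearMap.exact_subtype_mkQ M₁)
        (Submodule.subtype_injective _) (Submodule.mkQ_surjective _)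
    refine torVanP_of_shortExact hP S hS ?_ ?_
    · apply ih
      apply (Submodule.map_injective_of_injective (Submodule.subtype_injective M₁))
      rw [Submodule.map_smul'', Submodule.map_subtype_top, Submodule.map_bot]
      change I ^ k • (I • (⊤ : Submodule R' N')) = ⊥
      rw [← Submodule.mul_smul, ← pow_succ]
      exact h
    · obtain ⟨N, ⟨e⟩⟩ := exists_res_iso φ hφ (ModuleCat.of R' (N' ⧸ M₁)) (by
        intro r hr x
        obtain ⟨y, rfl⟩ := Submodule.mkQ_surjective M₁ x
        rw [← map_smul, Submodule.mkQ_apply, Submodule.Quotient.mk_eq_zero]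
        exact Submodule.smul_mem_smul hr Submodule.mem_top)
      exact torVanP_of_iso e (base N)

/-- boundedness above descends along a surjection with nilpotent kernel -/
theorem isLE_of_lbaseChange (hφ : Function.Surjective φ) (hnil : IsNilpotent (RingHom.ker φ))
    [DRing.HasLBaseChange φ] (K' : Dual.D R') (b : ℤ) (E : Cx R) (hE : VanishesAbove E b)
    (hfl : TermwiseFlat E) (eE : toD E ≅ (DRing.LBaseChange φ).obj K') :
    K'.IsLE b := by
  obtain ⟨P, π, hP, hπ, hKF, hflat, -⟩ :=
    KProjRes.exists_kprojective_resolution (Q.objPreimage K')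
  haveI := hP
  haveI : IsIso (Q.map π) := by
    rw [isIso_Q_map_iff_quasiIso]
    exact hπ
  have e1 : toD P ≅ K' := asIso (Q.map π) ≪≫ Q.objObjPreimageIso K'
  have e2 : (DRing.LBaseChange φ).obj K' ≅ toD (LDerived.extCx φ P) :=
    (DRing.LBaseChange φ).mapIso e1.symm ≪≫ LDerived.lbcIso φ P
  have hKF' : IsKFlat (LDerived.extCx φ P) := isKFlat_extCx φ P hKF
  have hA : ∀ (N : ModuleCat.{u} R) (i : ℤ), b < i →
      ((tens N).obj (LDerived.extCx φ P)).ExactAt i := by
    intro N i hi
    have e3 : (DRing.LTensor R N).obj ((DRing.LBaseChange φ).obj K') ≅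
        toD ((tens N).obj (LDerived.extCx φ P)) :=
      (DRing.LTensor R N).mapIso e2 ≪≫ LTKFlat.ltIsoOfIsKFlat N _ hKF' ≪≫
        Q.mapIso (tensRightIso N _)
    have e5 : (DRing.LTensor R N).obj ((DRing.LBaseChange φ).obj K') ≅
        toD ((tens N).obj E) :=
      (DRing.LTensor R N).mapIso eE.symm ≪≫ LTKFlat.ltIsoOfFlat N E b hE hfl ≪≫
        Q.mapIso (tensRightIso N _)
    have h0 : ((tens N).obj E).ExactAt i := by
      refine ShortComplex.exact_of_isZero_X₂ _ ?_
      change IsZero (N ⊗ E.X i)
      exact Functor.map_isZero (tensorLeft N) (hE i hi)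
    exact exactAt_of_subsingleton_HD _ i
      (subsingleton_HD_of_iso (e5.symm ≪≫ e3) i (subsingleton_HD_of_exactAt _ i h0))
  have base : ∀ N : ModuleCat.{u} R,
      TorVanP P (fun i => b < i) ((ModuleCat.restrictScalars φ).obj N) :=
    fun N i hi => (exactAt_tens_res_iff φ N P i).2 (hA N i hi)
  obtain ⟨n, hn⟩ := hnil
  have hall : ∀ N' : ModuleCat.{u} R', TorVanP P (fun i => b < i) N' := fun N' =>
    torVanP_of_pow_smul_eq_bot φ hφ hflat base n N' (by
      rw [hn, Ideal.zero_eq_bot, Submodule.bot_smul])
  have hex : ∀ i : ℤ, b < i → P.ExactAt i := fun i hi =>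
    exactAt_of_exactAt_tens_unit P i (hall _ i hi)
  have hle : (toD P).IsLE b := by
    rw [DerivedCategory.isLE_iff]
    intro i hi
    have := hex i hi
    rw [HomologicalComplex.exactAt_iff_isZero_homology] at this
    exact IsZero.of_iso this ((homologyFunctorFactors (ModuleCat.{u} R') i).app P)
  exact TStructure.t.isLE_of_iso e1 b

end Groth.Agent.Lib.Helper84.NilBdd
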