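import Groth.Agent.Lib.Helper84.NilBdd
import Groth.Agent.Lib.Helper43.FreeRes

/-!
# Right t-exactness of tensoring K-flat complexes and dévissage (helper84)
-/

set_option autoImplicit false
universe u

open CategoryTheory CategoryTheory.Limits CategoryTheory.Pretriangulated DerivedCategory
open DRing MonoidalCategory

attribute [local instance] HasDerivedCategory.standard

namespace Groth.Agent.Lib.Helper84.NilLT

open TensCx FlatAmp NilTorAmp NilBdd Groth.Agent.Lib.Helper15 Groth.Agent.Lib.Helper25.KFlat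
open Groth.Agent.Lib.Helper43

/-- tensoring a K-flat complex which is exact above `b` with a module stays exact above `b` -/
theorem exactAt_tens_of_isKFlat {A : Type u} [CommRing A] (X : Cx A) (hX : IsKFlat X) (b : ℤ)
    (hex : ∀ i : ℤ, b < i → X.ExactAt i) (N : ModuleCat.{u} A) (i : ℤ) (hi : b < i) :
    ((tens N).obj X).ExactAt i := by
  obtain ⟨E, hE, hfree, ⟨e⟩⟩ := FreeRes.exists_free_representative (toD X) b (fun j hj => by
    have := hex j hj
    rw [HomologicalComplex.exactAt_iff_isZero_homology] at this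
    exact IsZero.of_iso this ((homologyFunctorFactors (ModuleCat.{u} A) j).app X))
  have hfl : ∀ q, Module.Flat A (E.X q) := fun q => by
    haveI := hfree q
    infer_instance
  have e3 : (DRing.LTensor A N).obj (toD X) ≅ toD ((tens N).obj X) :=
    LTKFlat.ltIsoOfIsKFlat N _ hX ≪≫ Q.mapIso (tensRightIso N _)
  have e5 : (DRing.LTensor A N).obj (toD X) ≅ toD ((tens N).obj E) :=
    (DRing.LTensor A N).mapIso e.symm ≪≫ LTKFlat.ltIsoOfFlat N E b hE hfl ≪≫
      Q.mapIso (tensRightIso N _)
  have h0 : ((tens N).obj E).ExactAt i := by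
    refine ShortComplex.exact_of_isZero_X₂ _ ?_
    change IsZero (N ⊗ E.X i)
    exact Functor.map_isZero (tensorLeft N) (hE i hi)
  exact exactAt_of_subsingleton_HD _ i
    (subsingleton_HD_of_iso (e5.symm ≪≫ e3) i (subsingleton_HD_of_exactAt _ i h0))

variable {R' R : Type u} [CommRing R'] [CommRing R] (φ : R' →+* R)

/-- dévissage: if `P ⊗ R` is exact above `b`, so is `P ⊗ N'` for every `N'` killed by a power
of `ker φ` -/
theorem exactAt_tens_of_pow_smul_eq_bot (hφ : Function.Surjective φ) (P : Cx R')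
    (hKF : IsKFlat P) (hflat : TermwiseFlat P) (b : ℤ)
    (hex : ∀ i : ℤ, b < i → (LDerived.extCx φ P).ExactAt i) (n : ℕ) (N' : ModuleCat.{u} R')
    (hN' : (RingHom.ker φ) ^ n • (⊤ : Submodule R' N') = ⊥) (i : ℤ) (hi : b < i) :
    ((tens N').obj P).ExactAt i := by
  have hKF' : IsKFlat (LDerived.extCx φ P) := isKFlat_extCx φ P hKF
  have base : ∀ N : ModuleCat.{u} R,
      TorVanP P (fun i => b < i) ((ModuleCat.restrictScalars φ).obj N) :=
    fun N i hi => (exactAt_tens_res_iff φ N P i).2
      (exactAt_tens_of_isKFlat _ hKF' b hex N i hi)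
  exact torVanP_of_pow_smul_eq_bot φ hφ hflat base n N' hN' i hi

end Groth.Agent.Lib.Helper84.NilLT
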