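import Groth.Agent.Lib.Helper84.FlatAmpLT
import Groth.Agent.Lib.Helper25.KFlatBC
import Groth.Agent.Lib.Helper15.LBCKFlat

/-!
# Tor amplitude and nilpotent thickenings (helper84)
-/

set_option autoImplicit false
universe u

open CategoryTheory CategoryTheory.Limits CategoryTheory.Pretriangulated DerivedCategory
open DRing MonoidalCategory

attribute [local instance] HasDerivedCategory.standard

namespace Groth.Agent.Lib.Helper84.NilTorAmp

open TensCx FlatAmp Groth.Agent.Lib.Helper15 Groth.Agent.Lib.Helper25.KFlat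

variable {R' R : Type u} [CommRing R'] [CommRing R] (φ : R' →+* R)

/-- transfer of exactness along bijections -/
lemma exact_iff_of_bijective {X₁ X₂ X₃ Y₁ Y₂ Y₃ : Type*} [Zero X₃] [Zero Y₃]
    (f : X₁ → X₂) (g : X₂ → X₃) (f' : Y₁ → Y₂) (g' : Y₂ → Y₃)
    (e₁ : X₁ → Y₁) (e₂ : X₂ → Y₂) (e₃ : X₃ → Y₃)
    (h₁ : Function.Surjective e₁) (h₂ : Function.Bijective e₂) (h₃ : Function.Injective e₃)
    (h₃0 : e₃ 0 = 0)
    (c₁ : ∀ x, e₂ (f x) = f' (e₁ x)) (c₂ : ∀ x, e₃ (g x) = g' (e₂ x)) :
    Function.Exact f g ↔ Function.Exact f' g' := by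
  constructor
  · intro h y
    obtain ⟨x, rfl⟩ := h₂.2 y
    constructor
    · intro hy
      have : g x = 0 := h₃ (by rw [c₂, hy, h₃0])
      obtain ⟨w, rfl⟩ := (h x).1 this
      exact ⟨e₁ w, (c₁ w).symm⟩
    · rintro ⟨w', hw'⟩
      obtain ⟨w, rfl⟩ := h₁ w'
      rw [← c₁] at hw'
      have : f w = x := h₂.1 hw'
      rw [← c₂, ← this, (h (f w)).2 ⟨w, rfl⟩, h₃0]
  · intro h x
    constructor
    · intro hx
      have : g' (e₂ x) = 0 := by rw [← c₂, hx, h₃0]
      obtain ⟨w', hw'⟩ := (h (e₂ x)).1 this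
      obtain ⟨w, rfl⟩ := h₁ w'
      exact ⟨w, h₂.1 (by rw [c₁, hw'])⟩
    · rintro ⟨w, rfl⟩
      apply h₃
      rw [c₂, c₁, h₃0]
      exact (h (f' (e₁ w))).2 ⟨_, rfl⟩

/-- compatibility of `psi` with the differentials -/
lemma psi_comm (N : ModuleCat.{u} R) {X Y : ModuleCat.{u} R'} (d : X ⟶ Y)
    (t : TensorProduct R' ((ModuleCat.restrictScalars φ).obj N) X) :
    psi φ N Y ((((ModuleCat.restrictScalars φ).obj N) ◁ d).hom t) =
      (N ◁ (ModuleCat.extendScalars φ).map d).hom (psi φ N X t) := by
  induction t using TensorProduct.induction_on with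
  | zero => simp only [map_zero]
  | tmul l k => rfl
  | add a b ha hb => simp only [map_add, ha, hb]

/-- tensoring with a restricted module: exactness can be checked after extension of scalars -/
lemma exactAt_tens_res_iff (N : ModuleCat.{u} R) (P : Cx R') (i : ℤ) :
    ((tens ((ModuleCat.restrictScalars φ).obj N)).obj P).ExactAt i ↔
      ((tens N).obj (LDerived.extCx φ P)).ExactAt i := by
  obtain ⟨j, rfl⟩ : ∃ j, i = j + 1 := ⟨i - 1, by ring⟩
  rw [exactAt_iff_function_exact, exactAt_iff_function_exact]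
  exact exact_iff_of_bijective _ _ _ _ (psi φ N (P.X j)) (psi φ N (P.X (j + 1)))
    (psi φ N (P.X (j + 1 + 1))) (psi_bijective φ N _).2 (psi_bijective φ N _)
    (psi_bijective φ N _).1 (map_zero _)
    (fun t => psi_comm φ N (P.d j (j + 1)) t) (fun t => psi_comm φ N (P.d (j + 1) (j + 1 + 1)) t)

/-- the map `N₁ ⊗ P ⟶ N₂ ⊗ P` induced by `f : N₁ ⟶ N₂` -/
noncomputable def tensMap {N₁ N₂ : ModuleCat.{u} R'} (f : N₁ ⟶ N₂) (P : Cx R') :
    (tens N₁).obj P ⟶ (tens N₂).obj P :=
  (NatTrans.mapHomologicalComplex ((curriedTensor (ModuleCat.{u} R')).map f)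
    (ComplexShape.up ℤ)).app P

lemma tensMap_f {N₁ N₂ : ModuleCat.{u} R'} (f : N₁ ⟶ N₂) (P : Cx R') (i : ℤ) :
    (tensMap f P).f i = f ▷ P.X i := rfl

/-- vanishing of `H^i(N ⊗ P)` outside `[a, b]` -/
def TorVan (P : Cx R') (a b : ℤ) (N : ModuleCat.{u} R') : Prop :=
  ∀ i : ℤ, (i < a ∨ b < i) → ((tens N).obj P).ExactAt i

lemma torVan_of_iso {P : Cx R'} {a b : ℤ} {N₁ N₂ : ModuleCat.{u} R'} (e : N₁ ≅ N₂)
    (h : TorVan P a b N₁) : TorVan P a b N₂ := by
  intro i hi
  have e' : (tens N₁).obj P ≅ (tens N₂).obj P :=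
    HomologicalComplex.Hom.isoOfComponents (fun j => whiskerRightIso e (P.X j)) (by
      intro j k _
      exact (whisker_exchange e.hom (P.d j k)).symm)
  exact (_root_.exactAt_iff_of_quasiIsoAt e'.hom i).1 (h i hi)

lemma torVan_of_isZero {P : Cx R'} {a b : ℤ} {N : ModuleCat.{u} R'} (hN : IsZero N) :
    TorVan P a b N := by
  intro i _
  refine ShortComplex.exact_of_isZero_X₂ _ ?_
  change IsZero (N ⊗ P.X i)
  exact Functor.map_isZero (tensorRight (P.X i)) hN

/-- two out of three in the module variable, for a termwise flat complex -/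
lemma torVan_of_shortExact {P : Cx R'} (hP : TermwiseFlat P) {a b : ℤ}
    (S : ShortComplex (ModuleCat.{u} R')) (hS : S.ShortExact) (h₁ : TorVan P a b S.X₁)
    (h₃ : TorVan P a b S.X₃) : TorVan P a b S.X₂ := by
  intro i hi
  let T : ShortComplex (Cx R') := ShortComplex.mk (tensMap S.f P) (tensMap S.g P) (by
    apply HomologicalComplex.hom_ext
    intro j
    have : (S.f ▷ P.X j) ≫ (S.g ▷ P.X j) = 0 := by
      rw [← comp_whiskerRight, S.zero]
      simp
    exact this)
  have hT : T.ShortExact := by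
    apply HomologicalComplex.shortExact_of_degreewise_shortExact
    intro j
    haveI := hP j
    have hinj : Function.Injective S.f.hom := (ModuleCat.mono_iff_injective _).1 hS.mono_f
    have hsurj : Function.Surjective S.g.hom := (ModuleCat.epi_iff_surjective _).1 hS.epi_g
    have hex : Function.Exact S.f.hom S.g.hom :=
      (ShortComplex.ShortExact.moduleCat_exact_iff_function_exact S).1 hS.exact
    exact ModuleCat.shortComplex_shortExact _
      (show Function.Exact (S.f.hom.rTensor (P.X j)) (S.g.hom.rTensor (P.X j)) from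
        rTensor_exact (P.X j) hex hsurj)
      (Module.Flat.rTensor_preserves_injective_linearMap S.f.hom hinj)
      (LinearMap.rTensor_surjective (P.X j) hsurj)
  exact hT.exactAt_X₂ i (h₁ i hi) (h₃ i hi)

/-- a module killed by `ker φ`, for `φ` surjective, is restricted from the target -/
lemma exists_res_iso (hφ : Function.Surjective φ) (N' : ModuleCat.{u} R')
    (h : ∀ r ∈ RingHom.ker φ, ∀ x : N', r • x = 0) :
    ∃ N : ModuleCat.{u} R, Nonempty ((ModuleCat.restrictScalars φ).obj N ≅ N') := by
  let s : R → R' := Function.surjInv hφ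
  have hs : ∀ r, φ (s r) = r := Function.surjInv_eq hφ
  have key : ∀ (r₁ r₂ : R') (x : N'), φ r₁ = φ r₂ → r₁ • x = r₂ • x := by
    intro r₁ r₂ x hr
    have : (r₁ - r₂) • x = 0 := h _ (by rw [RingHom.mem_ker, map_sub, hr, sub_self]) x
    rwa [sub_smul, sub_eq_zero] at this
  letI : Module R N' :=
    { smul := fun r x => s r • x
      one_smul := fun x => by
        change s 1 • x = x
        rw [key (s 1) 1 x (by rw [hs, map_one]), one_smul]
      mul_smul := fun r r' x => by
        change s (r * r') • x = s r • s r' • x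
        rw [← mul_smul]
        exact key _ _ x (by rw [hs, map_mul, hs, hs])
      smul_zero := fun r => smul_zero (s r)
      smul_add := fun r x y => smul_add (s r) x y
      add_smul := fun r r' x => by
        change s (r + r') • x = s r • x + s r' • x
        rw [← add_smul]
        exact key _ _ x (by rw [hs, map_add, hs, hs])
      zero_smul := fun x => by
        change s 0 • x = 0
        rw [key (s 0) 0 x (by rw [hs, map_zero]), zero_smul] }
  refine ⟨ModuleCat.of R N', ⟨LinearEquiv.toModuleIso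
    (show ((ModuleCat.restrictScalars φ).obj (ModuleCat.of R N')) ≃ₗ[R'] N' from
      { AddEquiv.refl N' with
        map_smul' := fun r x => by
          change s (φ r) • (show N' from x) = r • (show N' from x)
          exact key _ _ _ (hs (φ r)) })⟩⟩

/-- dévissage along the `ker φ`-adic filtration -/
lemma torVan_of_pow_smul_eq_bot (hφ : Function.Surjective φ) {P : Cx R'} (hP : TermwiseFlat P)
    {a b : ℤ} (base : ∀ N : ModuleCat.{u} R, TorVan P a b ((ModuleCat.restrictScalars φ).obj N)) :
    ∀ (k : ℕ) (N' : ModuleCat.{u} R'),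
      (RingHom.ker φ) ^ k • (⊤ : Submodule R' N') = ⊥ → TorVan P a b N' := by
  intro k
  induction k with
  | zero =>
    intro N' h
    apply torVan_of_isZero
    rw [pow_zero, Ideal.one_eq_top, Submodule.top_smul] at h
    haveI : Subsingleton N' := by
      rw [← Submodule.subsingleton_iff R', ← subsingleton_iff_bot_eq_top]  -- placeholder
      exact h.symm
    exact ModuleCat.isZero_of_subsingleton _
  | succ k ih =>
    intro N' h
    let I := RingHom.ker φ
    let M₁ : Submodule R' N' := I • (⊤ : Submodule R' N')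
    let S : ShortComplex (ModuleCat.{u} R') :=
      ModuleCat.shortComplexOfCompEqZero M₁.subtype M₁.mkQ (by ext x; simp)
    have hS : S.ShortExact :=
      ModuleCat.shortComplex_shortExact S (LinearMap.exact_subtype_mkQ M₁)
        (Submodule.subtype_injective _) (Submodule.mkQ_surjective _)
    refine torVan_of_shortExact hP S hS ?_ ?_
    · apply ih
      apply (Submodule.map_injective_of_injective (Submodule.subtype_injective M₁))
      rw [Submodule.map_smul'', Submodule.map_subtype_top, Submodule.map_bot]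
      change I ^ k • (I • (⊤ : Submodule R' N')) = ⊥
      rw [← Submodule.mul_smul, ← pow_succ]
      exact h
    · obtain ⟨N, ⟨e⟩⟩ := exists_res_iso φ hφ (ModuleCat.of R' (N' ⧸ M₁)) (by
        intro r hr x
        obtain ⟨y, rfl⟩ := Submodule.mkQ_surjective M₁ x
        rw [← map_smul, Submodule.mkQ_apply, Submodule.Quotient.mk_eq_zero]
        exact Submodule.smul_mem_smul hr Submodule.mem_top)
      exact torVan_of_iso e (base N)

/-- tor amplitude descends along a surjection with nilpotent kernel -/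
theorem torAmp_of_lbaseChange (hφ : Function.Surjective φ) (hnil : IsNilpotent (RingHom.ker φ))
    [DRing.HasLBaseChange φ] (K' : Dual.D R') (a b : ℤ)
    (h : HasTorAmplitudeIn R a b ((DRing.LBaseChange φ).obj K')) :
    HasTorAmplitudeIn R' a b K' := by
  obtain ⟨P, π, hP, hπ, hKF, hflat, -⟩ :=
    KProjRes.exists_kprojective_resolution (Q.objPreimage K')
  haveI := hP
  haveI : IsIso (Q.map π) := by
    rw [isIso_Q_map_iff_quasiIso]
    exact hπ
  have e1 : toD P ≅ K' := asIso (Q.map π) ≪≫ Q.objObjPreimageIso K'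
  have e2 : (DRing.LBaseChange φ).obj K' ≅ toD (LDerived.extCx φ P) :=
    (DRing.LBaseChange φ).mapIso e1.symm ≪≫ LDerived.lbcIso φ P
  have hKF' : IsKFlat (LDerived.extCx φ P) := isKFlat_extCx φ P hKF
  have hA : ∀ (N : ModuleCat.{u} R) (i : ℤ), (i < a ∨ b < i) →
      ((tens N).obj (LDerived.extCx φ P)).ExactAt i := by
    intro N i hi
    have h1 := (torAmp_iff_ltensor _ a b).1 h N i hi
    have e3 : (DRing.LTensor R N).obj ((DRing.LBaseChange φ).obj K') ≅
        toD ((tens N).obj (LDerived.extCx φ P)) :=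
      (DRing.LTensor R N).mapIso e2 ≪≫ LTKFlat.ltIsoOfIsKFlat N _ hKF' ≪≫
        Q.mapIso (tensRightIso N _)
    exact exactAt_of_subsingleton_HD _ i (subsingleton_HD_of_iso e3 i h1)
  have base : ∀ N : ModuleCat.{u} R, TorVan P a b ((ModuleCat.restrictScalars φ).obj N) :=
    fun N i hi => (exactAt_tens_res_iff φ N P i).2 (hA N i hi)
  obtain ⟨n, hn⟩ := hnil
  have hall : ∀ N' : ModuleCat.{u} R', TorVan P a b N' := fun N' =>
    torVan_of_pow_smul_eq_bot φ hφ hflat base n N' (by
      rw [hn, Ideal.zero_eq_bot, Submodule.bot_smul])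
  rw [torAmp_iff_ltensor]
  intro N' i hi
  have e4 : (DRing.LTensor R' N').obj K' ≅ toD ((tens N').obj P) :=
    (DRing.LTensor R' N').mapIso e1.symm ≪≫ LDerived.ltIso R' N' P ≪≫
      Q.mapIso (tensRightIso N' P)
  exact subsingleton_HD_of_iso e4.symm i (subsingleton_HD_of_exactAt _ i (hall N' i hi))

end Groth.Agent.Lib.Helper84.NilTorAmp
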