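import Mathlib
import Groth.Agent.Lib.Helper80.Node.Defs

/-!
# GB for helper80's S14386: generators of `Ω[B⁄V]` for a localization `B` of `Q` (helper84)
-/

set_option autoImplicit false
universe u
open Groth.Agent.Lib.Helper80.Node

namespace Groth.Agent.Lib.Helper84.NodeGB

theorem gb {V Q B : Type u} [CommRing V] [CommRing Q] [CommRing B] [Algebra V Q] [Algebra V B]
    [Algebra Q B] [IsScalarTower V Q B] (M : Submonoid Q) [IsLocalization M B] (x y : Q)
    (hQ : Submodule.span Q {KaehlerDifferential.D V Q x, KaehlerDifferential.D V Q y} = ⊤)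
    (ω : Ω[B⁄V]) :
    ∃ a b : B, ω = a • KaehlerDifferential.D V B (algebraMap Q B x) +
      b • KaehlerDifferential.D V B (algebraMap Q B y) := by
  have htop : Submodule.span B {KaehlerDifferential.D V B (algebraMap Q B x),
      KaehlerDifferential.D V B (algebraMap Q B y)} = ⊤ := by
    rw [eq_top_iff, ← KaehlerDifferential.span_range_map_derivation_of_isLocalization V Q B M]
    apply Submodule.span_le.2
    rintro _ ⟨q, rfl⟩
    have hq : KaehlerDifferential.D V Q q ∈
        Submodule.span Q {KaehlerDifferential.D V Q x, KaehlerDifferential.D V Q y} := by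
      rw [hQ]; trivial
    obtain ⟨s, t, hst⟩ := Submodule.mem_span_pair.1 hq
    change KaehlerDifferential.map V V Q B (KaehlerDifferential.D V Q q) ∈ _
    rw [← hst, map_add, map_smul, map_smul, KaehlerDifferential.map_D, KaehlerDifferential.map_D,
      ← algebraMap_smul B s, ← algebraMap_smul B t]
    exact Submodule.mem_span_pair.2 ⟨algebraMap Q B s, algebraMap Q B t, rfl⟩
  have hω : ω ∈ Submodule.span B {KaehlerDifferential.D V B (algebraMap Q B x),
      KaehlerDifferential.D V B (algebraMap Q B y)} := by
    rw [htop]; trivial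
  obtain ⟨a, b, hab⟩ := Submodule.mem_span_pair.1 hω
  exact ⟨a, b, hab.symm⟩

end Groth.Agent.Lib.Helper84.NodeGB
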