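import Mathlib
import Groth.Agent.Lib.Helper80.Node.Defs

/-!
# KB for helper80's S14386: relations between `D x`, `D y` in `Ω[B⁄V]` for a localization `B` of `Q`
(helper84)
-/

set_option autoImplicit false
universe u
open Groth.Agent.Lib.Helper80.Node

namespace Groth.Agent.Lib.Helper84.NodeKB

theorem kb {V Q B : Type u} [CommRing V] [CommRing Q] [CommRing B] [Algebra V Q] [Algebra V B]
    [Algebra Q B] [IsScalarTower V Q B] (M : Submonoid Q) [IsLocalization M B] (x y : Q)
    (hQ : ∀ s t : Q, s • KaehlerDifferential.D V Q x + t • KaehlerDifferential.D V Q y = 0 →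
      ∃ e : Q, s = e * y ∧ t = e * x) (s t : B)
    (h : s • KaehlerDifferential.D V B (algebraMap Q B x) +
      t • KaehlerDifferential.D V B (algebraMap Q B y) = 0) :
    ∃ e : B, s = e * algebraMap Q B y ∧ t = e * algebraMap Q B x := by
  obtain ⟨⟨s0, u1⟩, hs0⟩ := IsLocalization.surj M s
  obtain ⟨⟨t0, u2⟩, ht0⟩ := IsLocalization.surj M t
  simp only at hs0 ht0
  -- common denominator
  set u : Q := (u1 : Q) * (u2 : Q) with hu
  have hs1 : s * algebraMap Q B u = algebraMap Q B (s0 * u2) := by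
    rw [hu, map_mul, map_mul, ← mul_assoc, hs0]
  have ht1 : t * algebraMap Q B u = algebraMap Q B (t0 * u1) := by
    rw [hu, map_mul, map_mul, ← ht0]; ring
  -- the relation in `Ω[Q⁄V]` after localization
  have hmap : KaehlerDifferential.map V V Q B ((s0 * u2) • KaehlerDifferential.D V Q x +
      (t0 * u1) • KaehlerDifferential.D V Q y) = 0 := by
    rw [map_add, map_smul, map_smul, KaehlerDifferential.map_D, KaehlerDifferential.map_D,
      ← algebraMap_smul B (s0 * u2), ← algebraMap_smul B (t0 * u1), ← hs1, ← ht1,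
      mul_comm s, mul_comm t, mul_smul, mul_smul, ← smul_add, h, smul_zero]
  obtain ⟨v, hv⟩ := (IsLocalizedModule.eq_zero_iff M (KaehlerDifferential.map V V Q B)).1 hmap
  have hv' : ((v : Q) * (s0 * u2)) • KaehlerDifferential.D V Q x +
      ((v : Q) * (t0 * u1)) • KaehlerDifferential.D V Q y = 0 := by
    have hv2 : (v : Q) • ((s0 * u2) • KaehlerDifferential.D V Q x +
        (t0 * u1) • KaehlerDifferential.D V Q y) = 0 := hv
    rw [smul_add, smul_smul, smul_smul] at hv2
    exact hv2
  obtain ⟨e, he1, he2⟩ := hQ _ _ hv'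
  -- invert `v * u`
  have hwM : (v : Q) * u ∈ M := M.mul_mem v.2 (M.mul_mem u1.2 u2.2)
  have hunit : IsUnit (algebraMap Q B ((v : Q) * u)) := IsLocalization.map_units B ⟨_, hwM⟩
  obtain ⟨w, hw⟩ := hunit
  have hsw : s * (w : B) = algebraMap Q B e * algebraMap Q B y := by
    rw [hw, map_mul, mul_comm (algebraMap Q B (v : Q)), ← mul_assoc, hs1, ← map_mul, ← map_mul,
      mul_comm (s0 * u2), he1]
  have htw : t * (w : B) = algebraMap Q B e * algebraMap Q B x := by
    rw [hw, map_mul, mul_comm (algebraMap Q B (v : Q)), ← mul_assoc, ht1, ← map_mul, ← map_mul,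
      mul_comm (t0 * u1), he2]
  refine ⟨algebraMap Q B e * ((w⁻¹ : Bˣ) : B), ?_, ?_⟩
  · calc s = s * (w : B) * ((w⁻¹ : Bˣ) : B) := by rw [mul_assoc, Units.mul_inv, mul_one]
      _ = algebraMap Q B e * ((w⁻¹ : Bˣ) : B) * algebraMap Q B y := by rw [hsw]; ring
  · calc t = t * (w : B) * ((w⁻¹ : Bˣ) : B) := by rw [mul_assoc, Units.mul_inv, mul_one]
      _ = algebraMap Q B e * ((w⁻¹ : Bˣ) : B) * algebraMap Q B x := by rw [htw]; ring

end Groth.Agent.Lib.Helper84.NodeKB
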