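import Groth.Prelude.Def_DRing2
import Groth.Agent.Lib.Helper84.ColimHom
import Groth.Agent.Lib.Helper84.DRingPerf
import Groth.Agent.Lib.Helper15.MQI

/-!
# `Hom(K, -[-p])` commutes with filtered colimits of modules for `K` `m`-pseudo-coherent
(`p > m` bijective, `p = m` injective)  (helper84)
-/

set_option autoImplicit false
universe u

open CategoryTheory CategoryTheory.Limits CategoryTheory.Pretriangulated DerivedCategory
open CategoryTheory.Triangulated

attribute [local instance] HasDerivedCategory.standard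

namespace Groth.Agent.Lib.Helper84.PCColim

open DRing Groth.Agent.Lib.Helper84 Groth.Agent.Lib.Helper15.MQI

variable {R : Type u} [CommRing R] {J : Type u} [SmallCategory J] [IsFiltered J]
  (F : J ⥤ ModuleCat.{u} R) (c : Cocone F) (hc : IsColimit c)

section

variable {m : ℤ} {K : Dual.D R} {E : Cx R} (α : toD E ⟶ K) (hα : IsMQI m α)

include hα

/-- for `p ≥ m`, a map `K ⟶ N[-p]` is determined by its restriction to `Q E` -/
lemma eq_zero_of_comp_eq_zero (N : ModuleCat.{u} R) (p : ℤ) (hp : m ≤ p)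
    (y : K ⟶ (DerivedCategory.singleFunctor (ModuleCat.{u} R) p).obj N) (hy : α ≫ y = 0) :
    y = 0 := by
  let t : TStructure (DerivedCategory (ModuleCat.{u} R)) := TStructure.t
  obtain ⟨C, β, γ, hT⟩ := distinguished_cocone_triangle α
  have hC : C.IsLE (m - 1) := (isMQI_iff_of_distTriang m _ hT).1 hα
  obtain ⟨q, hq⟩ := Triangle.yoneda_exact₂ _ hT y hy
  have hq0 : q = 0 := t.zero_of_isLE_of_isGE q (m - 1) p (by lia) hC inferInstance
  rw [hq, hq0]
  exact comp_zero

/-- for `p > m`, every map `Q E ⟶ N[-p]` extends to `K` -/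
lemma exists_extension (N : ModuleCat.{u} R) (p : ℤ) (hp : m < p)
    (y' : toD E ⟶ (DerivedCategory.singleFunctor (ModuleCat.{u} R) p).obj N) :
    ∃ y : K ⟶ (DerivedCategory.singleFunctor (ModuleCat.{u} R) p).obj N, α ≫ y = y' := by
  let t : TStructure (DerivedCategory (ModuleCat.{u} R)) := TStructure.t
  obtain ⟨C, β, γ, hT⟩ := distinguished_cocone_triangle α
  have hC : C.IsLE (m - 1) := (isMQI_iff_of_distTriang m _ hT).1 hα
  have hT' := inv_rot_of_distTriang _ hT
  have h0 : (Triangle.mk α β γ).invRotate.mor₁ ≫ y' = 0 := by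
    refine t.zero_of_isLE_of_isGE _ m p hp ?_ inferInstance
    exact t.isLE_shift C (m - 1) (-1) m
  obtain ⟨y, hy⟩ := Triangle.yoneda_exact₂ _ hT' y' h0
  exact ⟨y, hy.symm⟩

end

include hc

theorem surjective_of_isPseudoCoherent (m : ℤ) (K : Dual.D R) (hK : IsPseudoCoherent R m K)
    (p : ℤ) (hp : m < p)
    (x : K ⟶ (DerivedCategory.singleFunctor (ModuleCat.{u} R) p).obj c.pt) :
    ∃ (j : J) (y : K ⟶ (DerivedCategory.singleFunctor (ModuleCat.{u} R) p).obj (F.obj j)),
      y ≫ (DerivedCategory.singleFunctor (ModuleCat.{u} R) p).map (c.ι.app j) = x := by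
  obtain ⟨E, a, b, α, h1, h2, h3⟩ := hK
  have hα : IsMQI m α := h3
  haveI : E.IsKProjective := DRingPerf.isKProjective_of_finiteProjective E a b h1
    (fun i => ⟨(h2 i).1, haveI := (h2 i).2; inferInstance⟩)
  haveI := fun i => (h2 i).1
  haveI := fun i => (h2 i).2
  obtain ⟨j, y', hy'⟩ := ColimHom.exists_lift_single F c hc E (p := p) (p' := p - 1) (by lia)
    (α ≫ x)
  obtain ⟨y, hy⟩ := exists_extension α hα (F.obj j) p hp y'
  refine ⟨j, y, ?_⟩
  let g : (DerivedCategory.singleFunctor (ModuleCat.{u} R) p).obj (F.obj j) ⟶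
      (DerivedCategory.singleFunctor (ModuleCat.{u} R) p).obj c.pt :=
    (DerivedCategory.singleFunctor (ModuleCat.{u} R) p).map (c.ι.app j)
  have hy'' : y' ≫ g = α ≫ x := hy'
  have h0 : α ≫ (y ≫ g - x) = 0 := by
    rw [Preadditive.comp_sub, ← Category.assoc, hy, hy'', sub_self]
  exact sub_eq_zero.1 (eq_zero_of_comp_eq_zero α hα _ p hp.le _ h0)

theorem injective_of_isPseudoCoherent (m : ℤ) (K : Dual.D R) (hK : IsPseudoCoherent R m K)
    (p : ℤ) (hp : m ≤ p) (j : J)
    (y : K ⟶ (DerivedCategory.singleFunctor (ModuleCat.{u} R) p).obj (F.obj j))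
    (hy : y ≫ (DerivedCategory.singleFunctor (ModuleCat.{u} R) p).map (c.ι.app j) = 0) :
    ∃ (j' : J) (f : j ⟶ j'),
      y ≫ (DerivedCategory.singleFunctor (ModuleCat.{u} R) p).map (F.map f) = 0 := by
  obtain ⟨E, a, b, α, h1, h2, h3⟩ := hK
  have hα : IsMQI m α := h3
  haveI : E.IsKProjective := DRingPerf.isKProjective_of_finiteProjective E a b h1
    (fun i => ⟨(h2 i).1, haveI := (h2 i).2; inferInstance⟩)
  haveI := fun i => (h2 i).1
  haveI := fun i => (h2 i).2
  obtain ⟨j', f, hf⟩ := ColimHom.exists_map_eq_zero_single F c hc E (p := p) (p' := p - 1)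
    (p'' := p + 1) (by lia) rfl j (α ≫ y) (by rw [Category.assoc, hy, comp_zero])
  refine ⟨j', f, ?_⟩
  exact eq_zero_of_comp_eq_zero α hα _ p hp _ (by rw [← Category.assoc]; exact hf)

end Groth.Agent.Lib.Helper84.PCColim
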