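import Groth.Agent.Lib.Helper84.PerfSummand
import Groth.Agent.Lib.Helper84.Devissage
import Groth.Agent.Lib.Helper84.TrimFP
import Groth.Agent.Lib.Helper15.PseudoCohRes
import Groth.Agent.S6940
import Groth.Agent.S2066

/-!
# Restriction of scalars along a perfect ring map preserves perfect complexes (helper84)
-/

set_option autoImplicit false
universe u

open CategoryTheory CategoryTheory.Limits CategoryTheory.Pretriangulated DerivedCategory
open DRing

attribute [local instance] HasDerivedCategory.standard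

namespace Groth.Agent.Lib.Helper84.PerfRes

open Groth.Agent.Lib.Helper15 Groth.Agent.Lib.Helper15.PseudoCohRes

variable {A B : Type u} [CommRing A] [CommRing B] (φ : A →+* B)

/-- the restriction to `A` is perfect -/
def resPerf : ObjectProperty (Dual.D B) := fun K => IsPerfect A ((restrictD φ).obj K)

instance : (resPerf φ).IsClosedUnderIsomorphisms :=
  ⟨fun e h => DRingPerf.isPerfect_of_iso ((restrictD φ).mapIso e) h⟩

lemma resPerf_of_isZero (K : Dual.D B) (hK : IsZero K) : resPerf φ K :=
  DRingPerf.isPerfect_of_isZero _ (Functor.map_isZero _ hK)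

lemma resPerf_obj₂ (T : Triangle (Dual.D B)) (hT : T ∈ distTriang _) (h₁ : resPerf φ T.obj₁)
    (h₃ : resPerf φ T.obj₃) : resPerf φ T.obj₂ :=
  DRingPerf.isPerfect_obj₂ _ ((restrictD φ).map_distinguished _ hT) h₁ h₃

lemma resPerf_shift (K : Dual.D B) (h : resPerf φ K) (n : ℤ) : resPerf φ (K⟦n⟧) :=
  DRingPerf.isPerfect_of_iso (((restrictD φ).commShiftIso n).app K).symm
    (DRingPerf.isPerfect_shift _ n h)

/-- `M[0]` restricted to `A` is perfect -/
def ResPerfMod (M : ModuleCat.{u} B) : Prop :=
  resPerf φ ((singleFunctor (ModuleCat.{u} B) 0).obj M)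

lemma resPerfMod_of_iso {M N : ModuleCat.{u} B} (e : M ≅ N) (h : ResPerfMod φ M) :
    ResPerfMod φ N :=
  (resPerf φ).prop_of_iso ((singleFunctor (ModuleCat.{u} B) 0).mapIso e) h

lemma resPerfMod_of_isZero (M : ModuleCat.{u} B) (hM : IsZero M) : ResPerfMod φ M :=
  resPerf_of_isZero φ _ (Functor.map_isZero _ hM)

lemma resPerfMod_of_shortExact (S : ShortComplex (ModuleCat.{u} B)) (hS : S.ShortExact)
    (h₁ : ResPerfMod φ S.X₁) (h₃ : ResPerfMod φ S.X₃) : ResPerfMod φ S.X₂ :=
  resPerf_obj₂ φ _ hS.singleTriangle_distinguished h₁ h₃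

lemma resPerfMod_prod (N₁ N₂ : Type u) [AddCommGroup N₁] [Module B N₁] [AddCommGroup N₂]
    [Module B N₂] (h₁ : ResPerfMod φ (ModuleCat.of B N₁)) (h₂ : ResPerfMod φ (ModuleCat.of B N₂)) :
    ResPerfMod φ (ModuleCat.of B (N₁ × N₂)) := by
  let S : ShortComplex (ModuleCat.{u} B) :=
    ModuleCat.shortComplexOfCompEqZero (LinearMap.inl B N₁ N₂) (LinearMap.snd B N₁ N₂)
      (by ext x; simp)
  have hS : S.ShortExact :=
    ModuleCat.shortComplex_shortExact S Function.Exact.inl_snd LinearMap.inl_injective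
      LinearMap.snd_surjective
  exact resPerfMod_of_shortExact φ S hS h₁ h₂

lemma resPerfMod_pi (h : ResPerfMod φ (ModuleCat.of B B)) (r : ℕ) :
    ResPerfMod φ (ModuleCat.of B (Fin r → B)) := by
  induction r with
  | zero =>
    apply resPerfMod_of_isZero
    have : Subsingleton (ModuleCat.of B (Fin 0 → B)) :=
      inferInstanceAs (Subsingleton (Fin 0 → B))
    exact ModuleCat.isZero_of_subsingleton _
  | succ r ih =>
    have h' := resPerfMod_prod φ B (Fin r → B) h ih
    exact resPerfMod_of_iso φ (Fin.consLinearEquiv B (fun _ : Fin (r + 1) => B)).toModuleIso h'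

/-- a finite projective module is a retract of a finite free module -/
lemma exists_retract_of_finiteProjective (M : ModuleCat.{u} B)
    (hM : Module.Finite B M ∧ Module.Projective B M) :
    ∃ (r : ℕ) (ι : M ⟶ ModuleCat.of B (Fin r → B)) (ρ : ModuleCat.of B (Fin r → B) ⟶ M),
      ι ≫ ρ = 𝟙 M := by
  obtain ⟨h1, h2⟩ := hM
  obtain ⟨r, f, hf⟩ := Module.Finite.exists_fin' B M
  obtain ⟨s, hs⟩ := Module.projective_lifting_property f LinearMap.id hf
  refine ⟨r, ModuleCat.ofHom s, ModuleCat.ofHom f, ?_⟩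
  ext x
  exact LinearMap.congr_fun hs x

/-- finite projective modules over `B` are perfect over `A` when `B` is -/
lemma resPerfMod_of_finiteProjective (h : ResPerfMod φ (ModuleCat.of B B)) (M : ModuleCat.{u} B)
    (hM : Module.Finite B M ∧ Module.Projective B M) : ResPerfMod φ M := by
  obtain ⟨r, ι, ρ, hιρ⟩ := exists_retract_of_finiteProjective M hM
  have hF := resPerfMod_pi φ h r
  -- pseudo-coherence of the restriction of `M[0]`
  have hBpc : ResPC φ (ModuleCat.of B B) := by
    obtain ⟨E, a, b, h1, h2, ⟨e⟩⟩ := h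
    exact (Groth.Agent.S2066.result _).2.2 ⟨E, b, fun i hi => h1 i (Or.inr hi), h2, ⟨e⟩⟩
  have hMpc : ∀ m : ℤ, IsPseudoCoherent B m ((singleFunctor (ModuleCat.{u} B) 0).obj M) := by
    refine (Groth.Agent.S2066.result _).2.2
      ⟨(CochainComplex.singleFunctor (ModuleCat.{u} B) 0).obj M, 0, ?_, ?_,
        ⟨((DerivedCategory.singleFunctorIsoCompQ (ModuleCat.{u} B) 0).app M).symm⟩⟩
    · intro j hj
      exact HomologicalComplex.isZero_single_obj_X (ComplexShape.up ℤ) 0 M j (by lia)
    · intro j
      by_cases hj : j = 0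
      · subst hj
        exact DRingPerf.finiteProjective_of_iso
          (HomologicalComplex.singleObjXSelf (ComplexShape.up ℤ) 0 M).symm hM
      · exact TrimFP.finiteProjective_of_isZero
          (HomologicalComplex.isZero_single_obj_X (ComplexShape.up ℤ) 0 M j hj)
  have hpc : ∀ m : ℤ, IsPseudoCoherent A m
      ((restrictD φ).obj ((singleFunctor (ModuleCat.{u} B) 0).obj M)) :=
    fun m => restrictD_of_pcAlgebra φ hBpc (hMpc m)
  refine PerfSummand.isPerfect_of_retract _ _
    ((restrictD φ).map ((singleFunctor (ModuleCat.{u} B) 0).map ι))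
    ((restrictD φ).map ((singleFunctor (ModuleCat.{u} B) 0).map ρ)) ?_ hF hpc
  rw [← Functor.map_comp, ← Functor.map_comp, hιρ, CategoryTheory.Functor.map_id,
    CategoryTheory.Functor.map_id]

lemma resPerf_single_of_finiteProjective (h : ResPerfMod φ (ModuleCat.of B B))
    (M : ModuleCat.{u} B) (hM : Module.Finite B M ∧ Module.Projective B M) (i : ℤ) :
    resPerf φ ((singleFunctor (ModuleCat.{u} B) i).obj M) :=
  (resPerf φ).prop_of_iso (((singleFunctors (ModuleCat.{u} B)).shiftIso (-i) i 0 (by lia)).app M)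
    (resPerf_shift φ _ (resPerfMod_of_finiteProjective φ h M hM) (-i))

/-- Stacks 066V-type: if `B` is perfect as an `A`-module, restriction of scalars preserves perfect
objects -/
theorem isPerfect_restrictD (h : ResPerfMod φ (ModuleCat.of B B)) {K : Dual.D B}
    (hK : IsPerfect B K) : IsPerfect A ((restrictD φ).obj K) := by
  obtain ⟨E, a, b, h1, h2, ⟨e⟩⟩ := hK
  have hE : resPerf φ (toD E) :=
    Devissage.prop_of_bounded_complex (resPerf φ) (resPerf_of_isZero φ) (resPerf_obj₂ φ) E a b h1
      (fun i => resPerf_single_of_finiteProjective φ h (E.X i) (h2 i) i)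
  exact (resPerf φ).prop_of_iso e hE

end Groth.Agent.Lib.Helper84.PerfRes
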