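import Mathlib

/-!
# Algebraic Poincaré lemma helpers (helper84)

General Cartan homotopy formula on the exterior algebra of Kähler differentials with an abstract
differential `d`.
-/

set_option autoImplicit false

namespace Groth.Agent.Lib.Helper84.Poincare

open ExteriorAlgebra KaehlerDifferential

section General

variable {R A : Type*} [CommRing R] [CommRing A] [Algebra R A]

/-- contraction with the linear form attached to a derivation `E`. -/
noncomputable def cI (E : Derivation R A A) :
    ExteriorAlgebra A (KaehlerDifferential R A) →ₗ[A] ExteriorAlgebra A (KaehlerDifferential R A) :=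
  CliffordAlgebra.contractLeft (Q := (0 : QuadraticForm A (KaehlerDifferential R A)))
    E.liftKaehlerDifferential

variable (E : Derivation R A A)

lemma cI_ι_mul (w : KaehlerDifferential R A) (b : ExteriorAlgebra A (KaehlerDifferential R A)) :
    cI E (ExteriorAlgebra.ι A w * b) = E.liftKaehlerDifferential w • b - ExteriorAlgebra.ι A w * cI E b :=
  CliffordAlgebra.contractLeft_ι_mul _ _ _

lemma cI_algebraMap_mul (a : A) (b : ExteriorAlgebra A (KaehlerDifferential R A)) :
    cI E (algebraMap A _ a * b) = algebraMap A _ a * cI E b :=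
  CliffordAlgebra.contractLeft_algebraMap_mul _ _ _

lemma cI_algebraMap (a : A) :
    cI E (algebraMap A (ExteriorAlgebra A (KaehlerDifferential R A)) a) = 0 :=
  CliffordAlgebra.contractLeft_algebraMap _ _ _

lemma cI_one : cI E (1 : ExteriorAlgebra A (KaehlerDifferential R A)) = 0 :=
  CliffordAlgebra.contractLeft_one _ _

/-- contraction lowers the exterior degree. -/
lemma cI_mem (q : ℕ) (x : ExteriorAlgebra A (KaehlerDifferential R A))
    (hx : x ∈ ExteriorAlgebra.exteriorPower A q (KaehlerDifferential R A)) :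
    cI E x ∈ ExteriorAlgebra.exteriorPower A (q - 1) (KaehlerDifferential R A) ∧
      (q = 0 → cI E x = 0) := by
  induction hx using Submodule.pow_induction_on_left' with
  | algebraMap r => simp [cI_algebraMap]
  | add x y i hx hy ihx ihy =>
    refine ⟨?_, fun h => ?_⟩
    · rw [map_add]; exact add_mem ihx.1 ihy.1
    · rw [map_add, ihx.2 h, ihy.2 h, add_zero]
  | mem_mul m hm i x hx ih =>
    obtain ⟨w, rfl⟩ := hm
    refine ⟨?_, fun h => absurd h (Nat.succ_ne_zero _)⟩
    rw [cI_ι_mul]
    refine sub_mem (Submodule.smul_mem _ _ hx) ?_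
    rcases i with _ | i
    · rw [ih.2 rfl, mul_zero]; exact zero_mem _
    · have := ih.1
      simp only [Nat.add_sub_cancel, Nat.succ_eq_add_one] at this ⊢
      show _ ∈ LinearMap.range (ExteriorAlgebra.ι A) ^ (i + 1)
      rw [pow_succ']
      exact Submodule.mul_mem_mul (LinearMap.mem_range_self _ _) this

lemma algebraMap_mem_zero (a : A) :
    algebraMap A (ExteriorAlgebra A (KaehlerDifferential R A)) a ∈
      ExteriorAlgebra.exteriorPower A 0 (KaehlerDifferential R A) := by
  show _ ∈ LinearMap.range (ExteriorAlgebra.ι A) ^ 0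
  rw [pow_zero]; exact Submodule.algebraMap_mem a

lemma ι_mem_one (w : KaehlerDifferential R A) :
    ExteriorAlgebra.ι A w ∈ ExteriorAlgebra.exteriorPower A 1 (KaehlerDifferential R A) := by
  show _ ∈ LinearMap.range (ExteriorAlgebra.ι A) ^ 1
  rw [pow_one]; exact LinearMap.mem_range_self _ _

variable (d : ExteriorAlgebra A (KaehlerDifferential R A) →ₗ[R]
  ExteriorAlgebra A (KaehlerDifferential R A))

/-- The Lie derivative `d ∘ ι_E + ι_E ∘ d`. -/
noncomputable def lie : ExteriorAlgebra A (KaehlerDifferential R A) →ₗ[R]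
    ExteriorAlgebra A (KaehlerDifferential R A) :=
  d ∘ₗ (cI E).restrictScalars R + (cI E).restrictScalars R ∘ₗ d

lemma lie_apply (x : ExteriorAlgebra A (KaehlerDifferential R A)) :
    lie E d x = d (cI E x) + cI E (d x) := rfl

variable (h0 : ∀ a : A, d (algebraMap A _ a) = ExteriorAlgebra.ι A (KaehlerDifferential.D R A a))
  (hder : ∀ (p : ℕ) (ω η : ExteriorAlgebra A (KaehlerDifferential R A)),
      ω ∈ ExteriorAlgebra.exteriorPower A p (KaehlerDifferential R A) →
        d (ω * η) = d ω * η + (-1) ^ p * ω * d η)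
  (hdd : ∀ ω, d (d ω) = 0)

include hdd in
lemma lie_comm (x : ExteriorAlgebra A (KaehlerDifferential R A)) :
    lie E d (d x) = d (lie E d x) := by
  simp only [lie_apply, map_add, hdd, map_zero, add_zero, zero_add]

include h0 hder in
lemma d_algebraMap_mul (a : A) (b : ExteriorAlgebra A (KaehlerDifferential R A)) :
    d (algebraMap A _ a * b) =
      ExteriorAlgebra.ι A (KaehlerDifferential.D R A a) * b + algebraMap A _ a * d b := by
  rw [hder 0 _ _ (algebraMap_mem_zero a), h0, pow_zero, one_mul]

include h0 hder hdd in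
lemma d_ι_D_mul (a : A) (b : ExteriorAlgebra A (KaehlerDifferential R A)) :
    d (ExteriorAlgebra.ι A (KaehlerDifferential.D R A a) * b) =
      - (ExteriorAlgebra.ι A (KaehlerDifferential.D R A a) * d b) := by
  rw [hder 1 _ _ (ι_mem_one _), ← h0, hdd, zero_mul, zero_add, pow_one, neg_one_mul, neg_mul]

include h0 hder in
lemma lie_algebraMap_mul (a : A) (b : ExteriorAlgebra A (KaehlerDifferential R A)) :
    lie E d (algebraMap A _ a * b) = algebraMap A _ (E a) * b + algebraMap A _ a * lie E d b := by
  simp only [lie_apply, d_algebraMap_mul d h0 hder, cI_algebraMap_mul, map_add, cI_ι_mul,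
    Derivation.liftKaehlerDifferential_comp_D, Algebra.smul_def]
  noncomm_ring

include h0 hder hdd in
lemma lie_ι_D_mul (a : A) (b : ExteriorAlgebra A (KaehlerDifferential R A)) :
    lie E d (ExteriorAlgebra.ι A (KaehlerDifferential.D R A a) * b) =
      ExteriorAlgebra.ι A (KaehlerDifferential.D R A (E a)) * b +
        ExteriorAlgebra.ι A (KaehlerDifferential.D R A a) * lie E d b := by
  simp only [lie_apply, d_ι_D_mul d h0 hder hdd, cI_ι_mul, map_neg, map_sub,
    Derivation.liftKaehlerDifferential_comp_D, Algebra.smul_def, d_algebraMap_mul d h0 hder]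
  noncomm_ring

include h0 in
lemma lie_one : lie E d 1 = 0 := by
  rw [lie_apply, cI_one, map_zero, zero_add, ← map_one (algebraMap A _), h0,
    Derivation.map_one_eq_zero, map_zero, map_zero]

end General

section MvPoly

open MvPolynomial

variable {k : Type*} [Field k] {n : ℕ}

/-- The Euler derivation `∑ xᵢ ∂ᵢ`. -/
noncomputable def euler : Derivation k (MvPolynomial (Fin n) k) (MvPolynomial (Fin n) k) :=
  MvPolynomial.mkDerivation k (fun i => MvPolynomial.X i)

lemma euler_X (i : Fin n) : euler (X i : MvPolynomial (Fin n) k) = X i :=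
  mkDerivation_X _ _ _

lemma euler_eq (a : MvPolynomial (Fin n) k) : euler a = ∑ i, X i * pderiv i a := by
  have h : (euler : Derivation k (MvPolynomial (Fin n) k) (MvPolynomial (Fin n) k)) =
      ∑ i, (X i : MvPolynomial (Fin n) k) • (pderiv i : Derivation k _ _) := by
    apply MvPolynomial.derivation_ext; intro j
    rw [euler, mkDerivation_X, ← Derivation.coeFnAddMonoidHom_apply, map_sum]
    simp [Finset.sum_apply, Pi.single_apply]
  rw [h, ← Derivation.coeFnAddMonoidHom_apply, map_sum]
  simp [Finset.sum_apply]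

lemma euler_monomial (s : Fin n →₀ ℕ) :
    euler (monomial s (1:k)) = (s.degree : k) • monomial s 1 := by
  rw [euler_eq, (isHomogeneous_monomial (1:k) rfl).sum_X_mul_pderiv]
  simp [Nat.cast_smul_eq_nsmul]

/-- `dxᵢ` in the exterior algebra. -/
noncomputable def xi (i : Fin n) :
    ExteriorAlgebra (MvPolynomial (Fin n) k) (KaehlerDifferential k (MvPolynomial (Fin n) k)) :=
  ExteriorAlgebra.ι _ (KaehlerDifferential.D k _ (X i))

/-- The monomial form `x^α dx_{l₀} ∧ … `. -/
noncomputable def mform (α : Fin n →₀ ℕ) (l : List (Fin n)) :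
    ExteriorAlgebra (MvPolynomial (Fin n) k) (KaehlerDifferential k (MvPolynomial (Fin n) k)) :=
  algebraMap (MvPolynomial (Fin n) k) _ (monomial α 1) * (l.map xi).prod

lemma alg_smul (c : k) (a : MvPolynomial (Fin n) k) :
    algebraMap (MvPolynomial (Fin n) k)
      (ExteriorAlgebra (MvPolynomial (Fin n) k) (KaehlerDifferential k (MvPolynomial (Fin n) k)))
      (c • a) = c • algebraMap (MvPolynomial (Fin n) k) _ a := by
  rw [Algebra.algebraMap_eq_smul_one, Algebra.algebraMap_eq_smul_one, smul_assoc]

lemma prod_xi_mem (l : List (Fin n)) :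
    (l.map (xi (k := k))).prod ∈ ExteriorAlgebra.exteriorPower (MvPolynomial (Fin n) k) l.length
      (KaehlerDifferential k (MvPolynomial (Fin n) k)) := by
  induction l with
  | nil =>
    have := algebraMap_mem_zero (R := k) (A := MvPolynomial (Fin n) k) 1
    rwa [map_one] at this
  | cons i l ih =>
    rw [List.map_cons, List.prod_cons, List.length_cons]
    show _ ∈ LinearMap.range (ExteriorAlgebra.ι _) ^ (l.length + 1)
    rw [pow_succ']
    exact Submodule.mul_mem_mul (LinearMap.mem_range_self _ _) ih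

lemma mform_mem (α : Fin n →₀ ℕ) (l : List (Fin n)) :
    mform (k := k) α l ∈ ExteriorAlgebra.exteriorPower (MvPolynomial (Fin n) k) l.length
      (KaehlerDifferential k (MvPolynomial (Fin n) k)) := by
  rw [mform, ← Algebra.smul_def]
  exact Submodule.smul_mem _ _ (prod_xi_mem l)

/-- `k`-span of monomial `q`-forms. -/
noncomputable def S (k : Type*) [Field k] (n q : ℕ) : Submodule k
    (ExteriorAlgebra (MvPolynomial (Fin n) k) (KaehlerDifferential k (MvPolynomial (Fin n) k))) :=
  Submodule.span k {x | ∃ (α : Fin n →₀ ℕ) (l : List (Fin n)), l.length = q ∧ x = mform α l}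

lemma S_alg_mul (q : ℕ) (a : MvPolynomial (Fin n) k)
    (x : ExteriorAlgebra (MvPolynomial (Fin n) k) (KaehlerDifferential k (MvPolynomial (Fin n) k)))
    (hx : x ∈ S k n q) : algebraMap _ _ a * x ∈ S k n q := by
  induction a using MvPolynomial.induction_on' with
  | monomial β c =>
    refine Submodule.span_induction ?_ ?_ ?_ ?_ hx
    · rintro _ ⟨α, l, hl, rfl⟩
      have : algebraMap (MvPolynomial (Fin n) k) _ (monomial β c) * mform (k := k) α l =
          c • mform (k := k) (β + α) l := by
        have h2 : (monomial (β + α) c : MvPolynomial (Fin n) k) = c • monomial (β + α) 1 := by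
          rw [smul_monomial, smul_eq_mul, mul_one]
        rw [mform, mform, ← mul_assoc, ← map_mul, monomial_mul, mul_one, h2, alg_smul,
          smul_mul_assoc]
      rw [this]
      exact Submodule.smul_mem _ _ (Submodule.subset_span ⟨_, _, hl, rfl⟩)
    · rw [mul_zero]; exact zero_mem _
    · intro x y _ _ hx hy; rw [mul_add]; exact add_mem hx hy
    · intro c x _ hx; rw [mul_smul_comm]; exact Submodule.smul_mem _ _ hx
  | add a b ha hb => rw [map_add, add_mul]; exact add_mem ha hb

lemma S_xi_mul (q : ℕ) (i : Fin n)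
    (x : ExteriorAlgebra (MvPolynomial (Fin n) k) (KaehlerDifferential k (MvPolynomial (Fin n) k)))
    (hx : x ∈ S k n q) : xi i * x ∈ S k n (q + 1) := by
  refine Submodule.span_induction ?_ ?_ ?_ ?_ hx
  · rintro _ ⟨α, l, hl, rfl⟩
    refine Submodule.subset_span ⟨α, i :: l, by simp [hl], ?_⟩
    rw [mform, mform, List.map_cons, List.prod_cons, ← mul_assoc, ← Algebra.commutes, mul_assoc]
  · rw [mul_zero]; exact zero_mem _
  · intro x y _ _ hx hy; rw [mul_add]; exact add_mem hx hy
  · intro c x _ hx; rw [mul_smul_comm]; exact Submodule.smul_mem _ _ hx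

lemma S_ι_mul (q : ℕ) (w : KaehlerDifferential k (MvPolynomial (Fin n) k))
    (x : ExteriorAlgebra (MvPolynomial (Fin n) k) (KaehlerDifferential k (MvPolynomial (Fin n) k)))
    (hx : x ∈ S k n q) : ExteriorAlgebra.ι _ w * x ∈ S k n (q + 1) := by
  have hw : w ∈ Submodule.span (MvPolynomial (Fin n) k)
      (Set.range (KaehlerDifferential.mvPolynomialBasis k (Fin n))) := by
    rw [(KaehlerDifferential.mvPolynomialBasis k (Fin n)).span_eq]; trivial
  refine Submodule.span_induction (p := fun w _ => ExteriorAlgebra.ι _ w * x ∈ S k n (q + 1))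
    ?_ ?_ ?_ ?_ hw
  · rintro _ ⟨i, rfl⟩
    rw [KaehlerDifferential.mvPolynomialBasis_apply]
    exact S_xi_mul q i x hx
  · rw [map_zero, zero_mul]; exact zero_mem _
  · intro x y _ _ hx hy; rw [map_add, add_mul]; exact add_mem hx hy
  · intro a w _ hw
    rw [map_smul, Algebra.smul_def, mul_assoc]
    exact S_alg_mul _ a _ hw

lemma exteriorPower_le_S (q : ℕ)
    (x : ExteriorAlgebra (MvPolynomial (Fin n) k) (KaehlerDifferential k (MvPolynomial (Fin n) k)))
    (hx : x ∈ ExteriorAlgebra.exteriorPower (MvPolynomial (Fin n) k) q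
      (KaehlerDifferential k (MvPolynomial (Fin n) k))) : x ∈ S k n q := by
  induction hx using Submodule.pow_induction_on_left' with
  | algebraMap r =>
    have h1 : (1 : ExteriorAlgebra (MvPolynomial (Fin n) k)
        (KaehlerDifferential k (MvPolynomial (Fin n) k))) ∈ S k n 0 := by
      refine Submodule.subset_span ⟨0, [], rfl, ?_⟩
      simp [mform]
    have := S_alg_mul 0 r _ h1
    rwa [mul_one] at this
  | add x y i hx hy ihx ihy => exact add_mem ihx ihy
  | mem_mul m hm i x hx ih =>
    obtain ⟨w, rfl⟩ := hm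
    exact S_ι_mul i w x ih

end MvPoly

section Final

open MvPolynomial

variable {k : Type*} [Field k] [CharZero k] {n : ℕ}
  (d : ExteriorAlgebra (MvPolynomial (Fin n) k) (KaehlerDifferential k (MvPolynomial (Fin n) k)) →ₗ[k]
    ExteriorAlgebra (MvPolynomial (Fin n) k) (KaehlerDifferential k (MvPolynomial (Fin n) k)))
  (h0 : ∀ a : MvPolynomial (Fin n) k, d (algebraMap (MvPolynomial (Fin n) k) _ a) =
    ExteriorAlgebra.ι (MvPolynomial (Fin n) k) (KaehlerDifferential.D k (MvPolynomial (Fin n) k) a))
  (hdeg : ∀ (p : ℕ) (ω : ExteriorAlgebra (MvPolynomial (Fin n) k)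
      (KaehlerDifferential k (MvPolynomial (Fin n) k))),
      ω ∈ ExteriorAlgebra.exteriorPower (MvPolynomial (Fin n) k) p
        (KaehlerDifferential k (MvPolynomial (Fin n) k)) →
        d ω ∈ ExteriorAlgebra.exteriorPower (MvPolynomial (Fin n) k) (p + 1)
          (KaehlerDifferential k (MvPolynomial (Fin n) k)))
  (hder : ∀ (p : ℕ) (ω η : ExteriorAlgebra (MvPolynomial (Fin n) k)
      (KaehlerDifferential k (MvPolynomial (Fin n) k))),
      ω ∈ ExteriorAlgebra.exteriorPower (MvPolynomial (Fin n) k) p
        (KaehlerDifferential k (MvPolynomial (Fin n) k)) →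
        d (ω * η) = d ω * η + (-1) ^ p * ω * d η)
  (hdd : ∀ ω, d (d ω) = 0)

include h0 hder hdd in
lemma lie_prod_xi (l : List (Fin n)) :
    lie euler d (l.map xi).prod = (l.length : k) • (l.map (xi (k := k))).prod := by
  induction l with
  | nil => simp [lie_one euler d h0]
  | cons i l ih =>
    rw [List.map_cons, List.prod_cons, xi, lie_ι_D_mul euler d h0 hder hdd, euler_X, ih,
      mul_smul_comm, List.length_cons, Nat.cast_succ, add_smul, one_smul, add_comm]

include h0 hder hdd in
lemma lie_mform (α : Fin n →₀ ℕ) (l : List (Fin n)) :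
    lie euler d (mform α l) = ((α.degree + l.length : ℕ) : k) • mform (k := k) α l := by
  rw [mform, lie_algebraMap_mul euler d h0 hder, euler_monomial, alg_smul,
    lie_prod_xi d h0 hder hdd, smul_mul_assoc, mul_smul_comm, ← add_smul, Nat.cast_add]

include h0 hder hdd in
lemma S_le_iSup (q : ℕ) (hq : 0 < q) :
    S k n q ≤ ⨆ (μ : k) (_ : μ ≠ 0), Module.End.eigenspace (lie euler d) μ := by
  refine Submodule.span_le.2 ?_
  rintro _ ⟨α, l, hl, rfl⟩
  have hc : ((α.degree + l.length : ℕ) : k) ≠ 0 := Nat.cast_ne_zero.2 (by omega)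
  exact Submodule.mem_iSup_of_mem _ (Submodule.mem_iSup_of_mem hc
    (Module.End.mem_eigenspace_iff.2 (lie_mform d h0 hder hdd α l)))

include h0 hder hdd in
lemma lie_injOn (q : ℕ) (hq : 0 < q)
    (η : ExteriorAlgebra (MvPolynomial (Fin n) k) (KaehlerDifferential k (MvPolynomial (Fin n) k)))
    (hη : η ∈ ExteriorAlgebra.exteriorPower (MvPolynomial (Fin n) k) q
      (KaehlerDifferential k (MvPolynomial (Fin n) k)))
    (h : lie euler d η = 0) : η = 0 := by
  have h1 := S_le_iSup d h0 hder hdd q hq (exteriorPower_le_S q η hη)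
  have h2 : η ∈ Module.End.eigenspace (lie euler d) 0 := by
    rw [Module.End.mem_eigenspace_iff, h, zero_smul]
  exact Submodule.disjoint_def.1 (Module.End.eigenspaces_iSupIndep (lie euler d) 0) η h2 h1

include h0 hder hdd in
lemma lie_surjOn (q : ℕ) (hq : 0 < q)
    (x : ExteriorAlgebra (MvPolynomial (Fin n) k) (KaehlerDifferential k (MvPolynomial (Fin n) k)))
    (hx : x ∈ ExteriorAlgebra.exteriorPower (MvPolynomial (Fin n) k) q
      (KaehlerDifferential k (MvPolynomial (Fin n) k))) :
    ∃ y ∈ ExteriorAlgebra.exteriorPower (MvPolynomial (Fin n) k) q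
      (KaehlerDifferential k (MvPolynomial (Fin n) k)), lie euler d y = x := by
  refine Submodule.span_induction ?_ ?_ ?_ ?_ (exteriorPower_le_S q x hx)
  · rintro _ ⟨α, l, hl, rfl⟩
    have hc : ((α.degree + l.length : ℕ) : k) ≠ 0 := Nat.cast_ne_zero.2 (by omega)
    refine ⟨((α.degree + l.length : ℕ) : k)⁻¹ • mform α l,
      Submodule.smul_of_tower_mem _ _ (hl ▸ mform_mem α l), ?_⟩
    rw [map_smul, lie_mform d h0 hder hdd, smul_smul, inv_mul_cancel₀ hc, one_smul]
  · exact ⟨0, zero_mem _, map_zero _⟩
  · rintro x y _ _ ⟨x', hx', rfl⟩ ⟨y', hy', rfl⟩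
    exact ⟨x' + y', add_mem hx' hy', map_add _ _ _⟩
  · rintro c x _ ⟨x', hx', rfl⟩
    exact ⟨c • x', Submodule.smul_of_tower_mem _ _ hx', map_smul _ _ _⟩

include h0 hdeg hder hdd in
/-- The algebraic Poincaré lemma in positive degrees. -/
theorem poincare (p : ℕ)
    (ω : ExteriorAlgebra (MvPolynomial (Fin n) k) (KaehlerDifferential k (MvPolynomial (Fin n) k)))
    (hω : ω ∈ ExteriorAlgebra.exteriorPower (MvPolynomial (Fin n) k) (p + 1)
      (KaehlerDifferential k (MvPolynomial (Fin n) k)))
    (hdω : d ω = 0) :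
    ∃ θ ∈ ExteriorAlgebra.exteriorPower (MvPolynomial (Fin n) k) p
      (KaehlerDifferential k (MvPolynomial (Fin n) k)), d θ = ω := by
  obtain ⟨ω', hω', hL⟩ := lie_surjOn d h0 hder hdd (p + 1) (Nat.succ_pos _) ω hω
  have hd' : d ω' = 0 := by
    apply lie_injOn d h0 hder hdd (p + 1 + 1) (Nat.succ_pos _) _ (hdeg _ _ hω')
    rw [lie_comm euler d hdd, hL, hdω]
  refine ⟨cI euler ω', by simpa using (cI_mem euler (p + 1) ω' hω').1, ?_⟩
  rw [← hL, lie_apply, hd', map_zero, add_zero]

include h0 in
/-- Closed functions are constants. -/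
theorem closed_const (a : MvPolynomial (Fin n) k)
    (ha : d (algebraMap (MvPolynomial (Fin n) k) _ a) = 0) : ∃ c : k, a = MvPolynomial.C c := by
  rw [h0] at ha
  have hD : KaehlerDifferential.D k (MvPolynomial (Fin n) k) a = 0 := by
    apply (ExteriorAlgebra.ι_leftInverse (R := MvPolynomial (Fin n) k)
      (M := KaehlerDifferential k (MvPolynomial (Fin n) k))).injective
    rw [ha, map_zero]
  have hp : ∀ i, pderiv i a = 0 := by
    intro i
    rw [← KaehlerDifferential.mvPolynomialBasis_repr_apply, hD, map_zero, Finsupp.zero_apply]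
  refine ⟨coeff 0 a, ?_⟩
  ext s
  rw [coeff_C]
  split_ifs with hs
  · rw [hs]
  · obtain ⟨i, hi⟩ : ∃ i, s i ≠ 0 := by
      by_contra hcon
      exact hs (Finsupp.ext fun i => not_not.1 (fun h => hcon ⟨i, fun h' => h (by simp [h'])⟩))
    have h1 := coeff_pderiv a (s - Finsupp.single i 1) (i := i)
    rw [hp i, coeff_zero, Finsupp.sub_add_single_one_cancel hi] at h1
    rcases mul_eq_zero.1 h1.symm with h2 | h2
    · exact h2
    · exact absurd h2 (Nat.cast_add_one_ne_zero _)

end Final

end Groth.Agent.Lib.Helper84.Poincare
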