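import Mathlib
import Groth.Prelude.Def_DeRham
import Groth.Agent.Lib.Helper84.Poincare

/-!
# Gluing a family of de Rham differentials into a global endomorphism of the exterior algebra,
and the Cartan formula with weaker hypotheses (helper84)
-/

set_option autoImplicit false

namespace Groth.Agent.Lib.Helper84.Poincare

open ExteriorAlgebra KaehlerDifferential

section General'

variable {R A : Type*} [CommRing R] [CommRing A] [Algebra R A]
variable (E : Derivation R A A)
variable (d : ExteriorAlgebra A (KaehlerDifferential R A) →ₗ[R]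
  ExteriorAlgebra A (KaehlerDifferential R A))
variable
  (hA : ∀ (a : A) (b : ExteriorAlgebra A (KaehlerDifferential R A)), d (algebraMap A _ a * b) =
      ExteriorAlgebra.ι A (KaehlerDifferential.D R A a) * b + algebraMap A _ a * d b)
  (hB : ∀ (a : A) (b : ExteriorAlgebra A (KaehlerDifferential R A)),
    d (ExteriorAlgebra.ι A (KaehlerDifferential.D R A a) * b) =
      - (ExteriorAlgebra.ι A (KaehlerDifferential.D R A a) * d b))

include hA in
lemma lie_algebraMap_mul' (a : A) (b : ExteriorAlgebra A (KaehlerDifferential R A)) :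
    lie E d (algebraMap A _ a * b) = algebraMap A _ (E a) * b + algebraMap A _ a * lie E d b := by
  simp only [lie_apply, hA, cI_algebraMap_mul, map_add, cI_ι_mul,
    Derivation.liftKaehlerDifferential_comp_D, Algebra.smul_def]
  noncomm_ring

include hA hB in
lemma lie_ι_D_mul' (a : A) (b : ExteriorAlgebra A (KaehlerDifferential R A)) :
    lie E d (ExteriorAlgebra.ι A (KaehlerDifferential.D R A a) * b) =
      ExteriorAlgebra.ι A (KaehlerDifferential.D R A (E a)) * b +
        ExteriorAlgebra.ι A (KaehlerDifferential.D R A a) * lie E d b := by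
  simp only [lie_apply, hB, cI_ι_mul, map_neg, map_sub,
    Derivation.liftKaehlerDifferential_comp_D, Algebra.smul_def, hA]
  noncomm_ring

end General'

section Glue

open DirectSum

variable {R A M : Type*} [CommRing R] [CommRing A] [Algebra R A]
  [AddCommGroup M] [Module A M] [Module R M] [IsScalarTower R A M]

/-- decomposition into homogeneous components, as an `R`-linear map. -/
noncomputable def decompR : ExteriorAlgebra A M →ₗ[R]
    ⨁ i : ℕ, ↥(ExteriorAlgebra.exteriorPower A i M) where
  toFun := DirectSum.decompose (fun i : ℕ => ExteriorAlgebra.exteriorPower A i M)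
  map_add' := DirectSum.decompose_add _
  map_smul' r x := by
    rw [← algebraMap_smul A r x, DirectSum.decompose_smul]
    refine DFinsupp.ext fun i => ?_
    simp only [RingHom.id_apply]
    rw [DirectSum.smul_apply, DirectSum.smul_apply, algebraMap_smul]

variable (d : ∀ p : ℕ, ↥(ExteriorAlgebra.exteriorPower A p M) →ₗ[R]
  ↥(ExteriorAlgebra.exteriorPower A (p + 1) M))

/-- glue a family into a global `R`-linear endomorphism. -/
noncomputable def glue : ExteriorAlgebra A M →ₗ[R] ExteriorAlgebra A M :=
  (DirectSum.toModule R ℕ (ExteriorAlgebra A M)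
    (fun p => ((ExteriorAlgebra.exteriorPower A (p + 1) M).subtype.restrictScalars R) ∘ₗ d p)) ∘ₗ
    decompR

lemma glue_of_mem (p : ℕ) (x : ExteriorAlgebra A M)
    (hx : x ∈ ExteriorAlgebra.exteriorPower A p M) :
    glue d x = (d p ⟨x, hx⟩ : ExteriorAlgebra A M) := by
  rw [glue, LinearMap.comp_apply]
  have : decompR (R := R) x = DirectSum.lof R ℕ
      (fun i : ℕ => ↥(ExteriorAlgebra.exteriorPower A i M)) p ⟨x, hx⟩ := by
    show DirectSum.decompose (fun i : ℕ => ExteriorAlgebra.exteriorPower A i M) x = _
    rw [DirectSum.decompose_of_mem (fun i : ℕ => ExteriorAlgebra.exteriorPower A i M) hx,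
      DirectSum.lof_eq_of]
  rw [this, DirectSum.toModule_lof]
  rfl

lemma glue_coe (p : ℕ) (x : ↥(ExteriorAlgebra.exteriorPower A p M)) :
    glue d (x : ExteriorAlgebra A M) = (d p x : ExteriorAlgebra A M) :=
  glue_of_mem d p x x.2

lemma glue_mem (p : ℕ) (x : ExteriorAlgebra A M)
    (hx : x ∈ ExteriorAlgebra.exteriorPower A p M) :
    glue d x ∈ ExteriorAlgebra.exteriorPower A (p + 1) M := by
  rw [glue_of_mem d p x hx]; exact Subtype.prop _

end Glue

section Kaehler

universe v u

variable {R : Type v} {A : Type u} [CommRing R] [CommRing A] [Algebra R A]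

open exteriorPower in
theorem gen_induction (p : ℕ)
    {P : ↥(⋀[A]^p (Ω[A⁄R])) → Prop} (h0 : P 0) (hadd : ∀ x y, P x → P y → P (x + y))
    (hgen : ∀ (b₀ : A) (b : Fin p → A), P (DeRham.gen (KaehlerDifferential.D R A) p b₀ b))
    (x : ↥(⋀[A]^p (Ω[A⁄R]))) : P x := by
  let gs : Set ↥(⋀[A]^p (Ω[A⁄R])) :=
    {x | ∃ (b₀ : A) (b : Fin p → A), x = DeRham.gen (KaehlerDifferential.D R A) p b₀ b}
  let S : Submodule A ↥(⋀[A]^p (Ω[A⁄R])) :=
    { carrier := AddSubmonoid.closure gs
      zero_mem' := (AddSubmonoid.closure gs).zero_mem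
      add_mem' := (AddSubmonoid.closure gs).add_mem
      smul_mem' := by
        intro a x hx
        induction hx using AddSubmonoid.closure_induction with
        | mem x hx =>
          obtain ⟨b₀, b, rfl⟩ := hx
          apply AddSubmonoid.subset_closure
          exact ⟨a * b₀, b, by simp [DeRham.gen, mul_smul]⟩
        | zero => rw [smul_zero]; exact (AddSubmonoid.closure gs).zero_mem
        | add x y _ _ hx hy => rw [smul_add]; exact (AddSubmonoid.closure gs).add_mem hx hy }
  have hS : S = ⊤ := by
    rw [eq_top_iff, ← exteriorPower.ιMulti_span_of_span A p (Ω[A⁄R])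
      (KaehlerDifferential.span_range_derivation R A), Submodule.span_le]
    rintro _ ⟨m, hm, rfl⟩
    have hm' : ∀ i, ∃ b, KaehlerDifferential.D R A b = m i := fun i => hm ⟨i, rfl⟩
    choose b hb using hm'
    apply AddSubmonoid.subset_closure
    refine ⟨1, b, ?_⟩
    simp only [DeRham.gen, one_smul]
    congr 1
    ext i
    exact (hb i).symm
  have hx : x ∈ AddSubmonoid.closure gs := by
    have : x ∈ S := by rw [hS]; trivial
    exact this
  induction hx using AddSubmonoid.closure_induction with
  | mem x hx => obtain ⟨b₀, b, rfl⟩ := hx; exact hgen b₀ b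
  | zero => exact h0
  | add x y _ _ hx hy => exact hadd x y hx hy

/-- `db₁ ∧ … ∧ db_p` in the exterior algebra. -/
noncomputable def W (R : Type v) {A : Type u} [CommRing R] [CommRing A] [Algebra R A]
    (p : ℕ) (b : Fin p → A) : ExteriorAlgebra A (KaehlerDifferential R A) :=
  ExteriorAlgebra.ιMulti A p (fun i => KaehlerDifferential.D R A (b i))

lemma W_mem (p : ℕ) (b : Fin p → A) :
    W R p b ∈ ExteriorAlgebra.exteriorPower A p (KaehlerDifferential R A) :=
  ExteriorAlgebra.ιMulti_range A p ⟨_, rfl⟩

lemma W_cons (p : ℕ) (a : A) (b : Fin p → A) :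
    W R (p + 1) (Fin.cons a b) = ExteriorAlgebra.ι A (KaehlerDifferential.D R A a) * W R p b := by
  rw [W, ExteriorAlgebra.ιMulti_succ_apply]
  simp only [Fin.cons_zero, W]
  congr 2

lemma gen_coe (p : ℕ) (b₀ : A) (b : Fin p → A) :
    (DeRham.gen (KaehlerDifferential.D R A) p b₀ b : ExteriorAlgebra A (KaehlerDifferential R A)) =
      algebraMap A _ b₀ * W R p b := by
  simp only [DeRham.gen, Submodule.coe_smul, exteriorPower.ιMulti_apply_coe, Algebra.smul_def, W]

theorem form_induction {P : ExteriorAlgebra A (KaehlerDifferential R A) → Prop} (h0 : P 0)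
    (hadd : ∀ x y, P x → P y → P (x + y))
    (hgen : ∀ (p : ℕ) (b₀ : A) (b : Fin p → A), P (algebraMap A _ b₀ * W R p b))
    (x : ExteriorAlgebra A (KaehlerDifferential R A)) : P x := by
  induction x using DirectSum.Decomposition.inductionOn
    (fun i : ℕ => ExteriorAlgebra.exteriorPower A i (KaehlerDifferential R A)) with
  | zero => exact h0
  | add x y hx hy => exact hadd x y hx hy
  | homogeneous x =>
    rename_i i
    induction x using gen_induction with
    | h0 => exact h0
    | hadd x y hx hy => exact hadd _ _ hx hy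
    | hgen b₀ b => rw [gen_coe]; exact hgen i b₀ b

variable (d : ∀ p : ℕ, ↥(ExteriorAlgebra.exteriorPower A p (KaehlerDifferential R A)) →ₗ[R]
  ↥(ExteriorAlgebra.exteriorPower A (p + 1) (KaehlerDifferential R A)))
  (hd : DeRham.IsDiff (KaehlerDifferential.D R A) d)

include hd in
lemma glue_rule (p : ℕ) (b₀ : A) (b : Fin p → A) :
    glue d (algebraMap A _ b₀ * W R p b) =
      ExteriorAlgebra.ι A (KaehlerDifferential.D R A b₀) * W R p b := by
  rw [← gen_coe, glue_coe, hd.1 p b₀ b, exteriorPower.ιMulti_apply_coe, ← W_cons]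
  rw [W]
  congr 1
  funext i
  refine Fin.cases ?_ (fun j => ?_) i <;> simp

include hd in
lemma glue_h0 (a : A) :
    glue d (algebraMap A _ a) = ExteriorAlgebra.ι A (KaehlerDifferential.D R A a) := by
  have := glue_rule d hd 0 a Fin.elim0
  simpa [W] using this

include hd in
lemma glue_hA (a : A) (x : ExteriorAlgebra A (KaehlerDifferential R A)) :
    glue d (algebraMap A _ a * x) =
      ExteriorAlgebra.ι A (KaehlerDifferential.D R A a) * x + algebraMap A _ a * glue d x := by
  induction x using form_induction (R := R) with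
  | h0 => simp
  | hadd x y hx hy => rw [mul_add, map_add, hx, hy, mul_add, map_add, mul_add]; abel
  | hgen p b₀ b =>
    rw [← mul_assoc, ← map_mul, glue_rule d hd, glue_rule d hd, Derivation.leibniz, map_add,
      map_smul, map_smul, Algebra.smul_def, Algebra.smul_def, add_mul, ← mul_assoc, ← mul_assoc,
      ← Algebra.commutes b₀]
    abel

include hd in
lemma glue_hB (a : A) (x : ExteriorAlgebra A (KaehlerDifferential R A)) :
    glue d (ExteriorAlgebra.ι A (KaehlerDifferential.D R A a) * x) =
      - (ExteriorAlgebra.ι A (KaehlerDifferential.D R A a) * glue d x) := by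
  induction x using form_induction (R := R) with
  | h0 => simp
  | hadd x y hx hy => rw [mul_add, map_add, hx, hy, map_add, mul_add, neg_add]
  | hgen p b₀ b =>
    have h1 : ExteriorAlgebra.ι A (KaehlerDifferential.D R A a) * (algebraMap A _ b₀ * W R p b) =
        algebraMap A _ b₀ * W R (p + 1) (Fin.cons a b) := by
      rw [W_cons, ← mul_assoc, ← Algebra.commutes b₀, mul_assoc]
    rw [h1, glue_rule d hd, glue_rule d hd, W_cons, ← mul_assoc, ← mul_assoc,
      ← neg_mul]
    congr 1
    exact eq_neg_of_add_eq_zero_left (ExteriorAlgebra.ι_add_mul_swap _ _)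

include hd in
lemma glue_hdd (x : ExteriorAlgebra A (KaehlerDifferential R A)) : glue d (glue d x) = 0 := by
  induction x using DirectSum.Decomposition.inductionOn
    (fun i : ℕ => ExteriorAlgebra.exteriorPower A i (KaehlerDifferential R A)) with
  | zero => simp
  | add x y hx hy => rw [map_add, map_add, hx, hy, add_zero]
  | homogeneous x =>
    rename_i i
    rw [glue_coe, glue_coe]
    have := hd.2 i
    have h2 := LinearMap.congr_fun this x
    simp only [LinearMap.comp_apply, LinearMap.zero_apply] at h2
    rw [h2]; rfl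

section Eigen

variable (E : Derivation R A A)
variable (D' : ExteriorAlgebra A (KaehlerDifferential R A) →ₗ[R]
  ExteriorAlgebra A (KaehlerDifferential R A))
variable
  (h0 : ∀ a : A, D' (algebraMap A _ a) = ExteriorAlgebra.ι A (KaehlerDifferential.D R A a))
  (hA : ∀ (a : A) (b : ExteriorAlgebra A (KaehlerDifferential R A)), D' (algebraMap A _ a * b) =
      ExteriorAlgebra.ι A (KaehlerDifferential.D R A a) * b + algebraMap A _ a * D' b)
  (hB : ∀ (a : A) (b : ExteriorAlgebra A (KaehlerDifferential R A)),
    D' (ExteriorAlgebra.ι A (KaehlerDifferential.D R A a) * b) =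
      - (ExteriorAlgebra.ι A (KaehlerDifferential.D R A a) * D' b))

lemma W_eq_cons (p : ℕ) (b : Fin (p + 1) → A) :
    W R (p + 1) b = ExteriorAlgebra.ι A (KaehlerDifferential.D R A (b 0)) *
      W R p (fun j => b j.succ) := by
  rw [← W_cons]
  congr 1
  funext i
  refine Fin.cases ?_ (fun j => ?_) i <;> simp

include h0 hA hB in
lemma lie_W (p : ℕ) (b : Fin p → A) (m : Fin p → ℕ) (hb : ∀ j, E (b j) = m j • b j) :
    lie E D' (W R p b) = (∑ j, m j) • W R p b := by
  induction p with
  | zero =>
    have : W R 0 b = 1 := by simp [W]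
    rw [this, lie_one E D' h0]; simp
  | succ p ih =>
    rw [W_eq_cons, lie_ι_D_mul' E D' hA hB, hb 0, ih (fun j => b j.succ) (fun j => m j.succ)
      (fun j => hb j.succ), Fin.sum_univ_succ, map_nsmul, map_nsmul, smul_mul_assoc,
      mul_smul_comm, add_smul]

include h0 hA hB in
lemma lie_form (p : ℕ) (b₀ : A) (m₀ : ℕ) (hb₀ : E b₀ = m₀ • b₀)
    (b : Fin p → A) (m : Fin p → ℕ) (hb : ∀ j, E (b j) = m j • b j) :
    lie E D' (algebraMap A _ b₀ * W R p b) =
      (m₀ + ∑ j, m j) • (algebraMap A _ b₀ * W R p b) := by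
  rw [lie_algebraMap_mul' E D' hA, lie_W E D' h0 hA hB p b m hb, hb₀, map_nsmul, smul_mul_assoc,
    mul_smul_comm, add_smul]

end Eigen

section Span

variable (mon : Set A) (h1 : ∀ a : A, a ∈ AddSubmonoid.closure mon) (hone : (1 : A) ∈ mon)
  (hmul : ∀ a ∈ mon, ∀ b ∈ mon, a * b ∈ mon)

/-- generators: monomial forms. -/
def G (R : Type v) {A : Type u} [CommRing R] [CommRing A] [Algebra R A] (mon : Set A) (q : ℕ) :
    Set (ExteriorAlgebra A (KaehlerDifferential R A)) :=
  {x | ∃ (b₀ : A) (b : Fin q → A), b₀ ∈ mon ∧ (∀ j, b j ∈ mon) ∧ x = algebraMap A _ b₀ * W R q b}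

include hmul in
lemma T_mon_mul (q : ℕ) (a : A) (ha : a ∈ mon) (x : ExteriorAlgebra A (KaehlerDifferential R A))
    (hx : x ∈ AddSubmonoid.closure (G R mon q)) :
    algebraMap A _ a * x ∈ AddSubmonoid.closure (G R mon q) := by
  induction hx using AddSubmonoid.closure_induction with
  | mem x hx =>
    obtain ⟨b₀, b, hb₀, hb, rfl⟩ := hx
    refine AddSubmonoid.subset_closure ⟨a * b₀, b, hmul a ha b₀ hb₀, hb, ?_⟩
    rw [map_mul, mul_assoc]
  | zero => rw [mul_zero]; exact zero_mem _
  | add x y _ _ hx hy => rw [mul_add]; exact add_mem hx hy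

include h1 hmul in
lemma T_alg_mul (q : ℕ) (a : A) (x : ExteriorAlgebra A (KaehlerDifferential R A))
    (hx : x ∈ AddSubmonoid.closure (G R mon q)) :
    algebraMap A _ a * x ∈ AddSubmonoid.closure (G R mon q) := by
  induction h1 a using AddSubmonoid.closure_induction with
  | mem a ha => exact T_mon_mul mon hmul q a ha x hx
  | zero => rw [map_zero, zero_mul]; exact zero_mem _
  | add a b _ _ ha hb => rw [map_add, add_mul]; exact add_mem ha hb

lemma T_mon_ι_mul (q : ℕ) (a : A) (ha : a ∈ mon) (x : ExteriorAlgebra A (KaehlerDifferential R A))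
    (hx : x ∈ AddSubmonoid.closure (G R mon q)) :
    ExteriorAlgebra.ι A (KaehlerDifferential.D R A a) * x ∈
      AddSubmonoid.closure (G R mon (q + 1)) := by
  induction hx using AddSubmonoid.closure_induction with
  | mem x hx =>
    obtain ⟨b₀, b, hb₀, hb, rfl⟩ := hx
    refine AddSubmonoid.subset_closure ⟨b₀, Fin.cons a b, hb₀, ?_, ?_⟩
    · intro j
      refine Fin.cases ?_ (fun j => ?_) j
      · simpa using ha
      · simpa using hb j
    · rw [W_cons, ← mul_assoc, ← Algebra.commutes b₀, mul_assoc]
  | zero => rw [mul_zero]; exact zero_mem _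
  | add x y _ _ hx hy => rw [mul_add]; exact add_mem hx hy

include h1 in
lemma T_D_mul (q : ℕ) (a : A) (x : ExteriorAlgebra A (KaehlerDifferential R A))
    (hx : x ∈ AddSubmonoid.closure (G R mon q)) :
    ExteriorAlgebra.ι A (KaehlerDifferential.D R A a) * x ∈
      AddSubmonoid.closure (G R mon (q + 1)) := by
  induction h1 a using AddSubmonoid.closure_induction with
  | mem a ha => exact T_mon_ι_mul mon q a ha x hx
  | zero => rw [map_zero, map_zero, zero_mul]; exact zero_mem _
  | add a b _ _ ha hb => rw [map_add, map_add, add_mul]; exact add_mem ha hb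

include h1 hmul in
lemma T_ι_mul (q : ℕ) (w : KaehlerDifferential R A)
    (x : ExteriorAlgebra A (KaehlerDifferential R A))
    (hx : x ∈ AddSubmonoid.closure (G R mon q)) :
    ExteriorAlgebra.ι A w * x ∈ AddSubmonoid.closure (G R mon (q + 1)) := by
  have hw : w ∈ Submodule.span A (Set.range (KaehlerDifferential.D R A)) := by
    rw [KaehlerDifferential.span_range_derivation]; trivial
  refine Submodule.span_induction
    (p := fun w _ => ExteriorAlgebra.ι A w * x ∈ AddSubmonoid.closure (G R mon (q + 1)))
    ?_ ?_ ?_ ?_ hw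
  · rintro _ ⟨a, rfl⟩
    exact T_D_mul mon h1 q a x hx
  · rw [map_zero, zero_mul]; exact zero_mem _
  · intro x y _ _ hx hy; rw [map_add, add_mul]; exact add_mem hx hy
  · intro a w _ hw
    rw [map_smul, Algebra.smul_def, mul_assoc]
    exact T_alg_mul mon h1 hmul _ a _ hw

include h1 hone hmul in
lemma exteriorPower_le_T (q : ℕ) (x : ExteriorAlgebra A (KaehlerDifferential R A))
    (hx : x ∈ ExteriorAlgebra.exteriorPower A q (KaehlerDifferential R A)) :
    x ∈ AddSubmonoid.closure (G R mon q) := by
  induction hx using Submodule.pow_induction_on_left' with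
  | algebraMap r =>
    have h1' : (1 : ExteriorAlgebra A (KaehlerDifferential R A)) ∈
        AddSubmonoid.closure (G R mon 0) := by
      refine AddSubmonoid.subset_closure ⟨1, Fin.elim0, hone, fun j => j.elim0, ?_⟩
      simp [W]
    have := T_alg_mul mon h1 hmul 0 r _ h1'
    rwa [mul_one] at this
  | add x y i hx hy ihx ihy => exact add_mem ihx ihy
  | mem_mul m hm i x hx ih =>
    obtain ⟨w, rfl⟩ := hm
    exact T_ι_mul mon h1 hmul i w x ih

end Span

end Kaehler

end Groth.Agent.Lib.Helper84.Poincare
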