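import Mathlib
import Groth.Agent.Lib.Helper84.Poincare2
import Groth.Agent.S15293
import Groth.Agent.S15294

/-!
# Poincaré lemma for `A[X]` over `A` (ℚ-algebras), family version (helper84)
-/

set_option autoImplicit false

namespace Groth.Agent.Lib.Helper84.Poincare

open Polynomial KaehlerDifferential

section PolyX

universe u

variable {R A : Type u} [CommRing R] [CommRing A] [Algebra R A]

/-- Euler derivation `X d/dX` on `A[X]`, as an `R`-derivation. -/
noncomputable def eulerX : Derivation R A[X] A[X] :=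
  (Polynomial.X : A[X]) • (Polynomial.derivative' (R := A)).restrictScalars R

lemma eulerX_monomial (m : ℕ) (a : A) :
    eulerX (R := R) (monomial m a) = m • monomial m a := by
  show (Polynomial.X : A[X]) • Polynomial.derivative (monomial m a) = _
  rw [derivative_monomial, smul_eq_mul]
  rcases m with _ | m
  · simp
  · rw [Nat.add_sub_cancel, X_mul_monomial, nsmul_eq_mul, ← C_eq_natCast, C_mul_monomial,
      mul_comm]

/-- the set of monomials. -/
def monX (A : Type u) [CommRing A] : Set A[X] := Set.range (fun c : ℕ × A => monomial c.1 c.2)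

lemma monX_closure (b : A[X]) : b ∈ AddSubmonoid.closure (monX A) := by
  induction b using Polynomial.induction_on' with
  | add p q hp hq => exact add_mem hp hq
  | monomial n a => exact AddSubmonoid.subset_closure ⟨(n, a), rfl⟩

lemma monX_one : (1 : A[X]) ∈ monX A := ⟨(0, 1), by simp⟩

lemma monX_mul : ∀ a ∈ monX A, ∀ b ∈ monX A, a * b ∈ monX A := by
  rintro _ ⟨c, rfl⟩ _ ⟨c', rfl⟩
  exact ⟨(c.1 + c'.1, c.2 * c'.2), by simp [monomial_mul_monomial]⟩

section Main

variable [Algebra ℚ R]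
variable (d' : ∀ p : ℕ, ↥(ExteriorAlgebra.exteriorPower A[X] p (KaehlerDifferential R A[X])) →ₗ[R]
    ↥(ExteriorAlgebra.exteriorPower A[X] (p + 1) (KaehlerDifferential R A[X])))
  (hd' : DeRham.IsDiff (KaehlerDifferential.D R A[X]) d')
  (ψ : ∀ p : ℕ, ↥(ExteriorAlgebra.exteriorPower A p (KaehlerDifferential R A)) →+
    ↥(ExteriorAlgebra.exteriorPower A[X] p (KaehlerDifferential R A[X])))
  (hψ : DeRham.IsCxMap (KaehlerDifferential.D R A) (KaehlerDifferential.D R A[X])
    (algebraMap A A[X]) ψ)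

/-- the Lie derivative as a `ℤ`-linear endomorphism. -/
noncomputable def Lz : Module.End ℤ (ExteriorAlgebra A[X] (KaehlerDifferential R A[X])) :=
  (lie (eulerX (R := R) (A := A)) (glue d')).toAddMonoidHom.toIntLinearMap

lemma Lz_apply (x : ExteriorAlgebra A[X] (KaehlerDifferential R A[X])) :
    Lz d' x = lie (eulerX (R := R) (A := A)) (glue d') x := rfl

/-- span of nonzero-weight eigenspaces. -/
noncomputable def Qp : Submodule ℤ (ExteriorAlgebra A[X] (KaehlerDifferential R A[X])) :=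
  ⨆ (μ : ℤ) (_ : μ ≠ 0), Module.End.eigenspace (Lz d') μ

include hd' in
lemma glue_mem_eigenspace (μ : ℤ) (x : ExteriorAlgebra A[X] (KaehlerDifferential R A[X]))
    (hx : x ∈ Module.End.eigenspace (Lz d') μ) :
    glue d' x ∈ Module.End.eigenspace (Lz d') μ := by
  rw [Module.End.mem_eigenspace_iff] at hx ⊢
  rw [Lz_apply] at hx ⊢
  rw [lie_comm _ _ (glue_hdd d' hd'), hx, map_zsmul]

include hd' in
lemma glue_mem_Qp (x : ExteriorAlgebra A[X] (KaehlerDifferential R A[X]))
    (hx : x ∈ Qp d') : glue d' x ∈ Qp d' := by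
  have : Qp d' ≤ (Qp d').comap (glue d').toAddMonoidHom.toIntLinearMap := by
    refine iSup₂_le fun μ hμ x hx => ?_
    exact (le_iSup₂_of_le (f := fun (μ : ℤ) (_ : μ ≠ 0) => Module.End.eigenspace (Lz d') μ)
      μ hμ le_rfl) (glue_mem_eigenspace d' hd' μ x hx)
  exact this hx

lemma isAddTorsionFree : IsAddTorsionFree (ExteriorAlgebra A[X] (KaehlerDifferential R A[X])) := by
  letI : Module ℚ (ExteriorAlgebra A[X] (KaehlerDifferential R A[X])) :=
    Module.compHom _ (algebraMap ℚ R)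
  exact IsAddTorsionFree.of_module_rat _

lemma disjoint_Qp :
    Disjoint (Module.End.eigenspace (Lz d') 0) (Qp d') := by
  have := isAddTorsionFree (R := R) (A := A)
  exact Module.End.eigenspaces_iSupIndep (Lz d') 0

lemma mem_Qp_of_mem_eigenspace (w : ℤ) (hw : w ≠ 0)
    (x : ExteriorAlgebra A[X] (KaehlerDifferential R A[X]))
    (hx : x ∈ Module.End.eigenspace (Lz d') w) : x ∈ Qp d' :=
  (le_iSup₂_of_le (f := fun (μ : ℤ) (_ : μ ≠ 0) => Module.End.eigenspace (Lz d') μ)
      w hw le_rfl) hx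

include hd' hψ in
lemma key (i : ℕ) (y : ExteriorAlgebra A[X] (KaehlerDifferential R A[X]))
    (hy : y ∈ AddSubmonoid.closure (G R (monX A) i)) :
    ∃ y0 yp : ExteriorAlgebra A[X] (KaehlerDifferential R A[X]), y = y0 + yp ∧
      (Lz d' y0 = 0 ∧ ∃ u, (ψ i u : ExteriorAlgebra A[X] (KaehlerDifferential R A[X])) = y0) ∧
      (yp ∈ Qp d' ∧ ∃ z ∈ ExteriorAlgebra.exteriorPower A[X] i (KaehlerDifferential R A[X]),
        z ∈ Qp d' ∧ Lz d' z = yp) := by
  induction hy using AddSubmonoid.closure_induction with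
  | mem g hg =>
    obtain ⟨b₀, b, ⟨c₀, rfl⟩, hb, rfl⟩ := hg
    choose c hc using hb
    obtain rfl : b = fun j => monomial (c j).1 (c j).2 := funext fun j => (hc j).symm
    have hL := lie_form (eulerX (R := R) (A := A)) (glue d') (glue_h0 d' hd') (glue_hA d' hd')
      (glue_hB d' hd') i (monomial c₀.1 c₀.2) c₀.1 (eulerX_monomial _ _)
      (fun j => monomial (c j).1 (c j).2) (fun j => (c j).1) (fun j => eulerX_monomial _ _)
    by_cases hw : c₀.1 + ∑ j, (c j).1 = 0
    · refine ⟨_, 0, (add_zero _).symm, ⟨?_, ?_⟩,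
        ⟨zero_mem _, 0, zero_mem _, zero_mem _, map_zero _⟩⟩
      · rw [Lz_apply]
        simp only at hL ⊢
        rw [hL, hw, zero_smul]
      · have h0 : c₀.1 = 0 := by omega
        have hj : ∀ j, (c j).1 = 0 := by
          have : ∑ j, (c j).1 = 0 := by omega
          intro j; exact Finset.sum_eq_zero_iff.1 this j (Finset.mem_univ _)
        refine ⟨DeRham.gen (KaehlerDifferential.D R A) i c₀.2 (fun j => (c j).2), ?_⟩
        rw [hψ, gen_coe]
        simp only [h0, hj, monomial_zero_left, C_eq_algebraMap]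
    · have hg_mem : algebraMap A[X] (ExteriorAlgebra A[X] (KaehlerDifferential R A[X]))
          (monomial c₀.1 c₀.2) * W R i (fun j => monomial (c j).1 (c j).2) ∈
          ExteriorAlgebra.exteriorPower A[X] i (KaehlerDifferential R A[X]) := by
        rw [← Algebra.smul_def]; exact Submodule.smul_mem _ _ (W_mem i _)
      have hwz : ((c₀.1 + ∑ j, (c j).1 : ℕ) : ℤ) ≠ 0 := by exact_mod_cast hw
      have hgE : algebraMap A[X] (ExteriorAlgebra A[X] (KaehlerDifferential R A[X]))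
          (monomial c₀.1 c₀.2) * W R i (fun j => monomial (c j).1 (c j).2) ∈
          Module.End.eigenspace (Lz d') ((c₀.1 + ∑ j, (c j).1 : ℕ) : ℤ) := by
        rw [Module.End.mem_eigenspace_iff, Lz_apply, natCast_zsmul]; exact hL
      have hr : ((c₀.1 + ∑ j, (c j).1 : ℕ) : R) *
          algebraMap ℚ R (((c₀.1 + ∑ j, (c j).1 : ℕ) : ℚ)⁻¹) = 1 := by
        rw [← map_natCast (algebraMap ℚ R), ← map_mul,
          mul_inv_cancel₀ (by exact_mod_cast hw), map_one]
      refine ⟨0, _, (zero_add _).symm, ⟨map_zero _, 0, by simp⟩,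
        ⟨mem_Qp_of_mem_eigenspace d' _ hwz _ hgE,
          algebraMap ℚ R (((c₀.1 + ∑ j, (c j).1 : ℕ) : ℚ)⁻¹) • _,
          Submodule.smul_of_tower_mem _ _ hg_mem, ?_, ?_⟩⟩
      · refine mem_Qp_of_mem_eigenspace d' _ hwz _ ?_
        rw [Module.End.mem_eigenspace_iff, Lz_apply, map_smul, natCast_zsmul, smul_comm]
        congr 1
      · rw [Lz_apply, map_smul]
        rw [hL, ← Nat.cast_smul_eq_nsmul R, smul_smul, mul_comm, hr, one_smul]
  | zero =>
    exact ⟨0, 0, by simp, ⟨map_zero _, 0, by simp⟩,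
      ⟨zero_mem _, 0, zero_mem _, zero_mem _, map_zero _⟩⟩
  | add x y _ _ hx hy =>
    obtain ⟨x0, xp, rfl, ⟨hx0, u, hu⟩, ⟨hxp, z, hz, hzq, hzL⟩⟩ := hx
    obtain ⟨y0, yp, rfl, ⟨hy0, u', hu'⟩, ⟨hyp, z', hz', hzq', hzL'⟩⟩ := hy
    exact ⟨x0 + y0, xp + yp, by abel, ⟨by rw [map_add, hx0, hy0, add_zero], u + u',
      by rw [map_add, Submodule.coe_add, hu, hu']⟩,
      ⟨add_mem hxp hyp, z + z', add_mem hz hz', add_mem hzq hzq', by rw [map_add, hzL, hzL']⟩⟩

include hd' hψ in
lemma heart (i : ℕ) (y : ↥(ExteriorAlgebra.exteriorPower A[X] i (KaehlerDifferential R A[X])))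
    (hy : d' i y = 0) :
    ∃ (u : ↥(ExteriorAlgebra.exteriorPower A i (KaehlerDifferential R A)))
      (θ : ExteriorAlgebra A[X] (KaehlerDifferential R A[X])),
      θ ∈ ExteriorAlgebra.exteriorPower A[X] (i - 1) (KaehlerDifferential R A[X]) ∧
      (i = 0 → θ = 0) ∧
      (y : ExteriorAlgebra A[X] (KaehlerDifferential R A[X])) -
        (ψ i u : ExteriorAlgebra A[X] (KaehlerDifferential R A[X])) = glue d' θ := by
  obtain ⟨y0, yp, hsum, ⟨hy0, u, hu⟩, ⟨hyp, z, hz, hzq, hzL⟩⟩ := key d' hd' ψ hψ i y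
    (exteriorPower_le_T (R := R) (monX A) monX_closure monX_one monX_mul i y y.2)
  have hDy : glue d' (y : ExteriorAlgebra A[X] (KaehlerDifferential R A[X])) = 0 := by
    rw [glue_coe, hy]; rfl
  have h1 : glue d' y0 ∈ Module.End.eigenspace (Lz d') 0 :=
    glue_mem_eigenspace d' hd' 0 y0 (by rw [Module.End.mem_eigenspace_iff, hy0, zero_smul])
  have h2 : glue d' yp ∈ Qp d' := glue_mem_Qp d' hd' yp hyp
  have h3 : glue d' y0 = - glue d' yp := by
    rw [hsum, map_add] at hDy; exact eq_neg_of_add_eq_zero_left hDy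
  have h4 : glue d' yp = 0 := by
    have h41 : -glue d' yp ∈ Module.End.eigenspace (Lz d') 0 := h3 ▸ h1
    have := Submodule.disjoint_def.1 (disjoint_Qp d') _ h41 (neg_mem h2)
    exact neg_eq_zero.1 this
  have h5 : glue d' z = 0 := by
    have hz1 : glue d' z ∈ Qp d' := glue_mem_Qp d' hd' z hzq
    have hz2 : glue d' z ∈ Module.End.eigenspace (Lz d') 0 := by
      rw [Module.End.mem_eigenspace_iff, zero_smul, Lz_apply, lie_comm _ _ (glue_hdd d' hd'),
        ← Lz_apply, hzL, h4]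
    exact Submodule.disjoint_def.1 (disjoint_Qp d') _ hz2 hz1
  refine ⟨u, cI eulerX z, (cI_mem eulerX i z hz).1, (cI_mem eulerX i z hz).2, ?_⟩
  rw [hu, hsum, add_sub_cancel_left, ← hzL, Lz_apply, lie_apply, h5, map_zero, add_zero]

end Main

open exteriorPower in
/-- The inclusion `A → A[X]` induces a quasi-isomorphism of de Rham complexes over a `ℚ`-algebra. -/
theorem poly_qiso (R A : Type u) [CommRing R]
    [CommRing A] [Algebra R A] [Algebra ℚ R]
    (d : ∀ p : ℕ, ↥(⋀[A]^p (Ω[A⁄R])) →ₗ[R] ↥(⋀[A]^(p + 1) (Ω[A⁄R])))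
    (hd : DeRham.IsDiff (KaehlerDifferential.D R A) d)
    (d' : ∀ p : ℕ, ↥(⋀[A[X]]^p (Ω[A[X]⁄R])) →ₗ[R] ↥(⋀[A[X]]^(p + 1) (Ω[A[X]⁄R])))
    (hd' : DeRham.IsDiff (KaehlerDifferential.D R A[X]) d')
    (ψ : ∀ p : ℕ, ↥(⋀[A]^p (Ω[A⁄R])) →+ ↥(⋀[A[X]]^p (Ω[A[X]⁄R])))
    (hψ : DeRham.IsCxMap (KaehlerDifferential.D R A) (KaehlerDifferential.D R A[X])
      (algebraMap A A[X]) ψ)
    (hcomm : ∀ (p : ℕ) (x : ↥(⋀[A]^p (Ω[A⁄R]))), ψ (p + 1) (d p x) = d' p (ψ p x)) (i : ℕ) :
    (∀ y ∈ DeRham.cocycles d' i, ∃ x ∈ DeRham.cocycles d i,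
        y - ψ i x ∈ DeRham.coboundaries d' i) ∧
      (∀ x ∈ DeRham.cocycles d i, ψ i x ∈ DeRham.coboundaries d' i →
        x ∈ DeRham.coboundaries d i) := by
  let _ : Algebra A[X] A := (Polynomial.evalRingHom (0 : A)).toAlgebra
  have hev : ∀ b : A[X], algebraMap A[X] A b = Polynomial.eval 0 b := fun b => rfl
  have : IsScalarTower R A[X] A := IsScalarTower.of_algebraMap_eq (fun r => by
    rw [hev, IsScalarTower.algebraMap_apply R A A[X], ← Polynomial.C_eq_algebraMap, eval_C])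
  obtain ⟨φ, hφ⟩ := Groth.Agent.S15293.result R R A[X] A
  have hφd := Groth.Agent.S15294.result R R A[X] A d' hd' d hd φ hφ
  have hφψ : ∀ (p : ℕ) (u : ↥(⋀[A]^p (Ω[A⁄R]))), φ p (ψ p u) = u := by
    intro p u
    induction u using gen_induction with
    | h0 => simp
    | hadd x y hx hy => rw [map_add, map_add, hx, hy]
    | hgen b₀ b =>
      rw [hψ, hφ]
      simp only [hev, ← Polynomial.C_eq_algebraMap, eval_C]
  constructor
  · intro y hy
    have hy' : d' i y = 0 := hy
    obtain ⟨u, θ, hθ, hθ0, hyu⟩ := heart d' hd' ψ hψ i y hy'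
    have hdu : d' i (ψ i u) = 0 := by
      apply Subtype.ext
      rw [← glue_coe, show ((ψ i u : ↥(⋀[A[X]]^i (Ω[A[X]⁄R]))) :
        ExteriorAlgebra A[X] (Ω[A[X]⁄R])) = (y : ExteriorAlgebra A[X] (Ω[A[X]⁄R])) - glue d' θ by
          rw [← hyu]; abel, map_sub, glue_hdd d' hd', sub_zero, glue_coe, hy']
    refine ⟨u, ?_, ?_⟩
    · show d i u = 0
      rw [← hφψ (i + 1) (d i u), hcomm, hdu, map_zero]
    · rcases i with _ | i
      · have : θ = 0 := hθ0 rfl
        rw [this, map_zero] at hyu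
        show y - ψ 0 u ∈ (⊥ : Submodule R _)
        rw [Submodule.mem_bot]
        apply Subtype.ext
        rw [Submodule.coe_sub, hyu]; rfl
      · show y - ψ (i + 1) u ∈ LinearMap.range (d' i)
        refine ⟨⟨θ, hθ⟩, ?_⟩
        apply Subtype.ext
        rw [Submodule.coe_sub, hyu, glue_of_mem d' i θ hθ]
  · intro x hx hψx
    rcases i with _ | i
    · have h0 : ψ 0 x = 0 := by
        have : ψ 0 x ∈ (⊥ : Submodule R _) := hψx
        rwa [Submodule.mem_bot] at this
      show x ∈ (⊥ : Submodule R _)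
      rw [Submodule.mem_bot, ← hφψ 0 x, h0, map_zero]
    · obtain ⟨z, hz⟩ : ψ (i + 1) x ∈ LinearMap.range (d' i) := hψx
      show x ∈ LinearMap.range (d i)
      exact ⟨φ i z, by rw [← hφd, hz, hφψ]⟩

end PolyX

end Groth.Agent.Lib.Helper84.Poincare
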