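import Mathlib

set_option autoImplicit false
universe u
open TensorProduct IsLocalRing

namespace Groth.Agent.Lib.Helper84.PrimKR

/-- `V / m^n V` has finite length for a finite module over a Noetherian local ring. -/
theorem isFiniteLength_quot {R : Type u} [CommRing R] [IsLocalRing R] [IsNoetherianRing R]
    (V : Type u) [AddCommGroup V] [Module R V] [Module.Finite R V] (n : ℕ) :
    IsFiniteLength R (V ⧸ (maximalIdeal R ^ n • (⊤ : Submodule R V))) := by
  rw [isFiniteLength_iff_isNoetherian_isArtinian]
  refine ⟨inferInstance, ?_⟩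
  rcases Nat.eq_zero_or_pos n with rfl | hn
  · have : Subsingleton (V ⧸ (maximalIdeal R ^ 0 • (⊤ : Submodule R V))) := by
      rw [pow_zero, Ideal.one_eq_top, Submodule.top_smul]
      exact Submodule.Quotient.subsingleton_iff.mpr rfl
    infer_instance
  · have hne : maximalIdeal R ^ n ≠ ⊤ := by
      intro h
      have h1 : maximalIdeal R ^ n ≤ maximalIdeal R := Ideal.pow_le_self hn.ne'
      rw [h] at h1
      exact (Ideal.IsPrime.ne_top (inferInstance : (maximalIdeal R).IsPrime)) (top_le_iff.mp h1)
    haveI : Nontrivial (R ⧸ maximalIdeal R ^ n) := Ideal.Quotient.nontrivial_iff.mpr hne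
    haveI : IsLocalRing (R ⧸ maximalIdeal R ^ n) :=
      IsLocalRing.of_surjective' (Ideal.Quotient.mk _) Ideal.Quotient.mk_surjective
    haveI : IsArtinianRing (R ⧸ maximalIdeal R ^ n) := by
      rw [isArtinianRing_iff_isNilpotent_maximalIdeal]
      refine ⟨n, ?_⟩
      have h1 : maximalIdeal (R ⧸ maximalIdeal R ^ n) ≤
          (maximalIdeal R).map (Ideal.Quotient.mk (maximalIdeal R ^ n)) := by
        intro x hx
        obtain ⟨r, rfl⟩ := Ideal.Quotient.mk_surjective x
        apply Ideal.mem_map_of_mem
        by_contra hr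
        have hu : IsUnit r := by
          by_contra hu
          exact hr ((mem_maximalIdeal r).mpr hu)
        exact ((mem_maximalIdeal _).mp hx) (hu.map _)
      have h2 := Ideal.pow_right_mono h1 n
      rw [← Ideal.map_pow, Ideal.map_quotient_self] at h2
      exact le_bot_iff.mp h2
    haveI : Module.Finite (R ⧸ maximalIdeal R ^ n)
        (V ⧸ (maximalIdeal R ^ n • (⊤ : Submodule R V))) :=
      Module.Finite.of_restrictScalars_finite R _ _
    haveI : IsArtinian (R ⧸ maximalIdeal R ^ n)
        (V ⧸ (maximalIdeal R ^ n • (⊤ : Submodule R V))) := inferInstance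
    exact isArtinian_of_surjective_algebraMap (R := R ⧸ maximalIdeal R ^ n)
      Ideal.Quotient.mk_surjective

/-- [KR] Krull step: a scalar `s` of a free `R`-algebra `S` which is a nonzerodivisor on
`S ⊗ V'` for all `V'` of finite length is a nonzerodivisor on `S ⊗ V` for all finite `V`. -/
theorem kr {R S : Type u} [CommRing R] [IsLocalRing R] [IsNoetherianRing R] [CommRing S]
    [Algebra R S] [Module.Free R S] (s : S)
    (hs : ∀ (V'' : Type u) [AddCommGroup V''] [Module R V''], IsFiniteLength R V'' →
      ∀ w : S ⊗[R] V'', s • w = 0 → w = 0)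
    (V : Type u) [AddCommGroup V] [Module R V] [Module.Finite R V] :
    ∀ w : S ⊗[R] V, s • w = 0 → w = 0 := by
  intro w hw
  have h1 : ∀ n : ℕ,
      LinearMap.lTensor S (maximalIdeal R ^ n • (⊤ : Submodule R V)).mkQ w = 0 := by
    intro n
    apply hs _ (isFiniteLength_quot V n)
    have hlin : ∀ x : S ⊗[R] V,
        s • (LinearMap.lTensor S (maximalIdeal R ^ n • (⊤ : Submodule R V)).mkQ x) =
          LinearMap.lTensor S (maximalIdeal R ^ n • (⊤ : Submodule R V)).mkQ (s • x) := by
      intro x
      induction x using TensorProduct.induction_on with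
      | zero => simp
      | tmul a v => simp [TensorProduct.smul_tmul']
      | add x y hx hy => simp only [smul_add, map_add, hx, hy]
    rw [hlin, hw, map_zero]
  have h2 : ∀ (n : ℕ) (x : S ⊗[R] V) (i : Module.Free.ChooseBasisIndex R S),
      (TensorProduct.equivFinsuppOfBasisLeft (Module.Free.chooseBasis R S)
        (LinearMap.lTensor S (maximalIdeal R ^ n • (⊤ : Submodule R V)).mkQ x)) i =
      (maximalIdeal R ^ n • (⊤ : Submodule R V)).mkQ
        (TensorProduct.equivFinsuppOfBasisLeft (Module.Free.chooseBasis R S) x i) := by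
    intro n x i
    induction x using TensorProduct.induction_on with
    | zero => simp
    | tmul a v => simp [TensorProduct.equivFinsuppOfBasisLeft_apply_tmul_apply]
    | add x y hx hy => simp only [map_add, Finsupp.add_apply, hx, hy]
  apply (TensorProduct.equivFinsuppOfBasisLeft (Module.Free.chooseBasis R S)).injective
  rw [map_zero]
  ext i
  have h3 : ∀ n : ℕ, TensorProduct.equivFinsuppOfBasisLeft (Module.Free.chooseBasis R S) w i ∈
      maximalIdeal R ^ n • (⊤ : Submodule R V) := by
    intro n
    have h := h2 n w i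
    rw [h1 n, map_zero, Finsupp.zero_apply] at h
    exact (Submodule.Quotient.mk_eq_zero _).mp h.symm
  have h4 : TensorProduct.equivFinsuppOfBasisLeft (Module.Free.chooseBasis R S) w i ∈
      (⨅ n : ℕ, maximalIdeal R ^ n • (⊤ : Submodule R V)) := (Submodule.mem_iInf _).mpr h3
  rw [Ideal.iInf_pow_smul_eq_bot_of_isLocalRing _
    (Ideal.IsPrime.ne_top (inferInstance : (maximalIdeal R).IsPrime))] at h4
  simpa using h4

end Groth.Agent.Lib.Helper84.PrimKR
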