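import Groth.Prelude.Def_W4c4chowquasisplitNorm
import Mathlib

/-!
# `CH_0(Spec k) = ℤ` and push-forward along `Spec F → Spec k` (helper84, for S17743/S17744)
-/

set_option autoImplicit false

open AlgebraicGeometry CategoryTheory

universe u

namespace Groth.Agent.Lib.Helper84.PtChow

variable (k : Type u) [Field k]

noncomputable instance : Unique (Spec (CommRingCat.of k)) :=
  inferInstanceAs (Unique (PrimeSpectrum k))

/-- the canonical map `k → κ(x)` for a point of `Spec k` -/
noncomputable def toRes (x : Spec (CommRingCat.of k)) :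
    k →+* (Spec (CommRingCat.of k)).residueField x :=
  ((Scheme.ΓSpecIso (CommRingCat.of k)).inv ≫ (Spec (CommRingCat.of k)).Γevaluation x).hom

theorem toRes_bijective (x : Spec (CommRingCat.of k)) : Function.Bijective (toRes k x) := by
  refine ⟨RingHom.injective _, ?_⟩
  have hmax : x.asIdeal.IsMaximal := by
    have : x.asIdeal = ⊥ := Ideal.eq_bot_of_prime x.asIdeal
    rw [this]
    exact Ideal.bot_isMaximal
  have h1 := Scheme.Spec.algebraMap_residueFieldIso_inv (CommRingCat.of k) x
  have h2 : toRes k x = (CommRingCat.ofHom (algebraMap k x.asIdeal.ResidueField) ≫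
      (Scheme.Spec.residueFieldIso (CommRingCat.of k) x).inv).hom := by
    rw [h1]
    rfl
  rw [h2]
  intro z
  obtain ⟨w, hw⟩ := Ideal.algebraMap_residueField_surjective x.asIdeal
    ((Scheme.Spec.residueFieldIso (CommRingCat.of k) x).hom z)
  refine ⟨w, ?_⟩
  simp only [CommRingCat.hom_comp, CommRingCat.hom_ofHom, RingHom.coe_comp, Function.comp_apply]
  rw [hw]
  exact (Scheme.Spec.residueFieldIso (CommRingCat.of k) x).hom_inv_id_apply z

variable {k} in
theorem residueDegree_eq (F : Type u) [Field F] [Algebra k F] (x : Spec (CommRingCat.of F)) :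
    (Spec.map (CommRingCat.ofHom (algebraMap k F))).residueDegree x = Module.finrank k F := by
  set f := Spec.map (CommRingCat.ofHom (algebraMap k F)) with hf
  unfold Scheme.Hom.residueDegree
  letI := (f.residueFieldMap x).hom.toAlgebra
  let i : k ≃+* (Spec (CommRingCat.of k)).residueField (f x) :=
    RingEquiv.ofBijective (toRes k (f x)) (toRes_bijective k (f x))
  let j : F ≃+* (Spec (CommRingCat.of F)).residueField x :=
    RingEquiv.ofBijective (toRes F x) (toRes_bijective F x)
  have hc : (algebraMap ((Spec (CommRingCat.of k)).residueField (f x))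
      ((Spec (CommRingCat.of F)).residueField x)).comp i.toRingHom =
      j.toRingHom.comp (algebraMap k F) := by
    have h1 := Scheme.Γevaluation_naturality f x
    have h2 := Scheme.ΓSpecIso_inv_naturality (CommRingCat.ofHom (algebraMap k F))
    have h3 : (Scheme.ΓSpecIso (CommRingCat.of k)).inv ≫
        (Spec (CommRingCat.of k)).Γevaluation (f x) ≫ f.residueFieldMap x =
        CommRingCat.ofHom (algebraMap k F) ≫ (Scheme.ΓSpecIso (CommRingCat.of F)).inv ≫
          (Spec (CommRingCat.of F)).Γevaluation x := by
      rw [h1, ← Category.assoc, ← h2, Category.assoc]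
    ext a
    have := congrArg (fun g => g.hom a) h3
    exact this
  have := Algebra.rank_eq_of_equiv_equiv i j hc
  unfold Module.finrank
  rw [this]

/-- push-forward along `Spec F → Spec k` multiplies by the degree -/
theorem map_apply {k : Type u} [Field k] (F : Type u) [Field F] [Algebra k F]
    (α : AlgebraicCycle (Spec (CommRingCat.of F)) ℤ) (y : Spec (CommRingCat.of k)) :
    AlgebraicCycle.map (Spec.map (CommRingCat.ofHom (algebraMap k F)))
      (fun _ => (0 : ℤ)) (fun _ => (0 : ℤ)) α y = α default * (Module.finrank k F : ℤ) := by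
  unfold AlgebraicCycle.map
  rw [Function.locallyFinsupp.map_apply]
  have hpre : ((Spec.map (CommRingCat.ofHom (algebraMap k F))) ⁻¹' {y} :
      Set (Spec (CommRingCat.of F))) = Set.univ := by
    ext x
    simp only [Set.mem_preimage, Set.mem_singleton_iff, Set.mem_univ, iff_true]
    exact Subsingleton.elim _ _
  rw [hpre, finsum_mem_univ, finsum_unique]
  unfold AlgebraicCycle.mapCoeff
  rw [if_pos rfl, residueDegree_eq]

variable (k : Type u) [Field k]

/-- evaluation at the point on `0`-cycles -/
noncomputable def evZ : ↥(ChowOps.zk (Spec (CommRingCat.of k)) (fun _ => (0 : ℤ)) 0) →+ ℤ where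
  toFun a := (a : AlgebraicCycle (Spec (CommRingCat.of k)) ℤ) default
  map_zero' := rfl
  map_add' _ _ := rfl

theorem ratEquivZero_eq_zero (α : AlgebraicCycle (Spec (CommRingCat.of k)) ℤ)
    (h : Cyc.RatEquivZero (fun _ => (0 : ℤ)) 0 α) : α = 0 := by
  obtain ⟨ι, ξ, f, hδ, -, -, hα⟩ := h
  haveI : IsEmpty ι := ⟨fun i => by have := hδ i; simp at this⟩
  ext x
  rw [hα x, finsum_of_isEmpty]
  rfl

theorem ratTriv_eq_bot :
    ChowOps.ratTriv (Spec (CommRingCat.of k)) (fun _ => (0 : ℤ)) 0 = ⊥ := by
  rw [eq_bot_iff]
  unfold ChowOps.ratTriv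
  rw [AddSubgroup.closure_le]
  intro a ha
  have := ratEquivZero_eq_zero k _ ha
  simp only [SetLike.mem_coe, AddSubgroup.mem_bot]
  exact Subtype.ext this

/-- evaluation on the Chow group -/
noncomputable def ev : ChowOps.CH (Spec (CommRingCat.of k)) (fun _ => (0 : ℤ)) 0 →+ ℤ :=
  QuotientAddGroup.lift _ (evZ k) (by
    intro a ha
    rw [ratTriv_eq_bot, AddSubgroup.mem_bot] at ha
    rw [ha]
    exact zero_mem _)

theorem ev_cl (α : AlgebraicCycle (Spec (CommRingCat.of k)) ℤ)
    (h : α ∈ Cyc.Zk (Spec (CommRingCat.of k)) (fun _ => (0 : ℤ)) 0) :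
    ev k (ChowOps.cl α h) = α default := rfl

theorem ev_injective : Function.Injective (ev k) := by
  rw [injective_iff_map_eq_zero]
  intro c hc
  obtain ⟨a, rfl⟩ := QuotientAddGroup.mk_surjective c
  have h0 : (a : AlgebraicCycle (Spec (CommRingCat.of k)) ℤ) default = 0 := hc
  have : a = 0 := by
    apply Subtype.ext
    ext x
    rw [Subsingleton.elim x default, h0]
    rfl
  rw [this]
  rfl

theorem mem_Zk (α : AlgebraicCycle (Spec (CommRingCat.of k)) ℤ) :
    α ∈ Cyc.Zk (Spec (CommRingCat.of k)) (fun _ => (0 : ℤ)) 0 := by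
  intro x hx
  exact absurd rfl hx

theorem ev_surjective : Function.Surjective (ev k) := by
  classical
  intro n
  refine ⟨ChowOps.cl (Function.locallyFinsuppWithin.single default n) (mem_Zk k _), ?_⟩
  rw [ev_cl]
  simp

/-- the image of the norm subgroup in `ℤ` -/
theorem map_ev_ptNormSubgroup (K : Type u) [Field K] [Algebra k K] :
    (QsChow.ptNormSubgroup k K).map (ev k) =
      AddSubgroup.closure {d : ℤ | ∃ (F : IntermediateField k K) (_ : FiniteDimensional k F)
        (_ : F ≠ ⊥) (n : ℤ), d = n * (Module.finrank k F : ℤ)} := by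
  classical
  unfold QsChow.ptNormSubgroup
  rw [AddMonoidHom.map_closure]
  congr 1
  ext d
  constructor
  · rintro ⟨c, ⟨F, hF, hne, α, h, rfl⟩, rfl⟩
    refine ⟨F, hF, hne, α default, ?_⟩
    rw [ev_cl, map_apply]
  · rintro ⟨F, hF, hne, n, rfl⟩
    refine ⟨_, ⟨F, hF, hne, Function.locallyFinsuppWithin.single default n, mem_Zk k _, rfl⟩, ?_⟩
    rw [ev_cl, map_apply]
    simp

/-- the generating set of the image of the norm subgroup -/
def degSet (K : Type u) [Field K] [Algebra k K] : Set ℤ :=
  {d : ℤ | ∃ (F : IntermediateField k K) (_ : FiniteDimensional k F)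
    (_ : F ≠ ⊥) (n : ℤ), d = n * (Module.finrank k F : ℤ)}

theorem ptNormSubgroup_eq_comap (K : Type u) [Field K] [Algebra k K] :
    QsChow.ptNormSubgroup k K = (AddSubgroup.closure (degSet k K)).comap (ev k) := by
  rw [degSet, ← map_ev_ptNormSubgroup,
    AddSubgroup.comap_map_eq_self_of_injective (ev_injective k)]

/-- a subgroup of the Galois group of a finite Galois subextension gives an intermediate field of
the big extension of degree the index -/
theorem exists_intermediateField_of_subgroup (K : Type u) [Field K] [Algebra k K]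
    (L : IntermediateField k K) [FiniteDimensional k L] [IsGalois k L]
    (H : Subgroup (L ≃ₐ[k] L)) :
    ∃ (F : IntermediateField k K) (_ : FiniteDimensional k F), Module.finrank k F = H.index := by
  set E : IntermediateField k L := IntermediateField.fixedField H with hE
  have h1 : Module.finrank k E = H.index := by
    rw [IntermediateField.finrank_eq_fixingSubgroup_index L E, hE,
      IntermediateField.fixingSubgroup_fixedField]
  let e := IntermediateField.liftAlgEquiv E
  haveI : FiniteDimensional k (IntermediateField.lift E) :=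
    Module.Finite.equiv e.toLinearEquiv
  exact ⟨IntermediateField.lift E, inferInstance, by rw [← e.toLinearEquiv.finrank_eq, h1]⟩

theorem index_mem_closure (K : Type u) [Field K] [Algebra k K]
    (L : IntermediateField k K) [FiniteDimensional k L] [IsGalois k L]
    (H : Subgroup (L ≃ₐ[k] L)) (hH : H.index ≠ 1) :
    (H.index : ℤ) ∈ AddSubgroup.closure (degSet k K) := by
  obtain ⟨F, hF, hdeg⟩ := exists_intermediateField_of_subgroup k K L H
  apply AddSubgroup.subset_closure
  refine ⟨F, hF, ?_, 1, by rw [hdeg, one_mul]⟩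
  intro hbot
  apply hH
  rw [← hdeg, IntermediateField.finrank_eq_one_iff.2 hbot]

end Groth.Agent.Lib.Helper84.PtChow
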