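import Mathlib

set_option autoImplicit false

namespace Groth.Agent.Lib.Helper84.QSymLib

open Finsupp

/-- canonical form of a finitely supported function on a linear order -/
lemma canon {α : Type*} [LinearOrder α] (e : α →₀ ℕ) :
    ∃ (ℓ : ℕ) (i : Fin ℓ → α) (a : Fin ℓ → ℕ), StrictMono i ∧ (∀ t, 0 < a t) ∧
      e = ∑ t : Fin ℓ, Finsupp.single (i t) (a t) := by
  refine ⟨e.support.card, e.support.orderEmbOfFin rfl,
    fun t => e (e.support.orderEmbOfFin rfl t), (e.support.orderEmbOfFin rfl).strictMono, ?_, ?_⟩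
  · intro t
    have := Finset.orderEmbOfFin_mem e.support rfl t
    exact Nat.pos_of_ne_zero (Finsupp.mem_support_iff.mp this)
  · conv_lhs => rw [← Finsupp.sum_single e]
    rw [Finsupp.sum, ← Finset.sum_coe_sort e.support]
    rw [← Equiv.sum_comp (e.support.orderIsoOfFin rfl).toEquiv]
    refine Finset.sum_congr rfl fun t _ => ?_
    simp

lemma mapDomain_sum_single {α β : Type*} (g : α → β) {ℓ : ℕ} (i : Fin ℓ → α) (a : Fin ℓ → ℕ) :
    Finsupp.mapDomain g (∑ t : Fin ℓ, Finsupp.single (i t) (a t)) =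
      ∑ t : Fin ℓ, Finsupp.single (g (i t)) (a t) := by
  rw [Finsupp.mapDomain_finsetSum]
  simp [Finsupp.mapDomain_single]

/-- every finitely supported function on ℕ comes from some `Fin n`. -/
lemma exists_fin (e : ℕ →₀ ℕ) : ∃ (n : ℕ) (e' : Fin n →₀ ℕ), Finsupp.mapDomain Fin.val e' = e := by
  obtain ⟨ℓ, i, a, hi, ha, rfl⟩ := canon e
  refine ⟨(Finset.univ.sup i) + 1,
    ∑ t : Fin ℓ, Finsupp.single ⟨i t, Nat.lt_succ_of_le (Finset.le_sup (f := i) (Finset.mem_univ t))⟩ (a t), ?_⟩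
  rw [mapDomain_sum_single]

lemma mapDomain_val_injective (n : ℕ) :
    Function.Injective (Finsupp.mapDomain (M := ℕ) (Fin.val : Fin n → ℕ)) :=
  Finsupp.mapDomain_injective Fin.val_injective

lemma mapDomain_castLE {n m : ℕ} (h : n ≤ m) (e : Fin n →₀ ℕ) :
    Finsupp.mapDomain Fin.val (Finsupp.mapDomain (Fin.castLEOrderEmb h) e) =
      Finsupp.mapDomain Fin.val e := by
  rw [← Finsupp.mapDomain_comp]
  rfl

end Groth.Agent.Lib.Helper84.QSymLib
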