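import Mathlib

/-!
# Rational maximizers of `ℓ·y / √q(y)` on the orthant (helper84)
-/

open Matrix Topology

namespace Groth.Agent.Lib.Helper84.RatMax

variable {n : ℕ}

/-- the objective function -/
noncomputable def f (A : Matrix (Fin n) (Fin n) ℝ) (l : Fin n → ℝ) (y : Fin n → ℝ) : ℝ :=
  l ⬝ᵥ y / Real.sqrt (y ⬝ᵥ A *ᵥ y)

/-- nonzero point of the orthant -/
def Orth (y : Fin n → ℝ) : Prop := (∀ i, 0 ≤ y i) ∧ y ≠ 0

/-- global maximizer on the orthant -/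
def IsMax (A : Matrix (Fin n) (Fin n) ℝ) (l : Fin n → ℝ) (x : Fin n → ℝ) : Prop :=
  Orth x ∧ ∀ y, Orth y → f A l y ≤ f A l x

theorem f_smul (A : Matrix (Fin n) (Fin n) ℝ) (l : Fin n → ℝ) (c : ℝ) (hc : 0 < c)
    (y : Fin n → ℝ) : f A l (c • y) = f A l y := by
  unfold f
  rw [dotProduct_smul, mulVec_smul, smul_dotProduct, dotProduct_smul, smul_eq_mul, smul_eq_mul,
    smul_eq_mul, ← mul_assoc, Real.sqrt_mul (mul_self_nonneg c), Real.sqrt_mul_self hc.le,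
    mul_div_mul_left _ _ hc.ne']

theorem orth_smul (c : ℝ) (hc : 0 < c) (y : Fin n → ℝ) (hy : Orth y) : Orth (c • y) := by
  refine ⟨fun i => ?_, ?_⟩
  · simp only [Pi.smul_apply, smul_eq_mul]
    exact mul_nonneg hc.le (hy.1 i)
  · intro h
    exact hy.2 ((smul_eq_zero.1 h).resolve_left hc.ne')

theorem isMax_smul (A : Matrix (Fin n) (Fin n) ℝ) (l : Fin n → ℝ) (c : ℝ) (hc : 0 < c)
    (y : Fin n → ℝ) (hy : IsMax A l y) : IsMax A l (c • y) :=
  ⟨orth_smul c hc y hy.1, fun y' hy' => by rw [f_smul A l c hc]; exact hy.2 y' hy'⟩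

theorem symm_dot (A : Matrix (Fin n) (Fin n) ℝ) (hA : A.IsSymm) (y v : Fin n → ℝ) :
    y ⬝ᵥ A *ᵥ v = v ⬝ᵥ A *ᵥ y := by
  rw [dotProduct_mulVec, ← mulVec_transpose, hA.eq, dotProduct_comm]

theorem q_add_smul (A : Matrix (Fin n) (Fin n) ℝ) (hA : A.IsSymm) (y v : Fin n → ℝ) (ε : ℝ) :
    (y + ε • v) ⬝ᵥ A *ᵥ (y + ε • v) =
      y ⬝ᵥ A *ᵥ y + ε * (2 * (v ⬝ᵥ A *ᵥ y)) + ε ^ 2 * (v ⬝ᵥ A *ᵥ v) := by
  have hs := symm_dot A hA y v
  simp only [mulVec_add, mulVec_smul, add_dotProduct, dotProduct_add, smul_dotProduct,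
    dotProduct_smul, smul_eq_mul, hs]
  ring

theorem sum_pos_of_orth (y : Fin n → ℝ) (hy : Orth y) : 0 < ∑ i, y i := by
  obtain ⟨i, hi⟩ : ∃ i, y i ≠ 0 := by
    by_contra h
    push Not at h
    exact hy.2 (funext h)
  exact Finset.sum_pos' (fun i _ => hy.1 i) ⟨i, Finset.mem_univ _, lt_of_le_of_ne (hy.1 i) (Ne.symm hi)⟩

/-- existence of a maximizer -/
theorem exists_isMax (A : Matrix (Fin n) (Fin n) ℝ) (l : Fin n → ℝ)
    (hpos : ∀ y : Fin n → ℝ, Orth y → 0 < y ⬝ᵥ A *ᵥ y)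
    (hne : ∃ y : Fin n → ℝ, Orth y) : ∃ x, IsMax A l x := by
  have hsimp : ∀ y : Fin n → ℝ, y ∈ stdSimplex ℝ (Fin n) → Orth y := by
    intro y hy
    refine ⟨hy.1, fun h => ?_⟩
    have := hy.2
    rw [h] at this
    simp at this
  have hnorm : ∀ y : Fin n → ℝ, Orth y → (∑ i, y i)⁻¹ • y ∈ stdSimplex ℝ (Fin n) := by
    intro y hy
    have hs := sum_pos_of_orth y hy
    refine ⟨fun i => ?_, ?_⟩
    · simp only [Pi.smul_apply, smul_eq_mul]
      exact mul_nonneg (inv_nonneg.2 hs.le) (hy.1 i)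
    · simp only [Pi.smul_apply, smul_eq_mul, ← Finset.mul_sum]
      exact inv_mul_cancel₀ hs.ne'
  have hcont : ContinuousOn (f A l) (stdSimplex ℝ (Fin n)) := by
    unfold f
    apply ContinuousOn.div
    · exact (continuous_const.dotProduct continuous_id).continuousOn
    · apply Continuous.continuousOn
      apply Real.continuous_sqrt.comp
      exact continuous_id.dotProduct (Continuous.matrix_mulVec continuous_const continuous_id)
    · intro y hy
      exact (Real.sqrt_pos.2 (hpos y (hsimp y hy))).ne'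
  obtain ⟨y0, hy0⟩ := hne
  obtain ⟨x, hx, hmax⟩ := (isCompact_stdSimplex (𝕜 := ℝ) (Fin n)).exists_isMaxOn
    ⟨_, hnorm y0 hy0⟩ hcont
  refine ⟨x, hsimp x hx, fun y hy => ?_⟩
  have := hmax (hnorm y hy)
  simp only [Set.mem_ofPred_eq] at this
  rwa [f_smul A l _ (inv_pos.2 (sum_pos_of_orth y hy))] at this

/-- first-order condition at a maximizer -/
theorem first_order (A : Matrix (Fin n) (Fin n) ℝ) (hA : A.IsSymm) (l : Fin n → ℝ)
    (hpos : ∀ y : Fin n → ℝ, Orth y → 0 < y ⬝ᵥ A *ᵥ y)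
    (y : Fin n → ℝ) (hy : IsMax A l y) (hly : 0 < l ⬝ᵥ y)
    (v : Fin n → ℝ) (hv : ∀ i, y i = 0 → v i = 0) :
    (l ⬝ᵥ v) * (y ⬝ᵥ A *ᵥ y) = (l ⬝ᵥ y) * (v ⬝ᵥ A *ᵥ y) := by
  set h : ℝ → ℝ := fun ε => (l ⬝ᵥ y) ^ 2 * ((y + ε • v) ⬝ᵥ A *ᵥ (y + ε • v)) -
    (l ⬝ᵥ (y + ε • v)) ^ 2 * (y ⬝ᵥ A *ᵥ y) with hh
  set b : ℝ := (l ⬝ᵥ y) ^ 2 * (2 * (v ⬝ᵥ A *ᵥ y)) - 2 * (l ⬝ᵥ y) * (l ⬝ᵥ v) * (y ⬝ᵥ A *ᵥ y)
    with hb
  set a : ℝ := (l ⬝ᵥ y) ^ 2 * (v ⬝ᵥ A *ᵥ v) - (l ⬝ᵥ v) ^ 2 * (y ⬝ᵥ A *ᵥ y) with ha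
  have hform : h = fun ε => ε * b + ε ^ 2 * a := by
    funext ε
    simp only [hh, q_add_smul A hA, dotProduct_add, dotProduct_smul, smul_eq_mul, hb, ha]
    ring
  have hderiv : HasDerivAt h b 0 := by
    rw [hform]
    have h1 : HasDerivAt (fun ε : ℝ => ε * b) b 0 := by
      simpa using (hasDerivAt_id (0 : ℝ)).mul_const b
    have h2 : HasDerivAt (fun ε : ℝ => ε ^ 2 * a) 0 0 := by
      simpa using (hasDerivAt_pow 2 (0 : ℝ)).mul_const a
    have h3 := h1.fun_add h2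
    rw [add_zero] at h3
    exact h3
  have hqy := hpos y hy.1
  have hmin : IsLocalMin h 0 := by
    have h0 : h 0 = 0 := by rw [hform]; simp
    have e1 : ∀ᶠ ε in 𝓝 (0 : ℝ), ∀ i, 0 ≤ y i + ε * v i := by
      refine Filter.eventually_all.2 (fun i => ?_)
      by_cases hi : y i = 0
      · refine Filter.Eventually.of_forall (fun ε => ?_)
        rw [hi, hv i hi]; simp
      · have hpi : 0 < y i := lt_of_le_of_ne (hy.1.1 i) (Ne.symm hi)
        have ht : Filter.Tendsto (fun ε : ℝ => y i + ε * v i) (𝓝 0) (𝓝 (y i + 0 * v i)) :=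
          (continuous_const.add (continuous_id.mul continuous_const)).tendsto 0
        have := ht.eventually (lt_mem_nhds (by simpa using hpi))
        exact this.mono (fun _ h => h.le)
    have e2 : ∀ᶠ ε in 𝓝 (0 : ℝ), 0 < l ⬝ᵥ y + ε * (l ⬝ᵥ v) := by
      have ht : Filter.Tendsto (fun ε : ℝ => l ⬝ᵥ y + ε * (l ⬝ᵥ v)) (𝓝 0)
          (𝓝 (l ⬝ᵥ y + 0 * (l ⬝ᵥ v))) :=
        (continuous_const.add (continuous_id.mul continuous_const)).tendsto 0
      exact ht.eventually (lt_mem_nhds (by simpa using hly))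
    filter_upwards [e1, e2] with ε h1 h2
    rw [h0]
    have hl' : l ⬝ᵥ (y + ε • v) = l ⬝ᵥ y + ε * (l ⬝ᵥ v) := by
      rw [dotProduct_add, dotProduct_smul, smul_eq_mul]
    have horth : Orth (y + ε • v) := by
      refine ⟨fun i => by simpa using h1 i, fun h0 => ?_⟩
      rw [← hl', h0, dotProduct_zero] at h2
      exact lt_irrefl _ h2
    have hle := hy.2 _ horth
    unfold f at hle
    have hq' := hpos _ horth
    rw [div_le_div_iff₀ (Real.sqrt_pos.2 hq') (Real.sqrt_pos.2 hqy)] at hle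
    rw [← hl'] at h2
    have hsq := pow_le_pow_left₀ (mul_nonneg h2.le (Real.sqrt_nonneg _)) hle 2
    rw [mul_pow, mul_pow, Real.sq_sqrt hqy.le, Real.sq_sqrt hq'.le] at hsq
    simp only [hh]
    linarith
  have hb0 : b = 0 := hmin.hasDerivAt_eq_zero hderiv
  have : (l ⬝ᵥ y) * ((l ⬝ᵥ y) * (v ⬝ᵥ A *ᵥ y) - (l ⬝ᵥ v) * (y ⬝ᵥ A *ᵥ y)) = 0 := by
    rw [hb] at hb0
    linarith [hb0]
  rcases mul_eq_zero.1 this with h | h
  · exact absurd h hly.ne'
  · linarith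

/-- support -/
noncomputable def supp (z : Fin n → ℝ) : Finset (Fin n) := by
  classical exact Finset.univ.filter (fun i => z i ≠ 0)

theorem mem_supp (z : Fin n → ℝ) (i : Fin n) : i ∈ supp z ↔ z i ≠ 0 := by
  classical
  simp [supp]

/-- moving along a kernel direction with a negative coordinate reduces the support -/
theorem reduce_aux (A : Matrix (Fin n) (Fin n) ℝ) (hA : A.IsSymm) (l : Fin n → ℝ)
    (hpos : ∀ y : Fin n → ℝ, Orth y → 0 < y ⬝ᵥ A *ᵥ y)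
    (z : Fin n → ℝ) (hz : IsMax A l z)
    (hnorm : ∀ i, z i ≠ 0 → (A *ᵥ z) i = l i)
    (w : Fin n → ℝ) (hwneg : ∃ i, w i < 0) (hw : ∀ i, z i = 0 → w i = 0)
    (hAw : ∀ i, z i ≠ 0 → (A *ᵥ w) i = 0) :
    ∃ z', IsMax A l z' ∧ (supp z').card < (supp z).card := by
  classical
  have ha : z ⬝ᵥ A *ᵥ w = 0 := by
    unfold dotProduct
    refine Finset.sum_eq_zero (fun i _ => ?_)
    by_cases hi : z i = 0
    · rw [hi, zero_mul]
    · rw [hAw i hi, mul_zero]
  have hb : w ⬝ᵥ A *ᵥ w = 0 := by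
    unfold dotProduct
    refine Finset.sum_eq_zero (fun i _ => ?_)
    by_cases hi : z i = 0
    · rw [hw i hi, zero_mul]
    · rw [hAw i hi, mul_zero]
  have hc : l ⬝ᵥ w = 0 := by
    have : l ⬝ᵥ w = (A *ᵥ z) ⬝ᵥ w := by
      unfold dotProduct
      refine Finset.sum_congr rfl (fun i _ => ?_)
      by_cases hi : z i = 0
      · rw [hw i hi, mul_zero, mul_zero]
      · rw [hnorm i hi]
    rw [this, dotProduct_comm, symm_dot A hA, ha]
  have hq : ∀ t : ℝ, (z + t • w) ⬝ᵥ A *ᵥ (z + t • w) = z ⬝ᵥ A *ᵥ z := by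
    intro t
    rw [q_add_smul A hA, symm_dot A hA w z, ha, hb]
    ring
  have hl : ∀ t : ℝ, l ⬝ᵥ (z + t • w) = l ⬝ᵥ z := by
    intro t
    rw [dotProduct_add, dotProduct_smul, hc, smul_zero, add_zero]
  have hqz := hpos z hz.1
  have hmax : ∀ t : ℝ, (∀ i, 0 ≤ z i + t * w i) → IsMax A l (z + t • w) := by
    intro t ht
    have horth : Orth (z + t • w) := by
      refine ⟨fun i => by simpa using ht i, fun h0 => ?_⟩
      have := hq t
      rw [h0, zero_dotProduct] at this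
      rw [← this] at hqz
      exact lt_irrefl _ hqz
    refine ⟨horth, fun y hy => ?_⟩
    have : f A l (z + t • w) = f A l z := by
      unfold f
      rw [hq t, hl t]
    rw [this]
    exact hz.2 y hy
  set T : Finset (Fin n) := Finset.univ.filter (fun i => w i < 0) with hT
  have hTne : T.Nonempty := by
    obtain ⟨i, hi⟩ := hwneg
    exact ⟨i, by simp [hT, hi]⟩
  obtain ⟨i₀, hi₀T, hmin⟩ := Finset.exists_min_image T (fun i => z i / (-w i)) hTne
  have hwi₀ : w i₀ < 0 := by simpa [hT] using hi₀T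
  set t : ℝ := z i₀ / (-w i₀) with ht
  have ht0 : 0 ≤ t := div_nonneg (hz.1.1 i₀) (by linarith)
  have hnonneg : ∀ i, 0 ≤ z i + t * w i := by
    intro i
    by_cases hwi : w i < 0
    · have := hmin i (by simp [hT, hwi])
      rw [le_div_iff₀ (by linarith)] at this
      linarith
    · push Not at hwi
      have := mul_nonneg ht0 hwi
      linarith [hz.1.1 i]
  refine ⟨z + t • w, hmax t hnonneg, ?_⟩
  have hzi₀ : z i₀ ≠ 0 := fun h => by
    have := hw i₀ h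
    rw [this] at hwi₀
    exact lt_irrefl _ hwi₀
  have hzero : (z + t • w) i₀ = 0 := by
    simp only [Pi.add_apply, Pi.smul_apply, smul_eq_mul, ht]
    have : -w i₀ ≠ 0 := by linarith
    have h1 : z i₀ / (-w i₀) * w i₀ = - z i₀ := by
      rw [div_mul_eq_mul_div, div_eq_iff this]; ring
    linarith
  apply Finset.card_lt_card
  refine ⟨fun i hi => ?_, fun h => ?_⟩
  · rw [mem_supp] at hi ⊢
    intro hzi
    apply hi
    simp [hzi, hw i hzi]
  · have := h ((mem_supp z i₀).2 hzi₀)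
    rw [mem_supp] at this
    exact this hzero

theorem reduce (A : Matrix (Fin n) (Fin n) ℝ) (hA : A.IsSymm) (l : Fin n → ℝ)
    (hpos : ∀ y : Fin n → ℝ, Orth y → 0 < y ⬝ᵥ A *ᵥ y)
    (z : Fin n → ℝ) (hz : IsMax A l z)
    (hnorm : ∀ i, z i ≠ 0 → (A *ᵥ z) i = l i)
    (w : Fin n → ℝ) (hw0 : w ≠ 0) (hw : ∀ i, z i = 0 → w i = 0)
    (hAw : ∀ i, z i ≠ 0 → (A *ᵥ w) i = 0) :
    ∃ z', IsMax A l z' ∧ (supp z').card < (supp z).card := by
  obtain ⟨i, hi⟩ : ∃ i, w i ≠ 0 := by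
    by_contra h
    push Not at h
    exact hw0 (funext h)
  rcases lt_or_gt_of_ne hi with h | h
  · exact reduce_aux A hA l hpos z hz hnorm w ⟨i, h⟩ hw hAw
  · refine reduce_aux A hA l hpos z hz hnorm (-w) ⟨i, by simpa using h⟩ ?_ ?_
    · intro j hj
      simp [hw j hj]
    · intro j hj
      rw [mulVec_neg, Pi.neg_apply, hAw j hj, neg_zero]

/-- real part: there is a normalized maximizer with no kernel directions on its support -/
theorem exists_good (A : Matrix (Fin n) (Fin n) ℝ) (hA : A.IsSymm) (l : Fin n → ℝ)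
    (hpos : ∀ y : Fin n → ℝ, Orth y → 0 < y ⬝ᵥ A *ᵥ y)
    (hl : ∃ y : Fin n → ℝ, (∀ i, 0 ≤ y i) ∧ 0 < l ⬝ᵥ y) :
    ∃ z, IsMax A l z ∧ (∀ i, z i ≠ 0 → (A *ᵥ z) i = l i) ∧
      ∀ w : Fin n → ℝ, (∀ i, z i = 0 → w i = 0) → (∀ i, z i ≠ 0 → (A *ᵥ w) i = 0) → w = 0 := by
  classical
  obtain ⟨y0, hy0, hly0⟩ := hl
  have hy0orth : Orth y0 := ⟨hy0, fun h => by rw [h, dotProduct_zero] at hly0; exact lt_irrefl _ hly0⟩
  have hex : ∃ k, ∃ z, IsMax A l z ∧ (supp z).card = k := by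
    obtain ⟨x, hx⟩ := exists_isMax A l hpos ⟨y0, hy0orth⟩
    exact ⟨_, x, hx, rfl⟩
  obtain ⟨z₀, hz₀, hcard⟩ := Nat.find_spec hex
  have hminimal : ∀ z', IsMax A l z' → (supp z₀).card ≤ (supp z').card := by
    intro z' hz'
    rw [hcard]
    exact Nat.find_min' hex ⟨z', hz', rfl⟩
  have hfpos : ∀ z, IsMax A l z → 0 < l ⬝ᵥ z := by
    intro z hz
    have h1 := hz.2 y0 hy0orth
    have h2 : 0 < f A l y0 := div_pos hly0 (Real.sqrt_pos.2 (hpos y0 hy0orth))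
    have h3 : 0 < f A l z := lt_of_lt_of_le h2 h1
    unfold f at h3
    by_contra hneg
    push Not at hneg
    have := div_nonpos_of_nonpos_of_nonneg hneg (Real.sqrt_nonneg (z ⬝ᵥ A *ᵥ z))
    linarith
  have hlz₀ := hfpos z₀ hz₀
  have hqz₀ := hpos z₀ hz₀.1
  set c : ℝ := (l ⬝ᵥ z₀) / (z₀ ⬝ᵥ A *ᵥ z₀) with hc
  have hcpos : 0 < c := div_pos hlz₀ hqz₀
  set z := c • z₀ with hzdef
  have hz : IsMax A l z := isMax_smul A l c hcpos z₀ hz₀
  have hzi : ∀ i, z i = 0 ↔ z₀ i = 0 := by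
    intro i
    simp only [hzdef, Pi.smul_apply, smul_eq_mul, mul_eq_zero, hcpos.ne', false_or]
  have hsupp : supp z = supp z₀ := by
    ext i
    rw [mem_supp, mem_supp, Ne, Ne, hzi]
  have hnorm : ∀ i, z i ≠ 0 → (A *ᵥ z) i = l i := by
    intro i hi
    have hi₀ : z₀ i ≠ 0 := fun h => hi ((hzi i).2 h)
    have hfo := first_order A hA l hpos z₀ hz₀ hlz₀ (Pi.single i 1) (by
      intro j hj
      have : j ≠ i := fun h => hi₀ (h ▸ hj)
      simp [this])
    rw [dotProduct_single_one, single_one_dotProduct] at hfo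
    rw [hzdef, mulVec_smul, Pi.smul_apply, smul_eq_mul, hc]
    field_simp
    linarith
  refine ⟨z, hz, hnorm, fun w hw hAw => ?_⟩
  by_contra hw0
  obtain ⟨z', hz', hlt⟩ := reduce A hA l hpos z hz hnorm w hw0 hw hAw
  have := hminimal z' hz'
  rw [hsupp] at hlt
  omega

theorem cast_mulVec (M : Matrix (Fin n) (Fin n) ℚ) (v : Fin n → ℚ) :
    (M.map (fun r : ℚ => (r : ℝ))) *ᵥ (fun i => (v i : ℝ)) = fun i => ((M *ᵥ v) i : ℝ) := by
  funext i
  simp only [mulVec, dotProduct, map_apply]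
  push_cast
  rfl

/-- rational main theorem, symmetric case -/
theorem main_symm (ℓ : Fin n → ℚ) (A : Matrix (Fin n) (Fin n) ℚ) (hA : A.IsSymm)
    (hpos : ∀ y : Fin n → ℝ, (∀ i, 0 ≤ y i) → y ≠ 0 →
      0 < y ⬝ᵥ (A.map (fun r : ℚ => (r : ℝ))) *ᵥ y)
    (hℓ : ∃ y : Fin n → ℝ, (∀ i, 0 ≤ y i) ∧ 0 < (fun i => (ℓ i : ℝ)) ⬝ᵥ y) :
    ∃ x : Fin n → ℚ, IsMax (A.map (fun r : ℚ => (r : ℝ))) (fun i => (ℓ i : ℝ))
      (fun i => (x i : ℝ)) := by
  classical
  set Ar : Matrix (Fin n) (Fin n) ℝ := A.map (fun r : ℚ => (r : ℝ)) with hAr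
  set l : Fin n → ℝ := fun i => (ℓ i : ℝ) with hl
  have hArs : Ar.IsSymm := by
    ext i j
    simp only [hAr, transpose_apply, map_apply]
    rw [hA.apply]
  obtain ⟨z, hz, hnorm, huniq⟩ := exists_good Ar hArs l (fun y hy => hpos y hy.1 hy.2) hℓ
  -- the rational system
  set M : Matrix (Fin n) (Fin n) ℚ := Matrix.of fun i j =>
    if z i ≠ 0 then (if z j ≠ 0 then A i j else 0) else (if i = j then 1 else 0) with hM
  set ℓ' : Fin n → ℚ := fun i => if z i ≠ 0 then ℓ i else 0 with hℓ'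
  -- kernel vectors of `M` (over ℚ) give kernel directions
  have hker : ∀ w : Fin n → ℚ, M *ᵥ w = 0 → w = 0 := by
    intro w hw
    have hw1 : ∀ i, z i = 0 → w i = 0 := by
      intro i hi
      have := congrFun hw i
      simp only [mulVec, dotProduct, hM, of_apply, hi, ne_eq, not_true_eq_false, if_false,
        ite_mul, one_mul, zero_mul, Finset.sum_ite_eq, Finset.mem_univ, if_true,
        Pi.zero_apply] at this
      exact this
    have hw2 : ∀ i, z i ≠ 0 → (A *ᵥ w) i = 0 := by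
      intro i hi
      have := congrFun hw i
      simp only [mulVec, dotProduct, hM, of_apply, hi, ne_eq, not_false_eq_true, if_true,
        Pi.zero_apply] at this
      rw [← this]
      simp only [mulVec, dotProduct]
      refine Finset.sum_congr rfl (fun j _ => ?_)
      by_cases hj : z j = 0
      · rw [hw1 j hj, mul_zero, mul_zero]
      · simp [hj]
    have := huniq (fun i => (w i : ℝ)) (fun i hi => by simp [hw1 i hi]) (fun i hi => by
      rw [hAr, cast_mulVec]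
      show ((A *ᵥ w) i : ℝ) = 0
      rw [hw2 i hi]; simp)
    funext i
    have := congrFun this i
    simpa using this
  have hdet : M.det ≠ 0 := by
    intro h0
    obtain ⟨w, hw0, hw⟩ := Matrix.exists_mulVec_eq_zero_iff.2 h0
    exact hw0 (hker w hw)
  have hunit : IsUnit M.det := isUnit_iff_ne_zero.2 hdet
  set x : Fin n → ℚ := M⁻¹ *ᵥ ℓ' with hx
  have hMx : M *ᵥ x = ℓ' := by
    rw [hx, mulVec_mulVec, mul_nonsing_inv M hunit, one_mulVec]
  -- z solves the real system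
  have hMz : (M.map (fun r : ℚ => (r : ℝ))) *ᵥ z = fun i => (ℓ' i : ℝ) := by
    funext i
    have hsum : ((M.map (fun r : ℚ => (r : ℝ))) *ᵥ z) i = ∑ j, ((M i j : ℚ) : ℝ) * z j := rfl
    rw [hsum]
    by_cases hi : z i = 0
    · have hMij : ∀ j, M i j = if i = j then 1 else 0 := fun j => by simp [hM, hi]
      simp only [hMij]
      have hterm : ∀ j, (((if i = j then 1 else 0 : ℚ)) : ℝ) * z j = if i = j then z j else 0 := by
        intro j; split_ifs <;> simp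
      simp only [hterm, Finset.sum_ite_eq, Finset.mem_univ, if_true]
      simp [hℓ', hi]
    · have hMij : ∀ j, M i j = if z j ≠ 0 then A i j else 0 := fun j => by simp [hM, hi]
      simp only [hMij]
      have hn : (Ar *ᵥ z) i = (ℓ i : ℝ) := hnorm i hi
      have hl'i : ℓ' i = ℓ i := by simp [hℓ', hi]
      rw [hl'i, ← hn]
      simp only [mulVec, dotProduct, hAr, map_apply]
      refine Finset.sum_congr rfl (fun j _ => ?_)
      by_cases hj : z j = 0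
      · rw [hj, mul_zero, mul_zero]
      · simp [hj]
  have hzx : z = fun i => (x i : ℝ) := by
    have h1 : (M.map (fun r : ℚ => (r : ℝ))) *ᵥ (fun i => (x i : ℝ)) = fun i => (ℓ' i : ℝ) := by
      rw [cast_mulVec, hMx]
    have hdetr : (M.map (fun r : ℚ => (r : ℝ))).det ≠ 0 := by
      have : (M.map (fun r : ℚ => (r : ℝ))).det = ((M.det : ℚ) : ℝ) := by
        have := (RingHom.map_det (Rat.castHom ℝ) M).symm
        simpa using this
      rw [this]
      exact_mod_cast hdet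
    have hunitr : IsUnit (M.map (fun r : ℚ => (r : ℝ))).det := isUnit_iff_ne_zero.2 hdetr
    have h2 : (M.map (fun r : ℚ => (r : ℝ))) *ᵥ z =
        (M.map (fun r : ℚ => (r : ℝ))) *ᵥ (fun i => (x i : ℝ)) := by rw [hMz, h1]
    have h3 := congrArg (fun v => (M.map (fun r : ℚ => (r : ℝ)))⁻¹ *ᵥ v) h2
    simp only [mulVec_mulVec, nonsing_inv_mul _ hunitr, one_mulVec] at h3
    exact h3
  refine ⟨x, ?_⟩
  rw [← hzx]
  exact hz

/-- rational main theorem -/
theorem main (ℓ : Fin n → ℚ) (B : Matrix (Fin n) (Fin n) ℚ)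
    (hpos : ∀ y : Fin n → ℝ, (∀ i, 0 ≤ y i) → y ≠ 0 →
      0 < y ⬝ᵥ (B.map (fun r : ℚ => (r : ℝ))) *ᵥ y)
    (hℓ : ∃ y : Fin n → ℝ, (∀ i, 0 ≤ y i) ∧ 0 < (fun i => (ℓ i : ℝ)) ⬝ᵥ y) :
    ∃ x : Fin n → ℚ, IsMax (B.map (fun r : ℚ => (r : ℝ))) (fun i => (ℓ i : ℝ))
      (fun i => (x i : ℝ)) := by
  set A : Matrix (Fin n) (Fin n) ℚ := (1 / 2 : ℚ) • (B + Bᵀ) with hA
  have hAs : A.IsSymm := by
    ext i j
    simp only [hA, transpose_apply, Matrix.smul_apply, Matrix.add_apply, smul_eq_mul]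
    ring
  have hq : ∀ y : Fin n → ℝ, y ⬝ᵥ (A.map (fun r : ℚ => (r : ℝ))) *ᵥ y =
      y ⬝ᵥ (B.map (fun r : ℚ => (r : ℝ))) *ᵥ y := by
    intro y
    have h1 : A.map (fun r : ℚ => (r : ℝ)) = (1 / 2 : ℝ) • (B.map (fun r : ℚ => (r : ℝ)) +
        (B.map (fun r : ℚ => (r : ℝ)))ᵀ) := by
      ext i j
      simp only [hA, map_apply, Matrix.smul_apply, Matrix.add_apply, transpose_apply, smul_eq_mul]
      push_cast
      ring
    have h2 : y ⬝ᵥ (B.map (fun r : ℚ => (r : ℝ)))ᵀ *ᵥ y =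
        y ⬝ᵥ (B.map (fun r : ℚ => (r : ℝ))) *ᵥ y := by
      rw [mulVec_transpose, dotProduct_comm, ← dotProduct_mulVec]
    rw [h1, smul_mulVec, add_mulVec, dotProduct_smul, dotProduct_add, h2, smul_eq_mul]
    ring
  obtain ⟨x, hx⟩ := main_symm ℓ A hAs (fun y hy hy0 => by rw [hq]; exact hpos y hy hy0) hℓ
  refine ⟨x, hx.1, fun y hy => ?_⟩
  have := hx.2 y hy
  unfold f at this ⊢
  rwa [hq, hq] at this

end Groth.Agent.Lib.Helper84.RatMax
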