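import Groth.Agent.Lib.Helper84.BCCompare
import Groth.Agent.Lib.Helper84.NilPC
import Groth.Agent.Lib.Helper15.PseudoCohRes
import Groth.Agent.Lib.Helper15.LBCKFlat

/-!
# Base change of relatively perfect objects (helper84)
-/

set_option autoImplicit false
universe u

open CategoryTheory CategoryTheory.Limits CategoryTheory.Pretriangulated DerivedCategory
open DRing TensorProduct

attribute [local instance] HasDerivedCategory.standard
attribute [local instance] Algebra.TensorProduct.rightAlgebra

namespace Groth.Agent.Lib.Helper84.RelPerfBC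

open Groth.Agent.Lib.Helper15 Groth.Agent.Lib.Helper15.PseudoCohRes BCCompare

section general

variable {A B : Type u} [CommRing A] [CommRing B] (φ : A →+* B)

lemma flat_extendScalars (M : ModuleCat.{u} A) (h : Module.Flat A M) :
    Module.Flat B ((ModuleCat.extendScalars.{u, u, u} φ).obj M) := by
  letI := φ.toAlgebra
  exact inferInstanceAs (Module.Flat B (TensorProduct A B M))

/-- tor amplitude is preserved by derived base change -/
theorem torAmp_lbaseChange [DRing.HasLBaseChange φ] (K : Dual.D A) (a b : ℤ)
    (h : HasTorAmplitudeIn A a b K) : HasTorAmplitudeIn B a b ((DRing.LBaseChange φ).obj K) := by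
  obtain ⟨F, hF, hfl, ⟨e⟩⟩ := h
  refine ⟨LDerived.extCx φ F, ?_, ?_, ⟨(LBCKFlat.lbcIsoOfFlat φ F b
    (fun q hq => hF q (Or.inr hq)) hfl).symm ≪≫ (DRing.LBaseChange φ).mapIso e⟩⟩
  · intro i hi
    exact Functor.map_isZero (ModuleCat.extendScalars.{u, u, u} φ) (hF i hi)
  · intro i
    exact flat_extendScalars φ _ (hfl i)

end general

variable (k S B : Type u) [CommRing k] [CommRing S] [CommRing B] [Algebra k S] [Algebra k B]

lemma flat_restrictScalars [Module.Flat k B] (M : ModuleCat.{u} B) (h : Module.Flat B M) :
    Module.Flat k ((ModuleCat.restrictScalars (algebraMap k B)).obj M) := by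
  letI : Module k M := Module.compHom M (algebraMap k B)
  haveI : IsScalarTower k B M := ⟨fun c b m => by
    change (c • b) • m = algebraMap k B c • (b • m)
    rw [Algebra.smul_def, mul_smul]⟩
  exact (Module.Flat.trans k B M : Module.Flat k M)

/-- restriction of scalars commutes with derived base change along a pushout square, on bounded
above complexes of flat modules -/
noncomputable def resLbcIso [Module.Flat k B]
    [DRing.HasLBaseChange (Algebra.TensorProduct.includeRight.toRingHom : B →+* S ⊗[k] B)]
    (E : Cx B) (b0 : ℤ) (hb0 : VanishesAbove E b0) (hfl : ∀ i : ℤ, Module.Flat B (E.X i)) :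
    (restrictD (algebraMap S (S ⊗[k] B))).obj
        ((DRing.LBaseChange (Algebra.TensorProduct.includeRight.toRingHom : B →+* S ⊗[k] B)).obj
          (toD E)) ≅
      (DRing.LBaseChange (algebraMap k S)).obj ((restrictD (algebraMap k B)).obj (toD E)) :=
  (restrictD (algebraMap S (S ⊗[k] B))).mapIso (LBCKFlat.lbcIsoOfFlat _ E b0 hb0 hfl) ≪≫
    restrictDQIso _ _ ≪≫ Q.mapIso (cmpCx k S B E).symm ≪≫
    (LBCKFlat.lbcIsoOfFlat (algebraMap k S) ((restrictCx (algebraMap k B)).obj E) b0
      (fun q hq => Functor.map_isZero (ModuleCat.restrictScalars (algebraMap k B)) (hb0 q hq))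
      (fun q => flat_restrictScalars k B _ (hfl q))).symm ≪≫
    (DRing.LBaseChange (algebraMap k S)).mapIso (restrictDQIso (algebraMap k B) E).symm

end Groth.Agent.Lib.Helper84.RelPerfBC
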