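import Mathlib
import Groth.Prelude.Def_W4c1hurwitzcptBd

/-!
# Lattices in `k⟦x⟧` over `k⟦t⟧`, `t = x^p` (helper for S13884, S13885)
-/

set_option autoImplicit false
universe u

open W4c1hurwitzcpt PowerSeries

namespace Groth.Agent.Lib.Helper84.RootDiskLib

variable {p : ℕ} [NeZero p] {k : Type u} [Field k]

theorem val_smul (r : PowerSeries k) (f : RootDisk p k) :
    RootDisk.val (r • f) = PowerSeries.expand p (NeZero.ne p) r * RootDisk.val f := by
  rw [Algebra.smul_def, map_mul]
  rfl

/-- the inverse of `val` -/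
noncomputable def mkRD (f : PowerSeries k) : RootDisk p k := RootDisk.val.symm f

@[simp] theorem val_mkRD (f : PowerSeries k) : RootDisk.val (mkRD (p := p) f) = f := rfl

theorem mkRD_val (f : RootDisk p k) : mkRD (RootDisk.val f) = f := rfl

theorem val_injective : Function.Injective (RootDisk.val : RootDisk p k → PowerSeries k) :=
  RootDisk.val.injective

section Basis

variable (p k)

/-- the family `1, x, …, x^(p-1)` -/
noncomputable def xpow (j : Fin p) : RootDisk p k := mkRD (X ^ (j : ℕ))

/-- `a ↦ ∑ a_j(x^p) x^j` -/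
noncomputable def φ : (Fin p → PowerSeries k) →ₗ[PowerSeries k] RootDisk p k :=
  Fintype.linearCombination (PowerSeries k) (xpow p k)

variable {p k}

theorem val_φ (a : Fin p → PowerSeries k) :
    RootDisk.val (φ p k a) = ∑ j : Fin p, X ^ (j : ℕ) * PowerSeries.expand p (NeZero.ne p) (a j) := by
  rw [φ, Fintype.linearCombination_apply, map_sum]
  refine Finset.sum_congr rfl (fun j _ => ?_)
  rw [val_smul, mul_comm]
  rfl

theorem coeff_val_φ (a : Fin p → PowerSeries k) (n : ℕ) :
    coeff n (RootDisk.val (φ p k a)) =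
      coeff (n / p) (a ⟨n % p, Nat.mod_lt _ (Nat.pos_of_ne_zero (NeZero.ne p))⟩) := by
  have hp : 0 < p := Nat.pos_of_ne_zero (NeZero.ne p)
  rw [val_φ, map_sum]
  rw [Finset.sum_eq_single (⟨n % p, Nat.mod_lt _ hp⟩ : Fin p)]
  · rw [coeff_X_pow_mul', if_pos (Nat.mod_le n p), coeff_expand]
    have h1 : p ∣ n - n % p := Nat.dvd_sub_mod n
    rw [if_pos h1]
    congr 1
    have := Nat.div_add_mod n p
    have h2 : n - n % p = p * (n / p) := by omega
    rw [h2, Nat.mul_div_cancel_left _ hp]
  · intro j _ hj
    rw [coeff_X_pow_mul']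
    split_ifs with h1
    · rw [coeff_expand]
      split_ifs with h2
      · exfalso
        apply hj
        obtain ⟨q, hq⟩ := h2
        have hn : n = (j : ℕ) + p * q := by omega
        apply Fin.ext
        show (j : ℕ) = n % p
        rw [hn, Nat.add_mul_mod_self_left, Nat.mod_eq_of_lt j.2]
      · rfl
    · rfl
  · intro h
    exact absurd (Finset.mem_univ _) h

theorem φ_injective : Function.Injective (φ p k) := by
  have hp : 0 < p := Nat.pos_of_ne_zero (NeZero.ne p)
  rw [← LinearMap.ker_eq_bot, LinearMap.ker_eq_bot']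
  intro a ha
  funext j
  ext m
  have h := coeff_val_φ a (p * m + j)
  rw [ha] at h
  have e1 : (p * m + (j : ℕ)) / p = m := by
    rw [Nat.mul_add_div hp, Nat.div_eq_of_lt j.2, add_zero]
  have e2 : (⟨(p * m + (j : ℕ)) % p, Nat.mod_lt _ hp⟩ : Fin p) = j := by
    apply Fin.ext
    show (p * m + (j : ℕ)) % p = j
    rw [Nat.mul_add_mod, Nat.mod_eq_of_lt j.2]
  rw [e1, e2] at h
  rw [← h]
  simp

theorem φ_surjective : Function.Surjective (φ p k) := by
  intro f
  refine ⟨fun j => PowerSeries.mk (fun m => coeff (p * m + j) (RootDisk.val f)), ?_⟩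
  apply val_injective
  ext n
  rw [coeff_val_φ, coeff_mk]
  show coeff (p * (n / p) + n % p) (RootDisk.val f) = _
  rw [Nat.div_add_mod]

variable (p k)

/-- the basis `1, x, …, x^(p-1)` of `k⟦x⟧` over `k⟦x^p⟧` -/
noncomputable def basis : Module.Basis (Fin p) (PowerSeries k) (RootDisk p k) :=
  Module.Basis.ofEquivFun (LinearEquiv.ofBijective (φ p k) ⟨φ_injective, φ_surjective⟩).symm

instance : Module.Finite (PowerSeries k) (RootDisk p k) := Module.Finite.of_basis (basis p k)

instance : Module.Free (PowerSeries k) (RootDisk p k) := Module.Free.of_basis (basis p k)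

theorem finrank_eq : Module.finrank (PowerSeries k) (RootDisk p k) = p := by
  rw [Module.finrank_eq_card_basis (basis p k), Fintype.card_fin]

end Basis

section FullRank

/-- a full rank submodule of a finite free module over `k⟦t⟧` contains `t^e F` -/
theorem exists_pow_smul_mem {ι : Type*} [Finite ι] {F : Type*} [AddCommGroup F]
    [Module (PowerSeries k) F] (b : Module.Basis ι (PowerSeries k) F)
    (M : Submodule (PowerSeries k) F)
    (h : Module.finrank (PowerSeries k) M = Module.finrank (PowerSeries k) F) :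
    ∃ e : ℕ, ∀ f : F, (X ^ e : PowerSeries k) • f ∈ M := by
  classical
  cases nonempty_fintype ι
  obtain ⟨b', a, ab', hab⟩ := Submodule.exists_smith_normal_form_of_rank_eq b h
  have ha : ∀ i, a i ≠ 0 := by
    intro i hi
    have h1 := hab i
    rw [hi, zero_smul] at h1
    exact ab'.ne_zero i (Subtype.ext h1)
  set d : PowerSeries k := ∏ i, a i with hd
  have hd0 : d ≠ 0 := Finset.prod_ne_zero_iff.2 (fun i _ => ha i)
  have hdb : ∀ i, d • b' i ∈ M := by
    intro i
    have : d = (∏ j ∈ Finset.univ.erase i, a j) * a i :=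
      (Finset.prod_erase_mul _ _ (Finset.mem_univ i)).symm
    rw [this, mul_smul, ← hab i]
    exact M.smul_mem _ (ab' i).2
  have hdf : ∀ f : F, d • f ∈ M := by
    intro f
    rw [← b'.sum_repr f, Finset.smul_sum]
    refine M.sum_mem (fun i _ => ?_)
    rw [smul_comm]
    exact M.smul_mem _ (hdb i)
  refine ⟨d.order.toNat, fun f => ?_⟩
  obtain ⟨w, hw⟩ := isUnit_divided_by_X_pow_order hd0
  have e1 : X ^ d.order.toNat = (↑w⁻¹ : PowerSeries k) * d := by
    conv_rhs => rw [← X_pow_order_mul_divXPowOrder (f := d), ← hw]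
    rw [mul_comm, mul_assoc, Units.mul_inv, mul_one]
  rw [e1, mul_smul]
  exact M.smul_mem _ (hdf f)

end FullRank

section Main

/-- `f` has order exactly `n` -/
def OrdIs (f : RootDisk p k) (n : ℕ) : Prop :=
  coeff n (RootDisk.val f) ≠ 0 ∧ ∀ i < n, coeff i (RootDisk.val f) = 0

theorem OrdIs.order_eq {f : RootDisk p k} {n : ℕ} (h : OrdIs f n) :
    (RootDisk.val f).order = n := order_eq_nat.2 h

theorem OrdIs.ne_zero {f : RootDisk p k} {n : ℕ} (h : OrdIs f n) : f ≠ 0 := by
  rintro rfl
  exact h.1 (by simp)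

variable (M : Submodule (PowerSeries k) (RootDisk p k))

theorem X_smul_val (e : ℕ) (f : RootDisk p k) :
    RootDisk.val ((X ^ e : PowerSeries k) • f) = X ^ (p * e) * RootDisk.val f := by
  rw [val_smul, map_pow, expand_X, ← pow_mul]

theorem mem_of_coeff_eq_zero {e : ℕ} (he : ∀ f : RootDisk p k, (X ^ e : PowerSeries k) • f ∈ M)
    (g : RootDisk p k) (hg : ∀ i < p * e, coeff i (RootDisk.val g) = 0) : g ∈ M := by
  obtain ⟨h, hh⟩ := X_pow_dvd_iff.2 hg
  have : g = (X ^ e : PowerSeries k) • mkRD (p := p) h := by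
    apply val_injective
    rw [X_smul_val, hh, val_mkRD]
  rw [this]
  exact he _

variable {M}

/-- main structure theorem: generators with orders in distinct classes mod `p` -/
theorem exists_gens (N : ℕ)
    (hN : ∀ f : RootDisk p k, (∀ i < N, coeff i (RootDisk.val f) = 0) → f ∈ M) :
    ∃ (g : Fin p → RootDisk p k) (v : Fin p → ℕ), (∀ c, g c ∈ M) ∧ (∀ c, OrdIs (g c) (v c)) ∧
      (∀ c, v c % p = c) ∧ Submodule.span (PowerSeries k) (Set.range g) = M := by
  classical
  have hp : 0 < p := Nat.pos_of_ne_zero (NeZero.ne p)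
  have hex : ∀ c : Fin p, ∃ n, n % p = c ∧ ∃ m ∈ M, OrdIs m n := by
    intro c
    refine ⟨N * p + c, ?_, mkRD (X ^ (N * p + c)), ?_, ?_⟩
    · rw [Nat.mul_add_mod_self_right, Nat.mod_eq_of_lt c.2]
    · apply hN
      intro i hi
      rw [val_mkRD, coeff_X_pow, if_neg]
      have : N ≤ N * p := Nat.le_mul_of_pos_right N hp
      omega
    · refine ⟨?_, fun i hi => ?_⟩
      · rw [val_mkRD, coeff_X_pow, if_pos rfl]
        exact one_ne_zero
      · rw [val_mkRD, coeff_X_pow, if_neg (by omega)]
  let v : Fin p → ℕ := fun c => Nat.find (hex c)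
  have hv : ∀ c, v c % p = c ∧ ∃ m ∈ M, OrdIs m (v c) := fun c => Nat.find_spec (hex c)
  choose g hgM hgord using fun c => (hv c).2
  have hmin : ∀ (c : Fin p) (m : RootDisk p k) (n : ℕ), m ∈ M → OrdIs m n → n % p = c → v c ≤ n :=
    fun c m n hm ho hn => Nat.find_min' (hex c) ⟨hn, m, hm, ho⟩
  have hspan_le : Submodule.span (PowerSeries k) (Set.range g) ≤ M := by
    rw [Submodule.span_le]
    rintro _ ⟨c, rfl⟩
    exact hgM c
  -- reduction
  have red : ∀ (B d a : ℕ), B - a = d → ∀ m ∈ M, (∀ i < a, coeff i (RootDisk.val m) = 0) →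
      ∃ m' ∈ Submodule.span (PowerSeries k) (Set.range g),
        ∀ i < B, coeff i (RootDisk.val (m - m')) = 0 := by
    intro B d
    induction d with
    | zero =>
      intro a ha m _ hm0
      refine ⟨0, Submodule.zero_mem _, fun i hi => ?_⟩
      rw [sub_zero]
      exact hm0 i (by omega)
    | succ d ih =>
      intro a ha m hm hm0
      by_cases hc : coeff a (RootDisk.val m) = 0
      · refine ih (a + 1) (by omega) m hm (fun i hi => ?_)
        rcases Nat.lt_succ_iff_lt_or_eq.1 hi with h | h
        · exact hm0 i h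
        · rw [h]; exact hc
      · have hord : OrdIs m a := ⟨hc, hm0⟩
        let c : Fin p := ⟨a % p, Nat.mod_lt _ hp⟩
        have hva : v c ≤ a := hmin c m a hm hord rfl
        have hvc : v c % p = a % p := (hv c).1
        have hdvd : p ∣ a - v c := (Nat.modEq_iff_dvd' hva).1 hvc
        obtain ⟨e, he⟩ := hdvd
        have hae : a = v c + p * e := by omega
        set lc : k := coeff a (RootDisk.val m) / coeff (v c) (RootDisk.val (g c)) with hlc
        set r : PowerSeries k := C lc * X ^ e with hr
        have hval : RootDisk.val (m - r • g c) =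
            RootDisk.val m - C lc * (X ^ (p * e) * RootDisk.val (g c)) := by
          rw [map_sub, hr, mul_smul, val_smul, X_smul_val, expand_C]
        have hm1 : m - r • g c ∈ M := M.sub_mem hm (M.smul_mem _ (hgM c))
        have hzero : ∀ i < a + 1, coeff i (RootDisk.val (m - r • g c)) = 0 := by
          intro i hi
          rw [hval, map_sub, coeff_C_mul, coeff_X_pow_mul']
          rcases Nat.lt_succ_iff_lt_or_eq.1 hi with h | h
          · rw [hm0 i h]
            split_ifs with h2
            · rw [(hgord c).2 (i - p * e) (by omega), mul_zero, sub_zero]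
            · rw [mul_zero, sub_zero]
          · subst h
            rw [if_pos (by omega)]
            have : i - p * e = v c := by omega
            rw [this, hlc, div_mul_cancel₀ _ (hgord c).1, sub_self]
        obtain ⟨m', hm', hm'0⟩ := ih (a + 1) (by omega) _ hm1 hzero
        refine ⟨m' + r • g c, Submodule.add_mem _ hm' (Submodule.smul_mem _ _
          (Submodule.subset_span ⟨c, rfl⟩)), fun i hi => ?_⟩
        have : m - (m' + r • g c) = m - r • g c - m' := by abel
        rw [this]
        exact hm'0 i hi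
  -- Nakayama
  have hFG : M.FG := IsNoetherian.noetherian M
  have hjac : Ideal.span {(X : PowerSeries k)} ≤ (⊥ : Ideal (PowerSeries k)).jacobson := by
    rw [IsLocalRing.jacobson_eq_maximalIdeal ⊥ bot_ne_top, maximalIdeal_eq_span_X]
  have hle : M ≤ Submodule.span (PowerSeries k) (Set.range g) ⊔
      Ideal.span {(X : PowerSeries k)} • M := by
    intro m hm
    obtain ⟨m', hm', hm'0⟩ := red (N + p) (N + p) 0 rfl m hm (fun i hi => absurd hi (by omega))
    have hdiv : (X : PowerSeries k) ^ p ∣ RootDisk.val (m - m') :=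
      X_pow_dvd_iff.2 (fun i hi => hm'0 i (by omega))
    obtain ⟨h, hh⟩ := hdiv
    have hhM : mkRD (p := p) h ∈ M := by
      apply hN
      intro i hi
      rw [val_mkRD]
      have := hm'0 (i + p) (by omega)
      rw [hh, coeff_X_pow_mul] at this
      exact this
    have hmm : m - m' = (X : PowerSeries k) • mkRD (p := p) h := by
      apply val_injective
      rw [val_smul, expand_X, val_mkRD, hh]
    have : m = m' + (X : PowerSeries k) • mkRD (p := p) h := by
      rw [← hmm]; abel
    rw [this]
    exact Submodule.add_mem_sup hm' (Submodule.smul_mem_smul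
      (Ideal.mem_span_singleton_self _) hhM)
  have hMle := Submodule.le_of_le_smul_of_le_jacobson_bot hFG hjac hle
  exact ⟨g, v, hgM, hgord, fun c => (hv c).1, le_antisymm hspan_le hMle⟩

end Main

end Groth.Agent.Lib.Helper84.RootDiskLib
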