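import Mathlib
import Groth.Prelude.Def_CAlg
import Groth.Prelude.Def_Wider
import Groth.Agent.Lib.Helper85.CanonInj

/-!
# L4 for helper24's S18639: a canonical module over a local ring with `H^j_m(A) = 0` for `j < dim A`
is a Cohen–Macaulay module (helper84)
-/

set_option autoImplicit false
universe u
open CategoryTheory Abelian IsLocalRing

namespace Groth.Agent.Lib.Helper84.S18639L4

open Groth.Agent.Lib.Helper85.Canon Groth.Agent.Lib.Helper92.LC

theorem isCohenMacaulayModule_canon {A : Type u} [CommRing A] [IsNoetherianRing A] [IsLocalRing A]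
    {E : Type u} [AddCommGroup E] [Module A E] {f : ResidueField A →ₗ[A] E}
    (hf : InjHull.IsInjectiveHull f) (K : Type u) [AddCommGroup K] [Module A K] [Module.Finite A K]
    (n : ℕ) (hn : ringKrullDim A = n)
    (hR : ∀ j < n, Subsingleton (LocCoh.H (maximalIdeal A) j A))
    (eK : (K →ₗ[A] E) ≃ₗ[A] LocCoh.H (maximalIdeal A) n A) :
    LocCoh.IsCohenMacaulayModule A K := by
  haveI : Module.Injective A E := hf.isInjective
  have hcd : LocCoh.CdLE A (maximalIdeal A) n :=
    cdLE_of_ringKrullDim_le (maximalIdeal A) n (le_of_eq hn)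
  -- `K ≠ 0`
  have hnt : Nontrivial K := by
    have h2 := ext_residue_nontrivial K hf n hcd hR eK
    by_contra hK
    rw [not_nontrivial_iff_subsingleton] at hK
    haveI : Subsingleton K := hK
    have hz : Limits.IsZero (ModuleCat.of A K) := ModuleCat.isZero_of_subsingleton _
    have h0 : ∀ x : Ext.{u} (ModuleCat.of A (A ⧸ maximalIdeal A)) (ModuleCat.of A K) n, x = 0 := by
      intro x
      have hx : x = x.comp (Ext.mk₀ (𝟙 (ModuleCat.of A K))) (add_zero n) :=
        (Ext.comp_mk₀_id x).symm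
      rw [hx, hz.eq_of_src (𝟙 (ModuleCat.of A K)) 0, Ext.mk₀_zero, Ext.comp_zero]
    have h3 : Subsingleton (Ext.{u} (ModuleCat.of A (A ⧸ maximalIdeal A)) (ModuleCat.of A K) n) :=
      ⟨fun a b => (h0 a).trans (h0 b).symm⟩
    exact not_nontrivial _ h2
  -- `Ext^i(k, K) = 0` for `i < n`
  have hdim : Module.supportDim A (A ⧸ maximalIdeal A) ≤ 0 := by
    rw [Module.supportDim_quotient_eq_ringKrullDim,
      Groth.Agent.Lib.Helper67.ringKrullDim_quotient_maximalIdeal]
  have hext : ∀ i < n, Subsingleton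
      (Ext.{u} (ModuleCat.of A (A ⧸ maximalIdeal A)) (ModuleCat.of A K) i) := by
    intro i hi
    obtain ⟨e⟩ := duality K n hcd hR eK i (n - i) (by omega) (A ⧸ maximalIdeal A)
    have hvan : Subsingleton (LocCoh.H (maximalIdeal A) (n - i) (A ⧸ maximalIdeal A)) := by
      apply subsingleton_of_supportDim_lt (maximalIdeal A) (n - i) (A ⧸ maximalIdeal A)
      refine lt_of_le_of_lt hdim ?_
      have : 0 < n - i := by omega
      exact_mod_cast this
    have h1 : Subsingleton (Ext.{u} (ModuleCat.of A (A ⧸ maximalIdeal A)) (ModuleCat.of A K) i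
        →ₗ[A] E) := e.symm.toEquiv.subsingleton
    exact subsingleton_of_dual_subsingleton hf _ h1
  -- depth
  have hdepth : (n : ℕ∞) ≤ LocCoh.depth A K :=
    (Groth.Agent.Lib.Helper67.le_idealDepth_iff_ext' (maximalIdeal A) K n).2 hext
  have h1 : ((LocCoh.depth A K : ℕ∞) : WithBot ℕ∞) ≤ Module.supportDim A K :=
    Groth.Agent.Lib.Helper67.depth_le_supportDim K
  have h2 : Module.supportDim A K ≤ (n : WithBot ℕ∞) := by
    rw [← hn]
    exact Module.supportDim_le_ringKrullDim A K
  have h3 : ((n : ℕ∞) : WithBot ℕ∞) ≤ ((LocCoh.depth A K : ℕ∞) : WithBot ℕ∞) := by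
    exact_mod_cast hdepth
  unfold LocCoh.IsCohenMacaulayModule
  apply le_antisymm
  · exact h2.trans h3
  · exact h1

end Groth.Agent.Lib.Helper84.S18639L4
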