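import Mathlib
import Groth.Agent.Lib.Helper96.GrpLikeCoeff

/-!
# A1 for helper96's S2982 (helper84)

For a bialgebra map `f : C → K[M]`, `b : M`, `c : C`:
`(f c)_b • (single b 1 - 1)` lies in the ideal generated by `f (ker ε_C)`.
-/

set_option autoImplicit false
universe u
open TensorProduct

namespace Groth.Agent.Lib.Helper84.S2982_A1

open Groth.Agent.Lib.Helper96.GrpLikeCoeff

section

variable {K : Type u} [CommRing K] {M : Type u} [CommGroup M]

/-- `x ⊗ y ↦ x_b • y` on `K[M] ⊗ K[M]` -/
noncomputable def Lb (b : M) : MonoidAlgebra K M ⊗[K] MonoidAlgebra K M →ₗ[K] MonoidAlgebra K M :=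
  (TensorProduct.lid K (MonoidAlgebra K M)).toLinearMap ∘ₗ
    TensorProduct.map (ev (K := K) b) LinearMap.id

theorem Lb_tmul (b : M) (x y : MonoidAlgebra K M) : Lb b (x ⊗ₜ[K] y) = x.coeff b • y := by
  simp [Lb]

theorem Lb_comul (b : M) (x : MonoidAlgebra K M) :
    Lb b (CoalgebraStruct.comul (R := K) x) = x.coeff b • MonoidAlgebra.single b (1 : K) := by
  induction x using MonoidAlgebra.induction_on with
  | of g =>
    have hof : (MonoidAlgebra.of K M) g = MonoidAlgebra.single g (1 : K) := rfl
    rw [hof]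
    rw [(MonoidAlgebra.isGroupLikeElem_single_one (R := K) (A := K) g).comul_eq_tmul_self, Lb_tmul]
    by_cases h : g = b
    · subst h
      simp
    · have h0 : (MonoidAlgebra.single g (1 : K)).coeff b = 0 := by
        classical
        simp [Finsupp.single_apply, h]
      rw [h0, zero_smul, zero_smul]
  | add x y hx hy =>
    rw [map_add, map_add, hx, hy, MonoidAlgebra.coeff_add, Finsupp.add_apply, add_smul]
  | smul r x hx =>
    rw [map_smul, map_smul, hx, MonoidAlgebra.coeff_smul, Finsupp.smul_apply, smul_eq_mul,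
      mul_smul]

variable {C : Type u} [CommRing C] [Bialgebra K C]

/-- `x ⊗ y ↦ (f x)_b • y` on `C ⊗ C` -/
noncomputable def Lc (f : C →ₐc[K] MonoidAlgebra K M) (b : M) : C ⊗[K] C →ₗ[K] C :=
  (TensorProduct.lid K C).toLinearMap ∘ₗ
    TensorProduct.map ((ev (K := K) b) ∘ₗ (f : C →ₗ[K] MonoidAlgebra K M)) LinearMap.id

theorem Lc_tmul (f : C →ₐc[K] MonoidAlgebra K M) (b : M) (x y : C) :
    Lc f b (x ⊗ₜ[K] y) = (f x).coeff b • y := by
  simp [Lc]

theorem map_Lc (f : C →ₐc[K] MonoidAlgebra K M) (b : M) (z : C ⊗[K] C) :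
    f (Lc f b z) = Lb b (TensorProduct.map (f : C →ₗ[K] MonoidAlgebra K M)
      (f : C →ₗ[K] MonoidAlgebra K M) z) := by
  induction z using TensorProduct.induction_on with
  | zero => simp
  | tmul x y =>
    rw [Lc_tmul, TensorProduct.map_tmul, Lb_tmul, map_smul]
    rfl
  | add x y hx hy => rw [map_add, map_add, map_add, map_add, hx, hy]

theorem coeff_smul_single_sub_one_mem (f : C →ₐc[K] MonoidAlgebra K M) (b : M) (c : C) :
    (f c).coeff b • (MonoidAlgebra.single b (1 : K) - 1) ∈
      Ideal.map f (RingHom.ker (Bialgebra.counitAlgHom K C)) := by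
  set c' : C := Lc f b (CoalgebraStruct.comul (R := K) c) with hc'
  have h1 : f c' = (f c).coeff b • MonoidAlgebra.single b (1 : K) := by
    rw [hc', map_Lc]
    have h2 : TensorProduct.map (f : C →ₗ[K] MonoidAlgebra K M)
        (f : C →ₗ[K] MonoidAlgebra K M) (CoalgebraStruct.comul (R := K) c) =
        CoalgebraStruct.comul (R := K) (f c) := CoalgHomClass.map_comp_comul_apply f c
    rw [h2, Lb_comul]
  have h3 : Coalgebra.counit (R := K) c' = (f c).coeff b := by
    have h4 : Coalgebra.counit (R := K) (f c') = Coalgebra.counit (R := K) c' :=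
      CoalgHomClass.counit_comp_apply f c'
    rw [← h4, h1, map_smul, MonoidAlgebra.counit_single]
    simp
  have h5 : (f c).coeff b • (MonoidAlgebra.single b (1 : K) - 1) =
      f (c' - algebraMap K C (Coalgebra.counit (R := K) c')) := by
    rw [map_sub, h1, AlgHomClass.commutes, h3, smul_sub, Algebra.algebraMap_eq_smul_one]
  rw [h5]
  apply Ideal.mem_map_of_mem
  rw [RingHom.mem_ker]
  change Coalgebra.counit (R := K) (c' - algebraMap K C (Coalgebra.counit (R := K) c')) = 0
  rw [map_sub, Bialgebra.counit_algebraMap, sub_self]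

end

end Groth.Agent.Lib.Helper84.S2982_A1
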