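import Mathlib
import Groth.Agent.Lib.Helper76.SDKILL

/-!
# KILLF of helper33's open call for S4875 (helper84); family version of `Helper76.SDKILL.KILL`
-/

set_option autoImplicit false
universe u
open TensorProduct

namespace Groth.Agent.Lib.Helper84.SDKILLF

open Groth.Agent.Lib.Helper76.SDKILL

variable {A : Type u} [CommRing A]

section Theta

variable (g : A) (J : Ideal A) (M : Type u) [AddCommGroup M] [Module A M]
  {ι : Type u} [DecidableEq ι] (b : Module.Basis ι (Cq g J) (Cq g J ⊗[A] M))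

/-- `C ⊗ (P ⊗ M) ≃ (ι →₀ P ⊗ C)`, natural in `P` -/
noncomputable def Φ (P : Type u) [AddCommGroup P] [Module A P] :
    Cq g J ⊗[A] (P ⊗[A] M) ≃ₗ[A] (ι →₀ P ⊗[A] Cq g J) :=
  (TensorProduct.leftComm A (Cq g J) P M) ≪≫ₗ
  (TensorProduct.congr (LinearEquiv.refl A P) (b.repr.restrictScalars A)) ≪≫ₗ
  (TensorProduct.finsuppRight A A P (Cq g J) ι)

lemma Φ_tmul (P : Type u) [AddCommGroup P] [Module A P] (c : Cq g J) (p : P) (m : M) (j : ι) :
    Φ g J M b P (c ⊗ₜ[A] (p ⊗ₜ[A] m)) j = p ⊗ₜ[A] (b.repr (c ⊗ₜ[A] m) j) := by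
  simp [Φ]

lemma Φ_natural {P P' : Type u} [AddCommGroup P] [Module A P] [AddCommGroup P'] [Module A P']
    (ψ : P →ₗ[A] P') (w : Cq g J ⊗[A] (P ⊗[A] M)) (j : ι) :
    Φ g J M b P' ((ψ.rTensor M).lTensor (Cq g J) w) j = ψ.rTensor (Cq g J) (Φ g J M b P w j) := by
  induction w using TensorProduct.induction_on with
  | zero => simp
  | tmul c x =>
    induction x using TensorProduct.induction_on with
    | zero => simp
    | tmul p m =>
      rw [LinearMap.lTensor_tmul, LinearMap.rTensor_tmul, Φ_tmul, Φ_tmul, LinearMap.rTensor_tmul]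
    | add x y hx hy =>
      simp only [tmul_add, map_add, Finsupp.add_apply, hx, hy]
  | add x y hx hy =>
    simp only [map_add, Finsupp.add_apply, hx, hy]

end Theta

lemma noTorsF (g : A) (J : Ideal A) (P : Type u) [AddCommGroup P] [Module A P]
    (hJP : ∀ a ∈ J, ∀ p : P, a • p = 0)
    {Λ : Type u} (Pl : Λ → Type u) [∀ i, AddCommGroup (Pl i)] [∀ i, Module A (Pl i)]
    (hJPl : ∀ i, ∀ a ∈ J, ∀ p : Pl i, a • p = 0) (φ : ∀ i, P →ₗ[A] Pl i)
    (hSL : ∀ x : P, (∀ i, ∃ m : ℕ, g ^ m • φ i x = 0) → ∃ m : ℕ, g ^ m • x = 0)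
    (z : P ⊗[A] Cq g J) (hz : ∀ i, (φ i).rTensor (Cq g J) z = 0) : z = 0 := by
  obtain ⟨k, p, hkp⟩ := (K1' g J P hJP).2 (TensorProduct.comm A P (Cq g J) z)
  have hkp' : g ^ k • z = p ⊗ₜ[A] (1 : Cq g J) := by
    have := congrArg (TensorProduct.comm A P (Cq g J)).symm hkp
    rw [map_smul, LinearEquiv.symm_apply_apply, TensorProduct.comm_symm_tmul] at this
    exact this
  have h1 : ∀ i, ∃ m : ℕ, g ^ m • φ i p = 0 := by
    intro i
    apply (K1' g J (Pl i) (hJPl i)).1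
    have h2 : (φ i).rTensor (Cq g J) (g ^ k • z) = 0 := by rw [map_smul, hz i, smul_zero]
    rw [hkp', LinearMap.rTensor_tmul] at h2
    have := congrArg (TensorProduct.comm A (Pl i) (Cq g J)) h2
    rw [TensorProduct.comm_tmul, map_zero] at this
    exact this
  obtain ⟨m, hm⟩ := hSL p h1
  have hz0 : TensorProduct.comm A P (Cq g J) z = 0 := by
    apply eq_zero_of_pow_smul g J P _ (m + k)
    rw [pow_add, mul_smul, hkp, ← TensorProduct.tmul_smul, hm, tmul_zero]
  exact (TensorProduct.comm A P (Cq g J)).injective (by rw [hz0, map_zero])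

/-- **KILLF** -/
theorem KILLF {A : Type u} [CommRing A] (M : Type u) [AddCommGroup M] [Module A M] (g : A) (J : Ideal A) (hfree : Module.Free (Localization.Away g ⧸ J.map (algebraMap A (Localization.Away g))) ((Localization.Away g ⧸ J.map (algebraMap A (Localization.Away g))) ⊗[A] M)) (P : Type u) [AddCommGroup P] [Module A P] (hJP : ∀ a ∈ J, ∀ p : P, a • p = 0) {Λ : Type u} (Pl : Λ → Type u) [∀ i, AddCommGroup (Pl i)] [∀ i, Module A (Pl i)] (hJPl : ∀ i, ∀ a ∈ J, ∀ p : Pl i, a • p = 0) (φ : ∀ i, P →ₗ[A] Pl i) (hSL : ∀ x : P, (∀ i, ∃ m : ℕ, g ^ m • φ i x = 0) → ∃ m : ℕ, g ^ m • x = 0) (t : P ⊗[A] M) (ht : ∀ i, (φ i).rTensor M t = 0) : ∃ m : ℕ, g ^ m • t = 0 := by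
  have hJPM : ∀ a ∈ J, ∀ w : P ⊗[A] M, a • w = 0 := by
    intro a ha w
    induction w using TensorProduct.induction_on with
    | zero => simp
    | tmul p m => rw [TensorProduct.smul_tmul', hJP a ha, zero_tmul]
    | add x y hx hy => rw [smul_add, hx, hy, add_zero]
  classical
  apply (K1' g J (P ⊗[A] M) hJPM).1
  haveI : Module.Free (Cq g J) (Cq g J ⊗[A] M) := hfree
  let b : Module.Basis (Module.Free.ChooseBasisIndex (Cq g J) (Cq g J ⊗[A] M)) (Cq g J)
      (Cq g J ⊗[A] M) := Module.Free.chooseBasis (Cq g J) (Cq g J ⊗[A] M)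
  apply (Φ g J M b P).injective
  rw [map_zero]
  ext1 j
  rw [Finsupp.zero_apply]
  apply noTorsF g J P hJP Pl hJPl φ hSL
  intro i
  rw [← Φ_natural g J M b (φ i) _ j, LinearMap.lTensor_tmul, ht i, tmul_zero, map_zero,
    Finsupp.zero_apply]

end Groth.Agent.Lib.Helper84.SDKILLF
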