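import Mathlib
import Groth.Prelude.Def_W4c6secantcecoversSchSt

set_option autoImplicit false

namespace Groth.Agent.Lib.Helper84.SchSt

open W4c6secantcecovers TensorProduct

universe u v
variable (R : Type u) [CommRing R] (r : ℕ)

/-- product of `ι` of a list of vectors -/
noncomputable def P (l : List (Fin r → R)) : SSLam R r := (l.map (ExteriorAlgebra.ι R)).prod

lemma contr_P_mul (j : Fin r) (l : List (Fin r → R)) (b : SSLam R r) :
    ssContr R r j (P R r l * b) =
      ssContr R r j (P R r l) * b + (-1 : R) ^ l.length • (P R r l * ssContr R r j b) := by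
  induction l generalizing b with
  | nil =>
    simp only [P, List.map_nil, List.prod_nil, one_mul, List.length_nil, pow_zero, one_smul]
    have : ssContr R r j (1 : SSLam R r) = 0 := CliffordAlgebra.contractLeft_one _ _
    rw [this, zero_mul, zero_add]
  | cons a l ih =>
    have hP : P R r (a :: l) = ExteriorAlgebra.ι R a * P R r l := by
      simp [P]
    have h1 : ∀ c : SSLam R r, ssContr R r j (ExteriorAlgebra.ι R a * c) =
        a j • c - ExteriorAlgebra.ι R a * ssContr R r j c := by
      intro c
      exact CliffordAlgebra.contractLeft_ι_mul _ a c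
    rw [hP, mul_assoc, h1, ih, h1, List.length_cons, pow_succ]
    simp only [mul_add, sub_mul, smul_mul_assoc, mul_smul_comm, mul_assoc, neg_smul, mul_neg,
      mul_one]
    abel

lemma ιMulti_eq_P {n : ℕ} (e : Fin n → (Fin r → R)) :
    ExteriorAlgebra.ιMulti R n e = P R r (List.ofFn e) := by
  rw [ExteriorAlgebra.ιMulti_apply, P, List.map_ofFn]
  rfl

lemma ιMulti_eq_zero_of_lt {n : ℕ} (hn : r < n) (e : Fin n → (Fin r → R)) :
    ExteriorAlgebra.ιMulti R n e = 0 := by
  have : ExteriorAlgebra.ιMulti R n (M := Fin r → R) = 0 := by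
    refine Module.Basis.ext_alternating (Pi.basisFun R (Fin r)) ?_
    intro v hv
    exfalso
    have := Fintype.card_le_of_injective v hv
    simp at this
    omega
  rw [this]
  rfl

lemma ιMulti_mul_ιMulti {a b : ℕ} (e : Fin a → (Fin r → R)) (f : Fin b → (Fin r → R)) :
    ExteriorAlgebra.ιMulti R a e * ExteriorAlgebra.ιMulti R b f =
      ExteriorAlgebra.ιMulti R (a + b) (Fin.append e f) := by
  rw [ιMulti_eq_P, ιMulti_eq_P, ιMulti_eq_P, List.ofFn_fin_append, P, P, P, List.map_append,
    List.prod_append]

/-- key: in top degree +1 the contraction moves across with sign -/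
lemma contr_mul_eq {a b : ℕ} (hab : r < a + b) (j : Fin r) (e : Fin a → (Fin r → R))
    (f : Fin b → (Fin r → R)) :
    ssContr R r j (ExteriorAlgebra.ιMulti R a e) * ExteriorAlgebra.ιMulti R b f =
      (-1 : R) ^ (a + 1) • (ExteriorAlgebra.ιMulti R a e *
        ssContr R r j (ExteriorAlgebra.ιMulti R b f)) := by
  have h0 : ExteriorAlgebra.ιMulti R a e * ExteriorAlgebra.ιMulti R b f = 0 := by
    rw [ιMulti_mul_ιMulti]
    exact ιMulti_eq_zero_of_lt R r hab _
  have h1 := contr_P_mul R r j (List.ofFn e) (ExteriorAlgebra.ιMulti R b f)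
  rw [← ιMulti_eq_P, h0, map_zero, List.length_ofFn] at h1
  have h2 : ssContr R r j (ExteriorAlgebra.ιMulti R a e) * ExteriorAlgebra.ιMulti R b f =
      - ((-1 : R) ^ a • (ExteriorAlgebra.ιMulti R a e *
        ssContr R r j (ExteriorAlgebra.ιMulti R b f))) := by
    rw [eq_neg_iff_add_eq_zero]
    exact h1.symm
  rw [h2, pow_succ, mul_neg_one, neg_smul]

end Groth.Agent.Lib.Helper84.SchSt
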