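import Mathlib.NumberTheory.Padics.RingHoms
import Mathlib.LinearAlgebra.Matrix.GeneralLinearGroup.Defs
import Mathlib.Topology.Instances.Matrix
import Mathlib.Topology.Algebra.Group.Basic
import Mathlib.LinearAlgebra.Matrix.Notation
import Mathlib.LinearAlgebra.Matrix.NonsingularInverse
import Mathlib.Topology.Compactness.Compact

/-!
# Serre's lemma on closed subgroups of `GL₂(ℤ_p)` (helper library for S15360)
-/

set_option autoImplicit false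
universe u

namespace Groth.Agent.Lib.Helper84.SerreGL2

open Matrix

variable (p : ℕ) [Fact p.Prime]

local notation "M2" => Matrix (Fin 2) (Fin 2) ℤ_[p]
local notation "M2F" => Matrix (Fin 2) (Fin 2) (ZMod p)

/-- reduction mod p on matrices -/
noncomputable def red : Matrix (Fin 2) (Fin 2) ℤ_[p] →+* Matrix (Fin 2) (Fin 2) (ZMod p) :=
  (PadicInt.toZMod (p := p)).mapMatrix

lemma red_apply (X : Matrix (Fin 2) (Fin 2) ℤ_[p]) (i j : Fin 2) :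
    red p X i j = PadicInt.toZMod (X i j) := rfl

lemma toZMod_p : PadicInt.toZMod (p := p) (p : ℤ_[p]) = 0 := by
  rw [map_natCast]; exact ZMod.natCast_self p

lemma red_smul (c : ℤ_[p]) (X : Matrix (Fin 2) (Fin 2) ℤ_[p]) :
    red p (c • X) = (PadicInt.toZMod c) • red p X := by
  ext i j
  simp [red_apply, Matrix.smul_apply]

lemma red_p_smul (X : Matrix (Fin 2) (Fin 2) ℤ_[p]) : red p ((p : ℤ_[p]) • X) = 0 := by
  rw [red_smul, toZMod_p, zero_smul]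

lemma red_p_pow_smul (n : ℕ) (hn : 1 ≤ n) (X : Matrix (Fin 2) (Fin 2) ℤ_[p]) :
    red p (((p : ℤ_[p]) ^ n) • X) = 0 := by
  rw [red_smul, map_pow, toZMod_p, zero_pow (by omega), zero_smul]

lemma dvd_of_toZMod_eq_zero (x : ℤ_[p]) (hx : PadicInt.toZMod x = 0) : (p : ℤ_[p]) ∣ x := by
  have : x ∈ RingHom.ker (PadicInt.toZMod (p := p)) := hx
  rw [PadicInt.ker_toZMod, PadicInt.maximalIdeal_eq_span_p] at this
  exact Ideal.mem_span_singleton.mp this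

lemma exists_of_red_eq_zero (X : Matrix (Fin 2) (Fin 2) ℤ_[p]) (hX : red p X = 0) :
    ∃ Y : Matrix (Fin 2) (Fin 2) ℤ_[p], X = (p : ℤ_[p]) • Y := by
  have h : ∀ i j, ∃ y, X i j = (p : ℤ_[p]) * y := by
    intro i j
    have := dvd_of_toZMod_eq_zero p (X i j) (by rw [← red_apply, hX]; rfl)
    exact this
  choose Y hY using h
  exact ⟨Matrix.of Y, by ext i j; simp [hY i j]⟩

lemma isUnit_of_toZMod_ne_zero (x : ℤ_[p]) (hx : PadicInt.toZMod x ≠ 0) : IsUnit x := by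
  by_contra h
  apply hx
  have : x ∈ IsLocalRing.maximalIdeal ℤ_[p] := (IsLocalRing.mem_maximalIdeal x).mpr h
  rw [← PadicInt.ker_toZMod] at this
  exact this

/-- coercion of `GL.map` is `red` -/
lemma coe_map (G : GL (Fin 2) ℤ_[p]) :
    ((Matrix.GeneralLinearGroup.map (n := Fin 2) (PadicInt.toZMod (p := p)) G : GL (Fin 2) (ZMod p)) :
      Matrix (Fin 2) (Fin 2) (ZMod p)) = red p (G : Matrix (Fin 2) (Fin 2) ℤ_[p]) := rfl

/-- `GL₂(ℤ_p) → GL₂(𝔽_p)` is surjective. -/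
lemma map_surjective :
    Function.Surjective (Matrix.GeneralLinearGroup.map (n := Fin 2) (PadicInt.toZMod (p := p))) := by
  intro g
  have hs : Function.Surjective (PadicInt.toZMod (p := p)) := ZMod.ringHom_surjective _
  choose f hf using hs
  let A : Matrix (Fin 2) (Fin 2) ℤ_[p] := Matrix.of fun i j => f ((g : Matrix (Fin 2) (Fin 2) (ZMod p)) i j)
  have hA : red p A = (g : Matrix (Fin 2) (Fin 2) (ZMod p)) := by
    ext i j; simp [red_apply, A, hf]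
  have hdet : IsUnit A.det := by
    apply isUnit_of_toZMod_ne_zero
    have : PadicInt.toZMod (p := p) A.det = (red p A).det := by
      rw [red, RingHom.map_det]
    rw [this, hA]
    have := (Matrix.isUnit_iff_isUnit_det _).mp g.isUnit
    exact this.ne_zero
  have hAu : IsUnit A := (Matrix.isUnit_iff_isUnit_det _).mpr hdet
  refine ⟨hAu.unit, ?_⟩
  apply Units.ext
  rw [coe_map]
  exact hA

section Full

variable {p}

/-- A conjugation-stable additive subgroup of `M₂(𝔽_p)` containing `diag(a,0)`, `a ≠ 0`, is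
everything. -/
lemma full_of_conj_stable (V : Set (Matrix (Fin 2) (Fin 2) (ZMod p))) (h0 : (0 : Matrix (Fin 2) (Fin 2) (ZMod p)) ∈ V)
    (hadd : ∀ x y, x ∈ V → y ∈ V → x + y ∈ V)
    (hconj : ∀ (g : GL (Fin 2) (ZMod p)) (x : Matrix (Fin 2) (Fin 2) (ZMod p)), x ∈ V →
      (g : Matrix (Fin 2) (Fin 2) (ZMod p)) * x * ((g⁻¹ : GL (Fin 2) (ZMod p)) : Matrix (Fin 2) (Fin 2) (ZMod p)) ∈ V)
    (a : ZMod p) (ha : a ≠ 0) (hE : (!![a, 0; 0, 0] : Matrix (Fin 2) (Fin 2) (ZMod p)) ∈ V) :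
    ∀ x : Matrix (Fin 2) (Fin 2) (ZMod p), x ∈ V := by
  have hnsmul : ∀ (k : ℕ) x, x ∈ V → k • x ∈ V := by
    intro k x hx
    induction k with
    | zero => simpa using h0
    | succ k ih => rw [succ_nsmul]; exact hadd _ _ ih hx
  have hsmul : ∀ (c : ZMod p) x, x ∈ V → c • x ∈ V := by
    intro c x hx
    have : c • x = c.val • x := by
      conv_lhs => rw [← ZMod.natCast_zmod_val c]
      rw [Nat.cast_smul_eq_nsmul]
    rw [this]; exact hnsmul _ _ hx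
  have hneg : ∀ x, x ∈ V → -x ∈ V := by
    intro x hx
    have := hsmul (-1) x hx
    simpa using this
  have hsub : ∀ x y, x ∈ V → y ∈ V → x - y ∈ V := by
    intro x y hx hy
    rw [sub_eq_add_neg]; exact hadd _ _ hx (hneg _ hy)
  -- E11
  have hE11 : (!![1, 0; 0, 0] : Matrix (Fin 2) (Fin 2) (ZMod p)) ∈ V := by
    have := hsmul a⁻¹ _ hE
    have h2 : a⁻¹ • (!![a, 0; 0, 0] : Matrix (Fin 2) (Fin 2) (ZMod p)) = !![1, 0; 0, 0] := by
      ext i j; fin_cases i <;> fin_cases j <;> simp [inv_mul_cancel₀ ha]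
    rwa [h2] at this
  -- swap
  let s : GL (Fin 2) (ZMod p) := ⟨!![0, 1; 1, 0], !![0, 1; 1, 0],
    by ext i j; fin_cases i <;> fin_cases j <;> simp [Matrix.mul_apply, Fin.sum_univ_two],
    by ext i j; fin_cases i <;> fin_cases j <;> simp [Matrix.mul_apply, Fin.sum_univ_two]⟩
  let u : GL (Fin 2) (ZMod p) := ⟨!![1, 1; 0, 1], !![1, -1; 0, 1],
    by ext i j; fin_cases i <;> fin_cases j <;> simp [Matrix.mul_apply, Fin.sum_univ_two],
    by ext i j; fin_cases i <;> fin_cases j <;> simp [Matrix.mul_apply, Fin.sum_univ_two]⟩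
  let l : GL (Fin 2) (ZMod p) := ⟨!![1, 0; 1, 1], !![1, 0; -1, 1],
    by ext i j; fin_cases i <;> fin_cases j <;> simp [Matrix.mul_apply, Fin.sum_univ_two],
    by ext i j; fin_cases i <;> fin_cases j <;> simp [Matrix.mul_apply, Fin.sum_univ_two]⟩
  have hE22 : (!![0, 0; 0, 1] : Matrix (Fin 2) (Fin 2) (ZMod p)) ∈ V := by
    have := hconj s _ hE11
    have h2 : (s : Matrix (Fin 2) (Fin 2) (ZMod p)) * !![1, 0; 0, 0] *
        ((s⁻¹ : GL (Fin 2) (ZMod p)) : Matrix (Fin 2) (Fin 2) (ZMod p)) = !![0, 0; 0, 1] := by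
      show (!![0, 1; 1, 0] : Matrix (Fin 2) (Fin 2) (ZMod p)) * !![1, 0; 0, 0] * !![0, 1; 1, 0] = _
      ext i j; fin_cases i <;> fin_cases j <;> simp [Matrix.mul_apply, Fin.sum_univ_two]
    rwa [h2] at this
  have hE12 : (!![0, 1; 0, 0] : Matrix (Fin 2) (Fin 2) (ZMod p)) ∈ V := by
    have := hconj u _ hE11
    have h2 : (u : Matrix (Fin 2) (Fin 2) (ZMod p)) * !![1, 0; 0, 0] *
        ((u⁻¹ : GL (Fin 2) (ZMod p)) : Matrix (Fin 2) (Fin 2) (ZMod p)) = !![1, -1; 0, 0] := by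
      show (!![1, 1; 0, 1] : Matrix (Fin 2) (Fin 2) (ZMod p)) * !![1, 0; 0, 0] * !![1, -1; 0, 1] = _
      ext i j; fin_cases i <;> fin_cases j <;> simp [Matrix.mul_apply, Fin.sum_univ_two]
    rw [h2] at this
    have h3 := hsub _ _ hE11 this
    have h4 : (!![1, 0; 0, 0] : Matrix (Fin 2) (Fin 2) (ZMod p)) - !![1, -1; 0, 0] = !![0, 1; 0, 0] := by
      ext i j; fin_cases i <;> fin_cases j <;> simp
    rwa [h4] at h3
  have hE21 : (!![0, 0; 1, 0] : Matrix (Fin 2) (Fin 2) (ZMod p)) ∈ V := by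
    have := hconj l _ hE11
    have h2 : (l : Matrix (Fin 2) (Fin 2) (ZMod p)) * !![1, 0; 0, 0] *
        ((l⁻¹ : GL (Fin 2) (ZMod p)) : Matrix (Fin 2) (Fin 2) (ZMod p)) = !![1, 0; 1, 0] := by
      show (!![1, 0; 1, 1] : Matrix (Fin 2) (Fin 2) (ZMod p)) * !![1, 0; 0, 0] * !![1, 0; -1, 1] = _
      ext i j; fin_cases i <;> fin_cases j <;> simp [Matrix.mul_apply, Fin.sum_univ_two]
    rw [h2] at this
    have h3 := hsub _ _ this hE11
    have h4 : (!![1, 0; 1, 0] : Matrix (Fin 2) (Fin 2) (ZMod p)) - !![1, 0; 0, 0] = !![0, 0; 1, 0] := by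
      ext i j; fin_cases i <;> fin_cases j <;> simp
    rwa [h4] at h3
  intro x
  have hx : x = x 0 0 • (!![1, 0; 0, 0] : Matrix (Fin 2) (Fin 2) (ZMod p)) + x 0 1 • !![0, 1; 0, 0]
      + x 1 0 • !![0, 0; 1, 0] + x 1 1 • !![0, 0; 0, 1] := by
    ext i j; fin_cases i <;> fin_cases j <;> simp
  rw [hx]
  exact hadd _ _ (hadd _ _ (hadd _ _ (hsmul _ _ hE11) (hsmul _ _ hE12)) (hsmul _ _ hE21))
    (hsmul _ _ hE22)

end Full

section Main

variable {p}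
variable {𝔊 : Type u} [Group 𝔊] (ϕ : 𝔊 →* GL (Fin 2) ℤ_[p])

/-- the image of `H ∩ Γ_n` in `M₂(𝔽_p)` -/
def V (n : ℕ) : Set (Matrix (Fin 2) (Fin 2) (ZMod p)) :=
  {x | ∃ (g : 𝔊) (X : Matrix (Fin 2) (Fin 2) ℤ_[p]),
    ((ϕ g : GL (Fin 2) ℤ_[p]) : Matrix (Fin 2) (Fin 2) ℤ_[p]) = 1 + ((p : ℤ_[p]) ^ n) • X ∧ red p X = x}

lemma V_zero (n : ℕ) : (0 : Matrix (Fin 2) (Fin 2) (ZMod p)) ∈ V ϕ n :=
  ⟨1, 0, by simp, by simp⟩

lemma V_add (n : ℕ) (hn : 1 ≤ n) (x y : Matrix (Fin 2) (Fin 2) (ZMod p)) (hx : x ∈ V ϕ n)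
    (hy : y ∈ V ϕ n) : x + y ∈ V ϕ n := by
  obtain ⟨g₁, X, hX, rfl⟩ := hx
  obtain ⟨g₂, Y, hY, rfl⟩ := hy
  refine ⟨g₁ * g₂, X + Y + ((p : ℤ_[p]) ^ n) • (X * Y), ?_, ?_⟩
  · rw [map_mul, Units.val_mul, hX, hY]
    simp only [mul_add, add_mul, one_mul, mul_one, Matrix.smul_mul, Matrix.mul_smul, smul_add,
      smul_smul]
    abel
  · rw [map_add, map_add, red_p_pow_smul p n hn, add_zero]

lemma V_conj (hsurj : Function.Surjective
      ((Matrix.GeneralLinearGroup.map (n := Fin 2) (PadicInt.toZMod (p := p))).comp ϕ))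
    (n : ℕ) (g : GL (Fin 2) (ZMod p)) (x : Matrix (Fin 2) (Fin 2) (ZMod p)) (hx : x ∈ V ϕ n) :
    (g : Matrix (Fin 2) (Fin 2) (ZMod p)) * x *
      ((g⁻¹ : GL (Fin 2) (ZMod p)) : Matrix (Fin 2) (Fin 2) (ZMod p)) ∈ V ϕ n := by
  obtain ⟨g₁, X, hX, rfl⟩ := hx
  obtain ⟨g₀, hg₀⟩ := hsurj g
  have hg₀' : Matrix.GeneralLinearGroup.map (n := Fin 2) (PadicInt.toZMod (p := p)) (ϕ g₀) = g := hg₀
  refine ⟨g₀ * g₁ * g₀⁻¹,
    ((ϕ g₀ : GL (Fin 2) ℤ_[p]) : Matrix (Fin 2) (Fin 2) ℤ_[p]) * X *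
      (((ϕ g₀)⁻¹ : GL (Fin 2) ℤ_[p]) : Matrix (Fin 2) (Fin 2) ℤ_[p]), ?_, ?_⟩
  · rw [map_mul, map_mul, map_inv, Units.val_mul, Units.val_mul, hX]
    have h1 : ((ϕ g₀ : GL (Fin 2) ℤ_[p]) : Matrix (Fin 2) (Fin 2) ℤ_[p]) *
        (((ϕ g₀)⁻¹ : GL (Fin 2) ℤ_[p]) : Matrix (Fin 2) (Fin 2) ℤ_[p]) = 1 := by
      rw [← Units.val_mul, mul_inv_cancel, Units.val_one]
    rw [mul_add, add_mul, mul_one, h1, Matrix.mul_smul, Matrix.smul_mul]
  · rw [map_mul, map_mul, ← coe_map, ← coe_map, hg₀', Matrix.GeneralLinearGroup.map_inv, hg₀']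

lemma V_full (hsurj : Function.Surjective
      ((Matrix.GeneralLinearGroup.map (n := Fin 2) (PadicInt.toZMod (p := p))).comp ϕ))
    (n : ℕ) (hn : 1 ≤ n)
    (hii : ∃ (g : 𝔊) (a b c d : ℤ_[p]), ¬ ((p : ℤ_[p]) ∣ a) ∧
          ((ϕ g : GL (Fin 2) ℤ_[p]) : Matrix (Fin 2) (Fin 2) ℤ_[p]) =
            !![1 + (p : ℤ_[p]) ^ n * a, (p : ℤ_[p]) ^ (n + 1) * b;
               (p : ℤ_[p]) ^ (n + 1) * c, 1 + (p : ℤ_[p]) ^ (n + 1) * d]) :
    ∀ x : Matrix (Fin 2) (Fin 2) (ZMod p), x ∈ V ϕ n := by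
  obtain ⟨g, a, b, c, d, ha, hg⟩ := hii
  apply full_of_conj_stable (V ϕ n) (V_zero ϕ n) (V_add ϕ n hn) (V_conj ϕ hsurj n)
    (PadicInt.toZMod a)
  · intro h
    exact ha (dvd_of_toZMod_eq_zero p a h)
  · refine ⟨g, !![a, (p : ℤ_[p]) * b; (p : ℤ_[p]) * c, (p : ℤ_[p]) * d], ?_, ?_⟩
    · rw [hg]
      ext i j; fin_cases i <;> fin_cases j <;> simp [pow_succ, mul_assoc]
    · ext i j; fin_cases i <;> fin_cases j <;> simp [red_apply, toZMod_p]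

/-- `H · Γ_n = G` for all `n ≥ 1`. -/
lemma exists_factor (hsurj : Function.Surjective
      ((Matrix.GeneralLinearGroup.map (n := Fin 2) (PadicInt.toZMod (p := p))).comp ϕ))
    (hii : ∀ n : ℕ, 1 ≤ n → ∃ (g : 𝔊) (a b c d : ℤ_[p]), ¬ ((p : ℤ_[p]) ∣ a) ∧
          ((ϕ g : GL (Fin 2) ℤ_[p]) : Matrix (Fin 2) (Fin 2) ℤ_[p]) =
            !![1 + (p : ℤ_[p]) ^ n * a, (p : ℤ_[p]) ^ (n + 1) * b;
               (p : ℤ_[p]) ^ (n + 1) * c, 1 + (p : ℤ_[p]) ^ (n + 1) * d])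
    (n : ℕ) (G : GL (Fin 2) ℤ_[p]) :
    ∃ (g : 𝔊) (Y : Matrix (Fin 2) (Fin 2) ℤ_[p]),
      (G : Matrix (Fin 2) (Fin 2) ℤ_[p]) =
        ((ϕ g : GL (Fin 2) ℤ_[p]) : Matrix (Fin 2) (Fin 2) ℤ_[p]) * (1 + ((p : ℤ_[p]) ^ (n + 1)) • Y) := by
  induction n with
  | zero =>
    obtain ⟨g, hg⟩ := hsurj (Matrix.GeneralLinearGroup.map (n := Fin 2) (PadicInt.toZMod (p := p)) G)
    have hg' : Matrix.GeneralLinearGroup.map (n := Fin 2) (PadicInt.toZMod (p := p)) (ϕ g) =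
      Matrix.GeneralLinearGroup.map (n := Fin 2) (PadicInt.toZMod (p := p)) G := hg
    have hA : red p ((((ϕ g)⁻¹ * G : GL (Fin 2) ℤ_[p]) : Matrix (Fin 2) (Fin 2) ℤ_[p]) - 1) = 0 := by
      rw [map_sub, map_one, ← coe_map, map_mul, map_inv, hg', inv_mul_cancel, Units.val_one, sub_self]
    obtain ⟨Y, hY⟩ := exists_of_red_eq_zero p _ hA
    refine ⟨g, Y, ?_⟩
    rw [zero_add, pow_one, ← hY, add_sub_cancel, ← Units.val_mul, mul_inv_cancel_left]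
  | succ n ih =>
    obtain ⟨g, Y, hY⟩ := ih
    obtain ⟨g', X, hX, hXY⟩ := V_full ϕ hsurj (n + 1) (by omega) (hii (n + 1) (by omega)) (red p Y)
    have h0 : red p (Y - X) = 0 := by rw [map_sub, hXY, sub_self]
    obtain ⟨Z, hZ⟩ := exists_of_red_eq_zero p _ h0
    refine ⟨g * g', (((ϕ g')⁻¹ : GL (Fin 2) ℤ_[p]) : Matrix (Fin 2) (Fin 2) ℤ_[p]) * Z, ?_⟩
    have h1 : ((ϕ g' : GL (Fin 2) ℤ_[p]) : Matrix (Fin 2) (Fin 2) ℤ_[p]) *
        (((ϕ g')⁻¹ : GL (Fin 2) ℤ_[p]) : Matrix (Fin 2) (Fin 2) ℤ_[p]) = 1 := by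
      rw [← Units.val_mul, mul_inv_cancel, Units.val_one]
    have hYX : Y = X + (p : ℤ_[p]) • Z := by rw [← hZ]; abel
    rw [hY, map_mul, Units.val_mul, Matrix.mul_assoc]
    congr 1
    rw [mul_add, mul_one, Matrix.mul_smul, ← Matrix.mul_assoc, h1, Matrix.one_mul, hX, hYX, smul_add,
      smul_smul, ← pow_succ]
    abel

lemma eq_zero_of_forall_mem_span (x : ℤ_[p])
    (h : ∀ n : ℕ, x ∈ Ideal.span {(p : ℤ_[p]) ^ (n + 1)}) : x = 0 := by
  rw [← PadicInt.ext_of_toZModPow]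
  intro n
  rw [map_zero]
  have h1 : x ∈ Ideal.span {(p : ℤ_[p]) ^ n} := by
    have := h n
    rw [Ideal.mem_span_singleton] at this ⊢
    exact dvd_trans (pow_dvd_pow _ (Nat.le_succ n)) this
  rw [← PadicInt.ker_toZModPow] at h1
  exact h1

variable [TopologicalSpace 𝔊] [CompactSpace 𝔊]

theorem surjective_of
    (hϕ : Continuous fun g => ((ϕ g : GL (Fin 2) ℤ_[p]) : Matrix (Fin 2) (Fin 2) ℤ_[p]))
    (hsurj : Function.Surjective
      ((Matrix.GeneralLinearGroup.map (n := Fin 2) (PadicInt.toZMod (p := p))).comp ϕ))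
    (hii : ∀ n : ℕ, 1 ≤ n → ∃ (g : 𝔊) (a b c d : ℤ_[p]), ¬ ((p : ℤ_[p]) ∣ a) ∧
          ((ϕ g : GL (Fin 2) ℤ_[p]) : Matrix (Fin 2) (Fin 2) ℤ_[p]) =
            !![1 + (p : ℤ_[p]) ^ n * a, (p : ℤ_[p]) ^ (n + 1) * b;
               (p : ℤ_[p]) ^ (n + 1) * c, 1 + (p : ℤ_[p]) ^ (n + 1) * d]) :
    Function.Surjective ϕ := by
  intro G
  let C : ℕ → Set 𝔊 := fun n => {g | ∀ i j : Fin 2,
    (G : Matrix (Fin 2) (Fin 2) ℤ_[p]) i j - ((ϕ g : GL (Fin 2) ℤ_[p]) : Matrix (Fin 2) (Fin 2) ℤ_[p]) i j ∈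
      Ideal.span {(p : ℤ_[p]) ^ (n + 1)}}
  have hcl : ∀ n, IsClosed (C n) := by
    intro n
    have : C n = ⋂ i : Fin 2, ⋂ j : Fin 2, {g : 𝔊 |
        ‖(G : Matrix (Fin 2) (Fin 2) ℤ_[p]) i j -
          ((ϕ g : GL (Fin 2) ℤ_[p]) : Matrix (Fin 2) (Fin 2) ℤ_[p]) i j‖ ≤ (p : ℝ) ^ (-((n + 1 : ℕ) : ℤ))} := by
      ext g
      simp only [C, Set.mem_setOf_eq, Set.mem_iInter, PadicInt.norm_le_pow_iff_mem_span_pow]
    rw [this]
    refine isClosed_iInter fun i => isClosed_iInter fun j => isClosed_le ?_ continuous_const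
    exact continuous_norm.comp (continuous_const.sub
      ((continuous_apply j).comp ((continuous_apply i).comp hϕ)))
  have hne : ∀ n, (C n).Nonempty := by
    intro n
    obtain ⟨g, Y, hY⟩ := exists_factor ϕ hsurj hii n G
    refine ⟨g, fun i j => ?_⟩
    rw [hY, mul_add, mul_one, Matrix.add_apply, add_sub_cancel_left, Matrix.mul_smul,
      Matrix.smul_apply, smul_eq_mul]
    exact Ideal.mul_mem_right _ _ (Ideal.mem_span_singleton_self _)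
  have hmono : ∀ n, C (n + 1) ⊆ C n := by
    intro n g hg i j
    have := hg i j
    rw [Ideal.mem_span_singleton] at this ⊢
    exact dvd_trans (pow_dvd_pow _ (Nat.le_succ _)) this
  obtain ⟨g, hg⟩ := IsCompact.nonempty_iInter_of_sequence_nonempty_isCompact_isClosed C hmono hne
    ((hcl 0).isCompact) hcl
  refine ⟨g, ?_⟩
  apply Units.ext
  ext i j
  have : (G : Matrix (Fin 2) (Fin 2) ℤ_[p]) i j -
      ((ϕ g : GL (Fin 2) ℤ_[p]) : Matrix (Fin 2) (Fin 2) ℤ_[p]) i j = 0 := by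
    apply eq_zero_of_forall_mem_span
    intro n
    exact (Set.mem_iInter.mp hg n) i j
  exact (sub_eq_zero.mp this).symm

end Main

end Groth.Agent.Lib.Helper84.SerreGL2
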