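import Groth.Agent.Lib.Helper25.SkExt.SkOpen
import Groth.Agent.Lib.Helper56.SkLift

/-!
# Under `(S_k)`, only finitely many primes have depth exactly `k` and larger dimension (S1715)
-/

set_option autoImplicit false
universe u

namespace Groth.Agent.Lib.Helper84.SkFinite

open CategoryTheory CategoryTheory.Limits CategoryTheory.Pretriangulated DerivedCategory
open Groth.Agent.Lib.Helper25.SkExt

attribute [local instance] HasDerivedCategory.standard

variable {A : Type u} [CommRing A] [IsNoetherianRing A]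

/-- the ideal cutting out `Supp E^i ∩ Supp E^j` -/
noncomputable def JJ (ω : Dual.D A) (M : Type u) [AddCommGroup M] [Module A M] (i j : ℤ) : Ideal A :=
  Module.annihilator A (Dual.inD A M ⟶ ω⟦i⟧) ⊔ Module.annihilator A (Dual.inD A M ⟶ ω⟦j⟧)

theorem JJ_le_iff (ω : Dual.D A) (hω : Dual.IsDualizing A ω) (M : Type u) [AddCommGroup M]
    [Module A M] [Module.Finite A M] (i j : ℤ) (p : PrimeSpectrum A) :
    JJ ω M i j ≤ p.asIdeal ↔
      p ∈ Module.support A (Dual.inD A M ⟶ ω⟦i⟧) ∧ p ∈ Module.support A (Dual.inD A M ⟶ ω⟦j⟧) := by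
  haveI := Groth.Agent.Lib.Helper39.Dual.finite_hom ω hω M i
  haveI := Groth.Agent.Lib.Helper39.Dual.finite_hom ω hω M j
  rw [Module.mem_support_iff_of_finite, Module.mem_support_iff_of_finite]
  unfold JJ
  exact sup_le_iff

theorem main (ω : Dual.D A) (hω : Dual.IsDualizing A ω) (M : Type u) [AddCommGroup M]
    [Module A M] [Module.Finite A M] (k : ℕ) (hM : LocCoh.HasSk k A M) :
    Set.Finite {p : PrimeSpectrum A |
      LocCoh.depth (Localization.AtPrime p.asIdeal) (LocalizedModule p.asIdeal.primeCompl M) = k ∧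
      (k : WithBot ℕ∞) < Module.supportDim (Localization.AtPrime p.asIdeal)
        (LocalizedModule p.asIdeal.primeCompl M)} := by
  obtain ⟨a, b, hab⟩ := hω.finite_injective_dimension
  -- the finite set of candidate primes
  let T : Set (PrimeSpectrum A) := ⋃ i ∈ Finset.Icc a b, ⋃ j ∈ Finset.Icc a b,
    {p : PrimeSpectrum A | p.asIdeal ∈ (JJ ω M i j).minimalPrimes}
  have hT : T.Finite := by
    refine Set.Finite.biUnion (Finset.finite_toSet _) (fun i _ => ?_)
    refine Set.Finite.biUnion (Finset.finite_toSet _) (fun j _ => ?_)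
    have hfin : ((JJ ω M i j).minimalPrimes).Finite :=
      Ideal.finite_minimalPrimes_of_isNoetherianRing A _
    exact Set.Finite.preimage (fun x _ y _ h => PrimeSpectrum.ext h) hfin
  refine hT.subset ?_
  rintro p ⟨hdep, hdim⟩
  -- `M_p ≠ 0`
  have hnt : Nontrivial (LocalizedModule p.asIdeal.primeCompl M) := by
    rw [← Module.supportDim_ne_bot_iff_nontrivial (Localization.AtPrime p.asIdeal)]
    intro h
    rw [h] at hdim
    exact not_lt_bot hdim
  obtain ⟨s, t, δ, ht, hδ, -, hrange, hit, hiδ⟩ := (pointwise_range ω hω M p).2 hnt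
  have htk : t = k := by
    rw [ht] at hdep
    exact_mod_cast hdep
  subst htk
  have hkδ : t < δ := by
    rw [hδ] at hdim
    exact_mod_cast hdim
  -- the indices lie in `[a, b]`
  have hin : ∀ i : ℤ, p ∈ Module.support A (Dual.inD A M ⟶ ω⟦i⟧) → i ∈ Finset.Icc a b := by
    intro i hi
    rw [Finset.mem_Icc]
    by_contra hcon
    haveI := hab M i (by omega)
    rw [Module.mem_support_iff] at hi
    exact not_subsingleton _ (inferInstance :
      Subsingleton (LocalizedModule p.asIdeal.primeCompl (Dual.inD A M ⟶ ω⟦i⟧)))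
  simp only [T, Set.mem_iUnion, Set.mem_setOf_eq]
  refine ⟨s - t, hin _ hit, s - δ, hin _ hiδ, ⟨p.isPrime, (JJ_le_iff ω hω M _ _ p).2 ⟨hit, hiδ⟩⟩, ?_⟩
  rintro q ⟨hqprime, hJq⟩ hqp
  by_contra hnot
  have hlt : q < p.asIdeal := lt_of_le_of_ne hqp (fun h => hnot (h ▸ le_rfl))
  haveI := hqprime
  let q' : PrimeSpectrum A := ⟨q, hqprime⟩
  obtain ⟨hq1, hq2⟩ := (JJ_le_iff ω hω M _ _ q').1 hJq
  have hntq : Nontrivial (LocalizedModule q.primeCompl M) := by
    by_contra hcon
    rw [not_nontrivial_iff_subsingleton] at hcon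
    exact (pointwise_range ω hω M q').1 hcon _ hq1
  obtain ⟨s', t', δ', ht', hδ', -, hrange', -, -⟩ := (pointwise_range ω hω M q').2 hntq
  have h1 := (hrange' _ hq1).2
  have h2 := (hrange' _ hq2).1
  -- (S_k) at `q`
  have hSk := hM q
  rw [show Module.supportDim (Localization.AtPrime q) (LocalizedModule q.primeCompl M) = δ' from hδ',
    show LocCoh.depth (Localization.AtPrime q) (LocalizedModule q.primeCompl M) = t' from ht'] at hSk
  have hSk' : min t δ' ≤ t' := by
    rcases le_total t δ' with h | h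
    · have h' : (t : WithBot ℕ∞) ≤ (δ' : WithBot ℕ∞) := by exact_mod_cast h
      rw [min_eq_left h'] at hSk
      rw [min_eq_left h]
      exact_mod_cast hSk
    · have h' : (δ' : WithBot ℕ∞) ≤ (t : WithBot ℕ∞) := by exact_mod_cast h
      rw [min_eq_right h'] at hSk
      rw [min_eq_right h]
      exact_mod_cast hSk
  -- dimension drops
  have hqM : q' ∈ Module.support A M := Module.mem_support_iff.2 hntq
  have hdrop := Groth.Agent.Lib.Helper56.supportDim_localization_add_one_le M q p.asIdeal hlt hqM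
  rw [show Module.supportDim (Localization.AtPrime q) (LocalizedModule q.primeCompl M) = δ' from hδ',
    hδ] at hdrop
  have hdrop' : δ' + 1 ≤ δ := by exact_mod_cast hdrop
  rcases le_total t δ' with h | h
  · rw [min_eq_left h] at hSk'
    omega
  · rw [min_eq_right h] at hSk'
    omega

end Groth.Agent.Lib.Helper84.SkFinite
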