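import Mathlib
import Groth.Agent.Lib.Helper89.GorBC3
import Groth.Agent.Lib.Helper65.RegularSmooth
import Groth.Agent.Lib.Helper85.RegGor
import Groth.Agent.Lib.Helper85.GorRing

/-!
# Smooth algebras over a field are Gorenstein; ascent of dualizing complexes along smooth maps
(helper84)
-/

set_option autoImplicit false
set_option linter.style.haveILetI false
universe u

open CategoryTheory CategoryTheory.Limits TensorProduct

attribute [local instance] HasDerivedCategory.standard

namespace Groth.Agent.Lib.Helper84.SmoothGor

/-- a smooth algebra over a field is a Gorenstein ring (it is even regular) -/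
theorem gorRing_of_smooth_field (k C : Type u) [Field k] [CommRing C] [Algebra k C]
    [Algebra.Smooth k C] : LocCoh.IsGorensteinRing C := by
  haveI : Algebra.FinitePresentation k C := Algebra.Smooth.finitePresentation
  haveI : Algebra.FiniteType k C := inferInstance
  haveI hN : IsNoetherianRing C := Algebra.FiniteType.isNoetherianRing k C
  haveI : Algebra.FormallySmooth k C := Algebra.Smooth.formallySmooth
  refine { hN with isGorensteinLocalRing_localization := fun q hq => ?_ }
  haveI : Algebra.FormallySmooth k (Localization.AtPrime q) :=
    inferInstanceAs (Algebra.FormallySmooth k (Localization q.primeCompl))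
  haveI : Algebra.EssFiniteType C (Localization.AtPrime q) :=
    Algebra.EssFiniteType.of_isLocalization _ q.primeCompl
  haveI : Algebra.EssFiniteType k (Localization.AtPrime q) :=
    Algebra.EssFiniteType.comp k C (Localization.AtPrime q)
  haveI := Groth.Agent.Lib.Helper65.RegularSmooth.isRegularLocalRing_of_formallySmooth k
    (Localization.AtPrime q)
  exact Groth.Agent.Lib.Helper85.FLCrit.isGorensteinLocalRing_of_regular _

/-- the fibre rings of a smooth ring map are Gorenstein -/
theorem gorRing_fibre_of_smooth (A B : Type u) [CommRing A] [CommRing B] [Algebra A B]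
    [Algebra.Smooth A B] (p : PrimeSpectrum A) :
    LocCoh.IsGorensteinRing (B ⊗[A] p.asIdeal.ResidueField) := by
  haveI : LocCoh.IsGorensteinRing (p.asIdeal.ResidueField ⊗[A] B) :=
    gorRing_of_smooth_field p.asIdeal.ResidueField (p.asIdeal.ResidueField ⊗[A] B)
  exact Groth.Agent.Lib.Helper85.GorRing.gorRing_of_ringEquiv
    (Algebra.TensorProduct.comm A p.asIdeal.ResidueField B).toRingEquiv

/-- ascent of dualizing complexes along a smooth ring map -/
theorem isDualizing_LBaseChange_of_smooth (A B : Type u) [CommRing A] [CommRing B] [Algebra A B]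
    [IsNoetherianRing A] [Algebra.Smooth A B] [DRing.HasLBaseChange (algebraMap A B)]
    (ω : Dual.D A) (hω : Dual.IsDualizing A ω) :
    Dual.IsDualizing B ((DRing.LBaseChange (algebraMap A B)).obj ω) := by
  haveI : Algebra.FinitePresentation A B := Algebra.Smooth.finitePresentation
  haveI : Algebra.FiniteType A B := inferInstance
  haveI : IsNoetherianRing B := Algebra.FiniteType.isNoetherianRing A B
  haveI : Module.Flat A B := inferInstance
  have hflat : (algebraMap A B).Flat := RingHom.flat_algebraMap_iff.2 inferInstance
  haveI : PreservesFiniteLimits (Groth.Agent.Lib.Helper84.FlatBC.ext (algebraMap A B)) :=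
    Groth.Agent.Lib.Helper84.FlatBC.preservesFiniteLimits_ext _ hflat
  have e := (Groth.Agent.Lib.Helper15.LBCFlat.lbcFlatIso (algebraMap A B)).app ω
  exact Groth.Agent.Lib.Helper25.Bidual.isDualizing_of_iso e.symm
    (Groth.Agent.Lib.Helper89.GorBC.isDualizing_bc_of_gorenstein_fibres
      (fun p => gorRing_fibre_of_smooth A B p) ω hω)

end Groth.Agent.Lib.Helper84.SmoothGor
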