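import Mathlib

/-!
# Degreewise split injective resolutions over a morphism (helper84)

Given a cochain complex `I` (ℕ-indexed), `disk I` is the contractible complex with
`(disk I)^p = I^p ⊞ I^{p-1}`, differential `(x, y) ↦ (0, x)`, and a degreewise split epi
`q : disk I ⟶ I`, `(x, y) ↦ x + d y`.
-/

open CategoryTheory CategoryTheory.Limits ZeroObject

namespace Groth.Agent.Lib.Helper84.SplitRes

universe v u
variable {C : Type u} [Category.{v} C] [Abelian C]

/-- shift by one: `0` in degree `0`, `I^n` in degree `n+1`. -/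
noncomputable def sh (I : CochainComplex C ℕ) : CochainComplex C ℕ :=
  I.augment (0 : (0 : C) ⟶ I.X 0) (by simp)

lemma isZero_sh_zero (I : CochainComplex C ℕ) : IsZero ((sh I).X 0) := isZero_zero C

/-- the "differential" `I^{p-1} ⟶ I^p`. -/
noncomputable def t (I : CochainComplex C ℕ) : ∀ p, (sh I).X p ⟶ I.X p
  | 0 => 0
  | (p + 1) => I.d p (p + 1)

/-- identity `I^p ⟶ (sh I)^{p+1}`. -/
noncomputable def up (I : CochainComplex C ℕ) (p : ℕ) : I.X p ⟶ (sh I).X (p + 1) := 𝟙 (I.X p)

/-- identity `(sh I)^{p+1} ⟶ I^p`. -/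
noncomputable def down (I : CochainComplex C ℕ) (p : ℕ) : (sh I).X (p + 1) ⟶ I.X p := 𝟙 (I.X p)

@[reassoc (attr := simp)]
lemma up_down (I : CochainComplex C ℕ) (p : ℕ) : up I p ≫ down I p = 𝟙 _ := by
  dsimp [up, down]
  exact Category.id_comp (𝟙 (I.X p))

@[reassoc (attr := simp)]
lemma down_up (I : CochainComplex C ℕ) (p : ℕ) : down I p ≫ up I p = 𝟙 _ := by
  dsimp [up, down]
  exact Category.id_comp (𝟙 (I.X p))

@[reassoc (attr := simp)]
lemma up_t (I : CochainComplex C ℕ) (p : ℕ) : up I p ≫ t I (p + 1) = I.d p (p + 1) := by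
  dsimp [up, t]
  exact Category.id_comp _

@[reassoc (attr := simp)]
lemma t_d (I : CochainComplex C ℕ) (p : ℕ) : t I p ≫ I.d p (p + 1) = 0 := by
  cases p with
  | zero => simp [t]
  | succ p => exact I.d_comp_d _ _ _

/-- the contractible complex. -/
noncomputable abbrev disk (I : CochainComplex C ℕ) : CochainComplex C ℕ :=
  CochainComplex.of (fun p => I.X p ⊞ (sh I).X p)
    (fun p => biprod.fst ≫ up I p ≫ biprod.inr) (by intro p; simp)

lemma disk_d (I : CochainComplex C ℕ) (p : ℕ) :
    (disk I).d p (p + 1) = biprod.fst ≫ up I p ≫ biprod.inr :=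
  CochainComplex.of_d (fun p => I.X p ⊞ (sh I).X p) (fun p => biprod.fst ≫ up I p ≫ biprod.inr) p

/-- the degreewise split epi `disk I ⟶ I`. -/
noncomputable def q (I : CochainComplex C ℕ) : disk I ⟶ I where
  f p := biprod.desc (𝟙 _) (t I p)
  comm' i j h := by
    obtain rfl : i + 1 = j := h
    rw [disk_d]
    apply biprod.hom_ext' <;> simp

/-- the contracting homotopy. -/
noncomputable def hDisk (I : CochainComplex C ℕ) : Homotopy (𝟙 (disk I)) 0 where
  hom i j := if h : j + 1 = i then
    ((disk I).XIsoOfEq h).inv ≫ (biprod.snd ≫ down I j ≫ biprod.inl : (disk I).X (j + 1) ⟶ (disk I).X j)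
    else 0
  zero i j w := by rw [dif_neg]; exact w
  comm i := by
    cases i with
    | zero =>
      rw [Homotopy.dNext_cochainComplex, Homotopy.prevD_zero_cochainComplex, disk_d]
      simp only [dif_pos, HomologicalComplex.XIsoOfEq_rfl, Iso.refl_inv, Category.id_comp,
        HomologicalComplex.id_f, HomologicalComplex.zero_f, add_zero, Category.assoc,
        biprod.inr_snd_assoc, up_down_assoc]
      apply biprod.hom_ext
      · simp
      · exact (isZero_sh_zero I).eq_of_tgt _ _
    | succ p =>
      rw [Homotopy.dNext_cochainComplex, Homotopy.prevD_succ_cochainComplex, disk_d, disk_d]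
      simp only [dif_pos, HomologicalComplex.XIsoOfEq_rfl, Iso.refl_inv, Category.id_comp,
        HomologicalComplex.id_f, HomologicalComplex.zero_f, add_zero, Category.assoc,
        biprod.inr_snd_assoc, up_down_assoc, biprod.inl_fst_assoc, down_up_assoc]
      exact biprod.total.symm

/-- `K ⟶ K ⊞ disk I` is a homotopy equivalence. -/
noncomputable def inlEquiv (K I : CochainComplex C ℕ) : HomotopyEquiv K (K ⊞ disk I) where
  hom := biprod.inl
  inv := biprod.fst
  homotopyHomInvId := Homotopy.ofEq (by simp)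
  homotopyInvHomId :=
    (Homotopy.ofEq (by simp)).trans
      (((Homotopy.refl (biprod.fst ≫ biprod.inl : K ⊞ disk I ⟶ K ⊞ disk I)).add
        ((((hDisk I).symm.compLeft (biprod.snd : K ⊞ disk I ⟶ disk I)).compRight
          (biprod.inr : disk I ⟶ K ⊞ disk I)))).trans (Homotopy.ofEq (by
            simp only [Category.comp_id]
            exact biprod.total)))

/-- the shear iso `(a, (b, s)) ↦ (g a + b + t s, (a, s))`. -/
noncomputable def shear {A B S : C} (g : A ⟶ B) (t : S ⟶ B) : A ⊞ (B ⊞ S) ≅ B ⊞ (A ⊞ S) where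
  hom := biprod.lift (biprod.desc g (biprod.desc (𝟙 _) t))
    (biprod.lift biprod.fst (biprod.snd ≫ biprod.snd))
  inv := biprod.lift (biprod.snd ≫ biprod.fst)
    (biprod.lift (biprod.fst - biprod.snd ≫ biprod.fst ≫ g - biprod.snd ≫ biprod.snd ≫ t)
      (biprod.snd ≫ biprod.snd))
  hom_inv_id := by
    apply biprod.hom_ext' <;> apply biprod.hom_ext
    · simp
    · apply biprod.hom_ext <;> simp
    · simp
    · apply biprod.hom_ext' <;> apply biprod.hom_ext <;> simp
  inv_hom_id := by
    apply biprod.hom_ext' <;> apply biprod.hom_ext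
    · simp
    · apply biprod.hom_ext <;> simp
    · apply biprod.hom_ext' <;> simp
    · apply biprod.hom_ext' <;> apply biprod.hom_ext <;> simp

@[simp]
lemma shear_hom_fst {A B S : C} (g : A ⟶ B) (t : S ⟶ B) :
    (shear g t).hom ≫ biprod.fst = biprod.desc g (biprod.desc (𝟙 _) t) := by
  simp [shear]

end Groth.Agent.Lib.Helper84.SplitRes
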