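import Mathlib.CategoryTheory.Triangulated.TStructure.Heart
import Mathlib.CategoryTheory.Triangulated.TStructure.TruncLEGT
import Mathlib.CategoryTheory.Triangulated.Triangulated
import Mathlib.CategoryTheory.Abelian.Basic
import Mathlib.CategoryTheory.Triangulated.HomologicalFunctor
import Mathlib.Algebra.Homology.ShortComplex.ExactFunctor

/-!
# `H^0` of a t-structure is a homological functor (BBD 1.3.6) (helper84)
-/

set_option autoImplicit false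
universe v u v' u'
open CategoryTheory CategoryTheory.Limits CategoryTheory.Pretriangulated CategoryTheory.Triangulated

namespace Groth.Agent.Lib.Helper84.THeart

variable {C : Type u} [Category.{v} C] [Preadditive C] [HasZeroObject C] [HasShift C ℤ]
  [∀ n : ℤ, (shiftFunctor C n).Additive] [Pretriangulated C] [IsTriangulated C] (t : TStructure C)

section CLevel

/-- P1 at the level of `C`: if `X ≤ 0` then `τ≤0 X → τ≤0 Y → τ≤0 Z` is "right exact on Hom's". -/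
theorem p1c (T : Triangle C) (hT : T ∈ distTriang C) [t.IsLE T.obj₁ 0] {A : C}
    (ψ : (t.truncLE 0).obj T.obj₂ ⟶ A) (hψ : (t.truncLE 0).map T.mor₁ ≫ ψ = 0) :
    ∃ ψ' : (t.truncLE 0).obj T.obj₃ ⟶ A, (t.truncLE 0).map T.mor₂ ≫ ψ' = ψ := by
  -- the lift of `f`
  let f' : T.obj₁ ⟶ (t.truncLE 0).obj T.obj₂ := t.liftTruncLE T.mor₁ 0
  have hf' : f' ≫ (t.truncLEι 0).app T.obj₂ = T.mor₁ := t.liftTruncLE_ι _ _
  have hf'ψ : f' ≫ ψ = 0 := by
    have h1 : (t.truncLEι 0).app T.obj₁ ≫ f' = (t.truncLE 0).map T.mor₁ := by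
      apply t.to_truncLE_obj_ext
      rw [Category.assoc, hf']
      exact ((t.truncLEι 0).naturality T.mor₁).symm
    rw [← cancel_epi ((t.truncLEι 0).app T.obj₁), ← Category.assoc, h1, hψ, comp_zero]
  obtain ⟨Q, v₁₂, w₁₂, h₁₂⟩ := distinguished_cocone_triangle f'
  have h₂₃ := t.triangleLEGT_distinguished 0 T.obj₂
  have h₁₃ : Triangle.mk T.mor₁ T.mor₂ T.mor₃ ∈ distTriang C := hT
  have oct := someOctahedron hf' h₁₂ h₂₃ h₁₃
  have hQ : t.IsLE Q 0 := by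
    have h1 : t.IsLE (T.obj₁⟦(1 : ℤ)⟧) 0 := by
      have := t.isLE_shift T.obj₁ 0 1 (-1)
      exact t.isLE_of_le _ (-1) 0
    exact t.isLE₂ _ (rot_of_distTriang _ h₁₂) 0
      (show t.IsLE ((t.truncLE 0).obj T.obj₂) 0 from inferInstance) h1
  obtain ⟨g, hg⟩ := Triangle.yoneda_exact₂ _ h₁₂ ψ hf'ψ
  let m₁' : Q ⟶ (t.truncLE 0).obj T.obj₃ := t.liftTruncLE oct.m₁ 0
  have hm₁' : m₁' ≫ (t.truncLEι 0).app T.obj₃ = oct.m₁ := t.liftTruncLE_ι _ _
  have hiso1 : IsIso ((t.truncLE 0).map oct.m₁) :=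
    t.isIso₁_truncLE_map_of_isGE _ oct.mem 0 1 rfl
      (t.isGE_truncGT_obj T.obj₂ 0 1)
  have hm₁'' : (t.truncLEι 0).app Q ≫ m₁' = (t.truncLE 0).map oct.m₁ := by
    apply t.to_truncLE_obj_ext
    rw [Category.assoc, hm₁']
    exact ((t.truncLEι 0).naturality oct.m₁).symm
  have hiso : IsIso m₁' := by
    have : m₁' = inv ((t.truncLEι 0).app Q) ≫ (t.truncLE 0).map oct.m₁ := by
      rw [← hm₁'', IsIso.inv_hom_id_assoc]
    rw [this]
    infer_instance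
  have hkey : (t.truncLE 0).map T.mor₂ = v₁₂ ≫ m₁' := by
    apply t.to_truncLE_obj_ext
    rw [Category.assoc, hm₁']
    have := oct.comm₁
    dsimp at this
    rw [this]
    exact (t.truncLEι 0).naturality T.mor₂
  refine ⟨inv m₁' ≫ g, ?_⟩
  rw [hkey, Category.assoc, IsIso.hom_inv_id_assoc, hg]
  rfl

/-- P2 at the level of `C`: if `E ≥ 0` in a triangle `B → C' → E`, then
`τ≥0 B → τ≥0 C'` is injective on `Hom(D, -)` for `D ≤ 0`. -/
theorem p2c (T : Triangle C) (hT : T ∈ distTriang C) [t.IsGE T.obj₃ 0] {D : C} [t.IsLE D 0]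
    (φ : D ⟶ (t.truncGE 0).obj T.obj₁) (hφ : φ ≫ (t.truncGE 0).map T.mor₁ = 0) : φ = 0 := by
  obtain ⟨P, v₁₃, w₁₃, h₁₃⟩ := distinguished_cocone_triangle ((t.truncLTι 0).app T.obj₁ ≫ T.mor₁)
  have h₁₂ := t.triangleLTGE_distinguished 0 T.obj₁
  have h₂₃ : Triangle.mk T.mor₁ T.mor₂ T.mor₃ ∈ distTriang C := hT
  have oct := someOctahedron rfl h₁₂ h₂₃ h₁₃
  have hP : t.IsGE P 0 :=
    t.isGE₂ _ oct.mem 0 (show t.IsGE ((t.truncGE 0).obj T.obj₁) 0 from inferInstance)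
      (show t.IsGE T.obj₃ 0 from inferInstance)
  let p : (t.truncGE 0).obj T.obj₂ ⟶ P := t.descTruncGE v₁₃ 0
  have hp : (t.truncGEπ 0).app T.obj₂ ≫ p = v₁₃ := t.π_descTruncGE _ _
  have hm₁ : oct.m₁ = (t.truncGE 0).map T.mor₁ ≫ p := by
    apply t.from_truncGE_obj_ext
    have := oct.comm₁
    dsimp at this
    rw [this, ← Category.assoc, t.truncGEπ_naturality 0 T.mor₁, Category.assoc, hp]
  have h0 : φ ≫ oct.m₁ = 0 := by rw [hm₁, ← Category.assoc, hφ, zero_comp]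
  obtain ⟨g, hg⟩ := Triangle.coyoneda_exact₂ _ (inv_rot_of_distTriang _ oct.mem) φ h0
  have hg' := t.zero_of_isLE_of_isGE g 0 1 (by lia) inferInstance
    (by dsimp; exact t.isGE_shift T.obj₃ 0 (-1) 1)
  rw [hg, hg']
  exact zero_comp

end CLevel

section Abelian

/-- exactness from the weak cokernel property -/
lemma exact_of_desc {H : Type u'} [Category.{v'} H] [Abelian H] (S : ShortComplex H)
    (h : ∀ (W : H) (ψ : S.X₂ ⟶ W), S.f ≫ ψ = 0 → ∃ ψ' : S.X₃ ⟶ W, S.g ≫ ψ' = ψ) : S.Exact := by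
  rw [S.exact_iff_mono_cokernel_desc]
  obtain ⟨ψ', hψ'⟩ := h _ (cokernel.π S.f) (cokernel.condition S.f)
  have : cokernel.desc S.f S.g S.zero ≫ ψ' = 𝟙 _ := by
    apply coequalizer.hom_ext
    rw [cokernel.π_desc_assoc, hψ', Category.comp_id]
  exact mono_of_mono_fac this

end Abelian

section HLevel

variable {H : Type u'} [Category.{v'} H] [Abelian H] [t.Heart H] (H0 : C ⥤ H)
  (e : H0 ⋙ t.ιHeart ≅ t.truncGE 0 ⋙ t.truncLE 0)

include e in
lemma map_zero' (X Y : C) : H0.map (0 : X ⟶ Y) = 0 := by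
  apply t.ιHeart.map_injective
  have h := e.hom.naturality (0 : X ⟶ Y)
  have hz : (t.truncGE 0 ⋙ t.truncLE 0).map (0 : X ⟶ Y) = 0 := by
    rw [Functor.comp_map, Functor.map_zero, Functor.map_zero]
  rw [hz, comp_zero] at h
  have h2 : (H0 ⋙ t.ιHeart).map (0 : X ⟶ Y) = 0 := by
    rw [← cancel_mono (e.hom.app Y), h, zero_comp]
  exact h2.trans (t.ιHeart.map_zero _ _).symm

/-- `τ≤0 Y ⟶ ι H^0 Y` -/
noncomputable def α : t.truncLE 0 ⟶ H0 ⋙ t.ιHeart where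
  app Y := (t.truncGEπ 0).app ((t.truncLE 0).obj Y) ≫ (t.truncGELEIsoLEGE 0 0).hom.app Y ≫
    e.inv.app Y
  naturality Y Y' f := by
    have h1 := t.truncGEπ_naturality 0 ((t.truncLE 0).map f)
    have h2 := (t.truncGELEIsoLEGE 0 0).hom.naturality f
    have h3 := e.inv.naturality f
    dsimp at h1 h2 h3 ⊢
    rw [← reassoc_of% h1, reassoc_of% h2, h3]
    simp only [Category.assoc]

/-- `ι H^0 B ⟶ τ≥0 B` -/
noncomputable def β : H0 ⋙ t.ιHeart ⟶ t.truncGE 0 where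
  app B := e.hom.app B ≫ (t.truncLEι 0).app ((t.truncGE 0).obj B)
  naturality B B' f := by
    have h1 := (t.truncLEι 0).naturality ((t.truncGE 0).map f)
    have h3 := e.hom.naturality f
    dsimp at h1 h3 ⊢
    rw [Category.assoc, ← h1, reassoc_of% h3]

lemma α_surj (Y : C) {A : C} [t.IsGE A 0] (ψ₁ : (t.truncLE 0).obj Y ⟶ A) :
    ∃ ψ' : t.ιHeart.obj (H0.obj Y) ⟶ A, (α t H0 e).app Y ≫ ψ' = ψ₁ := by
  refine ⟨e.hom.app Y ≫ (t.truncGELEIsoLEGE 0 0).inv.app Y ≫ t.descTruncGE ψ₁ 0, ?_⟩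
  dsimp [α]
  simp only [Category.assoc, Iso.inv_hom_id_app_assoc]
  erw [Iso.hom_inv_id_app_assoc]
  exact t.π_descTruncGE ψ₁ 0

lemma α_inj (Y : C) {A : C} [t.IsGE A 0] (ψ ψ' : t.ιHeart.obj (H0.obj Y) ⟶ A)
    (h : (α t H0 e).app Y ≫ ψ = (α t H0 e).app Y ≫ ψ') : ψ = ψ' := by
  dsimp [α] at h
  simp only [Category.assoc] at h
  have h2 := t.from_truncGE_obj_ext h
  rw [← cancel_epi (e.inv.app Y), ← cancel_epi ((t.truncGELEIsoLEGE 0 0).hom.app Y)]
  exact h2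

lemma β_inj (B : C) {D : C} [t.IsLE D 0] (φ φ' : D ⟶ t.ιHeart.obj (H0.obj B))
    (h : φ ≫ (β t H0 e).app B = φ' ≫ (β t H0 e).app B) : φ = φ' := by
  dsimp [β] at h
  simp only [← Category.assoc] at h
  have h2 := t.to_truncLE_obj_ext h
  rw [← cancel_mono (e.hom.app B)]
  exact h2

include e in
/-- P1: the weak cokernel property when the first vertex is `≤ 0`. -/
theorem p1 (T : Triangle C) (hT : T ∈ distTriang C) [t.IsLE T.obj₁ 0] (W : H)
    (ψ : H0.obj T.obj₂ ⟶ W) (hψ : H0.map T.mor₁ ≫ ψ = 0) :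
    ∃ ψ' : H0.obj T.obj₃ ⟶ W, H0.map T.mor₂ ≫ ψ' = ψ := by
  let ψ₁ : (t.truncLE 0).obj T.obj₂ ⟶ t.ιHeart.obj W := (α t H0 e).app T.obj₂ ≫ t.ιHeart.map ψ
  have hψ₁ : (t.truncLE 0).map T.mor₁ ≫ ψ₁ = 0 := by
    dsimp only [ψ₁]
    rw [← Category.assoc, (α t H0 e).naturality T.mor₁, Category.assoc, Functor.comp_map,
      ← Functor.map_comp, hψ, Functor.map_zero, comp_zero]
  obtain ⟨ψ₁', hψ₁'⟩ := p1c t T hT ψ₁ hψ₁
  obtain ⟨ψt, hψt⟩ := α_surj t H0 e T.obj₃ ψ₁'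
  refine ⟨t.ιHeart.preimage ψt, ?_⟩
  apply t.ιHeart.map_injective
  apply α_inj t H0 e T.obj₂
  rw [Functor.map_comp, Functor.map_preimage, ← Category.assoc]
  have := (α t H0 e).naturality T.mor₂
  rw [Functor.comp_map] at this
  rw [← this, Category.assoc, hψt, hψ₁']

include e in
/-- P2: `H^0` of the first map is a monomorphism when the third vertex is `≥ 0`. -/
theorem p2 (T : Triangle C) (hT : T ∈ distTriang C) [t.IsGE T.obj₃ 0] :
    Mono (H0.map T.mor₁) := by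
  apply Preadditive.mono_of_cancel_zero
  intro W k hk
  let φ : t.ιHeart.obj W ⟶ (t.truncGE 0).obj T.obj₁ := t.ιHeart.map k ≫ (β t H0 e).app T.obj₁
  have hφ : φ ≫ (t.truncGE 0).map T.mor₁ = 0 := by
    dsimp only [φ]
    rw [Category.assoc, ← (β t H0 e).naturality T.mor₁, Functor.comp_map, ← Category.assoc,
      ← Functor.map_comp, hk, Functor.map_zero, zero_comp]
  have h0 := p2c t T hT φ hφ
  apply t.ιHeart.map_injective
  rw [Functor.map_zero]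
  apply β_inj t H0 e T.obj₁
  rw [zero_comp]
  exact h0

include e in
/-- BBD 1.3.6: `H^0` is a homological functor. -/
theorem isHomological : H0.IsHomological := by
  haveI : H0.PreservesZeroMorphisms := ⟨fun X Y => map_zero' t H0 e X Y⟩
  refine ⟨fun T hT => ?_⟩
  -- the octahedron on `τ≤0 X ⟶ X ⟶ Y`
  obtain ⟨U, a, b, h₁₃⟩ := distinguished_cocone_triangle ((t.truncLEι 0).app T.obj₁ ≫ T.mor₁)
  have h₁₂ := t.triangleLEGT_distinguished 0 T.obj₁
  have h₂₃ : Triangle.mk T.mor₁ T.mor₂ T.mor₃ ∈ distTriang C := hT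
  have oct := someOctahedron rfl h₁₂ h₂₃ h₁₃
  have hc₃ : a ≫ oct.m₃ = T.mor₂ := oct.comm₃
  -- `H0 m₃` is a mono
  have hmono : Mono (H0.map oct.m₃) := by
    have hrot := rot_of_distTriang _ oct.mem
    haveI : t.IsGE (Triangle.rotate (Triangle.mk oct.m₁ oct.m₃
        (T.mor₃ ≫ ((t.truncGTπ 0).app T.obj₁)⟦(1 : ℤ)⟧'))).obj₃ 0 := by
      dsimp
      haveI : t.IsGE ((t.truncGT 0).obj T.obj₁) 1 := t.isGE_truncGT_obj T.obj₁ 0 1
      exact t.isGE_shift ((t.truncGT 0).obj T.obj₁) 1 1 0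
    exact p2 t H0 e _ hrot
  have hzero : H0.map T.mor₁ ≫ H0.map a = 0 := by
    rw [← cancel_mono (H0.map oct.m₃), Category.assoc, ← Functor.map_comp, hc₃,
      ← Functor.map_comp, comp_distTriang_mor_zero₁₂ _ hT, zero_comp]
    exact map_zero' t H0 e _ _
  have hS₁ : (ShortComplex.mk (H0.map T.mor₁) (H0.map a) hzero).Exact := by
    apply exact_of_desc
    intro W ψ hψ
    change H0.obj T.obj₂ ⟶ W at ψ
    change H0.map T.mor₁ ≫ ψ = 0 at hψ
    change ∃ ψ' : H0.obj U ⟶ W, H0.map a ≫ ψ' = ψ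
    have hLE : t.IsLE (Triangle.mk ((t.truncLEι 0).app T.obj₁ ≫ T.mor₁) a b).obj₁ 0 :=
      show t.IsLE ((t.truncLE 0).obj T.obj₁) 0 from inferInstance
    have hψ' : H0.map ((t.truncLEι 0).app T.obj₁ ≫ T.mor₁) ≫ ψ = 0 := by
      rw [Functor.map_comp, Category.assoc, hψ, comp_zero]
    exact p1 t H0 e (Triangle.mk ((t.truncLEι 0).app T.obj₁ ≫ T.mor₁) a b) h₁₃ W ψ hψ'
  let φ : ShortComplex.mk (H0.map T.mor₁) (H0.map a) hzero ⟶
      (shortComplexOfDistTriangle T hT).map H0 :=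
    { τ₁ := 𝟙 (H0.obj T.obj₁)
      τ₂ := 𝟙 (H0.obj T.obj₂)
      τ₃ := H0.map oct.m₃
      comm₁₂ := by
        change 𝟙 (H0.obj T.obj₁) ≫ H0.map T.mor₁ = H0.map T.mor₁ ≫ 𝟙 (H0.obj T.obj₂)
        rw [Category.id_comp, Category.comp_id]
      comm₂₃ := by
        change 𝟙 (H0.obj T.obj₂) ≫ H0.map T.mor₂ = H0.map a ≫ H0.map oct.m₃
        rw [Category.id_comp, ← Functor.map_comp, hc₃] }
  have h1 : Epi φ.τ₁ := show Epi (𝟙 (H0.obj T.obj₁)) from inferInstance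
  have h2 : IsIso φ.τ₂ := show IsIso (𝟙 (H0.obj T.obj₂)) from inferInstance
  have h3 : Mono φ.τ₃ := hmono
  exact (ShortComplex.exact_iff_of_epi_of_isIso_of_mono φ).1 hS₁

end HLevel

end Groth.Agent.Lib.Helper84.THeart
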