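import Groth.Agent.Lib.Helper98.KoszulTensor

/-!
# Termwise tensor with a module versus monoidal tensor with the stalk complex (helper84)

`σ M K : (K^n ⊗ M)_n ⟶ K ⊗ M[0]` (Mathlib's monoidal tensor product of cochain complexes), natural
in `K`.
-/

set_option autoImplicit false
universe u
open CategoryTheory CategoryTheory.Limits MonoidalCategory HomologicalComplex

namespace Groth.Agent.Lib.Helper84.TensSingle

variable {A : Type u} [CommRing A] (M : ModuleCat.{u} A)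

/-- the stalk complex functor in degree 0 -/
noncomputable abbrev S : ModuleCat.{u} A ⥤ DRing.Cx A :=
  HomologicalComplex.single (ModuleCat.{u} A) (ComplexShape.up ℤ) 0

/-- termwise tensor with a module -/
noncomputable abbrev tensF : DRing.Cx A ⥤ DRing.Cx A :=
  (tensorRight M).mapHomologicalComplex (ComplexShape.up ℤ)

/-- The comparison `K^• ⊗ M ⟶ K ⊗ M[0]`. -/
noncomputable def σ (K : DRing.Cx A) : (tensF M).obj K ⟶ (K ⊗ (S.obj M) : DRing.Cx A) where
  f n := (K.X n ◁ (HomologicalComplex.singleObjXSelf (ComplexShape.up ℤ) (0 : ℤ) M).inv) ≫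
    ιTensorObj K (S.obj M) n 0 n (add_zero n)
  comm' i j hij := by
    have hij' : i + 1 = j := hij
    rw [Category.assoc, Helper98.KoszulTensor.ι_tensor_d K (S.obj M) i 0 i (add_zero i) j hij' j hij' 1
      (zero_add 1)]
    have h0 : ((S.obj M : DRing.Cx A)).d 0 1 = 0 := by
      exact HomologicalComplex.single_obj_d _ _ _ _ _
    rw [h0, MonoidalPreadditive.whiskerLeft_zero, zero_comp, smul_zero, add_zero]
    exact whisker_exchange_assoc (K.d i j)
      (HomologicalComplex.singleObjXSelf (ComplexShape.up ℤ) (0 : ℤ) M).inv _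

@[reassoc]
lemma ι_whiskerRight {K K' : DRing.Cx A} (f : K ⟶ K') (L : DRing.Cx A) (p q n : ℤ) (h : p + q = n) :
    ιTensorObj K L p q n h ≫ (f ▷ L : (K ⊗ L : DRing.Cx A) ⟶ K' ⊗ L).f n =
      (f.f p ▷ L.X q) ≫ ιTensorObj K' L p q n h := by
  have h1 := ι_mapBifunctorMap f (𝟙 L) (curriedTensor (ModuleCat.{u} A)) (ComplexShape.up ℤ) p q n h
  rw [← tensorHom_id]
  refine h1.trans ?_
  simp

@[reassoc]
lemma σ_naturality {K K' : DRing.Cx A} (f : K ⟶ K') :
    (tensF M).map f ≫ σ M K' = σ M K ≫ (f ▷ (S.obj M) : (K ⊗ S.obj M : DRing.Cx A) ⟶ K' ⊗ S.obj M) := by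
  apply HomologicalComplex.hom_ext
  intro n
  change (f.f n ▷ M) ≫ (K'.X n ◁ (HomologicalComplex.singleObjXSelf (ComplexShape.up ℤ) (0 : ℤ) M).inv) ≫
      ιTensorObj K' (S.obj M) n 0 n (add_zero n) =
    ((K.X n ◁ (HomologicalComplex.singleObjXSelf (ComplexShape.up ℤ) (0 : ℤ) M).inv) ≫
      ιTensorObj K (S.obj M) n 0 n (add_zero n)) ≫ (f ▷ (S.obj M) : (K ⊗ S.obj M : DRing.Cx A) ⟶ K' ⊗ S.obj M).f n
  rw [Category.assoc, ι_whiskerRight]
  exact (whisker_exchange_assoc (f.f n)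
      (HomologicalComplex.singleObjXSelf (ComplexShape.up ℤ) (0 : ℤ) M).inv _).symm

/-- `M[0] ⟶ A[0]^• ⊗ M` -/
noncomputable def e₀' : (S.obj M : DRing.Cx A) ⟶ (tensF M).obj (S.obj (𝟙_ (ModuleCat.{u} A))) :=
  S.map (λ_ M).inv ≫
    (HomologicalComplex.singleMapHomologicalComplex (tensorRight M) (ComplexShape.up ℤ) (0 : ℤ)).inv.app
      (𝟙_ (ModuleCat.{u} A))

lemma leftUnitor_inv_f (K : DRing.Cx A) (i : ℤ) :
    (λ_ K).inv.f i = (λ_ (K.X i)).inv ≫
      ((HomologicalComplex.singleObjXSelf (ComplexShape.up ℤ) (0 : ℤ) (𝟙_ (ModuleCat.{u} A))).inv ▷ (K.X i)) ≫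
        ιTensorObj (𝟙_ (DRing.Cx A)) K 0 i i (zero_add i) :=
  HomologicalComplex.leftUnitor'_inv K i

lemma e₀'_σ : e₀' M ≫ σ M (S.obj (𝟙_ (ModuleCat.{u} A))) = (λ_ (S.obj M : DRing.Cx A)).inv := by
  apply HomologicalComplex.from_single_hom_ext
  rw [leftUnitor_inv_f]
  have h1 : (e₀' M).f 0 = (HomologicalComplex.singleObjXSelf (ComplexShape.up ℤ) (0 : ℤ) M).hom ≫ (λ_ M).inv ≫
      ((HomologicalComplex.singleObjXSelf (ComplexShape.up ℤ) (0 : ℤ) (𝟙_ (ModuleCat.{u} A))).inv ▷ M) := by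
    unfold e₀'
    rw [HomologicalComplex.comp_f, HomologicalComplex.single_map_f_self,
      HomologicalComplex.singleMapHomologicalComplex_inv_app_self]
    simp
    rfl
  rw [HomologicalComplex.comp_f, h1]
  change (_ ≫ _ ≫ _) ≫ ((((S.obj (𝟙_ (ModuleCat.{u} A)) : DRing.Cx A)).X 0 ◁
      (HomologicalComplex.singleObjXSelf (ComplexShape.up ℤ) (0 : ℤ) M).inv) ≫
    ιTensorObj (S.obj (𝟙_ (ModuleCat.{u} A))) (S.obj M) 0 0 0 (add_zero 0)) = _
  simp only [Category.assoc]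
  rw [← whisker_exchange_assoc, ← leftUnitor_inv_naturality_assoc, Iso.hom_inv_id_assoc]
  rfl

lemma e₀'_σ_leftUnitor :
    e₀' M ≫ σ M (S.obj (𝟙_ (ModuleCat.{u} A))) ≫ (λ_ (S.obj M : DRing.Cx A)).hom = 𝟙 _ := by
  rw [← Category.assoc, e₀'_σ, Iso.inv_hom_id]

end Groth.Agent.Lib.Helper84.TensSingle
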