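import Groth.Agent.Lib.Helper84.ToSingle

/-!
# Homology of the map `toSingleHom` (helper84)

If `H^p` of `Q.map (toSingleHom E z)` vanishes then `homologyι ≫ (opcycles desc of z) = 0`.
Also: an Artin–Rees separation lemma.
-/

set_option autoImplicit false
universe w v u

open CategoryTheory CategoryTheory.Limits CochainComplex.HomComplex DerivedCategory

namespace Groth.Agent.Lib.Helper84.ToSingle

variable {C : Type u} [Category.{v} C] [Abelian C]

section

variable (E : CochainComplex C ℤ) {N : C} {p p' : ℤ} (hp' : p' + 1 = p)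

lemma toSingleHom_f (z : E.X p ⟶ N) (hz : E.d p' p ≫ z = 0) :
    (toSingleHom E hp' z hz).f p =
      z ≫ (HomologicalComplex.singleObjXSelf (ComplexShape.up ℤ) p N).inv := by
  unfold toSingleHom
  rw [Cocycle.homOf_f]
  exact Cochain.toSingleMk_v z (by lia : p + 0 = p)

/-- If the map induced on `H^p` by `toSingleHom z` is zero, then `z` (descended to the opcycles)
kills the homology. -/
lemma homologyι_comp_eq_zero (z : E.X p ⟶ N) (hz : E.d p' p ≫ z = 0)
    (h : HomologicalComplex.homologyMap (toSingleHom E hp' z hz) p = 0) :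
    E.homologyι p ≫ E.descOpcycles z p' (by simp; lia) hz = 0 := by
  set S := (CochainComplex.singleFunctor C p).obj N
  set t := toSingleHom E hp' z hz
  have h1 : E.homologyι p ≫ HomologicalComplex.opcyclesMap t p = 0 := by
    rw [← HomologicalComplex.homologyι_naturality, h, zero_comp]
  have hd : S.d p' p = 0 := by
    apply (HomologicalComplex.isZero_single_obj_X _ _ _ _ (by lia : p' ≠ p)).eq_of_src
  have : IsIso (S.pOpcycles p) :=
    HomologicalComplex.isIso_pOpcycles S p' p (by simp; lia) hd
  have h2 : HomologicalComplex.opcyclesMap t p =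
      E.descOpcycles z p' (by simp; lia) hz ≫
        (HomologicalComplex.singleObjXSelf (ComplexShape.up ℤ) p N).inv ≫ S.pOpcycles p := by
    rw [← cancel_epi (E.pOpcycles p), HomologicalComplex.p_opcyclesMap,
      HomologicalComplex.p_descOpcycles_assoc]
    rw [toSingleHom_f E hp' z hz]
    exact Category.assoc _ _ _
  rw [h2, ← Category.assoc, ← Category.assoc] at h1
  have h3 := (cancel_mono (S.pOpcycles p)).1 (h1.trans (zero_comp).symm)
  exact (cancel_mono ((HomologicalComplex.singleObjXSelf (ComplexShape.up ℤ) p N).inv)).1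
    (h3.trans (zero_comp).symm)

end

section Derived

variable [HasDerivedCategory.{w} C] (E : CochainComplex C ℤ)
  {N : C} {p p' : ℤ} (hp' : p' + 1 = p)

lemma homologyι_comp_eq_zero_of_Q (z : E.X p ⟶ N) (hz : E.d p' p ≫ z = 0)
    (h : (DerivedCategory.homologyFunctor C p).map (Q.map (toSingleHom E hp' z hz)) = 0) :
    E.homologyι p ≫ E.descOpcycles z p' (by simp; lia) hz = 0 := by
  apply homologyι_comp_eq_zero E hp' z hz
  have nat := (DerivedCategory.homologyFunctorFactors C p).hom.naturality
    (toSingleHom E hp' z hz)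
  dsimp only [Functor.comp_map] at nat
  rw [h, zero_comp] at nat
  have := (cancel_epi ((DerivedCategory.homologyFunctorFactors C p).hom.app E)).1
    (nat.symm.trans (comp_zero).symm)
  exact this

end Derived

end Groth.Agent.Lib.Helper84.ToSingle

namespace Groth.Agent.Lib.Helper84.ArtinReesSep

variable {A : Type*} [CommRing A] [IsNoetherianRing A]

/-- Artin–Rees separation: if `H ↪ N` with `N` finite and `I • H ≠ H`, then `H ⊄ Iⁿ N` for
some `n`. -/
theorem exists_not_le_pow_smul {N H : Type*} [AddCommGroup N] [Module A N] [Module.Finite A N]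
    [AddCommGroup H] [Module A H] (ι : H →ₗ[A] N) (hι : Function.Injective ι) (I : Ideal A)
    (hI : I • (⊤ : Submodule A H) ≠ ⊤) :
    ∃ n : ℕ, ¬ LinearMap.range ι ≤ I ^ n • (⊤ : Submodule A N) := by
  obtain ⟨k, hk⟩ := Ideal.exists_pow_inf_eq_pow_smul I (LinearMap.range ι)
  refine ⟨k + 1, fun hle => hI ?_⟩
  have h1 := hk (k + 1) (by lia)
  rw [Nat.add_sub_cancel_left, pow_one, inf_eq_right.2 hle] at h1
  have h2 : LinearMap.range ι ≤ I • LinearMap.range ι := by
    conv_lhs => rw [h1]
    exact Submodule.smul_mono le_rfl inf_le_right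
  have h3 : (⊤ : Submodule A H).map ι ≤ (I • (⊤ : Submodule A H)).map ι := by
    rw [Submodule.map_smul'', Submodule.map_top]
    exact h2
  rw [eq_top_iff]
  exact (Submodule.map_le_map_iff_of_injective hι _ _).1 h3

end Groth.Agent.Lib.Helper84.ArtinReesSep
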