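import Mathlib.CategoryTheory.Monoidal.Tor
import Mathlib.Algebra.Category.ModuleCat.Monoidal.Basic
import Mathlib.Algebra.Category.ModuleCat.Abelian
import Mathlib.Algebra.Category.ModuleCat.Projective
import Mathlib.Algebra.Homology.ShortComplex.ModuleCat
import Mathlib.CategoryTheory.Abelian.Projective.Resolution
import Mathlib.LinearAlgebra.TensorProduct.RightExactness
import Mathlib.RingTheory.Ideal.Quotient.Operations

/-!
# `Tor₁(M, S/𝔪) = 0` implies `M ⊗ 𝔪 → M ⊗ S` injective (helper library for S14423)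
-/

set_option autoImplicit false
universe u

namespace Groth.Agent.Lib.Helper84.TorOne

open CategoryTheory TensorProduct

variable {S : Type u} [CommRing S]

/-- algebraic core -/
theorem lTensor_subtype_injective_of_exact (𝔪 : Ideal S) (M : Type u) [AddCommGroup M] [Module S M]
    {P₀ P₁ P₂ Q : Type u} [AddCommGroup P₀] [AddCommGroup P₁] [AddCommGroup P₂] [AddCommGroup Q]
    [Module S P₀] [Module S P₁] [Module S P₂] [Module S Q] [Module.Projective S P₀]
    (q : S →ₗ[S] Q) (hq : Function.Surjective q) (hqk : ∀ s, q s = 0 ↔ s ∈ 𝔪)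
    (d₂ : P₂ →ₗ[S] P₁) (d₁ : P₁ →ₗ[S] P₀) (π : P₀ →ₗ[S] Q)
    (hπ : Function.Surjective π) (h₀ : Function.Exact d₁ π) (h₁ : Function.Exact d₂ d₁)
    (hM : Function.Exact (d₂.lTensor M) (d₁.lTensor M)) :
    Function.Injective ((Submodule.subtype 𝔪).lTensor M) := by
  classical
  -- Z₀ = ker π
  set Z₀ : Submodule S P₀ := LinearMap.ker π with hZ₀
  let d₁' : P₁ →ₗ[S] Z₀ := d₁.codRestrict Z₀ (fun x => h₀.apply_apply_eq_zero x)
  have hd₁'surj : Function.Surjective d₁' := by
    rintro ⟨z, hz⟩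
    obtain ⟨x, hx⟩ := (h₀ z).1 hz
    exact ⟨x, Subtype.ext hx⟩
  have hex' : Function.Exact d₂ d₁' := by
    intro x
    rw [← h₁ x]
    constructor
    · intro h
      have := congrArg Subtype.val h
      simpa [d₁'] using this
    · intro h
      apply Subtype.ext
      simpa [d₁'] using h
  have hexM := lTensor_exact M hex' hd₁'surj
  have hsurjM : Function.Surjective (d₁'.lTensor M) := LinearMap.lTensor_surjective M hd₁'surj
  have hcomp : Z₀.subtype ∘ₗ d₁' = d₁ := by
    ext x; simp [d₁']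
  -- (1) M ⊗ Z₀ → M ⊗ P₀ injective
  have hinjZ : Function.Injective (Z₀.subtype.lTensor M) := by
    rw [injective_iff_map_eq_zero]
    intro w hw
    obtain ⟨y, rfl⟩ := hsurjM w
    rw [← LinearMap.lTensor_comp_apply, hcomp] at hw
    obtain ⟨x, rfl⟩ := (hM y).1 hw
    rw [← LinearMap.lTensor_comp_apply]
    have : d₁' ∘ₗ d₂ = 0 := by
      ext x
      have := (hex' (d₂ x)).2 ⟨x, rfl⟩
      simpa using congrArg Subtype.val this
    rw [this, LinearMap.lTensor_zero, LinearMap.zero_apply]
  -- (2) lifts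
  obtain ⟨p₀, hp₀⟩ := hπ (q 1)
  let τ : S →ₗ[S] P₀ := LinearMap.toSpanSingleton S P₀ p₀
  have hτ : ∀ s, π (τ s) = q s := by
    intro s
    simp only [τ, LinearMap.toSpanSingleton_apply, map_smul, hp₀]
    rw [← map_smul, smul_eq_mul, mul_one]
  obtain ⟨σ, hσ⟩ := Module.projective_lifting_property q π hq
  have hσ' : ∀ x, q (σ x) = π x := fun x => LinearMap.congr_fun hσ x
  let τ' : 𝔪 →ₗ[S] Z₀ := (τ ∘ₗ Submodule.subtype 𝔪).codRestrict Z₀ (fun t => by
    show π (τ t) = 0
    rw [hτ, hqk]; exact t.2)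
  let σ' : Z₀ →ₗ[S] 𝔪 := (σ ∘ₗ Z₀.subtype).codRestrict 𝔪 (fun z => by
    show σ z ∈ 𝔪
    rw [← hqk, hσ']; exact z.2)
  let ε' : S →ₗ[S] 𝔪 := (σ ∘ₗ τ - LinearMap.id).codRestrict 𝔪 (fun s => by
    show σ (τ s) - s ∈ 𝔪
    rw [← hqk, map_sub, hσ', hτ, sub_self])
  have hid : σ' ∘ₗ τ' = LinearMap.id + ε' ∘ₗ Submodule.subtype 𝔪 := by
    ext t
    simp [σ', τ', ε']
  have hcomp2 : Z₀.subtype ∘ₗ τ' = τ ∘ₗ Submodule.subtype 𝔪 := by
    ext t; simp [τ']
  rw [injective_iff_map_eq_zero]
  intro z hz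
  have h1 : τ'.lTensor M z = 0 := by
    apply hinjZ
    rw [← LinearMap.lTensor_comp_apply, hcomp2, LinearMap.lTensor_comp_apply, hz, map_zero, map_zero]
  have h2 : (σ' ∘ₗ τ').lTensor M z = z + ε'.lTensor M ((Submodule.subtype 𝔪).lTensor M z) := by
    rw [hid, LinearMap.lTensor_add, LinearMap.add_apply, LinearMap.lTensor_id, LinearMap.id_apply,
      LinearMap.lTensor_comp_apply]
  rw [LinearMap.lTensor_comp_apply, h1, hz, map_zero, map_zero, add_zero] at h2
  exact h2.symm

open MonoidalCategory in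
/-- categorical extraction -/
theorem lTensor_subtype_injective_of_isZero_tor (𝔪 : Ideal S) (M : Type u) [AddCommGroup M]
    [Module S M]
    (h : Limits.IsZero (((Tor (ModuleCat.{u} S) 1).obj (ModuleCat.of S M)).obj
      (ModuleCat.of S (S ⧸ 𝔪)))) :
    Function.Injective ((Submodule.subtype 𝔪).lTensor M) := by
  let X : ModuleCat.{u} S := ModuleCat.of S (S ⧸ 𝔪)
  let P : ProjectiveResolution X := ProjectiveResolution.of X
  let F : ModuleCat.{u} S ⥤ ModuleCat.{u} S := (tensoringLeft (ModuleCat.{u} S)).obj (ModuleCat.of S M)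
  have e := P.isoLeftDerivedObj F 1
  have hz : Limits.IsZero (((F.mapHomologicalComplex (ComplexShape.down ℕ)).obj P.complex).homology 1) :=
    Limits.IsZero.of_iso h e.symm
  have hex := (HomologicalComplex.exactAt_iff_isZero_homology _ _).2 hz
  rw [HomologicalComplex.exactAt_iff' _ 2 1 0 (by simp) (by simp)] at hex
  rw [ShortComplex.moduleCat_exact_iff] at hex
  have hP1 := P.exact_succ 0
  rw [ShortComplex.moduleCat_exact_iff] at hP1
  have hP0 := P.exact₀
  rw [ShortComplex.moduleCat_exact_iff] at hP0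
  have hepi : Function.Surjective (P.π.f 0).hom := (ModuleCat.epi_iff_surjective _).1 inferInstance
  have : Module.Projective S (P.complex.X 0) := by
    have : Projective (P.complex.X 0) := P.projective 0
    exact (P.complex.X 0).projective_of_module_projective
  refine lTensor_subtype_injective_of_exact 𝔪 M (P₀ := P.complex.X 0) (P₁ := P.complex.X 1)
    (P₂ := P.complex.X 2) (Q := S ⧸ 𝔪) (Submodule.mkQ 𝔪) (Submodule.mkQ_surjective _) ?_
    (P.complex.d 2 1).hom (P.complex.d 1 0).hom (P.π.f 0).hom hepi ?_ ?_ ?_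
  · intro s
    exact Submodule.Quotient.mk_eq_zero _
  · intro x
    constructor
    · intro hx
      exact hP0 x hx
    · rintro ⟨y, rfl⟩
      have := P.complex_d_comp_π_f_zero
      exact congrArg (fun f => f.hom y) this
  · intro x
    constructor
    · intro hx
      exact hP1 x hx
    · rintro ⟨y, rfl⟩
      have := P.complex.d_comp_d 2 1 0
      exact congrArg (fun f => f.hom y) this
  · intro x
    constructor
    · intro hx
      exact hex x hx
    · rintro ⟨y, rfl⟩
      rw [← LinearMap.lTensor_comp_apply]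
      have : (P.complex.d 1 0).hom ∘ₗ (P.complex.d 2 1).hom = 0 := by
        have := P.complex.d_comp_d 2 1 0
        ext y
        exact congrArg (fun f => f.hom y) this
      rw [this, LinearMap.lTensor_zero, LinearMap.zero_apply]

end Groth.Agent.Lib.Helper84.TorOne
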