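import Mathlib

/-!
# Total complexes of bounded below double complexes: existence and vanishing (helper84)
-/

open CategoryTheory CategoryTheory.Limits

namespace Groth.Agent.Lib.Helper84.Tot

universe v u w
variable {A : Type u} [Category.{v} A] [Abelian A]

/-- a coproduct exists for a family with finite support. -/
lemma hasCoproduct_of_finite_support {J : Type w} (f : J → A) (S : Set J) (hS : S.Finite)
    (hf : ∀ j, j ∉ S → IsZero (f j)) : HasCoproduct f := by
  classical
  have : Fintype S := hS.fintype
  have : HasFiniteBiproducts A := HasFiniteBiproducts.of_hasFiniteProducts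
  let g : S → A := fun s => f s
  let c : Cofan f := Cofan.mk (⨁ g) (fun j => if h : j ∈ S then biproduct.ι g ⟨j, h⟩ else 0)
  have hc : IsColimit c := Cofan.IsColimit.mk c
    (fun t => biproduct.desc (fun s => t.inj s))
    (fun t j => by
      by_cases h : j ∈ S
      · have : c.inj j = biproduct.ι g ⟨j, h⟩ := by simp [c, h]
        rw [this, biproduct.ι_desc]
      · exact (hf j h).eq_of_src _ _)
    (fun t m hm => by
      apply biproduct.hom_ext'
      intro s
      rw [biproduct.ι_desc]
      have h1 := hm s.1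
      have : c.inj s.1 = biproduct.ι g s := by simp [c, s.2]
      rw [this] at h1
      exact h1)
  exact ⟨⟨⟨c, hc⟩⟩⟩

abbrev up := ComplexShape.up ℤ

/-- boundedness below by `(a, b)`. -/
def Bdd (K : HomologicalComplex₂ A up up) (a b : ℤ) : Prop :=
  ∀ p q : ℤ, p < a ∨ q < b → IsZero ((K.X p).X q)

lemma hasTotal_of_bdd (K : HomologicalComplex₂ A up up) (a b : ℤ) (hK : Bdd K a b) :
    K.HasTotal up := by
  intro n
  apply hasCoproduct_of_finite_support _ {x | a ≤ x.1.1 ∧ b ≤ x.1.2}
  · apply Set.Finite.of_finite_image (f := fun x => x.1.1)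
    · apply (Set.finite_Icc a (n - b)).subset
      rintro _ ⟨⟨⟨p, q⟩, hpq⟩, ⟨h1, h2⟩, rfl⟩
      have : p + q = n := hpq
      simp only [Set.mem_Icc]
      dsimp at h1 h2 ⊢
      omega
    · rintro ⟨⟨p, q⟩, hpq⟩ _ ⟨⟨p', q'⟩, hpq'⟩ _ h
      have h1 : p + q = n := hpq
      have h2 : p' + q' = n := hpq'
      dsimp at h
      subst h
      have : q = q' := by omega
      subst this
      rfl
  · rintro ⟨⟨p, q⟩, hpq⟩ hx
    apply hK p q
    simp only [Set.mem_ofPred_eq, not_and_or, not_le] at hx
    exact hx

lemma isZero_total_X (K : HomologicalComplex₂ A up up) [K.HasTotal up] (n : ℤ)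
    (h : ∀ p q : ℤ, p + q = n → IsZero ((K.X p).X q)) : IsZero ((K.total up).X n) := by
  rw [IsZero.iff_id_eq_zero]
  apply HomologicalComplex₂.total.hom_ext
  intro p q hpq
  exact (h p q hpq).eq_of_src _ _

lemma isZero_total_X_of_bdd (K : HomologicalComplex₂ A up up) [K.HasTotal up] (a b : ℤ)
    (hK : Bdd K a b) (n : ℤ) (hn : n < a + b) : IsZero ((K.total up).X n) :=
  isZero_total_X K n (fun p q hpq => hK p q (by omega))

end Groth.Agent.Lib.Helper84.Tot
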