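import Groth.Agent.Lib.Helper84.TotA

/-!
# Stupid truncation `σ_{>b}` of cochain complexes, via retracts (helper84)
-/

open CategoryTheory CategoryTheory.Limits ZeroObject

namespace Groth.Agent.Lib.Helper84.Tot

universe v u
variable {A : Type u} [Category.{v} A] [Abelian A]

section Trunc
variable (b : ℤ)

/-- objects of the truncation `σ_{>b}`. -/
noncomputable def gtX (X : CochainComplex A ℤ) (q : ℤ) : A := if b < q then X.X q else 0

/-- inclusion. -/
noncomputable def gtι (X : CochainComplex A ℤ) (q : ℤ) : gtX b X q ⟶ X.X q :=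
  if h : b < q then eqToHom (if_pos h) else 0

/-- retraction. -/
noncomputable def gtπ (X : CochainComplex A ℤ) (q : ℤ) : X.X q ⟶ gtX b X q :=
  if h : b < q then eqToHom (if_pos h).symm else 0

lemma isZero_gtX (X : CochainComplex A ℤ) (q : ℤ) (h : ¬ b < q) : IsZero (gtX b X q) := by
  unfold gtX; rw [if_neg h]; exact isZero_zero A

lemma isZero_gtX' (X : CochainComplex A ℤ) (q : ℤ) (h : IsZero (X.X q)) : IsZero (gtX b X q) := by
  unfold gtX; split_ifs
  · exact h
  · exact isZero_zero A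

@[reassoc (attr := simp)]
lemma gtι_gtπ (X : CochainComplex A ℤ) (q : ℤ) : gtι b X q ≫ gtπ b X q = 𝟙 _ := by
  by_cases h : b < q
  · simp [gtι, gtπ, h]
  · exact (isZero_gtX b X q h).eq_of_src _ _

@[reassoc]
lemma gtπ_gtι (X : CochainComplex A ℤ) (q : ℤ) (h : b < q) : gtπ b X q ≫ gtι b X q = 𝟙 _ := by
  simp [gtι, gtπ, h]

lemma gtι_eq_zero (X : CochainComplex A ℤ) (q : ℤ) (h : ¬ b < q) : gtι b X q = 0 :=
  (isZero_gtX b X q h).eq_of_src _ _

lemma gtπ_eq_zero (X : CochainComplex A ℤ) (q : ℤ) (h : ¬ b < q) : gtπ b X q = 0 :=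
  (isZero_gtX b X q h).eq_of_tgt _ _

lemma isIso_gtι (X : CochainComplex A ℤ) (q : ℤ) (h : b < q) : IsIso (gtι b X q) :=
  ⟨⟨gtπ b X q, gtι_gtπ b X q, gtπ_gtι b X q h⟩⟩

@[reassoc (attr := simp)]
lemma gtι_d_gtπ_gtι (X : CochainComplex A ℤ) (q q' : ℤ) :
    gtι b X q ≫ X.d q q' ≫ gtπ b X q' ≫ gtι b X q' = gtι b X q ≫ X.d q q' := by
  by_cases hr : q + 1 = q'
  · by_cases h : b < q
    · rw [gtπ_gtι b X q' (by omega), Category.comp_id]
    · rw [gtι_eq_zero b X q h, zero_comp, zero_comp]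
  · rw [X.shape _ _ hr]; simp

@[reassoc (attr := simp)]
lemma gtι_comp_gtπ_gtι (X Y : CochainComplex A ℤ) (q : ℤ) (g : X.X q ⟶ Y.X q) :
    gtι b X q ≫ g ≫ gtπ b Y q ≫ gtι b Y q = gtι b X q ≫ g := by
  by_cases h : b < q
  · rw [gtπ_gtι b Y q h, Category.comp_id]
  · rw [gtι_eq_zero b X q h, zero_comp, zero_comp]

/-- the truncation `σ_{>b} X`. -/
noncomputable def gtObj (X : CochainComplex A ℤ) : CochainComplex A ℤ where
  X := gtX b X
  d q q' := gtι b X q ≫ X.d q q' ≫ gtπ b X q'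
  shape q q' h := by rw [X.shape _ _ h]; simp
  d_comp_d' q q' q'' _ _ := by
    simp only [Category.assoc]
    rw [gtι_d_gtπ_gtι_assoc]; simp

/-- functoriality. -/
noncomputable def gtMap {X Y : CochainComplex A ℤ} (f : X ⟶ Y) : gtObj b X ⟶ gtObj b Y where
  f q := gtι b X q ≫ f.f q ≫ gtπ b Y q
  comm' q q' _ := by
    dsimp [gtObj]
    simp only [Category.assoc]
    rw [gtι_comp_gtπ_gtι_assoc, gtι_d_gtπ_gtι_assoc, f.comm_assoc]

/-- the truncation functor `σ_{>b}`. -/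
noncomputable def gt : CochainComplex A ℤ ⥤ CochainComplex A ℤ where
  obj := gtObj b
  map f := gtMap b f
  map_id X := by ext q; simp [gtMap, gtObj]
  map_comp f g := by ext q; simp [gtMap, gtObj]

instance : (gt (A := A) b).PreservesZeroMorphisms := ⟨by
  intro X Y
  ext q
  change gtι b X q ≫ (0 : X ⟶ Y).f q ≫ gtπ b Y q = 0
  simp⟩

/-- the inclusion `σ_{>b} X ⟶ X`. -/
noncomputable def gtιHom (X : CochainComplex A ℤ) : (gt b).obj X ⟶ X where
  f := gtι b X
  comm' q q' _ := by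
    dsimp [gt, gtObj]
    simp only [Category.assoc]
    rw [gtι_d_gtπ_gtι]

@[simp] lemma gtιHom_f (X : CochainComplex A ℤ) (q : ℤ) : (gtιHom b X).f q = gtι b X q := rfl

@[reassoc]
lemma gtιHom_naturality {X Y : CochainComplex A ℤ} (f : X ⟶ Y) :
    (gt b).map f ≫ gtιHom b Y = gtιHom b X ≫ f := by
  ext q
  dsimp [gt, gtMap]
  simp only [Category.assoc]
  exact gtι_comp_gtπ_gtι b X Y q (f.f q)

end Trunc

end Groth.Agent.Lib.Helper84.Tot
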