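import Groth.Agent.Lib.Helper84.TotA

/-!
# Reindexing of cochain complexes and four-lemma variants for `τ₂` (helper84)
-/

open CategoryTheory CategoryTheory.Limits HomologicalComplex ComposableArrows Abelian

namespace Groth.Agent.Lib.Helper84.Tot

universe v u
variable {A : Type u} [Category.{v} A] [Abelian A]

section Reindex

/-- translation of a cochain complex without signs: `(reindex R b)^n = R^{n-b}`. -/
def reindex (R : CochainComplex A ℤ) (b : ℤ) : CochainComplex A ℤ where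
  X n := R.X (n - b)
  d n m := R.d (n - b) (m - b)
  shape n m h := R.shape _ _ (by
    simp only [ComplexShape.up_Rel] at h ⊢
    omega)
  d_comp_d' := by intros; simp

/-- functoriality of `reindex`. -/
def reindexMap {R R' : CochainComplex A ℤ} (f : R ⟶ R') (b : ℤ) : reindex R b ⟶ reindex R' b where
  f n := f.f (n - b)
  comm' := by intros; simp [reindex]

lemma quasiIsoAt_reindexMap {R R' : CochainComplex A ℤ} (f : R ⟶ R') (b n : ℤ)
    [hf : QuasiIsoAt f (n - b)] : QuasiIsoAt (reindexMap f b) n := by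
  rw [quasiIsoAt_iff' _ (n - 1) n (n + 1) (by simp) (by simp)]
  have := (quasiIsoAt_iff' f (n - 1 - b) (n - b) (n + 1 - b)
    (by simp; omega) (by simp; omega)).1 hf
  exact this

instance quasiIso_reindexMap {R R' : CochainComplex A ℤ} (f : R ⟶ R') (b : ℤ)
    [QuasiIso f] : QuasiIso (reindexMap f b) where
  quasiIsoAt n := quasiIsoAt_reindexMap f b n

end Reindex

section Zero

lemma isIso_of_isZero {X Y : A} (f : X ⟶ Y) (hX : IsZero X) (hY : IsZero Y) : IsIso f :=
  ⟨⟨0, hX.eq_of_src _ _, hY.eq_of_src _ _⟩⟩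

lemma isZero_homology_of_isZero_X {K : CochainComplex A ℤ} (n : ℤ) (h : IsZero (K.X n)) :
    IsZero (K.homology n) :=
  ShortComplex.isZero_homology_of_isZero_X₂ _ h

lemma quasiIso_of_isZero {K L : CochainComplex A ℤ} (f : K ⟶ L) (hK : ∀ n, IsZero (K.X n))
    (hL : ∀ n, IsZero (L.X n)) : QuasiIso f := by
  rw [quasiIso_iff]
  intro n
  rw [quasiIsoAt_iff_isIso_homologyMap]
  exact isIso_of_isZero _ (isZero_homology_of_isZero_X n (hK n))
    (isZero_homology_of_isZero_X n (hL n))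

end Zero

section FourLemma

variable {ι : Type*} {c : ComplexShape ι}
  {S₁ S₂ : ShortComplex (HomologicalComplex A c)} (φ : S₁ ⟶ S₂)
  (hS₁ : S₁.ShortExact) (hS₂ : S₂.ShortExact)

include hS₁ hS₂

open HomologicalComplex.HomologySequence

lemma mono_homologyMap_τ₂ (i j : ι) (hij : c.Rel i j)
    (h₃' : Epi (homologyMap φ.τ₃ i))
    (h₁ : Mono (homologyMap φ.τ₁ j))
    (h₃ : Mono (homologyMap φ.τ₃ j)) :
    Mono (homologyMap φ.τ₂ j) := by
  apply mono_of_epi_of_mono_of_mono
    ((δ₀Functor ⋙ δ₀Functor).map (mapComposableArrows₅ φ hS₁ hS₂ i j hij))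
  · exact (composableArrows₅_exact hS₁ i j hij).δ₀.δ₀
  · exact (composableArrows₅_exact hS₂ i j hij).δ₀.δ₀
  · exact h₃'
  · exact h₁
  · exact h₃

lemma epi_homologyMap_τ₂ (j k : ι) (hjk : c.Rel j k)
    (h₁ : Epi (homologyMap φ.τ₁ j))
    (h₃ : Epi (homologyMap φ.τ₃ j))
    (h₁' : Mono (homologyMap φ.τ₁ k)) :
    Epi (homologyMap φ.τ₂ j) := by
  apply epi_of_epi_of_epi_of_mono
    ((δlastFunctor ⋙ δlastFunctor).map (mapComposableArrows₅ φ hS₁ hS₂ j k hjk))
  · exact (composableArrows₅_exact hS₁ j k hjk).δlast.δlast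
  · exact (composableArrows₅_exact hS₂ j k hjk).δlast.δlast
  · exact h₁
  · exact h₃
  · exact h₁'

lemma isIso_homologyMap_τ₂ (i j k : ι) (hij : c.Rel i j) (hjk : c.Rel j k)
    (h₃' : Epi (homologyMap φ.τ₃ i))
    (h₁ : IsIso (homologyMap φ.τ₁ j))
    (h₃ : IsIso (homologyMap φ.τ₃ j))
    (h₁' : Mono (homologyMap φ.τ₁ k)) :
    IsIso (homologyMap φ.τ₂ j) := by
  have := mono_homologyMap_τ₂ φ hS₁ hS₂ i j hij h₃' inferInstance inferInstance
  have := epi_homologyMap_τ₂ φ hS₁ hS₂ j k hjk inferInstance inferInstance h₁'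
  apply isIso_of_mono_of_epi

end FourLemma

end Groth.Agent.Lib.Helper84.Tot
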