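import Groth.Agent.Lib.Helper84.TotB
import Groth.Agent.Lib.Helper84.TotC

/-!
# Peeling the bottom row of a bounded below double complex (helper84)
-/

open CategoryTheory CategoryTheory.Limits HomologicalComplex

namespace Groth.Agent.Lib.Helper84.Tot

universe v u
variable {A : Type u} [Category.{v} A] [Abelian A]

section Peel

variable (b : ℤ) (K L : HomologicalComplex₂ A up up) (φ : K ⟶ L)

/-- the double complex of rows `> b`. -/
noncomputable def gtK : HomologicalComplex₂ A up up := ((gt b).mapHomologicalComplex up).obj K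

/-- functoriality of `gtK`. -/
noncomputable def gtKMap : gtK b K ⟶ gtK b L := ((gt b).mapHomologicalComplex up).map φ

/-- the inclusion of the rows `> b`. -/
noncomputable def gtKι : gtK b K ⟶ K where
  f p := gtιHom b (K.X p)
  comm' p p' _ := (gtιHom_naturality b (K.d p p')).symm

@[simp] lemma gtKι_f_f (p q : ℤ) : ((gtKι b K).f p).f q = gtι b (K.X p) q := rfl

@[simp] lemma gtKMap_f_f (p q : ℤ) :
    ((gtKMap b K L φ).f p).f q = gtι b (K.X p) q ≫ (φ.f p).f q ≫ gtπ b (L.X p) q := rfl

@[reassoc]
lemma gtKι_naturality : gtKMap b K L φ ≫ gtKι b L = gtKι b K ≫ φ := by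
  apply HomologicalComplex.hom_ext
  intro p
  exact gtιHom_naturality b (φ.f p)

lemma bdd_gtK (a : ℤ) (hK : Bdd K a b) : Bdd (gtK b K) a (b + 1) := fun p q h => by
  change IsZero (gtX b (K.X p) q)
  rcases h with h | h
  · exact isZero_gtX' b _ q (hK p q (Or.inl h))
  · exact isZero_gtX b _ q (by omega)

/-- the `q`-th row of a double complex. -/
noncomputable abbrev row (q : ℤ) : CochainComplex A ℤ :=
  ((eval A up q).mapHomologicalComplex up).obj K

/-- functoriality of rows. -/
noncomputable abbrev rowMap (q : ℤ) : row K q ⟶ row L q :=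
  ((eval A up q).mapHomologicalComplex up).map φ

/-- row-wise quasi-isomorphism. -/
def RowQis : Prop := ∀ q, QuasiIso (rowMap K L φ q)

lemma rowQis_of_quasiIso [QuasiIso φ] : RowQis K L φ := fun _ => inferInstance

lemma rowQis_gtKMap (h : RowQis K L φ) : RowQis _ _ (gtKMap b K L φ) := by
  intro q
  by_cases hq : b < q
  · have e1 : IsIso (rowMap _ _ (gtKι b K) q) := by
      have : ∀ p, IsIso ((rowMap _ _ (gtKι b K) q).f p) := fun p => isIso_gtι b (K.X p) q hq
      exact HomologicalComplex.Hom.isIso_of_components _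
    have e2 : IsIso (rowMap _ _ (gtKι b L) q) := by
      have : ∀ p, IsIso ((rowMap _ _ (gtKι b L) q).f p) := fun p => isIso_gtι b (L.X p) q hq
      exact HomologicalComplex.Hom.isIso_of_components _
    have := h q
    have comm : rowMap _ _ (gtKMap b K L φ) q ≫ rowMap _ _ (gtKι b L) q =
        rowMap _ _ (gtKι b K) q ≫ rowMap K L φ q := by
      rw [← Functor.map_comp, ← Functor.map_comp, gtKι_naturality]
    have : QuasiIso (rowMap _ _ (gtKMap b K L φ) q ≫ rowMap _ _ (gtKι b L) q) := by
      rw [comm]; infer_instance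
    exact quasiIso_of_comp_right _ (rowMap _ _ (gtKι b L) q)
  · exact quasiIso_of_isZero _ (fun p => isZero_gtX b (K.X p) q hq)
      (fun p => isZero_gtX b (L.X p) q hq)

/-- the bottom row, reindexed by total degree. -/
noncomputable def rowCx : CochainComplex A ℤ := reindex (row K b) b

/-- functoriality. -/
noncomputable def rowCxMap : rowCx b K ⟶ rowCx b L := reindexMap (rowMap K L φ b) b

lemma quasiIso_rowCxMap (h : RowQis K L φ) : QuasiIso (rowCxMap b K L φ) := by
  have := h b
  exact quasiIso_reindexMap _ _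

end Peel

end Groth.Agent.Lib.Helper84.Tot
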