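import Groth.Agent.Lib.Helper84.TotD

/-!
# The short exact sequence `Tot (rows > b) ⟶ Tot K ⟶ row b` (helper84)
-/

open CategoryTheory CategoryTheory.Limits HomologicalComplex

namespace Groth.Agent.Lib.Helper84.Tot

universe v u
variable {A : Type u} [Category.{v} A] [Abelian A]

section XX

variable (K L : HomologicalComplex₂ A up up) (φ : K ⟶ L)

lemma XXIsoOfEq_hom_naturality {p p' q q' : ℤ} (hp : p = p') (hq : q = q') :
    (K.XXIsoOfEq _ _ _ hp hq).hom ≫ (φ.f p').f q' = (φ.f p).f q ≫ (L.XXIsoOfEq _ _ _ hp hq).hom := by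
  subst hp hq
  simp

lemma XXIsoOfEq_hom_d₁ {p p' r r' q q' : ℤ} (hp : p = p') (hr : r = r') (hq : q = q') :
    (K.XXIsoOfEq _ _ _ hp hq).hom ≫ (K.d p' r').f q' =
      (K.d p r).f q ≫ (K.XXIsoOfEq _ _ _ hr hq).hom := by
  subst hp hq hr
  simp

end XX

section Seq

variable (b : ℤ) (K L : HomologicalComplex₂ A up up) (φ : K ⟶ L)
  [K.HasTotal up] [L.HasTotal up]

/-- the projection `Tot^n K ⟶ K^{n-b,b}`. -/
noncomputable def πf (n : ℤ) : (K.total up).X n ⟶ (K.X (n - b)).X b :=
  K.totalDesc (fun p q h => if hq : q = b then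
    (K.XXIsoOfEq _ _ _ (show p = n - b by have : p + q = n := h; omega) hq).hom else 0)

@[reassoc]
lemma ι_πf (p q n : ℤ) (h : p + q = n) :
    K.ιTotal up p q n h ≫ πf b K n = if hq : q = b then
      (K.XXIsoOfEq _ _ _ (show p = n - b by omega) hq).hom else 0 := by
  simp [πf]

@[reassoc]
lemma ι_πf_self (p n : ℤ) (h : p + b = n) :
    K.ιTotal up p b n h ≫ πf b K n = (K.XXIsoOfEq _ _ _ (show p = n - b by omega) rfl).hom := by
  rw [ι_πf, dif_pos rfl]

@[reassoc]
lemma ι_πf_ne (p q n : ℤ) (h : p + q = n) (hq : q ≠ b) :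
    K.ιTotal up p q n h ≫ πf b K n = 0 := by
  rw [ι_πf, dif_neg hq]

end Seq

end Groth.Agent.Lib.Helper84.Tot

namespace Groth.Agent.Lib.Helper84.Tot

universe v u
variable {A : Type u} [Category.{v} A] [Abelian A]

section Seq2

variable (b : ℤ) (K L : HomologicalComplex₂ A up up) (φ : K ⟶ L)
  [K.HasTotal up] [L.HasTotal up]

/-- rows below `b` vanish. -/
def RowBdd : Prop := ∀ p q : ℤ, q < b → IsZero ((K.X p).X q)

variable (hK : RowBdd b K) (hL : RowBdd b L)

include hK in
lemma πf_comm (n : ℤ) :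
    πf b K n ≫ (K.d (n - b) (n + 1 - b)).f b = (K.total up).d n (n + 1) ≫ πf b K (n + 1) := by
  apply HomologicalComplex₂.total.hom_ext
  intro p q hpq
  have hpq' : p + q = n := hpq
  rw [HomologicalComplex₂.total_d, Preadditive.add_comp, Preadditive.comp_add,
    HomologicalComplex₂.ι_D₁_assoc, HomologicalComplex₂.ι_D₂_assoc,
    K.d₁_eq up (show up.Rel p (p + 1) by simp) q (n + 1)
      (show p + 1 + q = n + 1 by omega),
    K.d₂_eq up p (show up.Rel q (q + 1) by simp) (n + 1)
      (show p + (q + 1) = n + 1 by omega)]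
  simp only [Linear.units_smul_comp, Category.assoc]
  by_cases hq : q = b
  · subst hq
    rw [ι_πf_self_assoc, ι_πf_self, ι_πf_ne q K p (q + 1) (n + 1) (by omega) (by omega),
      comp_zero, smul_zero, add_zero]
    rw [XXIsoOfEq_hom_d₁ K (show p = n - q by omega) (show p + 1 = n + 1 - q by omega) rfl]
    simp
  · rw [ι_πf_ne_assoc b K p q n hpq' hq, ι_πf_ne b K (p + 1) q (n + 1) (by omega) hq, zero_comp,
      comp_zero, smul_zero, zero_add]
    by_cases hq' : q + 1 = b
    · exact ((hK p q (by omega)).eq_of_src _ _)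
    · rw [ι_πf_ne b K p (q + 1) (n + 1) (by omega) hq', comp_zero, smul_zero]

/-- the projection of the total complex onto the bottom row. -/
noncomputable def πHom : K.total up ⟶ rowCx b K where
  f n := πf b K n
  comm' n n' hnn' := by
    obtain rfl : n + 1 = n' := hnn'
    exact πf_comm b K hK n

end Seq2

end Groth.Agent.Lib.Helper84.Tot
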