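import Groth.Agent.Lib.Helper84.TotE

/-!
# The short exact sequence `Tot (rows > b) ⟶ Tot K ⟶ row b`, continued (helper84)
-/

open CategoryTheory CategoryTheory.Limits HomologicalComplex

namespace Groth.Agent.Lib.Helper84.Tot

universe v u
variable {A : Type u} [Category.{v} A] [Abelian A]

section Seq3

variable (b : ℤ) (K L : HomologicalComplex₂ A up up) (φ : K ⟶ L)
  [K.HasTotal up] [L.HasTotal up] [(gtK b K).HasTotal up] [(gtK b L).HasTotal up]
  (hK : RowBdd b K) (hL : RowBdd b L)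

/-- the inclusion `Tot (rows > b) ⟶ Tot K`. -/
noncomputable abbrev ιHom : (gtK b K).total up ⟶ K.total up :=
  HomologicalComplex₂.total.map (gtKι b K) up

/-- the retraction `K^{p,q} ⟶ (gtK b K)^{p,q}`. -/
noncomputable def gtKπ (p q : ℤ) : (K.X p).X q ⟶ ((gtK b K).X p).X q := gtπ b (K.X p) q

@[reassoc (attr := simp)]
lemma gtKι_gtKπ (p q : ℤ) : ((gtKι b K).f p).f q ≫ gtKπ b K p q = 𝟙 _ :=
  gtι_gtπ b (K.X p) q

@[reassoc]
lemma gtKπ_gtKι (p q : ℤ) (h : b < q) : gtKπ b K p q ≫ ((gtKι b K).f p).f q = 𝟙 _ :=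
  gtπ_gtι b (K.X p) q h

lemma gtKπ_eq_zero (p q : ℤ) (h : ¬ b < q) : gtKπ b K p q = 0 := gtπ_eq_zero b (K.X p) q h

lemma gtKι_eq_zero (p q : ℤ) (h : ¬ b < q) : ((gtKι b K).f p).f q = 0 :=
  gtι_eq_zero b (K.X p) q h

lemma ιf_πf (n : ℤ) : (ιHom b K).f n ≫ πf b K n = 0 := by
  apply HomologicalComplex₂.total.hom_ext
  intro p q hpq
  have hpq' : p + q = n := hpq
  rw [HomologicalComplex₂.ιTotal_map_assoc, comp_zero]
  by_cases hq : q = b
  · subst hq
    rw [gtKι_eq_zero q K p q (lt_irrefl q), zero_comp]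
  · rw [ι_πf_ne b K p q n hpq' hq, comp_zero]

lemma ιHom_πHom : ιHom b K ≫ πHom b K hK = 0 := by
  refine HomologicalComplex.hom_ext _ _ (fun n => ?_)
  exact ιf_πf b K n

/-- the short complex `Tot (rows > b) ⟶ Tot K ⟶ row b`. -/
noncomputable def SK : ShortComplex (CochainComplex A ℤ) :=
  ShortComplex.mk (ιHom b K) (πHom b K hK) (ιHom_πHom b K hK)

/-- the retraction `Tot^n K ⟶ Tot^n (rows > b)`. -/
noncomputable def rf (n : ℤ) : (K.total up).X n ⟶ ((gtK b K).total up).X n :=
  K.totalDesc (fun p q h => gtKπ b K p q ≫ (gtK b K).ιTotal up p q n h)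

@[reassoc (attr := simp)]
lemma ι_rf (p q n : ℤ) (h : p + q = n) :
    K.ιTotal up p q n h ≫ rf b K n = gtKπ b K p q ≫ (gtK b K).ιTotal up p q n h := by
  simp [rf]

lemma ιf_rf (n : ℤ) : (ιHom b K).f n ≫ rf b K n = 𝟙 _ := by
  apply HomologicalComplex₂.total.hom_ext
  intro p q hpq
  have hpq' : p + q = n := hpq
  rw [HomologicalComplex₂.ιTotal_map_assoc, ι_rf b K p q n hpq', Category.comp_id,
    gtKι_gtKπ_assoc]

lemma s_πf (n : ℤ) :
    K.ιTotal up (n - b) b n (by change n - b + b = n; omega) ≫ πf b K n = 𝟙 _ := by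
  rw [ι_πf_self b K (n - b) n (by omega)]
  rfl

include hK in
lemma rf_ιf_add (n : ℤ) :
    rf b K n ≫ (ιHom b K).f n +
      πf b K n ≫ K.ιTotal up (n - b) b n (by change n - b + b = n; omega) = 𝟙 _ := by
  apply HomologicalComplex₂.total.hom_ext
  intro p q hpq
  have hpq' : p + q = n := hpq
  rw [Preadditive.comp_add, ι_rf_assoc b K p q n hpq', HomologicalComplex₂.ιTotal_map,
    Category.comp_id]
  by_cases hq : q = b
  · subst hq
    rw [gtKπ_eq_zero q K p q (lt_irrefl q), zero_comp, zero_add,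
      ι_πf_self_assoc q K p n hpq', HomologicalComplex₂.XXIsoOfEq_hom_ιTotal]
  · rw [ι_πf_ne_assoc b K p q n hpq' hq, zero_comp, add_zero]
    by_cases hq' : b < q
    · rw [gtKπ_gtKι_assoc b K p q hq']
    · exact (hK p q (by omega)).eq_of_src _ _

/-- the degreewise splitting. -/
noncomputable def splitting (n : ℤ) : ((SK b K hK).map (eval A up n)).Splitting where
  r := rf b K n
  s := K.ιTotal up (n - b) b n (by change n - b + b = n; omega)
  f_r := ιf_rf b K n
  s_g := s_πf b K n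
  id := rf_ιf_add b K hK n

lemma shortExact_SK : (SK b K hK).ShortExact :=
  shortExact_of_degreewise_shortExact _ (fun n => (splitting b K hK n).shortExact)

lemma πf_naturality (n : ℤ) :
    (HomologicalComplex₂.total.map φ up).f n ≫ πf b L n = πf b K n ≫ (φ.f (n - b)).f b := by
  apply HomologicalComplex₂.total.hom_ext
  intro p q hpq
  have hpq' : p + q = n := hpq
  rw [HomologicalComplex₂.ιTotal_map_assoc]
  by_cases hq : q = b
  · subst hq
    rw [ι_πf_self q L p n hpq', ι_πf_self_assoc q K p n hpq']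
    exact (XXIsoOfEq_hom_naturality K L φ _ rfl).symm
  · rw [ι_πf_ne b L p q n hpq' hq, ι_πf_ne_assoc b K p q n hpq' hq, comp_zero, zero_comp]

lemma πHom_naturality :
    HomologicalComplex₂.total.map φ up ≫ πHom b L hL = πHom b K hK ≫ rowCxMap b K L φ := by
  refine HomologicalComplex.hom_ext _ _ (fun n => ?_)
  exact πf_naturality b K L φ n

/-- the morphism of short exact sequences induced by `φ`. -/
noncomputable def SKMap : SK b K hK ⟶ SK b L hL where
  τ₁ := HomologicalComplex₂.total.map (gtKMap b K L φ) up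
  τ₂ := HomologicalComplex₂.total.map φ up
  τ₃ := rowCxMap b K L φ
  comm₁₂ := by
    dsimp [SK]
    rw [← HomologicalComplex₂.total.map_comp, ← HomologicalComplex₂.total.map_comp,
      gtKι_naturality]
  comm₂₃ := πHom_naturality b K L φ hK hL

end Seq3

end Groth.Agent.Lib.Helper84.Tot
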