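import Mathlib

/-!
# Subalgebras of `k[u]/(u^(N+1))` stable under `u ↦ u/(1+u)` (helper for S14639)
-/

set_option autoImplicit false
universe u

open Polynomial

namespace Groth.Agent.Lib.Helper84.TruncPoly

variable (k : Type u) [Field k] (N : ℕ)

/-- the truncated polynomial ring -/
abbrev TR : Type u := AdjoinRoot ((X : k[X]) ^ (N + 1))

/-- the variable -/
noncomputable def uu : TR k N := AdjoinRoot.root ((X : k[X]) ^ (N + 1))

/-- the ideal `(u^j)` -/
noncomputable def I (j : ℕ) : Ideal (TR k N) := Ideal.span {uu k N ^ j}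

theorem uu_pow : uu k N ^ (N + 1) = 0 := by
  have h : AdjoinRoot.mk ((X : k[X]) ^ (N + 1)) X = uu k N := AdjoinRoot.mk_X
  rw [← h, ← map_pow, AdjoinRoot.mk_self]

theorem mem_I {j : ℕ} {x : TR k N} : x ∈ I k N j ↔ ∃ g, x = uu k N ^ j * g := by
  rw [I, Ideal.mem_span_singleton']
  constructor
  · rintro ⟨a, rfl⟩
    exact ⟨a, mul_comm _ _⟩
  · rintro ⟨g, rfl⟩
    exact ⟨g, mul_comm _ _⟩

theorem I_succ_le (j : ℕ) : I k N (j + 1) ≤ I k N j := by
  intro x hx
  obtain ⟨g, rfl⟩ := (mem_I k N).1 hx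
  exact (mem_I k N).2 ⟨uu k N * g, by ring⟩

theorem I_top : I k N (N + 1) = ⊥ := by
  rw [I, uu_pow, Ideal.span_singleton_eq_bot]

theorem decomp (p : TR k N) : ∃ (c : k) (p' : TR k N), p = algebraMap k (TR k N) c + uu k N * p' := by
  obtain ⟨P, rfl⟩ := AdjoinRoot.mk_surjective p
  refine ⟨P.coeff 0, AdjoinRoot.mk _ P.divX, ?_⟩
  conv_lhs => rw [← divX_mul_X_add P]
  rw [map_add, map_mul, AdjoinRoot.mk_X, AdjoinRoot.mk_C, AdjoinRoot.algebraMap_eq, add_comm,
    mul_comm]
  rfl

theorem uu_pow_notMem {i : ℕ} (hi : i ≤ N) : uu k N ^ i ∉ I k N (i + 1) := by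
  intro h
  obtain ⟨g, hg⟩ := (mem_I k N).1 h
  obtain ⟨G, rfl⟩ := AdjoinRoot.mk_surjective g
  have h1 : AdjoinRoot.mk ((X : k[X]) ^ (N + 1)) X = uu k N := AdjoinRoot.mk_X
  rw [← h1, ← map_pow, ← map_pow, ← map_mul, AdjoinRoot.mk_eq_mk, X_pow_dvd_iff] at hg
  have := hg i (by omega)
  rw [coeff_sub, coeff_X_pow_self, pow_succ, mul_assoc, coeff_X_pow_mul', if_pos le_rfl,
    Nat.sub_self, mul_coeff_zero, coeff_X_zero, zero_mul, sub_zero] at this
  exact one_ne_zero this

/-- one-dimensionality of `I j / I (j+1)` -/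
theorem exists_smul_sub_mem {j : ℕ} {f g : TR k N} (hf : f ∈ I k N j) (hf' : f ∉ I k N (j + 1))
    (hg : g ∈ I k N j) : ∃ c : k, g - c • f ∈ I k N (j + 1) := by
  obtain ⟨p, rfl⟩ := (mem_I k N).1 hf
  obtain ⟨q, rfl⟩ := (mem_I k N).1 hg
  obtain ⟨p0, p', rfl⟩ := decomp k N p
  obtain ⟨q0, q', rfl⟩ := decomp k N q
  have hp0 : p0 ≠ 0 := by
    rintro rfl
    apply hf'
    rw [map_zero, zero_add]
    exact (mem_I k N).2 ⟨p', by ring⟩
  refine ⟨q0 / p0, (mem_I k N).2 ⟨q' - algebraMap k (TR k N) (q0 / p0) * p', ?_⟩⟩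
  rw [Algebra.smul_def]
  have : algebraMap k (TR k N) q0 = algebraMap k (TR k N) (q0 / p0) * algebraMap k (TR k N) p0 := by
    rw [← map_mul, div_mul_cancel₀ _ hp0]
  rw [this]
  ring

section Sigma

theorem isUnit_one_add : IsUnit (1 + uu k N) :=
  IsNilpotent.isUnit_one_add ⟨N + 1, uu_pow k N⟩

/-- inverse of `1 + u` -/
noncomputable def vv : TR k N := ((isUnit_one_add k N).unit⁻¹ : (TR k N)ˣ)

theorem vv_mul : vv k N * (1 + uu k N) = 1 := by
  have := (isUnit_one_add k N).unit.inv_mul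
  simpa [vv] using this

theorem vv_sub_one : vv k N - 1 = -(uu k N * vv k N) := by
  have h := vv_mul k N
  linear_combination h

/-- the substitution `u ↦ u / (1 + u)` -/
noncomputable def σ : TR k N →ₐ[k] TR k N :=
  AdjoinRoot.liftAlgHom ((X : k[X]) ^ (N + 1)) (Algebra.ofId k (TR k N)) (uu k N * vv k N) (by
    rw [eval₂_X_pow, mul_pow, uu_pow, zero_mul])

theorem σ_uu : σ k N (uu k N) = uu k N * vv k N := by
  exact AdjoinRoot.liftAlgHom_root _ _ _ _

theorem σ_spec : σ k N (AdjoinRoot.root ((X : k[X]) ^ (N + 1))) *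
    (1 + algebraMap k (TR k N) 1 * AdjoinRoot.root ((X : k[X]) ^ (N + 1))) =
      AdjoinRoot.root ((X : k[X]) ^ (N + 1)) := by
  have h := σ_uu k N
  rw [uu] at h
  rw [h, map_one, one_mul, mul_assoc]
  have := vv_mul k N
  rw [uu] at this
  rw [this, mul_one]

theorem σ_sub_mem (g : TR k N) : σ k N g - g ∈ I k N 2 := by
  have hg : g ∈ Algebra.adjoin k ({uu k N} : Set (TR k N)) := by
    rw [uu, AdjoinRoot.adjoinRoot_eq_top]
    exact Algebra.mem_top
  induction hg using Algebra.adjoin_induction with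
  | mem x hx =>
    rw [Set.mem_singleton_iff] at hx
    subst hx
    rw [σ_uu]
    refine (mem_I k N).2 ⟨-vv k N, ?_⟩
    have := vv_sub_one k N
    linear_combination (uu k N) * this
  | algebraMap r =>
    rw [AlgHom.commutes, sub_self]
    exact Submodule.zero_mem _
  | add x y _ _ hx hy =>
    rw [map_add]
    have : σ k N x + σ k N y - (x + y) = (σ k N x - x) + (σ k N y - y) := by ring
    rw [this]
    exact Submodule.add_mem _ hx hy
  | mul x y _ _ hx hy =>
    rw [map_mul]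
    have : σ k N x * σ k N y - x * y = σ k N x * (σ k N y - y) + y * (σ k N x - x) := by ring
    rw [this]
    exact Submodule.add_mem _ (Ideal.mul_mem_left _ _ hy) (Ideal.mul_mem_left _ _ hx)

theorem vv_pow (j : ℕ) : vv k N ^ j - 1 + (j : TR k N) * uu k N ∈ I k N 2 := by
  induction j with
  | zero => simp
  | succ j ih =>
    have h := vv_sub_one k N
    have e : vv k N ^ (j + 1) - 1 + ((j + 1 : ℕ) : TR k N) * uu k N =
        vv k N * (vv k N ^ j - 1 + (j : TR k N) * uu k N) +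
          uu k N ^ 2 * (vv k N + (j : TR k N) * vv k N) := by
      push_cast
      linear_combination (1 - ((j : TR k N) + 1) * uu k N) * h
    rw [e]
    exact Submodule.add_mem _ (Ideal.mul_mem_left _ _ ih) ((mem_I k N).2 ⟨_, rfl⟩)

/-- key congruence: `σ f - f ≡ -j u f mod I (j+2)` for `f ∈ I j` -/
theorem σ_sub_add_mem {j : ℕ} {f : TR k N} (hf : f ∈ I k N j) :
    σ k N f - f + (j : TR k N) * (uu k N * f) ∈ I k N (j + 2) := by
  obtain ⟨g, rfl⟩ := (mem_I k N).1 hf
  obtain ⟨a, ha⟩ := (mem_I k N).1 (vv_pow k N j)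
  obtain ⟨b, hb⟩ := (mem_I k N).1 (σ_sub_mem k N g)
  refine (mem_I k N).2 ⟨a * σ k N g + (1 - (j : TR k N) * uu k N) * b, ?_⟩
  rw [map_mul, map_pow, σ_uu, mul_pow]
  linear_combination (uu k N ^ j * σ k N g) * ha + (uu k N ^ j * (1 - (j : TR k N) * uu k N)) * hb

end Sigma

section Final

variable [CharZero k]

/-- `σ - 1` raises the order by exactly one -/
theorem σ_sub_notMem {j : ℕ} (hj1 : 1 ≤ j) (hjN : j + 1 ≤ N) {f : TR k N} (hf : f ∈ I k N j)
    (hf' : f ∉ I k N (j + 1)) :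
    σ k N f - f ∈ I k N (j + 1) ∧ σ k N f - f ∉ I k N (j + 2) := by
  have key := σ_sub_add_mem k N hf
  obtain ⟨p, rfl⟩ := (mem_I k N).1 hf
  obtain ⟨p0, p', rfl⟩ := decomp k N p
  have hp0 : p0 ≠ 0 := by
    rintro rfl
    apply hf'
    rw [map_zero, zero_add]
    exact (mem_I k N).2 ⟨p', by ring⟩
  set f := uu k N ^ j * (algebraMap k (TR k N) p0 + uu k N * p') with hfdef
  have hjuf : (j : TR k N) * (uu k N * f) ∈ I k N (j + 1) :=
    (mem_I k N).2 ⟨(j : TR k N) * (algebraMap k (TR k N) p0 + uu k N * p'), by rw [hfdef]; ring⟩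
  constructor
  · have : σ k N f - f = (σ k N f - f + (j : TR k N) * (uu k N * f)) - (j : TR k N) * (uu k N * f) := by
      ring
    rw [this]
    exact Submodule.sub_mem _ (I_succ_le k N (j + 1) key) hjuf
  · intro h
    have h2 : (j : TR k N) * (uu k N * f) ∈ I k N (j + 2) := by
      have : (j : TR k N) * (uu k N * f) =
          (σ k N f - f + (j : TR k N) * (uu k N * f)) - (σ k N f - f) := by ring
      rw [this]
      exact Submodule.sub_mem _ key h
    -- so `(j p0) u^(j+1) ∈ I (j+2)`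
    have h3 : algebraMap k (TR k N) ((j : k) * p0) * uu k N ^ (j + 1) ∈ I k N (j + 2) := by
      have : algebraMap k (TR k N) ((j : k) * p0) * uu k N ^ (j + 1) =
          (j : TR k N) * (uu k N * f) - uu k N ^ (j + 2) * ((j : TR k N) * p') := by
        rw [hfdef, map_mul, map_natCast]
        ring
      rw [this]
      exact Submodule.sub_mem _ h2 ((mem_I k N).2 ⟨_, rfl⟩)
    have hc : (j : k) * p0 ≠ 0 := by
      apply mul_ne_zero _ hp0
      exact_mod_cast (by omega : j ≠ 0)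
    apply uu_pow_notMem k N (i := j + 1) hjN
    have : uu k N ^ (j + 1) = algebraMap k (TR k N) ((j : k) * p0)⁻¹ *
        (algebraMap k (TR k N) ((j : k) * p0) * uu k N ^ (j + 1)) := by
      rw [← mul_assoc, ← map_mul, inv_mul_cancel₀ hc, map_one, one_mul]
    rw [this]
    exact Ideal.mul_mem_left _ _ h3

theorem main (A : Subalgebra k (TR k N)) (hA : ∀ f ∈ A, σ k N f ∈ A) :
    ∃ n : ℕ, 1 ≤ n ∧ n ≤ N + 1 ∧
      Subalgebra.toSubmodule A =
        Submodule.span k {1} ⊔ (Ideal.span {uu k N ^ n}).restrictScalars k := by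
  classical
  let P : ℕ → Prop := fun j => ∃ f ∈ A, f ∈ I k N j ∧ f ∉ I k N (j + 1)
  have hex : ∃ j, 1 ≤ j ∧ (P j ∨ j = N + 1) := ⟨N + 1, by omega, Or.inr rfl⟩
  let n := Nat.find hex
  have hn : 1 ≤ n ∧ (P n ∨ n = N + 1) := Nat.find_spec hex
  have hn_le : n ≤ N + 1 := Nat.find_min' hex ⟨by omega, Or.inr rfl⟩
  have hmin : ∀ j, 1 ≤ j → j < n → ¬ P j := by
    intro j hj1 hjn hP
    exact Nat.find_min hex hjn ⟨hj1, Or.inl hP⟩
  -- (i)
  have h_i : ∀ g ∈ A, g ∈ I k N 1 → ∀ j, 1 ≤ j → j ≤ n → g ∈ I k N j := by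
    intro g hgA hg1 j hj1
    induction j, hj1 using Nat.le_induction with
    | base => intro _; exact hg1
    | succ j hj1 ih =>
      intro hjn
      by_contra hcon
      exact hmin j hj1 (by omega) ⟨g, hgA, ih (by omega), hcon⟩
  -- (iii)
  have h_iii : ∀ j, n ≤ j → j ≤ N → P j := by
    intro j hnj
    induction j, hnj using Nat.le_induction with
    | base =>
      intro hnN
      rcases hn.2 with h | h
      · exact h
      · omega
    | succ j hnj ih =>
      intro hjN
      obtain ⟨f, hfA, hfj, hfj'⟩ := ih (by omega)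
      have := σ_sub_notMem k N (by omega) hjN hfj hfj'
      exact ⟨σ k N f - f, A.sub_mem (hA f hfA) hfA, this.1, this.2⟩
  -- (ii)
  have h_ii : ∀ d j, j + d = N + 1 → n ≤ j → ∀ g ∈ I k N j, g ∈ A := by
    intro d
    induction d with
    | zero =>
      intro j hj _ g hg
      have : j = N + 1 := by omega
      subst this
      rw [I_top] at hg
      rw [(Submodule.mem_bot _).1 hg]
      exact A.zero_mem
    | succ d ih =>
      intro j hj hnj g hg
      obtain ⟨f, hfA, hfj, hfj'⟩ := h_iii j hnj (by omega)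
      obtain ⟨c, hc⟩ := exists_smul_sub_mem k N hfj hfj' hg
      have h1 := ih (j + 1) (by omega) (by omega) _ hc
      have : g = (g - c • f) + c • f := by ring
      rw [this]
      exact A.add_mem h1 (A.smul_mem hfA c)
  refine ⟨n, hn.1, hn_le, le_antisymm ?_ ?_⟩
  · intro f hf
    obtain ⟨c, p', hfp⟩ := decomp k N f
    have hf1 : f - algebraMap k (TR k N) c ∈ I k N 1 :=
      (mem_I k N).2 ⟨p', by rw [hfp]; ring⟩
    have hfA : f - algebraMap k (TR k N) c ∈ A := A.sub_mem hf (A.algebraMap_mem c)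
    have := h_i _ hfA hf1 n hn.1 le_rfl
    have e : f = algebraMap k (TR k N) c + (f - algebraMap k (TR k N) c) := by ring
    rw [e]
    refine Submodule.add_mem_sup ?_ this
    rw [Algebra.algebraMap_eq_smul_one]
    exact Submodule.smul_mem _ _ (Submodule.mem_span_singleton_self _)
  · rw [sup_le_iff]
    constructor
    · rw [Submodule.span_le]
      intro x hx
      rw [Set.mem_singleton_iff] at hx
      subst hx
      exact A.one_mem
    · intro g hg
      exact h_ii (N + 1 - n) n (by omega) le_rfl g hg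

end Final

end Groth.Agent.Lib.Helper84.TruncPoly
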