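import Groth.Agent.Lib.Helper84.TwoTermTri
import Groth.Agent.Lib.Helper84.DerivedT
import Mathlib.Algebra.Homology.DerivedCategory.Linear

/-!
# `Ext¹` out of a two-term complex (helper84)

Let `T : E⁻¹[0] ⟶ E⁰[0] ⟶ X ⟶ E⁻¹[1]` be a distinguished triangle with first map `d[0]`
(e.g. `X = Q.obj E` for a two-term complex `E`).
-/

set_option autoImplicit false
universe w v u t

open CategoryTheory CategoryTheory.Limits CategoryTheory.Pretriangulated DerivedCategory

namespace Groth.Agent.Lib.Helper84.TwoTermExt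

variable {R : Type t} [Ring R] {C : Type u} [Category.{v} C] [Abelian C] [Linear R C]
  [HasDerivedCategory.{w} C]

variable {A B : C} (d : A ⟶ B) {X : DerivedCategory C}
  (ι : (singleFunctor C 0).obj B ⟶ X) (π : X ⟶ ((singleFunctor C 0).obj A)⟦(1 : ℤ)⟧)
  (hT : Triangle.mk ((singleFunctor C 0).map d) ι π ∈ distTriang (DerivedCategory C))

include hT

/-- if `a` kills the canonical class `π`, then `a` on `A` factors through `d` -/
lemma exists_factor_of_smul_eq_zero (a : R) (ha : a • π = 0) :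
    ∃ h : B ⟶ A, d ≫ h = a • 𝟙 A := by
  set T := Triangle.mk ((singleFunctor C 0).map d) ι π with hTdef
  have h1 : T.rotate.mor₂ ≫ (a • 𝟙 (((singleFunctor C 0).obj A)⟦(1 : ℤ)⟧)) = 0 := by
    change π ≫ (a • 𝟙 _) = 0
    rw [Linear.comp_smul, Category.comp_id, ha]
  obtain ⟨g₀, hg₀⟩ := Triangle.yoneda_exact₃ T.rotate (rot_of_distTriang _ hT) _ h1
  let g : ((singleFunctor C 0).obj B)⟦(1 : ℤ)⟧ ⟶ ((singleFunctor C 0).obj A)⟦(1 : ℤ)⟧ := g₀
  have hg : a • 𝟙 (((singleFunctor C 0).obj A)⟦(1 : ℤ)⟧) =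
      (-((singleFunctor C 0).map d)⟦(1 : ℤ)⟧') ≫ g := hg₀
  obtain ⟨g', hg'⟩ := (shiftFunctor (DerivedCategory C) (1 : ℤ)).map_surjective g
  obtain ⟨h', hh'⟩ := (singleFunctor C 0).map_surjective g'
  refine ⟨-h', ?_⟩
  apply (singleFunctor C 0).map_injective
  apply (shiftFunctor (DerivedCategory C) (1 : ℤ)).map_injective
  rw [Functor.map_smul, Functor.map_smul, CategoryTheory.Functor.map_id,
    CategoryTheory.Functor.map_id, hg, ← hg', ← hh']
  simp

/-- if `a` on `A` factors through `d` and `B` is projective, then `a` kills `Hom(X, N[1])` -/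
lemma smul_eq_zero_of_factor [Projective B] (a : R) (h : B ⟶ A) (hh : d ≫ h = a • 𝟙 A)
    (N : C) (ξ : X ⟶ ((singleFunctor C 0).obj N)⟦(1 : ℤ)⟧) : a • ξ = 0 := by
  set T := Triangle.mk ((singleFunctor C 0).map d) ι π with hTdef
  have h0 : ι ≫ ξ = 0 := by
    haveI : (((singleFunctor C 0).obj N)⟦(1 : ℤ)⟧).IsLE (-1) :=
      TStructure.t.isLE_shift ((singleFunctor C 0).obj N) 0 1 (-1)
    exact DerivedT.from_single_projective_eq_zero 0 (-1) (by lia) _ _
  obtain ⟨η₀, hη₀⟩ := Triangle.yoneda_exact₃ T hT ξ h0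
  let η : ((singleFunctor C 0).obj A)⟦(1 : ℤ)⟧ ⟶ ((singleFunctor C 0).obj N)⟦(1 : ℤ)⟧ := η₀
  have hη : ξ = π ≫ η := hη₀
  have h1 : a • 𝟙 (((singleFunctor C 0).obj A)⟦(1 : ℤ)⟧) =
      ((singleFunctor C 0).map d)⟦(1 : ℤ)⟧' ≫ ((singleFunctor C 0).map h)⟦(1 : ℤ)⟧' := by
    rw [← Functor.map_comp, ← Functor.map_comp, hh, Functor.map_smul, Functor.map_smul,
      CategoryTheory.Functor.map_id, CategoryTheory.Functor.map_id]
  have h2 : π ≫ ((singleFunctor C 0).map d)⟦(1 : ℤ)⟧' = 0 := comp_distTriang_mor_zero₃₁ T hT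
  rw [hη, ← Linear.comp_smul, ← Category.id_comp η, ← Linear.smul_comp, h1, Category.assoc,
    ← Category.assoc π, h2, zero_comp]

end Groth.Agent.Lib.Helper84.TwoTermExt
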