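import Groth.Agent.Lib.Helper84.TwoTerm
import Mathlib.Algebra.Homology.HomotopyCategory.HomComplexSingle

/-!
# The distinguished triangle of a two-term complex (helper84)

For a complex `E` concentrated in degrees `-1, 0` with differential `d : E⁻¹ ⟶ E⁰`, there is a
distinguished triangle `E⁻¹[0] ⟶ E⁰[0] ⟶ E ⟶ E⁻¹[1]` in `D(C)` whose first map is `d`.
-/

set_option autoImplicit false
universe w v u

open CategoryTheory CategoryTheory.Limits CategoryTheory.Pretriangulated DerivedCategory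
open CochainComplex HomComplex

namespace Groth.Agent.Lib.Helper84.TwoTermTri

variable {C : Type u} [Category.{v} C] [Abelian C] [HasDerivedCategory.{w} C]

variable (E : CochainComplex C ℤ)

/-- the inclusion of the degree `0` term as a subcomplex (when `E¹ = 0`) -/
noncomputable def topIncl (h1 : IsZero (E.X 1)) :
    (CochainComplex.singleFunctor C 0).obj (E.X 0) ⟶ E :=
  Cocycle.homOf (Cocycle.fromSingleMk (𝟙 (E.X 0)) (zero_add 0) 1 (by lia) (h1.eq_of_tgt _ _))

lemma ofHom_topIncl (h1 : IsZero (E.X 1)) :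
    Cochain.ofHom (topIncl E h1) = Cochain.fromSingleMk (𝟙 (E.X 0)) (zero_add 0) := by
  rw [topIncl, Cocycle.cochain_ofHom_homOf_eq_coe]
  rfl

/-- the comparison map from the cone of `d : E⁻¹[0] ⟶ E⁰[0]` to `E` -/
noncomputable def coneToE (h1 : IsZero (E.X 1)) :
    mappingCone ((CochainComplex.singleFunctor C 0).map (E.d (-1) 0)) ⟶ E :=
  mappingCone.desc _ (Cochain.fromSingleMk (𝟙 (E.X (-1))) (by lia : (0 : ℤ) + (-1) = -1))
    (topIncl E h1) (by
      rw [Cochain.δ_fromSingleMk _ _ _ 0 (zero_add 0), Cochain.ofHom_comp, ofHom_topIncl,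
        Category.id_comp, ← Cochain.fromSingleMk_precomp, Category.comp_id])

lemma isIso_coneToE_f (h1 : IsZero (E.X 1)) (hE : ∀ i : ℤ, i ≠ -1 → i ≠ 0 → IsZero (E.X i))
    (i : ℤ) : IsIso ((coneToE E h1).f i) := by
  set φ := (CochainComplex.singleFunctor C 0).map (E.d (-1) 0) with hφ
  by_cases hi : i ≠ -1 ∧ i ≠ 0
  · have hz1 : IsZero ((mappingCone φ).X i) :=
      TwoTerm.isZero_coneSingle_X (E.d (-1) 0) i (by lia)
    have hz2 : IsZero (E.X i) := hE i hi.1 hi.2
    exact ⟨0, hz1.eq_of_src _ _, hz2.eq_of_src _ _⟩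
  · have hi' : i = -1 ∨ i = 0 := by lia
    rcases hi' with rfl | rfl
    · -- degree -1
      have hz : IsZero (((CochainComplex.singleFunctor C 0).obj (E.X 0)).X (-1)) :=
        HomologicalComplex.isZero_single_obj_X _ 0 _ (-1) (by lia)
      have hf : (coneToE E h1).f (-1) = (mappingCone.fst φ).1.v (-1) 0 (by lia) ≫
          (HomologicalComplex.singleObjXSelf (ComplexShape.up ℤ) 0 (E.X (-1))).hom := by
        rw [coneToE, mappingCone.desc_f _ _ _ _ (-1) 0 (by lia)]
        rw [hz.eq_of_tgt ((mappingCone.snd φ).v (-1) (-1) (add_zero _)) 0, zero_comp, add_zero,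
          Cochain.fromSingleMk_v, Category.comp_id]
      have hfst : IsIso ((mappingCone.fst φ).1.v (-1) 0 (by lia)) := by
        refine ⟨(mappingCone.inl φ).v 0 (-1) (by lia), ?_, mappingCone.inl_v_fst_v φ 0 (-1) (by lia)⟩
        have := mappingCone.id_X φ (-1) 0 (by lia)
        rw [hz.eq_of_tgt ((mappingCone.snd φ).v (-1) (-1) (add_zero _)) 0, zero_comp,
          add_zero] at this
        exact this
      rw [hf]
      infer_instance
    · -- degree 0
      have hz : IsZero (((CochainComplex.singleFunctor C 0).obj (E.X (-1))).X 1) :=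
        HomologicalComplex.isZero_single_obj_X _ 0 _ 1 (by lia)
      have hβ : (topIncl E h1).f 0 =
          (HomologicalComplex.singleObjXSelf (ComplexShape.up ℤ) 0 (E.X 0)).hom := by
        have := Cochain.congr_v (ofHom_topIncl E h1) 0 0 (add_zero 0)
        rw [Cochain.ofHom_v, Cochain.fromSingleMk_v, Category.comp_id] at this
        exact this
      have hf : (coneToE E h1).f 0 = (mappingCone.snd φ).v 0 0 (add_zero 0) ≫
          (HomologicalComplex.singleObjXSelf (ComplexShape.up ℤ) 0 (E.X 0)).hom := by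
        rw [coneToE, mappingCone.desc_f _ _ _ _ 0 1 (by lia)]
        rw [hz.eq_of_tgt ((mappingCone.fst φ).1.v 0 1 (by lia)) 0, zero_comp, zero_add, hβ]
      have hsnd : IsIso ((mappingCone.snd φ).v 0 0 (add_zero 0)) := by
        refine ⟨(mappingCone.inr φ).f 0, ?_, mappingCone.inr_f_snd_v φ 0⟩
        have := mappingCone.id_X φ 0 1 (by lia)
        rw [hz.eq_of_tgt ((mappingCone.fst φ).1.v 0 1 (by lia)) 0, zero_comp, zero_add] at this
        exact this
      rw [hf]
      infer_instance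

lemma isIso_coneToE (h1 : IsZero (E.X 1)) (hE : ∀ i : ℤ, i ≠ -1 → i ≠ 0 → IsZero (E.X i)) :
    IsIso (coneToE E h1) := by
  haveI := isIso_coneToE_f E h1 hE
  exact HomologicalComplex.Hom.isIso_of_components _

/-- the distinguished triangle `E⁻¹[0] ⟶ E⁰[0] ⟶ E ⟶ E⁻¹[1]` of a two-term complex -/
theorem exists_triangle (hE : ∀ i : ℤ, i ≠ -1 → i ≠ 0 → IsZero (E.X i)) :
    ∃ (ι : (DerivedCategory.singleFunctor C 0).obj (E.X 0) ⟶ Q.obj E)
      (π : Q.obj E ⟶ ((DerivedCategory.singleFunctor C 0).obj (E.X (-1)))⟦(1 : ℤ)⟧),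
      Triangle.mk ((DerivedCategory.singleFunctor C 0).map (E.d (-1) 0)) ι π ∈
        distTriang (DerivedCategory C) := by
  have h1 : IsZero (E.X 1) := hE 1 (by lia) (by lia)
  set φ := (CochainComplex.singleFunctor C 0).map (E.d (-1) 0) with hφ
  haveI := isIso_coneToE E h1 hE
  have hT := mappingCone_triangle_distinguished φ
  let e : Q.obj (mappingCone φ) ≅ Q.obj E := Q.mapIso (asIso (coneToE E h1))
  refine ⟨(Q.mapTriangle.obj (CochainComplex.mappingCone.triangle φ)).mor₂ ≫ e.hom,
    e.inv ≫ (Q.mapTriangle.obj (CochainComplex.mappingCone.triangle φ)).mor₃, ?_⟩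
  refine isomorphic_distinguished _ hT _ ?_
  refine Triangle.isoMk _ _ (Iso.refl _) (Iso.refl _) e.symm ?_ ?_ ?_
  · change (DerivedCategory.singleFunctor C 0).map (E.d (-1) 0) ≫ 𝟙 _ = 𝟙 _ ≫ Q.map φ
    rw [Category.comp_id, Category.id_comp]
    rfl
  · change (_ ≫ e.hom) ≫ e.inv = 𝟙 _ ≫ _
    rw [Category.assoc, e.hom_inv_id, Category.comp_id, Category.id_comp]
  · change (e.inv ≫ _) ≫ (CategoryTheory.shiftFunctor _ (1 : ℤ)).map (𝟙 _) = e.inv ≫ _
    rw [CategoryTheory.Functor.map_id, Category.comp_id]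

end Groth.Agent.Lib.Helper84.TwoTermTri
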