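import Groth.Agent.Lib.Helper84.ProjAmp
import Mathlib.Algebra.Homology.DerivedCategory.Linear

/-!
# `Ext¹(K, N)` for `K ∈ D^{[-1,0]}` via the truncation triangle (helper84)
-/

set_option autoImplicit false
universe w v u t

open CategoryTheory CategoryTheory.Limits CategoryTheory.Pretriangulated CategoryTheory.Triangulated
open DerivedCategory

namespace Groth.Agent.Lib.Helper84.TwoTermTrunc

open Groth.Agent.Lib.Helper84.DerivedT

variable {R : Type t} [Ring R] {C : Type u} [Category.{v} C] [Abelian C] [Linear R C]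
  [HasDerivedCategory.{w} C]

variable (K : DerivedCategory C) [K.IsLE 0] [K.IsGE (-1)]

/-- `τ_{≥0} K ≅ H⁰(K)[0]` -/
lemma exists_truncGE_iso :
    Nonempty ((TStructure.t.truncGE 0).obj K ≅
      (singleFunctor C 0).obj ((homologyFunctor C 0).obj K)) := by
  let t : TStructure (DerivedCategory C) := TStructure.t
  have hB1 : t.IsGE ((t.truncGE 0).obj K) 0 := inferInstance
  have hB2 : t.IsLE ((t.truncGE 0).obj K) 0 := inferInstance
  obtain ⟨M₀, ⟨eB⟩⟩ := exists_iso_singleFunctor_obj_of_isGE_of_isLE ((t.truncGE 0).obj K) 0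
  have := isIso_homologyMap_truncGEπ K 0 0 le_rfl
  let eM₀ : (homologyFunctor C 0).obj K ≅ M₀ :=
    asIso ((homologyFunctor C 0).map ((t.truncGEπ 0).app K)) ≪≫
      (homologyFunctor C 0).mapIso eB ≪≫ (singleFunctorCompHomologyFunctorIso C 0).app M₀
  exact ⟨eB ≪≫ (singleFunctor C 0).mapIso eM₀.symm⟩

/-- `τ_{<0} K ≅ H⁻¹(K)[1]` -/
lemma exists_truncLT_iso :
    Nonempty ((TStructure.t.truncLT 0).obj K ≅
      (singleFunctor C (-1)).obj ((homologyFunctor C (-1)).obj K)) := by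
  let t : TStructure (DerivedCategory C) := TStructure.t
  have hA1 : t.IsLE ((t.truncLT 0).obj K) (-1) := t.isLE_truncLT_obj K 0 (-1)
  have hA2 : t.IsGE ((t.truncLT 0).obj K) (-1) := inferInstance
  obtain ⟨M, ⟨eA⟩⟩ := exists_iso_singleFunctor_obj_of_isGE_of_isLE ((t.truncLT 0).obj K) (-1)
  have := isIso_homologyMap_truncLTι K 0 (-1) (by lia)
  let eM : (homologyFunctor C (-1)).obj K ≅ M :=
    (asIso ((homologyFunctor C (-1)).map ((t.truncLTι 0).app K))).symm ≪≫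
      (homologyFunctor C (-1)).mapIso eA ≪≫ (singleFunctorCompHomologyFunctorIso C (-1)).app M
  exact ⟨eA ≪≫ (singleFunctor C (-1)).mapIso eM.symm⟩

/-- `Ext¹(H⁰K, N) ⟶ Ext¹(K, N)` is injective, so what kills the target kills the source. -/
lemma smul_eq_zero_homology_zero (a : R) (N : C)
    (H : ∀ ξ : K ⟶ ((singleFunctor C 0).obj N)⟦(1 : ℤ)⟧, a • ξ = 0)
    (ξ : (singleFunctor C 0).obj ((homologyFunctor C 0).obj K) ⟶
      ((singleFunctor C 0).obj N)⟦(1 : ℤ)⟧) : a • ξ = 0 := by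
  let t : TStructure (DerivedCategory C) := TStructure.t
  obtain ⟨e₀⟩ := exists_truncGE_iso K
  have hT := t.triangleLTGE_distinguished 0 K
  have h1 : (t.truncGEπ 0).app K ≫ (a • (e₀.hom ≫ ξ)) = 0 := by
    rw [Linear.comp_smul]
    exact H _
  obtain ⟨ω, hω⟩ := Triangle.yoneda_exact₃ _ hT (a • (e₀.hom ≫ ξ)) h1
  have hω0 : ω = 0 := by
    have hA1 : t.IsLE ((t.truncLT 0).obj K) (-1) := t.isLE_truncLT_obj K 0 (-1)
    refine t.zero_of_isLE_of_isGE ω (-2) (-1) (by lia) ?_ ?_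
    · exact t.isLE_shift ((t.truncLT 0).obj K) (-1) 1 (-2)
    · exact t.isGE_shift ((singleFunctor C 0).obj N) 0 1 (-1)
  rw [hω0, comp_zero, ← Linear.comp_smul] at hω
  exact (cancel_epi e₀.hom).1 (hω.trans comp_zero.symm)

/-- what kills `Ext¹(K, N)` for all `N` kills `H⁻¹(K)` -/
lemma smul_id_homology_neg_one_eq_zero [EnoughInjectives C] (a : R)
    (H : ∀ (N : C) (ξ : K ⟶ ((singleFunctor C 0).obj N)⟦(1 : ℤ)⟧), a • ξ = 0) :
    a • 𝟙 ((homologyFunctor C (-1)).obj K) = 0 := by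
  let t : TStructure (DerivedCategory C) := TStructure.t
  obtain ⟨eA⟩ := exists_truncLT_iso K
  set M := (homologyFunctor C (-1)).obj K with hM
  let I₀ := Injective.under M
  let j : M ⟶ I₀ := Injective.ι M
  let sI : ((singleFunctor C 0).obj I₀)⟦(1 : ℤ)⟧ ≅ (singleFunctor C (-1)).obj I₀ :=
    ((singleFunctors C).shiftIso 1 (-1) 0 (by lia)).app I₀
  let φ₀ : (t.truncLT 0).obj K ⟶ ((singleFunctor C 0).obj I₀)⟦(1 : ℤ)⟧ :=
    eA.hom ≫ (singleFunctor C (-1)).map j ≫ sI.inv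
  have hT := t.triangleLTGE_distinguished 0 K
  have hT' := inv_rot_of_distTriang _ hT
  have h0 : ((t.triangleLTGE 0).obj K).invRotate.mor₁ ≫ φ₀ = 0 := by
    have hB : (((t.truncGE 0).obj K)⟦(-1 : ℤ)⟧).IsGE 1 :=
      t.isGE_shift ((t.truncGE 0).obj K) 0 (-1) 1
    have : (((t.triangleLTGE 0).obj K).invRotate.mor₁ ≫ φ₀) ≫ sI.hom = 0 := by
      haveI : (((t.triangleLTGE 0).obj K).invRotate.obj₁).IsGE 1 := hB
      exact ProjAmp.to_single_injective_eq_zero (-1) 1 (by lia) _ _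
    exact (cancel_mono sI.hom).1 (this.trans zero_comp.symm)
  obtain ⟨ξ, hξ⟩ := Triangle.yoneda_exact₂ _ hT' φ₀ h0
  have hξ' : φ₀ = (t.truncLTι 0).app K ≫ ξ := hξ
  have h1 : a • φ₀ = 0 := by
    rw [hξ', ← Linear.comp_smul, H I₀ ξ, comp_zero]
  have h2 : a • (singleFunctor C (-1)).map j = 0 := by
    have : eA.hom ≫ (a • (singleFunctor C (-1)).map j) ≫ sI.inv = 0 := by
      rw [Linear.smul_comp, Linear.comp_smul]
      exact h1
    have h3 := (cancel_epi eA.hom).1 (this.trans comp_zero.symm)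
    exact (cancel_mono sI.inv).1 (h3.trans zero_comp.symm)
  have h3 : a • j = 0 := by
    apply (singleFunctor C (-1)).map_injective
    rw [Functor.map_smul, h2, Functor.map_zero]
  have h4 : (a • 𝟙 M) ≫ j = 0 := by
    rw [Linear.smul_comp, Category.id_comp, h3]
  exact (cancel_mono j).1 (h4.trans zero_comp.symm)

/-- converse: if `b` kills `H⁻¹(K)` and `a` kills `Ext¹(H⁰K, N)` then `a * b` kills `Ext¹(K, N)` -/
lemma mul_smul_eq_zero (a b : R) (N : C)
    (hb : b • 𝟙 ((homologyFunctor C (-1)).obj K) = 0)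
    (ha : ∀ ξ : (singleFunctor C 0).obj ((homologyFunctor C 0).obj K) ⟶
      ((singleFunctor C 0).obj N)⟦(1 : ℤ)⟧, a • ξ = 0)
    (ξ : K ⟶ ((singleFunctor C 0).obj N)⟦(1 : ℤ)⟧) : (a * b) • ξ = 0 := by
  let t : TStructure (DerivedCategory C) := TStructure.t
  obtain ⟨eA⟩ := exists_truncLT_iso K
  obtain ⟨e₀⟩ := exists_truncGE_iso K
  have hT := t.triangleLTGE_distinguished 0 K
  have hA : b • 𝟙 ((t.truncLT 0).obj K) = 0 := by
    have h1 : b • 𝟙 ((singleFunctor C (-1)).obj ((homologyFunctor C (-1)).obj K)) = 0 := by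
      rw [← CategoryTheory.Functor.map_id, ← Functor.map_smul, hb, Functor.map_zero]
    have h2 : b • 𝟙 ((t.truncLT 0).obj K) = eA.hom ≫ (b • 𝟙 _) ≫ eA.inv := by
      rw [Linear.smul_comp, Linear.comp_smul, Category.id_comp, eA.hom_inv_id]
    rw [h2, h1, zero_comp, comp_zero]
  have h1 : (t.truncLTι 0).app K ≫ (b • ξ) = 0 := by
    rw [Linear.comp_smul, ← Category.id_comp ((t.truncLTι 0).app K ≫ ξ), ← Linear.smul_comp, hA,
      zero_comp]
  obtain ⟨ζ₀, hζ⟩ := Triangle.yoneda_exact₂ _ hT (b • ξ) h1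
  let ζ : (t.truncGE 0).obj K ⟶ ((singleFunctor C 0).obj N)⟦(1 : ℤ)⟧ := ζ₀
  have hζ' : b • ξ = (t.truncGEπ 0).app K ≫ ζ := hζ
  have h2 : a • ζ = 0 := by
    have := ha (e₀.inv ≫ ζ)
    rw [← Linear.comp_smul] at this
    exact (cancel_epi e₀.inv).1 (this.trans comp_zero.symm)
  rw [mul_smul, hζ', ← Linear.comp_smul, h2, comp_zero]

end Groth.Agent.Lib.Helper84.TwoTermTrunc
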