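import Groth.Agent.Lib.Helper84.LocBasis

/-!
# Graded projective modules over `R[x₁,…,xₙ]` with the fine `ℤⁿ`-grading are locally graded free
(helper84, for S19649)
-/

set_option autoImplicit false

open DirectSum MvPolynomial

namespace Groth.Agent.Lib.Helper84.WGraded

section General

variable {ι : Type*} [AddCommGroup ι] [DecidableEq ι]
  {A : Type*} [CommRing A] {σ : Type*} [SetLike σ A] [AddSubmonoidClass σ A]
  (𝒜 : ι → σ) [DirectSum.Decomposition 𝒜]
  {P : Type*} [AddCommGroup P] [Module A P] {τ : Type*} [SetLike τ P] [AddSubmonoidClass τ P]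
  (ℳ : ι → τ) [DirectSum.Decomposition ℳ]

/-- components of `r • x` for homogeneous `x`. -/
theorem comp_smul_of_mem
    (hsmul : ∀ (i j : ι) (a : A) (x : P), a ∈ 𝒜 i → x ∈ ℳ j → a • x ∈ ℳ (i + j))
    {x : P} {e : ι} (hx : x ∈ ℳ e) (r : A) (d : ι) :
    (decompose ℳ (r • x) d : P) = (decompose 𝒜 r (d - e) : A) • x := by
  classical
  have hr := DirectSum.sum_support_decompose 𝒜 r
  conv_lhs => rw [← hr, Finset.sum_smul, decompose_sum]
  rw [DFinsupp.finsetSum_apply, AddSubmonoidClass.coe_finsetSum]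
  have hterm : ∀ a ∈ (decompose 𝒜 r).support,
      ((decompose ℳ ((decompose 𝒜 r a : A) • x)) d : P) =
        if a = d - e then (decompose 𝒜 r a : A) • x else 0 := by
    intro a _
    have hmem : (decompose 𝒜 r a : A) • x ∈ ℳ (a + e) :=
      hsmul a e _ x (decompose 𝒜 r a).2 hx
    split_ifs with h
    · have : a + e = d := by rw [h]; abel
      rw [← this]
      exact decompose_of_mem_same ℳ hmem
    · have : a + e ≠ d := fun h' => h (by rw [← h']; abel)
      exact decompose_of_mem_ne ℳ hmem this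
  rw [Finset.sum_congr rfl hterm, Finset.sum_ite_eq']
  split_ifs with h
  · rfl
  · rw [DFinsupp.notMem_support_iff] at h
    rw [h]
    simp

omit [AddCommGroup ι] [Module A P] in
theorem comp_sum {κ : Type*} (s : Finset κ) (f : κ → P) (d : ι) :
    (decompose ℳ (∑ i ∈ s, f i) d : P) = ∑ i ∈ s, (decompose ℳ (f i) d : P) := by
  rw [decompose_sum, DFinsupp.finsetSum_apply, AddSubmonoidClass.coe_finsetSum]

end General

section Main

variable {R : Type*} [CommRing R] (n : ℕ)

/-- the weight -/
abbrev wt (n : ℕ) : Fin n → (Fin n → ℤ) := fun i => Pi.single i 1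

attribute [local instance] MvPolynomial.weightedGradedAlgebra

theorem weight_wt (ν : Fin n →₀ ℕ) : Finsupp.weight (wt n) ν = fun j => (ν j : ℤ) := by
  classical
  funext j
  rw [Finsupp.weight_apply, Finsupp.sum, Finset.sum_apply]
  simp only [Pi.smul_apply, Pi.single_apply, smul_eq_mul, nsmul_eq_mul, mul_ite, mul_one, mul_zero]
  rw [Finset.sum_ite_eq]
  split_ifs with h
  · rfl
  · rw [Finsupp.notMem_support_iff] at h
    rw [h]
    rfl

theorem weight_wt_eq_zero_iff (ν : Fin n →₀ ℕ) : Finsupp.weight (wt n) ν = 0 ↔ ν = 0 := by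
  rw [weight_wt]
  constructor
  · intro h
    ext j
    have := congrFun h j
    simpa using this
  · rintro rfl
    funext j
    simp

theorem decompose_zero_eq (a : MvPolynomial (Fin n) R) :
    (decompose (weightedHomogeneousSubmodule R (wt n)) a 0 : MvPolynomial (Fin n) R) =
      C (constantCoeff a) := by
  classical
  have h1 : (decompose (weightedHomogeneousSubmodule R (wt n)) a 0 : MvPolynomial (Fin n) R) =
      weightedHomogeneousComponent (wt n) 0 a :=
    weightedDecomposition.decompose'_apply R (wt n) a 0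
  rw [h1]
  ext ν
  rw [coeff_weightedHomogeneousComponent, coeff_C]
  by_cases h : ν = 0
  · subst h
    rw [if_pos ((weight_wt_eq_zero_iff n 0).2 rfl), if_pos rfl, constantCoeff_eq]
  · rw [if_neg (fun h' => h ((weight_wt_eq_zero_iff n ν).1 h')), if_neg (Ne.symm h)]

theorem main {P : Type*} [AddCommGroup P] [Module (MvPolynomial (Fin n) R) P] [Module R P]
    [IsScalarTower R (MvPolynomial (Fin n) R) P]
    (ℳ : (Fin n → ℤ) → Submodule R P) [DirectSum.Decomposition ℳ]
    (hsmul : ∀ (i j : Fin n → ℤ) (a : MvPolynomial (Fin n) R) (x : P),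
      a ∈ weightedHomogeneousSubmodule R (wt n) i → x ∈ ℳ j → a • x ∈ ℳ (i + j))
    [Module.Finite (MvPolynomial (Fin n) R) P] [Module.Projective (MvPolynomial (Fin n) R) P]
    (p : PrimeSpectrum R) :
    ∃ r : R, r ∉ p.asIdeal ∧ ∃ (m : ℕ) (d : Fin m → (Fin n → ℤ)) (f : Fin m → P),
      (∀ i, f i ∈ ℳ (d i)) ∧
      (∀ q : P, ∃ (c : Fin m → MvPolynomial (Fin n) R),
        (C r : MvPolynomial (Fin n) R) • q = ∑ i, c i • f i) ∧
      (∀ c : Fin m → MvPolynomial (Fin n) R, ∑ i, c i • f i = 0 →
        ∀ i, (C r : MvPolynomial (Fin n) R) * c i = 0) := by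
  classical
  set 𝒜 := weightedHomogeneousSubmodule R (wt n) with h𝒜
  -- the prime of the polynomial ring
  set 𝔫 : Ideal (MvPolynomial (Fin n) R) :=
    Ideal.comap (constantCoeff : MvPolynomial (Fin n) R →+* R) p.asIdeal with h𝔫
  have : 𝔫.IsPrime := Ideal.comap_isPrime _ _
  -- homogeneous elements generate additively
  set H : Set P := {q | ∃ d, q ∈ ℳ d} with hH
  have hHgen : ∀ q : P, q ∈ AddSubmonoid.closure H := by
    intro q
    rw [← DirectSum.sum_support_decompose ℳ q]
    exact sum_mem (fun e _ => AddSubmonoid.subset_closure ⟨e, (decompose ℳ q e).2⟩)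
  obtain ⟨m, f, hfH, hli, hsp⟩ := LocBasis.exists_fib_basis 𝔫 H hHgen
  choose d hd using hfH
  obtain ⟨a, ha, h1, h2⟩ := LocBasis.exists_spread_of_fib_basis 𝔫 f hli hsp
  have hsmul𝒜 : ∀ (i j : Fin n → ℤ) (a x : MvPolynomial (Fin n) R),
      a ∈ 𝒜 i → x ∈ 𝒜 j → a • x ∈ 𝒜 (i + j) := by
    intro i j a x ha hx
    rw [smul_eq_mul]
    exact SetLike.mul_mem_graded ha hx
  refine ⟨constantCoeff a, fun hr => ha (Ideal.mem_comap.2 hr), m, d, f, hd, ?_, ?_⟩
  · intro q
    choose c hc using fun e : Fin n → ℤ => h1 (decompose ℳ q e : P)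
    have hcomp : ∀ e : Fin n → ℤ, (C (constantCoeff a) : MvPolynomial (Fin n) R) •
        (decompose ℳ q e : P) = ∑ i, (decompose 𝒜 (c e i) (e - d i) : MvPolynomial (Fin n) R) • f i := by
      intro e
      have := congrArg (fun y => (decompose ℳ y e : P)) (hc e)
      simp only at this
      rw [comp_smul_of_mem 𝒜 ℳ hsmul (decompose ℳ q e).2, sub_self, decompose_zero_eq,
        comp_sum] at this
      rw [this]
      refine Finset.sum_congr rfl (fun i _ => ?_)
      rw [comp_smul_of_mem 𝒜 ℳ hsmul (hd i)]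
    refine ⟨fun i => ∑ e ∈ (decompose ℳ q).support,
      (decompose 𝒜 (c e i) (e - d i) : MvPolynomial (Fin n) R), ?_⟩
    conv_lhs => rw [← DirectSum.sum_support_decompose ℳ q, Finset.smul_sum]
    simp only [hcomp, Finset.sum_smul]
    rw [Finset.sum_comm]
  · intro c hc i
    -- each homogeneous part of the relation is a relation
    have hrel : ∀ e : Fin n → ℤ,
        ∑ i, (decompose 𝒜 (c i) (e - d i) : MvPolynomial (Fin n) R) • f i = 0 := by
      intro e
      have := congrArg (fun y => (decompose ℳ y e : P)) hc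
      simp only [decompose_zero, DirectSum.zero_apply, ZeroMemClass.coe_zero] at this
      rw [comp_sum] at this
      rw [← this]
      refine Finset.sum_congr rfl (fun i _ => ?_)
      rw [comp_smul_of_mem 𝒜 ℳ hsmul (hd i)]
    have hkill : ∀ e' : Fin n → ℤ,
        a * (decompose 𝒜 (c i) e' : MvPolynomial (Fin n) R) = 0 := by
      intro e'
      have := h2 _ (hrel (e' + d i)) i
      rwa [add_sub_cancel_right] at this
    have hkill' : ∀ e' : Fin n → ℤ, (C (constantCoeff a) : MvPolynomial (Fin n) R) *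
        (decompose 𝒜 (c i) e' : MvPolynomial (Fin n) R) = 0 := by
      intro e'
      have h := comp_smul_of_mem 𝒜 𝒜 hsmul𝒜 (decompose 𝒜 (c i) e').2 a e'
      rw [sub_self, decompose_zero_eq, smul_eq_mul, hkill e', decompose_zero] at h
      rw [smul_eq_mul] at h
      exact h.symm
    conv_lhs => rw [← DirectSum.sum_support_decompose 𝒜 (c i), Finset.mul_sum]
    exact Finset.sum_eq_zero (fun e' _ => hkill' e')

end Main

end Groth.Agent.Lib.Helper84.WGraded
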