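import Mathlib
import Groth.Agent.S15795
import Groth.Agent.S3167

/-!
# A `G`-stable flag in the cotangent space of a local ring acted on by a `p`-group

Helper library for S15792.
-/

set_option autoImplicit false
universe u v

namespace Groth.Agent.Lib.Helper84.WildFlag

open IsLocalRing

variable {A : Type u} [CommRing A] [IsLocalRing A]

/-- The ideal `(u_0, …, u_{j-1}) + m ^ 2`. -/
def Iof (u : ℕ → maximalIdeal A) (j : ℕ) : Ideal A :=
  Ideal.span ((fun l => (u l : A)) '' {l | l < j}) ⊔ maximalIdeal A ^ 2

theorem Iof_mono (u : ℕ → maximalIdeal A) {i j : ℕ} (h : i ≤ j) : Iof u i ≤ Iof u j := by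
  refine sup_le_sup_right (Ideal.span_mono (Set.image_mono ?_)) _
  intro l hl
  exact lt_of_lt_of_le (show l < i from hl) h

theorem Iof_le (u : ℕ → maximalIdeal A) (j : ℕ) : Iof u j ≤ maximalIdeal A := by
  refine sup_le ?_ (Ideal.pow_le_self two_ne_zero)
  rw [Ideal.span_le]
  rintro _ ⟨l, _, rfl⟩
  exact (u l).2

theorem Iof_congr (u u' : ℕ → maximalIdeal A) (j : ℕ) (h : ∀ l < j, u' l = u l) :
    Iof u' j = Iof u j := by
  unfold Iof
  congr 2
  apply Set.image_congr
  intro l hl
  rw [h l hl]

/-- Transfer of span membership from the cotangent space to ideals. -/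
theorem mem_of_toCotangent_mem (S : Set (maximalIdeal A)) (x : maximalIdeal A)
    (hx : (maximalIdeal A).toCotangent x ∈
      Submodule.span (ResidueField A) ((maximalIdeal A).toCotangent '' S)) :
    (x : A) ∈ Ideal.span (Subtype.val '' S) ⊔ maximalIdeal A ^ 2 := by
  have h1 : (Submodule.span (ResidueField A) ((maximalIdeal A).toCotangent '' S)).restrictScalars A
      = (Submodule.span A S).map (maximalIdeal A).toCotangent := by
    rw [Submodule.restrictScalars_span A (ResidueField A) Ideal.Quotient.mk_surjective,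
      Submodule.map_span]
  have h2 : (maximalIdeal A).toCotangent x ∈
      (Submodule.span A S).map (maximalIdeal A).toCotangent := by
    rw [← h1]
    exact hx
  obtain ⟨y, hy, hyx⟩ := h2
  have h3 : ((y : A) - (x : A)) ∈ maximalIdeal A ^ 2 := (Ideal.toCotangent_eq _).1 hyx
  have h4 : (y : A) ∈ Ideal.span (Subtype.val '' S) := by
    have : (maximalIdeal A).subtype y ∈ (Submodule.span A S).map (maximalIdeal A).subtype :=
      Submodule.mem_map_of_mem hy
    rw [Submodule.map_span] at this
    exact this
  have h5 : (x : A) = (y : A) - ((y : A) - (x : A)) := by ring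
  rw [h5]
  exact Ideal.sub_mem _ (Ideal.mem_sup_left h4) (Ideal.mem_sup_right h3)

section action

variable {G : Type v} [Group G] [MulSemiringAction G A]

theorem Iof_stable (u : ℕ → maximalIdeal A) (j : ℕ)
    (h : ∀ i < j, ∀ σ : G, σ • (u i : A) - (u i : A) ∈ Iof u i)
    (σ : G) (x : A) (hx : x ∈ Iof u j) : σ • x ∈ Iof u j := by
  set f := MulSemiringAction.toRingHom G A σ with hf
  have hle : Ideal.map f (Iof u j) ≤ Iof u j := by
    unfold Iof
    rw [Ideal.map_sup, Ideal.map_pow, Ideal.map_span]
    refine sup_le ?_ (le_sup_of_le_right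
      (Ideal.pow_right_mono (Groth.Agent.S15795.map_maximalIdeal_le _) 2))
    rw [Ideal.span_le]
    rintro _ ⟨_, ⟨l, hl, rfl⟩, rfl⟩
    have h1 : f (u l : A) = (u l : A) + (σ • (u l : A) - (u l : A)) := by
      simp [hf]
    rw [h1]
    refine Ideal.add_mem _ (Ideal.mem_sup_left (Ideal.subset_span ⟨l, hl, rfl⟩)) ?_
    exact Iof_mono u (le_of_lt hl) (h l hl σ)
  exact hle (Ideal.mem_map_of_mem f hx)

theorem Iof_proper [IsNoetherianRing A] (n : ℕ) (hn : ringKrullDim A = n)
    (u : ℕ → maximalIdeal A) (j : ℕ) (hj : j < n) : ¬ (maximalIdeal A ≤ Iof u j) := by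
  classical
  intro h
  have h1 := Groth.Agent.S15795.nakayama_le _ h
  have hs : (((Finset.range j).image (fun l => (u l : A)) : Finset A) : Set A) =
      (fun l => (u l : A)) '' {l | l < j} := by
    ext x; simp
  have h2 := Groth.Agent.Lib.Helper83.card_ge_of_maximalIdeal_le_radical n hn
    ((Finset.range j).image (fun l => (u l : A)))
    (by
      rw [Ideal.span_le]
      intro x hx
      rw [hs] at hx
      obtain ⟨l, _, rfl⟩ := hx
      exact (u l).2)
    (by rw [hs]; exact h1.trans Ideal.le_radical)
  have h3 : ((Finset.range j).image (fun l => (u l : A))).card ≤ j :=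
    Finset.card_image_le.trans (by simp)
  omega

/-- The `p`-group fixed point step. -/
theorem exists_fixed_mod (p : ℕ) [Fact p.Prime] [CharP A p] [Finite G] (hG : IsPGroup p G)
    (I : Ideal A) (hI : ∀ (σ : G) (x : A), x ∈ I → σ • x ∈ I)
    (hne : ¬ (maximalIdeal A ≤ I)) :
    ∃ x : maximalIdeal A, (x : A) ∉ I ∧ ∀ σ : G, σ • (x : A) - (x : A) ∈ I := by
  let ρ : G →* (maximalIdeal A →ₗ[ℤ] maximalIdeal A) :=
    { toFun := fun σ => AddMonoidHom.toIntLinearMap
        { toFun := fun x => ⟨σ • (x : A), Groth.Agent.S15795.smul_mem_maximalIdeal σ x.2⟩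
          map_zero' := by
            apply Subtype.ext
            simp
          map_add' := fun x y => by
            apply Subtype.ext
            simp }
      map_one' := by
        apply LinearMap.ext
        intro x
        apply Subtype.ext
        simp
      map_mul' := fun σ τ => by
        apply LinearMap.ext
        intro x
        apply Subtype.ext
        simp [mul_smul] }
  have hρ : ∀ (σ : G) (x : maximalIdeal A), ((ρ σ x : maximalIdeal A) : A) = σ • (x : A) :=
    fun σ x => rfl
  let N : Submodule ℤ (maximalIdeal A) :=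
    AddSubgroup.toIntSubmodule
      ((Submodule.toAddSubgroup I).comap (Submodule.subtype (maximalIdeal A)).toAddMonoidHom)
  have hN : ∀ x : maximalIdeal A, x ∈ N ↔ (x : A) ∈ I := fun x => Iff.rfl
  have hNne : N ≠ ⊤ := by
    intro h
    apply hne
    intro x hx
    have : (⟨x, hx⟩ : maximalIdeal A) ∈ N := by rw [h]; trivial
    exact (hN _).1 this
  obtain ⟨x, hx1, -, hx2⟩ := Groth.Agent.S3167.exists_step (A := ℤ) p hG ρ 1
    (fun x => by
      apply Subtype.ext
      rw [pow_one]
      have : ((p • x : maximalIdeal A) : A) = (p : A) * (x : A) := by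
        rw [Submodule.coe_smul_of_tower, nsmul_eq_mul]
      rw [this, CharP.cast_eq_zero, zero_mul]
      rfl) N
    (fun σ x hx => (hN _).2 (by rw [hρ]; exact hI σ _ ((hN _).1 hx))) hNne
  refine ⟨x, fun h => hx1 ((hN _).2 h), fun σ => ?_⟩
  have := (hN _).1 (hx2 σ)
  rwa [Submodule.coe_sub, hρ] at this

/-- The inductive construction of the sequence. -/
theorem exists_seq [IsNoetherianRing A] (p : ℕ) [Fact p.Prime] [CharP A p] [Finite G]
    (hG : IsPGroup p G) (n : ℕ) (hn : ringKrullDim A = n) :
    ∃ u : ℕ → maximalIdeal A, ∀ i < n,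
      (u i : A) ∉ Iof u i ∧ ∀ σ : G, σ • (u i : A) - (u i : A) ∈ Iof u i := by
  suffices H : ∀ j ≤ n, ∃ u : ℕ → maximalIdeal A, ∀ i < j,
      (u i : A) ∉ Iof u i ∧ ∀ σ : G, σ • (u i : A) - (u i : A) ∈ Iof u i from H n le_rfl
  intro j
  induction j with
  | zero =>
    intro _
    exact ⟨fun _ => 0, fun i hi => absurd hi (Nat.not_lt_zero _)⟩
  | succ j ih =>
    intro hj
    obtain ⟨u, hu⟩ := ih (Nat.le_of_succ_le hj)
    have hst := Iof_stable (G := G) u j (fun i hi σ => (hu i hi).2 σ)
    have hpr := Iof_proper n hn u j hj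
    obtain ⟨x, hx1, hx2⟩ := exists_fixed_mod p hG (Iof u j) hst hpr
    classical
    refine ⟨Function.update u j x, fun i hi => ?_⟩
    have hI : Iof (Function.update u j x) i = Iof u i := by
      apply Iof_congr
      intro l hl
      rw [Function.update_of_ne]
      omega
    rw [hI]
    rcases Nat.lt_succ_iff_lt_or_eq.1 hi with hij | rfl
    · rw [Function.update_of_ne (ne_of_lt hij)]
      exact hu i hij
    · rw [Function.update_self]
      exact ⟨hx1, hx2⟩

end action

/-- The dimension count: a sequence with `u_j ∉ (u_0, …, u_{j-1}) + m ^ 2` for `j < n`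
generates `m` modulo `m ^ 2` when `n` is the dimension of the cotangent space. -/
theorem le_Iof_of_notMem [IsNoetherianRing A] (n : ℕ)
    (hn : Module.finrank (ResidueField A) (CotangentSpace A) = n)
    (u : ℕ → maximalIdeal A) (hu : ∀ i < n, (u i : A) ∉ Iof u i) :
    maximalIdeal A ≤ Iof u n := by
  set W : ℕ → Submodule (ResidueField A) (CotangentSpace A) := fun j =>
    Submodule.span (ResidueField A) ((maximalIdeal A).toCotangent '' (u '' {l | l < j})) with hW
  have hIW : ∀ j (x : maximalIdeal A), (maximalIdeal A).toCotangent x ∈ W j → (x : A) ∈ Iof u j := by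
    intro j x hx
    have := mem_of_toCotangent_mem _ x hx
    rwa [Set.image_image] at this
  have hWlt : ∀ j < n, W j < W (j + 1) := by
    intro j hj
    refine lt_of_le_of_ne ?_ ?_
    · apply Submodule.span_mono
      apply Set.image_mono
      apply Set.image_mono
      intro l hl
      exact Nat.lt_succ_of_lt hl
    · intro h
      apply hu j hj
      apply hIW
      rw [h]
      exact Submodule.subset_span ⟨u j, ⟨j, Nat.lt_succ_self j, rfl⟩, rfl⟩
  have hfin : ∀ j ≤ n, j ≤ Module.finrank (ResidueField A) (W j) := by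
    intro j
    induction j with
    | zero => intro _; exact Nat.zero_le _
    | succ j ih =>
      intro hj
      have h1 := ih (Nat.le_of_succ_le hj)
      have h2 := Submodule.finrank_lt_finrank_of_lt (hWlt j hj)
      omega
  have htop : W n = ⊤ := by
    apply Submodule.eq_top_of_finrank_eq
    have h1 := hfin n le_rfl
    have h2 := Submodule.finrank_le (W n)
    omega
  intro x hx
  have : (maximalIdeal A).toCotangent ⟨x, hx⟩ ∈ W n := by rw [htop]; trivial
  exact hIW n ⟨x, hx⟩ this

end Groth.Agent.Lib.Helper84.WildFlag
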